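/-
Two simplicity criteria for permutation groups that are 2-transitive on an invariant set.
-/
import Mathlib

set_option autoImplicit false

namespace CfsgGolay

open scoped Pointwise

variable {α : Type*}

/-- `G` leaves `Ω` invariant, is faithful on it and 2-transitive on it. -/
structure TwoTransFaithful (G : Subgroup (Equiv.Perm α)) (Ω : Finset α) : Prop where
  mapsTo : ∀ g ∈ G, ∀ x ∈ Ω, g x ∈ Ω
  faithful : ∀ g ∈ G, (∀ x ∈ Ω, g x = x) → g = 1
  twoTrans : ∀ a ∈ Ω, ∀ b ∈ Ω, ∀ c ∈ Ω, ∀ d ∈ Ω, a ≠ b → c ≠ d → ∃ g ∈ G, g a = c ∧ g b = d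
  two_le : 2 ≤ Ω.card

namespace TwoTransFaithful

variable {G : Subgroup (Equiv.Perm α)} {Ω : Finset α} (h : TwoTransFaithful G Ω)
include h

theorem normal_transitive (N : Subgroup G) [hN : N.Normal] (hne : N ≠ ⊥) {a b : α} (ha : a ∈ Ω)
    (hb : b ∈ Ω) : ∃ n ∈ N, (n : Equiv.Perm α) a = b := by
  rcases eq_or_ne a b with rfl | hab
  · exact ⟨1, one_mem _, rfl⟩
  obtain ⟨n, hn, hn1⟩ := N.bot_or_exists_ne_one.resolve_left hne
  obtain ⟨x, hx, hxne⟩ : ∃ x ∈ Ω, (n : Equiv.Perm α) x ≠ x := by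
    by_contra hc
    push Not at hc
    exact hn1 (Subtype.ext (h.faithful n n.2 hc))
  obtain ⟨g, hg, hga, hgb⟩ := h.twoTrans x hx _ (h.mapsTo n n.2 x hx) a ha b hb hxne.symm hab
  refine ⟨⟨g, hg⟩ * n * ⟨g, hg⟩⁻¹, hN.conj_mem n hn _, ?_⟩
  simp [← hga, hgb]

theorem nontrivial : Nontrivial G := by
  obtain ⟨a, ha, b, hb, hab⟩ := Finset.one_lt_card.mp h.two_le
  obtain ⟨g, hg, hga, -⟩ := h.twoTrans a ha b hb b hb a ha hab hab.symm
  exact ⟨⟨⟨g, hg⟩, 1, fun he => hab (by rw [← hga, Subtype.mk.inj he, Equiv.Perm.one_apply])⟩⟩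

theorem isSimple_of_prime [Finite α] {p : ℕ} [hp : Fact p.Prime] (hdvd : p ∣ Ω.card)
    (hsq : ¬ p ^ 2 ∣ Nat.card G) {S : Set (Equiv.Perm α)} (hS : S ⊆ G)
    (hgen : G ≤ Subgroup.closure S) (hpow : ∀ x ∈ S, x ^ p = 1) : IsSimpleGroup G := by
  have := h.nontrivial
  refine ⟨fun N hN => ?_⟩
  rcases eq_or_ne N ⊥ with hb | hb
  · exact Or.inl hb
  refine Or.inr ?_
  obtain ⟨a, ha⟩ := Finset.card_pos.mp (lt_of_lt_of_le two_pos h.two_le)
  have horb : MulAction.orbit N a = (Ω : Set α) := by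
    ext x
    constructor
    · rintro ⟨⟨n, hn⟩, rfl⟩; exact h.mapsTo _ n.2 a ha
    · intro hx; obtain ⟨n, hn, rfl⟩ := h.normal_transitive N hb ha hx; exact ⟨⟨n, hn⟩, rfl⟩
  have hpN : p ∣ Nat.card N := by
    refine hdvd.trans ?_
    rw [← Set.ncard_coe_finset, ← horb, ← MulAction.index_stabilizer]
    exact Subgroup.index_dvd_card _
  obtain ⟨P₀⟩ : Nonempty (Sylow p N) := inferInstance
  let Q : Subgroup G := (P₀ : Subgroup N).map N.subtype
  have hQN : Q ≤ N := Subgroup.map_subtype_le _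
  have hQcard : Nat.card Q = Nat.card (P₀ : Subgroup N) :=
    Nat.card_congr ((P₀ : Subgroup N).equivMapOfInjective N.subtype Subtype.val_injective).toEquiv.symm
  have hpQ : p ∣ Nat.card Q := hQcard ▸ P₀.dvd_card_of_dvd_card hpN
  have hQp : IsPGroup p Q := P₀.2.map _
  obtain ⟨P, hP⟩ := hQp.exists_le_sylow
  have hPQ : (P : Subgroup G) = Q := by
    obtain ⟨k, hk⟩ := (P.2).exists_card_eq
    have hk1 : k ≤ 1 := by
      by_contra hc
      exact hsq ((pow_dvd_pow p (by omega : 2 ≤ k)).trans (hk ▸ Subgroup.card_subgroup_dvd_card _))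
    refine (Subgroup.eq_of_le_of_card_ge hP ?_).symm
    rw [hk]
    refine Nat.le_of_dvd Nat.card_pos ?_
    rcases Nat.le_one_iff_eq_zero_or_eq_one.mp hk1 with rfl | rfl <;> simp [hpQ]
  have hmem : ∀ x : G, x ^ p = 1 → x ∈ N := by
    intro x hx
    have hxp : IsPGroup p (Subgroup.zpowers x) := by
      intro y
      obtain ⟨y, hy⟩ := y
      obtain ⟨i, rfl⟩ := Subgroup.mem_zpowers_iff.mp hy
      refine ⟨1, Subtype.ext ?_⟩
      simp only [pow_one, SubgroupClass.coe_pow, OneMemClass.coe_one]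
      rw [← zpow_natCast, ← zpow_mul, mul_comm, zpow_mul, zpow_natCast, hx, one_zpow]
    obtain ⟨R, hR⟩ := hxp.exists_le_sylow
    obtain ⟨g, rfl⟩ := MulAction.exists_smul_eq G P R
    have hxR : x ∈ MulAut.conj g • (P : Subgroup G) := hR (Subgroup.mem_zpowers x)
    rw [hPQ] at hxR
    obtain ⟨y, hy, rfl⟩ := hxR
    exact hN.conj_mem y (hQN hy) g
  rw [eq_top_iff]
  intro x _
  have hle : Subgroup.closure S ≤ N.map G.subtype := by
    rw [Subgroup.closure_le]
    intro s hs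
    exact ⟨⟨s, hS hs⟩, hmem _ (Subtype.ext (by simpa using hpow s hs)), rfl⟩
  obtain ⟨y, hy, hyx⟩ := hle (hgen x.2)
  exact Subtype.ext hyx ▸ hy

theorem isSimple_of_stabilizer [Finite α] {a : α} (ha : a ∈ Ω)
    (hsimple : IsSimpleGroup ↥(G ⊓ MulAction.stabilizer (Equiv.Perm α) a))
    (hcard : ¬ IsPrimePow Ω.card ∨
      (Ω.card.Prime ∧ Ω.card ≤ Nat.card ↥(G ⊓ MulAction.stabilizer (Equiv.Perm α) a))) :
    IsSimpleGroup G := by
  have := h.nontrivial
  refine ⟨fun N hN => ?_⟩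
  rcases eq_or_ne N ⊥ with hb | hb
  · exact Or.inl hb
  refine Or.inr ?_
  set Ga := G ⊓ MulAction.stabilizer (Equiv.Perm α) a
  let M : Subgroup Ga := N.comap (Subgroup.inclusion inf_le_left)
  have hM : M.Normal := hN.comap _
  rcases hM.eq_bot_or_eq_top with hM | hM
  swap
  · rw [eq_top_iff]
    intro g _
    obtain ⟨n, hn, hna⟩ := h.normal_transitive N hb ha (h.mapsTo g g.2 a ha)
    have hst : ((n⁻¹ * g : G) : Equiv.Perm α) a = a := by simp [← hna]
    have hin : (⟨_, (n⁻¹ * g : G).2, MulAction.mem_stabilizer_iff.mpr hst⟩ : Ga) ∈ M := hM ▸ Subgroup.mem_top _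
    have hin' : n⁻¹ * g ∈ N := hin
    simpa using N.mul_mem hn hin'
  exfalso
  have hreg : ∀ n ∈ N, (n : Equiv.Perm α) a = a → n = 1 := by
    intro n hn hna
    have hin : (⟨_, n.2, MulAction.mem_stabilizer_iff.mpr hna⟩ : Ga) ∈ M := hn
    rw [hM, Subgroup.mem_bot] at hin
    exact Subtype.ext (congrArg (fun z : Ga => (z : Equiv.Perm α)) hin)
  have hinj : ∀ m ∈ N, ∀ n ∈ N, (m : Equiv.Perm α) a = (n : Equiv.Perm α) a → m = n := by
    intro m hm n hn he
    have := hreg (n⁻¹ * m) (N.mul_mem (N.inv_mem hn) hm) (by simp [he])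
    rwa [inv_mul_eq_one, eq_comm] at this
  have hNcard : Nat.card N = Ω.card := by
    rw [← Nat.card_eq_finsetCard]
    exact Nat.card_eq_of_bijective
      (fun n : N => (⟨((n : G) : Equiv.Perm α) a, h.mapsTo _ (n : G).2 a ha⟩ : Ω))
      ⟨fun m n he => Subtype.ext (hinj _ m.2 _ n.2 (congrArg Subtype.val he)),
        fun x => by obtain ⟨n, hn, he⟩ := h.normal_transitive N hb ha x.2; exact ⟨⟨n, hn⟩, Subtype.ext he⟩⟩
  have hconj : ∀ k ∈ G, k a = a → ∀ (hk : k ∈ G), ∀ n ∈ N,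
      ((⟨k, hk⟩ * n * ⟨k, hk⟩⁻¹ : G) : Equiv.Perm α) a = k ((n : Equiv.Perm α) a) := by
    intro k _ hka hk n _
    have : k.symm a = a := by rw [Equiv.symm_apply_eq, hka]
    simp [Equiv.Perm.inv_def, this]
  have hsame : ∀ m ∈ N, ∀ n ∈ N, m ≠ 1 → n ≠ 1 → orderOf m = orderOf n := by
    intro m hm n hn hm1 hn1
    have hma : (m : Equiv.Perm α) a ≠ a := fun he => hm1 (hreg m hm he)
    have hna : (n : Equiv.Perm α) a ≠ a := fun he => hn1 (hreg n hn he)
    obtain ⟨k, hk, hka, hkm⟩ := h.twoTrans a ha _ (h.mapsTo m m.2 a ha) a ha _ (h.mapsTo n n.2 a ha)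
      hma.symm hna.symm
    have he := hinj _ (hN.conj_mem m hm ⟨k, hk⟩) n hn ((hconj k hk hka hk m hm).trans hkm)
    rw [← he]
    exact (orderOf_injective (MulAut.conj (⟨k, hk⟩ : G)).toMonoidHom (MulAut.conj _).injective m).symm
  have h2 : 2 ≤ Nat.card N := hNcard ▸ h.two_le
  set q := (Nat.card N).minFac with hq
  have hqp : q.Prime := Nat.minFac_prime (by omega)
  have : Fact q.Prime := ⟨hqp⟩
  obtain ⟨n₀, hn₀⟩ := exists_prime_orderOf_dvd_card' (G := N) q (Nat.minFac_dvd _)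
  have hn₀1 : n₀ ≠ 1 := fun he => hqp.ne_one (by rw [← hn₀, he, orderOf_one])
  have hall : ∀ n : N, n ^ q = 1 := by
    intro n
    rcases eq_or_ne n 1 with rfl | hn1
    · exact one_pow q
    have := hsame _ n.2 _ n₀.2 (fun he => hn1 (Subtype.ext he)) (fun he => hn₀1 (Subtype.ext he))
    rw [Subgroup.orderOf_coe, Subgroup.orderOf_coe, hn₀] at this
    exact this ▸ pow_orderOf_eq_one n
  have hpg : IsPGroup q N := fun n => ⟨1, by rw [pow_one]; exact hall n⟩
  obtain ⟨e, he⟩ := hpg.exists_card_eq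
  rcases hcard with hnp | ⟨hprime, hle⟩
  · refine hnp ?_
    rw [← hNcard, he]
    exact hqp.isPrimePow.pow (fun h0 => by rw [he, h0, pow_zero] at h2; omega)
  · have hNq : Nat.card N = q := by
      rw [hq, hNcard, hprime.minFac_eq]
    have hgenN : ∀ n : N, n ∈ Subgroup.zpowers n₀ := fun n => mem_zpowers_of_prime_card hNq hn₀1
    let F : Ga → {x : Ω // (x : α) ≠ a} := fun k =>
      ⟨⟨(k : Equiv.Perm α) (((n₀ : G) : Equiv.Perm α) a),
          h.mapsTo _ k.2.1 _ (h.mapsTo _ (n₀ : G).2 a ha)⟩, fun he => by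
        have h1 : (k : Equiv.Perm α) a = a := k.2.2
        exact hn₀1 (Subtype.ext (hreg _ n₀.2 ((k : Equiv.Perm α).injective (he.trans h1.symm))))⟩
    have hF : Function.Injective F := by
      intro k k' hkk
      have hkk' : (k : Equiv.Perm α) (((n₀ : G) : Equiv.Perm α) a) =
          (k' : Equiv.Perm α) (((n₀ : G) : Equiv.Perm α) a) := congrArg (fun z => ((z.1 : Ω) : α)) hkk
      set u : Ga := k'⁻¹ * k with hu
      have hua : (u : Equiv.Perm α) a = a := u.2.2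
      have hu0 : (u : Equiv.Perm α) (((n₀ : G) : Equiv.Perm α) a) = ((n₀ : G) : Equiv.Perm α) a := by
        simp [hu, hkk']
      have hcomm : (⟨_, u.2.1⟩ : G) * n₀ * (⟨_, u.2.1⟩ : G)⁻¹ = n₀ :=
        hinj _ (hN.conj_mem _ n₀.2 _) _ n₀.2 ((hconj _ u.2.1 hua u.2.1 _ n₀.2).trans hu0)
      rw [mul_inv_eq_iff_eq_mul] at hcomm
      have hall' : ∀ x ∈ Ω, (u : Equiv.Perm α) x = x := by
        intro x hx
        obtain ⟨n, hn, rfl⟩ := h.normal_transitive N hb ha hx
        obtain ⟨i, hi⟩ := Subgroup.mem_zpowers_iff.mp (hgenN ⟨n, hn⟩)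
        have hnG : n = (n₀ : G) ^ i := by simpa using (congrArg Subtype.val hi).symm
        have hc : Commute (⟨_, u.2.1⟩ : G) n := hnG ▸ (show Commute _ (n₀ : G) from hcomm).zpow_right i
        have := congrArg (fun z : G => (z : Equiv.Perm α) a) hc.eq
        simpa [hua] using this
      have : u = 1 := Subtype.ext (h.faithful _ u.2.1 hall')
      exact (inv_mul_eq_one.mp this).symm
    have h1 := Nat.card_le_card_of_injective F hF
    have h3 : Nat.card {x : Ω // (x : α) ≠ a} < Ω.card := by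
      classical
      rw [Nat.card_eq_fintype_card, ← Fintype.card_coe]
      exact Fintype.card_subtype_lt (x := ⟨a, ha⟩) (by simp)
    omega

end TwoTransFaithful

end CfsgGolay
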