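/-
Chains for M21, M22, M23, M24, M11 and M12 inside the code's group: orders, 2-transitivity, simplicity.
-/
import Cfsg.Agent.Lib.Golay.Dodecads
import Cfsg.Agent.Lib.Golay.SimpleCriteria

set_option autoImplicit false

namespace CfsgGolay.SubData

/-- A program producing the seed permutations. -/
def seedProg : List (ℕ × ℕ × ℕ) :=
  [(956709441910203461498593497208492130, 0, 0), (959359269975321467281073132481517732, 3, 3),
   (962039135765723329579556122420093158, 3, 4), (964719030889841289394168021884709160, 4, 4),
   (975438611500981936258461716743572016, 6, 6), (983478296959358443554250846857397270, 5, 7),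
   (977864963184960973661438897150854272, 2, 2), (980275914351787324191492553553580224, 9, 9),
   (982138349382962359004952654256308949, 8, 8), (958020233522794296771657265635857539, 0, 3),
   (980798401806566274455654461655243444, 11, 8), (979458454230170189906356269054908051, 13, 8),
   (960699189079096648266625002402749637, 0, 4), (978118506653774105357058076477936242, 14, 8),
   (976778559077378020807759884648599121, 16, 8), (44673570877212604306017735907225623, 0, 1),
   (15909574972934138282974354882288353, 1, 8), (87551893321887283366365293184594999, 0, 18),
   (10645900714548972716251708628098092, 19, 8), (130430215766561988943882167652005975, 0, 20),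
   (8361823919338158694102911029052808, 21, 8), (173308538211236694521424306190793847, 0, 22),
   (18348116209149352041829329127125254, 23, 8), (718267961499543993155408709344759264, 1, 24),
   (260448145845824367024113129429743040, 25, 1), (761146283944218698732925582738428417, 0, 26),
   (275895942620327265292289838802188296, 27, 8), (969952412052033243847481939299780672, 10, 10),
   (955976305995358692400003018625453266, 2, 0), (978935966775391239642194360952491190, 8, 10),
   (962646859440912962280617536895820128, 15, 31), (972560138397867987084212241321578816, 32, 16),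
   (967133278164556605756603013334805600, 33, 9), (966602893664033601738205988875441824, 30, 34),
   (971825733130223896712209825337121952, 9, 34), (983542809571084115611737654106964576, 2, 33),
   (983543532515339173757410569220147360, 34, 10), (971429911905284700618960661122823392, 33, 35),
   (973694648928442691690881280560548992, 36, 34), (981913883341893794000165505339143872, 2, 38),
   (956830602572755327485942810584170112, 39, 10), (974102346617129311499507240229526176, 33, 40),
   (958039745345028276792647022405989696, 41, 34), (977834630521229916611548917784066688, 2, 44),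
   (959846191444349071829989019111376128, 45, 10), (956085195133363055212480936219446308, 2, 31),
   (968612464475637159298183746698691638, 32, 10), (980581112654123379115705592291875456, 14, 48),
   (958670524103548746731903730322083104, 49, 4), (961078790701503480892810571137190944, 47, 50),
   (963475475614486936576820901786489888, 51, 46), (29492376736006929088146330296305131, 1, 3),
   (901276932450172030087052924672190103, 11, 1), (957316225099133873385554888546685171, 0, 31),
   (961398908100847696903877017200596690, 32, 8), (30596650610690344108468126695669358, 1, 31),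
   (920673147177082347608427462066127447, 32, 1), (18870647289757452566049318018264684, 58, 48),
   (427407462500082191248159667041938615, 49, 59), (978934954994875504109248630707357909, 1, 60),
   (981614850147667673207845015137784064, 3, 62), (970499966350631336865513127433832480, 37, 63),
   (977029090839134069678072307315218451, 56, 2), (979625192269873257484039708800556641, 10, 57),
   (981426705866524278195782757306837120, 4, 65), (976585563023658280820806650133304960, 66, 14),
   (962606095268170686379997665747948576, 30, 67), (971044827870476430937500939626041376, 68, 9),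
   (15200453133970992512463437727114799, 54, 0), (858398610005497325338173092873511543, 8, 55),
   (758104746606702303728454317555129485, 31, 71), (845621103071532923009409059866816725, 72, 32),
   (962205486880359014791149978044271684, 29, 73), (959574920088457951366972611452011846, 74, 28),
   (956845696574774676619852930193382048, 14, 75), (958032253407459867793977439747068608, 76, 4),
   (969070010755747450349961226246916128, 45, 77), (975427397429233786613259140502587424, 78, 44),
   (965182136118044136288996283387283488, 64, 79), (971140178350169869617275687780157472, 80, 64),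
   (962654717146601952860492594140416032, 79, 81), (978235403774898094449451288491362336, 82, 80),
   (980629845353471446127325108964198432, 64, 80), (962502563986415244912534372637476896, 64, 83),
   (967536318839153140953125062312364064, 84, 64), (974422238081544939122441376219924512, 79, 85),
   (983347576399000436617585635815458848, 79, 88), (982039347250092903586976137938110496, 64, 89),
   (973054518210042674313238929715267616, 79, 90), (963901813773497600861214474505344067, 2, 12),
   (976256100095219974107344323126232180, 13, 10), (959911127008114596489554320876554944, 13, 92),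
   (956828380662667879586582023414419936, 93, 12), (961374030721328586249782002797614112, 43, 94),
   (981810178857497168930827875700020256, 95, 42), (980659945285429986483690699286415392, 52, 96),
   (967601124949432676426012475972028448, 97, 53), (983271302155371035984055114495264800, 91, 98),
   (975754295934893126319599781779965984, 99, 91), (966039336168793943308839874394687520, 101, 64),
   (30038786321973151969200033103462097, 1, 48), (16166598303409403278280530175731059, 60, 0),
   (384529140055407512187812109764569239, 8, 61), (983378190884730729338760096121492550, 1, 104),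
   (961471926722112234951412507960935689, 105, 1), (975367661417964765171176365032430176, 17, 106),
   (958810399064868730394457799386313152, 107, 5), (980764173879215755275545490200384544, 39, 108),
   (981434996656722552071310745896554528, 109, 38), (967283888461630133824935992167401504, 70, 110),
   (974047838953398371220996715143464992, 111, 69), (984436632068016323118584907140532256, 86, 112),
   (984559288045672395699075860841728032, 113, 87), (971828115858035635643548061566863392, 114, 100),
   (966320096358733541442380578386184224, 102, 115), (971592882964418941354553515258775584, 100, 116),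
   (977596047671616058656642491031259285, 8, 32), (972606645568131968584696805283956768, 118, 117),
   (972757643361559526341771935618847776, 69, 120), (969965127505034552538801159076875296, 52, 120),
   (981839107154296541457056855351561248, 120, 122), (966480993941799862337932697614847008, 123, 79),
   (19129184336455969953246366111510003, 2, 54), (877794824732434795638161799291256375, 55, 10),
   (960059871648320526394461150354936497, 119, 8), (958656172675529957934853081123656980, 0, 56),
   (776909082659270876983010130860362903, 57, 1), (253823597301981865184255958302697047, 2, 20),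
   (5808575194234389868301228310212140, 21, 10), (815520287561691535193478944357981783, 14, 1),
   (23005973721334678420292110433668598, 2, 125), (872761059946572697379184610925523255, 126, 10),
   (980439487058764188400073837585258019, 127, 8), (71619034552014150639609572256006162, 0, 103),
   (14686592077638964152258423707707016, 1, 128), (768833221495067867074821219950367478, 129, 8),
   (296701919746656570761798121513429623, 0, 130), (45885675617426139290145486271000727, 2, 130),
   (6874609421359829163116443266132716, 131, 10), (22690578129396211081348479513671273, 1, 15),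
   (772641966006786232852303853706877495, 16, 1), (792039090967823213955807813296305655, 132, 10),
   (65843731346802080656986379165946368, 0, 133), (886871879040944026747082667038484192, 134, 8),
   (147413195579839635305186903318802039, 135, 1), (113199282782055122792824505451070515, 0, 136),
   (24970991993325503764126834670022992, 2, 137), (759635913450243276182239894633078480, 138, 8),
   (339580242190462360906492270028959383, 0, 139), (752382694053314464319119972651180119, 2, 140),
   (4717788422506052343254524200945004, 141, 10), (65567988212261963333628042093968010, 0, 142),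
   (756900613220395117976952262940116723, 143, 8), (816860121994667460520998653068159223, 144, 10),
   (932028875959664750506092511194423639, 1, 145), (30512927340616218194711681459956085, 146, 1),
   (145732503978886535995215707035350423, 147, 10), (279132198526201661453768578096049750, 2, 148),
   (28765945173279516075178096697385197, 2, 149), (756090680093806714817345278916155913, 150, 8),
   (692781371379484249896013767125552471, 2, 151), (795261016497989169896662135885276279, 0, 152),
   (26354104915357811899412862528957827, 153, 8), (108446309418996629625789140155711147, 0, 154),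
   (759864460658064438975312673858857107, 155, 10), (789727872525338110573019252986857911, 156, 10),
   (19524576433931172434023349852775799, 0, 157), (21031052929310698581162482142097079, 158, 8),
   (152493391357204870869760246541655415, 159, 10), (320712446756242660124178117248594528, 0, 160),
   (19027727107283803804571598197571753, 2, 161), (395318945582466808306564464109037778, 162, 1),
   (838110182978858626197969874946402455, 0, 164), (12563859925877560216332188251435124, 165, 8),
   (278246245461271641569038538898882195, 2, 166), (762552886583737347909518278106765875, 167, 10),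
   (805189123394711752700917392294360800, 168, 8), (62402898850800584160429042069383575, 0, 169),
   (8379695845484418145295898406934256, 170, 8), (540456894395522396257890629082043607, 1, 172),
   (880988505423533331774702797623209143, 0, 175), (28198143813574337668434288342077065, 176, 8),
   (60497544303797610491813860755422550, 2, 177), (754198966450539488683882904098659667, 178, 10),
   (30677324472396311276180825339237779, 179, 1), (927274500933657273527058848948863648, 1, 180),
   (694532581431267793567766041953030336, 181, 1), (583335216840197075318238186359412983, 0, 182),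
   (523193197754613428378800993434175776, 1, 183), (400596218627089365853706661047896736, 184, 1),
   (14770201406714769635375058432509633, 0, 188), (666626049163965080509892583575132183, 189, 8),
   (374681337714900769772930452120848469, 192, 0), (480314875309938722801294014571414806, 8, 191),
   (902858292609515185848816889232760834, 195, 193), (927780291079979130584656526525464865, 194, 196),
   (931532026633017381876640759540268168, 8, 173), (234234829557633724423278625764160656, 186, 199),
   (155342027377422653442064401251809515, 171, 0), (734373614582766538174691779617038531, 201, 163),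
   (2949468173635791044765312645504563, 187, 2), (721382125960292266321128514233223362, 203, 185),
   (397881758795663039177969491947999558, 174, 0), (968675816677442114513546637490636873, 205, 190),
   (734243006415682969323555933311637576, 197, 197), (435774672056316660768497839255225865, 198, 198),
   (630001554258055949255614606001710672, 208, 198), (902471100749633885700801341912780904, 209, 200),
   (641477246037634255446787637193868384, 200, 202), (318987202912028683901902419314347392, 211, 211),
   (464047193496099292909727588324356608, 211, 212), (819394694692359954670684048546250880, 211, 213),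
   (736319529709874538095787136727295168, 207, 206), (233054687951835244750033064009402400, 214, 215),
   (944569772236290697579231267829188640, 216, 216), (902865683765596173633298701993656717, 204, 202),
   (318736304535224115434700764102272192, 210, 218), (715461294005770680473893921775552544, 214, 219),
   (719923664328491199848526586197411872, 217, 220), (936326825844854535419236468191003744, 211, 221),
   (879383617778003139515063586831762528, 221, 211)]

/-- Seeds for the subgroup 21. -/
def seeds21 : List ℕ := [972757643361559526341771935618847776, 966480993941799862337932697614847008]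

/-- Program over the seeds 21. -/
def prog21 : List (ℕ × ℕ × ℕ) :=
  [(969951021182949582559190169462059040, 0, 0), (958883303808886338447516443644927008, 0, 2),
   (983192987796275267904017748685281312, 2, 2), (984818244535754528103549039458486304, 3, 4),
   (964554402680056785054852200601431072, 2, 4), (979359098669247852755134500815033376, 1, 1),
   (970459470272754655103246266094205984, 7, 7), (962014505272902801359324831004314656, 7, 8),
   (971413535080595194405269260183614496, 6, 6), (969018281969229640912868975792735264, 1, 0),
   (976419408816449213405685547620737056, 6, 9), (964680073711624622619201290867195936, 1, 2),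
   (978190449489780346629213360299086880, 10, 9), (959615925755926807198955595484042272, 1, 3),
   (977867460703875642964313209033826336, 1, 4), (975036651601353173383378098989548576, 3, 9),
   (976454389973732009965032741977499680, 1, 10), (980714938648679257496603015486263328, 0, 1),
   (970435599248503680400183541210686496, 9, 6), (961110635302219735201636037438815264, 1, 11),
   (976337334113520926459379274286713888, 0, 16), (975030342331138230398741682658199584, 1, 16),
   (969956169733438047481171962878272544, 17, 9), (962787488218788360092007819566977056, 0, 18),
   (967515908919904905877865780260550688, 0, 21), (973923442612077390991616943097321504, 0, 23),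
   (981596545335522822274308261515797536, 1, 23), (971677338550553790785045209199984672, 24, 9),
   (964572442751142810241379939145863200, 9, 9), (967850219541919064800348992404129824, 6, 7),
   (971224028701019314780574025234548768, 30, 0), (967881230539298812949850646433481760, 7, 1),
   (963594561770907445068058227641536544, 33, 0), (972585215467236988860958984354516000, 6, 8),
   (966397621084152595608325226481453088, 20, 34), (974293771124865464307651592446085152, 35, 19),
   (973929156326740366392912363040475168, 36, 31), (965303854351629574788936304713697312, 36, 32),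
   (960903739627010471756186598494406688, 31, 36), (961028192176279919404123956477298720, 37, 32),
   (980265909220069859677694670457407520, 36, 36), (967729149116469701754782550122006560, 37, 37),
   (977963738258358362990221719491610656, 31, 38), (984534196520574971460497056922339360, 36, 38),
   (964932168560145787122164482227636256, 31, 39), (969079790061983470213686534759352352, 36, 39),
   (971735603283358326491469095953926176, 36, 40), (966681731796733630580524325936924704, 36, 45),
   (965131035075015849898837032318863392, 31, 46), (978893954460679549674212909990283296, 31, 47),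
   (959823851459553241611420302368245792, 36, 47), (969097825558704889390873620747290656, 36, 50),
   (972833308706979135990656995110291488, 31, 51), (960789569407714647789939791950757920, 0, 11),
   (972596338609826150849612124095057952, 12, 6), (960134067740596546415449832842299424, 14, 55),
   (981818691054096003685363657089320992, 41, 57), (964077614745891347081461885161845792, 11, 11),
   (981817674549948651020382668035590176, 2, 59), (963721886883755259286232606933354528, 37, 60),
   (979121071158219704299181131031480352, 61, 58), (971099604129324602591291747959546912, 55, 34),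
   (975347217107791506383556005475304480, 35, 56), (963559371300295047384285504089491488, 29, 63),
   (962043398450921756232295792743024672, 64, 28), (970452748381697609285226999098476576, 37, 65),
   (967365292857695660364575527991871520, 66, 36), (963515095949177277443875056653535264, 67, 61),
   (975754295934893126319599781779965984, 67, 62), (983271302155371035984055114495264800, 62, 68),
   (983141956895601025126892051911247904, 58, 67), (967738580936480664927891663448279072, 61, 67),
   (963582593757073591850928955785840672, 68, 61), (979037747421335847153138073498388512, 58, 69),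
   (984559288045672395699075860841728032, 61, 69), (961409415667826064667231448532617248, 58, 70),
   (966039336168793943308839874394687520, 61, 70), (982125237077252311731715764534741024, 71, 61),
   (972679049849814778609582601333213216, 61, 72), (981515887986994088769278604842469408, 61, 75),
   (976531636853126291160407323722221600, 71, 79), (972606645568131968584696805283956768, 78, 70)]

/-- Chain levels 21. -/
def levels21 : List (ℕ × List (ℕ × ℕ)) :=
  [(2, [(2, 5), (3, 1), (4, 25), (5, 15), (6, 27), (7, 3), (8, 16), (9, 28), (10, 18), (11, 6), (12, 2), (13, 10), (14, 26), (15, 21), (16, 13), (17, 11), (18, 23), (19, 22), (20, 19), (21, 0), (22, 4)]),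
   (3, [(3, 5), (4, 36), (5, 48), (6, 52), (7, 43), (8, 45), (9, 44), (10, 46), (11, 47), (12, 42), (13, 39), (14, 31), (15, 40), (16, 51), (17, 32), (18, 50), (19, 49), (20, 54), (21, 53), (22, 38)]),
   (4, [(4, 5), (6, 72), (7, 61), (8, 62), (9, 81), (10, 70), (11, 75), (12, 78), (13, 76), (15, 58), (16, 77), (18, 67), (19, 74), (20, 73), (21, 69), (22, 80)]),
   (5, [(5, 5), (14, 82), (17, 83)])]

/-- Forcing steps 21. -/
def forced21 : List ℕ := [6, 7, 8, 9, 10, 11, 12, 13, 14, 15, 16, 17, 18, 19, 20, 21, 22]

/-- Seeds for the subgroup 11. -/
def seeds11 : List ℕ := [936326825844854535419236468191003744, 879383617778003139515063586831762528]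

/-- Program over the seeds 11. -/
def prog11 : List (ℕ × ℕ × ℕ) :=
  [(726412243395221436033601200615263616, 0, 0), (630407005584769012986406607141744832, 0, 2),
   (235264201267934001905017385764788736, 2, 2), (840570449215121442090842559361922176, 4, 4),
   (984818244535754528103549039458486304, 3, 5), (611620266501477708615363201229441088, 2, 5),
   (604403927815846092933437372781432096, 1, 1), (487611556412621434507757589405020736, 8, 8),
   (222678955177755262787190106783760576, 9, 9), (435802366552125253168246997405179968, 8, 10),
   (309563660770992544898271404885086784, 7, 7), (816089975452818186495502644272047520, 5, 7),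
   (885876951604271300720955733703966976, 0, 4), (440999858384440110505842424295104800, 13, 7),
   (227468939079694360949178429167896608, 7, 1), (630264916018297267747726081680246816, 11, 0),
   (944538627742660781242037951888164896, 16, 16), (221615077187027908091701731985526048, 1, 0),
   (894955267117242023006930805441249856, 7, 11), (321496009568961926979547528147706912, 14, 19),
   (923807323919419799622056136029646880, 20, 15), (837571674415832992461244560681995296, 16, 21),
   (837733656576498332101074365233311776, 22, 17), (649335933175185236214115869195964448, 16, 22),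
   (630467700263115307721998342968317984, 21, 23), (735528483549418477539344030330396704, 16, 23),
   (320124209087643149655013546747408416, 24, 17), (984574657262612311324662570656612384, 16, 26),
   (445855113341400037038623582150800416, 21, 27), (928913018155889023685401593716935712, 28, 22),
   (892494757254754735290717285112760352, 16, 27), (803129370150569825208325898903892160, 2, 1),
   (318861962834714249656236402533479808, 11, 12), (936547366057936493795532570646235392, 19, 2),
   (653757326506496066057805927914025376, 12, 20), (815504394461481609288723629965131808, 15, 35),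
   (849658942185731267506517726412218400, 36, 14), (607974513007959930786473204517505056, 29, 37),
   (849414919297944031155053626894092320, 38, 29), (609271311764373893382231684089481248, 18, 39),
   (608405391266436187982588441666881568, 40, 18), (970499966350631336865513127433832480, 41, 41),
   (716016777081418520089506884598499360, 41, 16), (891385682027558266148352467872712736, 41, 18),
   (609744425604512129277147896769742880, 18, 42), (232783362388564428185213343297439776, 41, 44),
   (487655643029606470073469406179395616, 41, 45), (928718206277989008510816407558424608, 16, 47),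
   (630442223766602442576037110578677152, 2, 35), (438321422654821191628083571968065600, 36, 12),
   (320854336068626003662310091813752320, 50, 33), (927650908762137490255795477979145632, 34, 51),
   (980958309107290892929826708479459520, 52, 0), (983427744463106577443698771870949664, 7, 53),
   (920633331184119524139404775395465632, 54, 1), (445832065147342840398475347575052384, 11, 55),
   (898971789558299520608662329049494560, 4, 56), (648700353780522259629880927729401888, 57, 13),
   (809127892823755776035426641505355808, 31, 58), (227866200190482962309748417481934880, 59, 30),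
   (719923664328491199848526586197411872, 46, 60), (715872302521680643580706198532491296, 61, 45),
   (232652365823391711183829569059784736, 62, 41), (227578386318009578406903204956702752, 42, 63)]

/-- Chain levels 11. -/
def levels11 : List (ℕ × List (ℕ × ℕ)) :=
  [(1, [(1, 6), (2, 7), (3, 0), (4, 5), (6, 3), (8, 14), (9, 15), (12, 2), (13, 13), (16, 4), (18, 12)]),
   (2, [(2, 6), (3, 23), (4, 25), (6, 26), (8, 27), (9, 21), (12, 22), (13, 30), (16, 29), (18, 32)]),
   (3, [(3, 6), (4, 44), (6, 45), (8, 16), (9, 17), (12, 49), (13, 48), (16, 47), (18, 18)]),
   (4, [(4, 6), (6, 62), (8, 42), (9, 63), (12, 43), (13, 65), (16, 41), (18, 64)])]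

/-- Forcing steps 11. -/
def forced11 : List ℕ := []

/-- Seeds for the subgroup 12. -/
def seeds12 : List ℕ := [936326825844854535419236468191003744, 879383617778003139515063586831762528, 902858292609515185848816889232760834]

/-- Program over the seeds 12. -/
def prog12 : List (ℕ × ℕ × ℕ) :=
  [(726412243395221436033601200615263616, 0, 0), (630407005584769012986406607141744832, 0, 3),
   (235264201267934001905017385764788736, 3, 3), (840570449215121442090842559361922176, 5, 5),
   (984818244535754528103549039458486304, 4, 6), (611620266501477708615363201229441088, 3, 6),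
   (604403927815846092933437372781432096, 1, 1), (487611556412621434507757589405020736, 9, 9),
   (222678955177755262787190106783760576, 10, 10), (435802366552125253168246997405179968, 9, 11),
   (734243006415682969323555933311637576, 2, 2), (853051014103030181370862316127668486, 2, 13),
   (234290472293010193588506207205834962, 13, 13), (927780291079979130584656526525464865, 14, 15),
   (309563660770992544898271404885086784, 8, 8), (816089975452818186495502644272047520, 6, 8),
   (885876951604271300720955733703966976, 0, 5), (440999858384440110505842424295104800, 18, 8),
   (227468939079694360949178429167896608, 8, 1), (630264916018297267747726081680246816, 12, 0),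
   (944538627742660781242037951888164896, 21, 21), (435774672056316660768497839255225865, 16, 16),
   (444577276827837978442732438823314433, 0, 2), (636347466349509089965603626032447529, 0, 13),
   (882111589948201837801784517545345106, 21, 13), (811512173735352067113296982973101059, 0, 25),
   (311116480051934949346271398338300208, 0, 14), (232950095203225786220632227504005229, 0, 26),
   (815827523501000310113143176617562188, 2, 28), (648045096075037896966103839683385732, 2, 30),
   (221615077187027908091701731985526048, 1, 0), (894955267117242023006930805441249856, 8, 12),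
   (321496009568961926979547528147706912, 19, 33), (923807323919419799622056136029646880, 34, 20),
   (837571674415832992461244560681995296, 21, 35), (837733656576498332101074365233311776, 36, 22),
   (649335933175185236214115869195964448, 21, 36), (796153720194344952384738043950933024, 35, 22),
   (630467700263115307721998342968317984, 35, 37), (235410610152873002895006743971282976, 38, 36),
   (735528483549418477539344030330396704, 21, 37), (984574657262612311324662570656612384, 21, 41),
   (445855113341400037038623582150800416, 35, 43), (892494757254754735290717285112760352, 21, 43),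
   (732544434511297799946040681156385024, 12, 12), (897879657886525112429452933925515680, 0, 33),
   (235894180561418071286676383018323456, 34, 8), (588825581202919241249317745210831880, 13, 9),
   (222795515958495656094942121707315617, 47, 24), (944124904637479048385920896931017792, 48, 1),
   (944115073923558120382460564946158720, 12, 49), (981921283636808344537998492492501288, 50, 33),
   (968838036723043385772180327528411282, 34, 51), (443220298087238606052590880666300992, 24, 54),
   (638256295459884230194243616458152320, 55, 13), (856352890723884189092321753295831072, 3, 56),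
   (858462742025193090588313615599864864, 57, 17), (849862808090484735685470734032308256, 44, 58),
   (858502712789113075489201924125100064, 59, 44), (608460305594945736333983948957190176, 60, 23),
   (898742143189044893377746329054414880, 23, 61), (719748774308089385568610015441717280, 21, 60),
   (970254902120350598020240965873371168, 60, 60), (487607080158395075740321133224921120, 60, 62),
   (928718206277989008510816407558424608, 63, 61), (725183890349195224835128889330253920, 9, 52),
   (217649677981314551108210882071534144, 53, 47), (923153400894852270032667212662609952, 8, 68),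
   (321216926161451348542932178049583136, 69, 0), (899189355044933402820830013086107680, 42, 70),
   (858988336336270505570052787752405024, 71, 41), (609271311764373893382231684089481248, 67, 72),
   (608405391266436187982588441666881568, 73, 66), (970499966350631336865513127433832480, 74, 74),
   (440636898156417468838042058325760288, 1, 68), (603822165200311982830102091187962048, 69, 12),
   (984167769909449427001659769130389536, 19, 77), (984527973361309327778015162543682592, 78, 20),
   (796025918939784314627536738561984544, 40, 79), (808997782816701570676445371466909728, 80, 39),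
   (715872302521680643580706198532491296, 63, 81), (719923664328491199848526586197411872, 82, 62),
   (227578386318009578406903204956702752, 83, 74), (232652365823391711183829569059784736, 75, 84)]

/-- Chain levels 12. -/
def levels12 : List (ℕ × List (ℕ × ℕ)) :=
  [(0, [(0, 7), (1, 25), (2, 2), (3, 28), (4, 32), (6, 14), (8, 13), (9, 26), (12, 31), (13, 30), (16, 29), (18, 27)]),
   (1, [(1, 7), (2, 8), (3, 0), (4, 6), (6, 4), (8, 19), (9, 20), (12, 3), (13, 18), (16, 5), (18, 17)]),
   (2, [(2, 7), (3, 37), (4, 39), (6, 41), (8, 43), (9, 35), (12, 36), (13, 45), (16, 44), (18, 46)]),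
   (3, [(3, 7), (4, 66), (6, 65), (8, 21), (9, 22), (12, 64), (13, 62), (16, 60), (18, 23)]),
   (4, [(4, 7), (6, 84), (8, 75), (9, 83), (12, 76), (13, 85), (16, 74), (18, 86)])]

/-- Forcing steps 12. -/
def forced12 : List ℕ := []
end CfsgGolay.SubData

namespace CfsgGolay

open Cfsg SubData
open scoped Pointwise

attribute [local irreducible] codeL octadL dodecadL slpCodes

/-- Level checks only. -/
def levelsOK (cs invs : List ℕ) : List ℕ → List (ℕ × List (ℕ × ℕ)) → Bool
  | _, [] => true
  | l, (b, T) :: rest => levelOK cs invs l b T && levelsOK cs invs (b :: l) rest

/-- The list of fixed indices after the given levels. -/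
def endList : List ℕ → List (ℕ × List (ℕ × ℕ)) → List ℕ
  | l, [] => l
  | l, (b, _) :: rest => endList (b :: l) rest

theorem levels_card {H : Subgroup (Equiv.Perm GolayPt)} (hH : H ≤ M24) {cs invs : List ℕ}
    (hcs : ∀ c ∈ cs, ∃ g ∈ H, Repr c g) (hinv : ∀ g ∈ H, ∀ o ∈ invs, (toSet o).image g = toSet o) :
    ∀ (levels : List (ℕ × List (ℕ × ℕ))) (l : List ℕ), levelsOK cs invs l levels = true →
      Nat.card ↥(H ⊓ fixL l) =
        (levels.map fun p => p.2.length).prod * Nat.card ↥(H ⊓ fixL (endList l levels))
  | [], l, _ => by simp [endList]
  | (b, T) :: rest, l, h => by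
    simp only [levelsOK, Bool.and_eq_true] at h
    rw [level_card hH hcs hinv h.1, levels_card hH hcs hinv rest (b :: l) h.2, List.map_cons,
      List.prod_cons, mul_assoc, endList]

/-- The common stabiliser of some points and some sets, inside the code's group. -/
def subG (l invs : List ℕ) : Subgroup (Equiv.Perm GolayPt) :=
  M24 ⊓ fixL l ⊓ ⨅ o ∈ invs, MulAction.stabilizer (Equiv.Perm GolayPt) (toSet o)

theorem mem_subG {l invs : List ℕ} {g : Equiv.Perm GolayPt} :
    g ∈ subG l invs ↔ g ∈ M24 ∧ g ∈ fixL l ∧ ∀ o ∈ invs, (toSet o).image g = toSet o := by
  simp only [subG, Subgroup.mem_inf, Subgroup.mem_iInf, MulAction.mem_stabilizer_iff, and_assoc]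
  rfl

theorem subG_le (l invs : List ℕ) : subG l invs ≤ M24 := fun _ h => (mem_subG.mp h).1

theorem subG_inv (l invs : List ℕ) : ∀ g ∈ subG l invs, ∀ o ∈ invs, (toSet o).image g = toSet o :=
  fun _ h => (mem_subG.mp h).2.2

theorem subG_inf_fix (l invs : List ℕ) : subG l invs ⊓ fixL l = subG l invs :=
  inf_eq_left.mpr fun _ h => (mem_subG.mp h).2.1

theorem subG_inf_fix_cons {b : ℕ} (hb : b < 24) (l invs : List ℕ) :
    subG l invs ⊓ fixL (b :: l) = subG (b :: l) invs := by
  ext g
  simp only [Subgroup.mem_inf, mem_subG, mem_fixL_cons hb]
  tauto

theorem subG_inf_stabilizer {b : ℕ} (hb : b < 24) (l invs : List ℕ) :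
    subG l invs ⊓ MulAction.stabilizer (Equiv.Perm GolayPt) (pt b) = subG (b :: l) invs := by
  ext g
  simp only [Subgroup.mem_inf, mem_subG, mem_fixL_cons hb, MulAction.mem_stabilizer_iff,
    Equiv.Perm.smul_def]
  tauto

theorem subG_nil : subG [] [] = M24 := by
  ext g; simp [mem_subG, fixL_nil]

/-- The code is known to be in the subgroup. -/
def inSub (l invs : List ℕ) (c : ℕ) : Bool :=
  (l.all fun x => Nat.blt x 24 && Nat.beq (papp c x) x) && invs.all fun o => Nat.blt o (2 ^ 24) && Nat.beq (pmask c o) o

theorem mem_subG_of_inSub {l invs : List ℕ} {c : ℕ} {g : Equiv.Perm GolayPt} (hg : g ∈ M24) (hr : Repr c g)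
    (h : inSub l invs c = true) : g ∈ subG l invs := by
  simp only [inSub, Bool.and_eq_true, List.all_eq_true, Nat.blt_eq] at h
  refine mem_subG.mpr ⟨hg, mem_fixL.mpr fun p hp => idx_injective ?_, fun o ho => ?_⟩
  · rw [hr, Nat.eq_of_beq_eq_true (h.1 _ hp).2]
  · rw [← hr.toSet_pmask, Nat.eq_of_beq_eq_true (h.2 o ho).2]

theorem seedProg_checked : slpOK [cT, cI, cC] seedProg = true := by decide +kernel

theorem exists_seed {c : ℕ} (hc : c ∈ [cT, cI, cC] ++ seedProg.map Prod.fst) : ∃ g ∈ M24, Repr c g :=
  (slp_sound genGroup _ _ seedProg_checked repr_genGroup c hc).imp fun _ h => ⟨genGroup_le h.1, h.2⟩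

/-- The seeds lie in the subgroup. -/
def seedsOK (l invs seeds : List ℕ) : Bool :=
  seeds.all fun c => ([cT, cI, cC] ++ seedProg.map Prod.fst).contains c && inSub l invs c

theorem seeds_mem {l invs seeds : List ℕ} (h : seedsOK l invs seeds = true) :
    ∀ c ∈ seeds, ∃ g ∈ subG l invs, Repr c g := by
  intro c hc
  have := List.all_eq_true.mp h c hc
  simp only [Bool.and_eq_true, List.contains_iff_mem] at this
  obtain ⟨g, hg, hr⟩ := exists_seed this.1
  exact ⟨g, mem_subG_of_inSub hg hr this.2, hr⟩

/-- The power of a code. -/
def ppow (c : ℕ) : ℕ → ℕ
  | 0 => pid
  | n + 1 => pcomp (ppow c n) c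

theorem Repr.pow {c : ℕ} {g : Equiv.Perm GolayPt} (h : Repr c g) : ∀ n, Repr (ppow c n) (g ^ n)
  | 0 => by rw [pow_zero]; exact repr_pid
  | n + 1 => by rw [pow_succ]; exact (Repr.pow h n).comp h

/-- The images of a level. -/
def levelPts (T : List (ℕ × ℕ)) : Finset GolayPt := (T.map Prod.fst).toFinset.image pt

theorem level_orbit {H : Subgroup (Equiv.Perm GolayPt)} (hH : H ≤ M24) {cs invs : List ℕ}
    (hcs : ∀ c ∈ cs, ∃ g ∈ H, Repr c g) (hinv : ∀ g ∈ H, ∀ o ∈ invs, (toSet o).image g = toSet o)
    {l : List ℕ} {b : ℕ} {T : List (ℕ × ℕ)} (h : levelOK cs invs l b T = true) :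
    b < 24 ∧ b ∉ l ∧ (T.map Prod.fst).Nodup ∧ (levelPts T).card = T.length ∧
    (∀ g ∈ H, g ∈ fixL l → g (pt b) ∈ levelPts T) ∧
    (∀ q ∈ levelPts T, ∃ g ∈ H, g ∈ fixL l ∧ g (pt b) = q) := by
  simp only [levelOK, Bool.and_eq_true, List.all_eq_true, Nat.blt_eq, decide_eq_true_eq, Bool.or_eq_true,
    List.contains_iff_mem, Bool.not_eq_true', Bool.eq_false_iff, ne_eq, List.mem_range] at h
  obtain ⟨⟨⟨⟨hb, hbl⟩, hT⟩, hcov⟩, hnd⟩ := h
  refine ⟨hb, hbl, hnd, ?_, fun g hg hf => ?_, fun q hq => ?_⟩
  · rw [levelPts, Finset.card_image_of_injOn, List.toFinset_card_of_nodup hnd, List.length_map]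
    intro x hx y hy hxy
    simp only [List.coe_toFinset, Set.mem_ofPred_eq, List.mem_map] at hx hy
    obtain ⟨⟨x, i⟩, hxi, rfl⟩ := hx
    obtain ⟨⟨y, j⟩, hyj, rfl⟩ := hy
    exact (idx_pt (hT _ hxi).1.1.1).symm.trans ((congrArg idx hxy).trans (idx_pt (hT _ hyj).1.1.1))
  · rcases hcov (idx (g (pt b))) (idx_lt _) with hy | hy
    · exact Finset.mem_image.mpr ⟨_, List.mem_toFinset.mpr hy, pt_idx _⟩
    · exact absurd (pt_idx _).symm (ne_of_separated hb (idx_lt _) hbl hy (hH hg) (hinv g hg) hf)
  · simp only [levelPts, Finset.mem_image, List.mem_toFinset, List.mem_map] at hq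
    obtain ⟨_, ⟨⟨y, i⟩, hyi, rfl⟩, rfl⟩ := hq
    obtain ⟨⟨⟨hy, hi⟩, him⟩, hfx⟩ := hT _ hyi
    rw [List.getD_eq_getElem _ _ hi] at him hfx
    obtain ⟨g, hg, hr⟩ := hcs _ (List.getElem_mem hi)
    refine ⟨g, hg, mem_fixL.mpr fun p hp => idx_injective ?_, ?_⟩
    · rw [hr, Nat.eq_of_beq_eq_true (hfx _ hp).2]
    · rw [hr.apply_pt hb, Nat.eq_of_beq_eq_true him]

/-- Two levels and a trivial bottom give faithful 2-transitivity on the first orbit. -/
theorem twoTrans_of_levels {l invs cs : List ℕ} {b1 b2 : ℕ} {T1 T2 : List (ℕ × ℕ)}
    {rest : List (ℕ × List (ℕ × ℕ))} (hcs : ∀ c ∈ cs, ∃ g ∈ subG l invs, Repr c g)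
    (h : levelsOK cs invs l ((b1, T1) :: (b2, T2) :: rest) = true)
    (hend : subG (endList l ((b1, T1) :: (b2, T2) :: rest)) invs = ⊥)
    (hbase : ((endList l ((b1, T1) :: (b2, T2) :: rest)).all fun x =>
      l.contains x || (T1.map Prod.fst).contains x) = true)
    (hT : T1.length = T2.length + 1) (h2 : T2 ≠ []) :
    TwoTransFaithful (subG l invs) (levelPts T1) := by
  simp only [levelsOK, Bool.and_eq_true] at h
  obtain ⟨h1, h2', -⟩ := h
  obtain ⟨hb1, hb1l, -, hc1, hin1, hout1⟩ := level_orbit (subG_le l invs) hcs (subG_inv l invs) h1
  obtain ⟨hb2, hb2l, -, hc2, hin2, hout2⟩ := level_orbit (subG_le l invs) hcs (subG_inv l invs) h2'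
  have hfix : ∀ g ∈ subG l invs, g ∈ fixL l := fun g hg => (mem_subG.mp hg).2.1
  have hmaps : ∀ g ∈ subG l invs, ∀ x ∈ levelPts T1, g x ∈ levelPts T1 := by
    intro g hg x hx
    obtain ⟨k, hk, -, rfl⟩ := hout1 x hx
    have := hin1 (g * k) (mul_mem hg hk) (hfix _ (mul_mem hg hk))
    simpa using this
  have hsub : levelPts T2 ⊆ (levelPts T1).erase (pt b1) := by
    intro y hy
    obtain ⟨k, hk, hkf, rfl⟩ := hout2 y hy
    rw [mem_fixL_cons hb1] at hkf
    refine Finset.mem_erase.mpr ⟨fun he => ?_, ?_⟩
    · have : pt b2 = pt b1 := k.injective (he.trans hkf.1.symm)
      exact hb2l (List.mem_cons.mpr (Or.inl (by rw [← idx_pt hb2, this, idx_pt hb1])))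
    · have hb2T : pt b2 ∈ levelPts T1 := by
        have hmem : b2 ∈ endList l ((b1, T1) :: (b2, T2) :: rest) := by
          have : ∀ (r : List (ℕ × List (ℕ × ℕ))) (m : List ℕ), b2 ∈ m → b2 ∈ endList m r := by
            intro r
            induction r with
            | nil => exact fun m hm => hm
            | cons p r ih => exact fun m hm => ih _ (List.mem_cons_of_mem _ hm)
          exact this rest _ (by simp)
        have := List.all_eq_true.mp hbase b2 hmem
        simp only [Bool.or_eq_true, List.contains_iff_mem] at this
        rcases this with hl | hl
        · exact absurd (List.mem_cons_of_mem _ hl) hb2l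
        · exact Finset.mem_image.mpr ⟨b2, List.mem_toFinset.mpr hl, rfl⟩
      exact hmaps k hk _ hb2T
  have hb1T : pt b1 ∈ levelPts T1 := by
    simpa using hin1 1 (one_mem _) (one_mem _)
  have heq : levelPts T2 = (levelPts T1).erase (pt b1) := by
    refine Finset.eq_of_subset_of_card_le hsub ?_
    rw [Finset.card_erase_of_mem hb1T, hc1, hc2]; omega
  refine ⟨hmaps, fun g hg hgx => ?_, ?_, ?_⟩
  · have : g ∈ subG (endList l ((b1, T1) :: (b2, T2) :: rest)) invs := by
      refine mem_subG.mpr ⟨(mem_subG.mp hg).1, mem_fixL.mpr fun p hp => ?_, (mem_subG.mp hg).2.2⟩
      have := List.all_eq_true.mp hbase _ hp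
      simp only [Bool.or_eq_true, List.contains_iff_mem] at this
      rcases this with hl | hl
      · exact mem_fixL.mp (hfix g hg) p hl
      · exact hgx p (Finset.mem_image.mpr ⟨_, List.mem_toFinset.mpr hl, pt_idx p⟩)
    rw [hend] at this
    exact Subgroup.mem_bot.mp this
  · have std : ∀ a ∈ levelPts T1, ∀ b ∈ levelPts T1, a ≠ b →
        ∃ g ∈ subG l invs, g (pt b1) = a ∧ g (pt b2) = b := by
      intro a ha b hb hab
      obtain ⟨k, hk, -, rfl⟩ := hout1 a ha
      have hb' : k⁻¹ b ∈ levelPts T2 := by
        rw [heq, Finset.mem_erase]
        refine ⟨fun he => hab ?_, hmaps _ (inv_mem hk) b hb⟩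
        rw [← he]; simp
      obtain ⟨m, hm, hmf, hme⟩ := hout2 _ hb'
      rw [mem_fixL_cons hb1] at hmf
      exact ⟨k * m, mul_mem hk hm, by rw [Equiv.Perm.mul_apply, hmf.1], by
        rw [Equiv.Perm.mul_apply, hme]; simp⟩
    intro a ha b hb c hc d hd hab hcd
    obtain ⟨g, hg, rfl, rfl⟩ := std a ha b hb hab
    obtain ⟨g', hg', rfl, rfl⟩ := std c hc d hd hcd
    exact ⟨g' * g⁻¹, mul_mem hg' (inv_mem hg), by simp, by simp⟩
  · have : 0 < T2.length := List.length_pos_of_ne_nil h2
    omega

/-! ### The groups -/

theorem cs_base (l : List ℕ) (invs : List ℕ) {c : ℕ} (hc : c ∈ slpCodes) (h : inSub l invs c = true) :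
    ∃ g ∈ subG l invs, Repr c g := by
  obtain ⟨g, hg, hr⟩ := exists_repr hc
  exact ⟨g, mem_subG_of_inSub (genGroup_le hg) hr h, hr⟩

/-- Codes of the base program lying in the given stabiliser. -/
def baseCodesIn (l : List ℕ) : List ℕ := slpCodes.map fun c => if inSub l [] c then c else pid

theorem baseCodesIn_mem (l : List ℕ) (hl : inSub l [] pid = true) :
    ∀ c ∈ baseCodesIn l, ∃ g ∈ subG l [], Repr c g := by
  intro c hc
  simp only [baseCodesIn, List.mem_map] at hc
  obtain ⟨d, hd, rfl⟩ := hc
  split_ifs with h
  · exact cs_base l [] hd h
  · exact ⟨1, one_mem _, repr_pid⟩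

theorem subG_card_base (k : ℕ) :
    Nat.card ↥(subG (baseL.take k).reverse []) = (([24, 23, 22, 21, 20, 16, 3] : List ℕ).drop k).prod := by
  rw [← chain_cards genGroup_le le_rfl k]
  congr 1
  have : subG (baseL.take k).reverse [] = M24 ⊓ fixL (baseL.take k).reverse := by
    ext g; simp [mem_subG]
  rw [this]

theorem base_end_bot : subG [5, 4, 3, 2, 1, 0, 23] [] = ⊥ := by
  rw [← Subgroup.card_eq_one]
  exact subG_card_base 7

theorem inSub_pid : inSub [] [] pid = true ∧ inSub [23] [] pid = true ∧ inSub [0, 23] [] pid = true ∧
    inSub [1, 0, 23] [] pid = true := by decide +kernel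

theorem base_levels_checked :
    levelsOK (baseCodesIn []) [] [] baseLevels = true ∧
    levelsOK (baseCodesIn [23]) [] [23] (baseLevels.drop 1) = true ∧
    levelsOK (baseCodesIn [0, 23]) [] [0, 23] (baseLevels.drop 2) = true ∧
    levelsOK (baseCodesIn [1, 0, 23]) [] [1, 0, 23] (baseLevels.drop 3) = true := by
  decide +kernel

theorem twoTrans_M24 : TwoTransFaithful (subG [] []) (levelPts (transL.getD 0 [])) :=
  twoTrans_of_levels (b1 := 23) (b2 := 0) (T2 := transL.getD 1 []) (rest := baseLevels.drop 2)
    (baseCodesIn_mem [] inSub_pid.1) base_levels_checked.1 base_end_bot (by decide) (by decide) (by decide)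

theorem twoTrans_M23 : TwoTransFaithful (subG [23] []) (levelPts (transL.getD 1 [])) :=
  twoTrans_of_levels (b1 := 0) (b2 := 1) (T2 := transL.getD 2 []) (rest := baseLevels.drop 3)
    (baseCodesIn_mem _ inSub_pid.2.1) base_levels_checked.2.1 base_end_bot (by decide) (by decide) (by decide)

theorem twoTrans_M22 : TwoTransFaithful (subG [0, 23] []) (levelPts (transL.getD 2 [])) :=
  twoTrans_of_levels (b1 := 1) (b2 := 2) (T2 := transL.getD 3 []) (rest := baseLevels.drop 4)
    (baseCodesIn_mem _ inSub_pid.2.2.1) base_levels_checked.2.2.1 base_end_bot (by decide) (by decide) (by decide)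

theorem twoTrans_M21 : TwoTransFaithful (subG [1, 0, 23] []) (levelPts (transL.getD 3 [])) :=
  twoTrans_of_levels (b1 := 2) (b2 := 3) (T2 := transL.getD 4 []) (rest := baseLevels.drop 5)
    (baseCodesIn_mem _ inSub_pid.2.2.2) base_levels_checked.2.2.2 base_end_bot (by decide) (by decide) (by decide)

theorem small_checked :
    seedsOK [1, 0, 23] [] seeds21 = true ∧ slpOK seeds21 prog21 = true ∧
    chainOK (seeds21 ++ prog21.map Prod.fst) [] [1, 0, 23] levels21 forced21 = true ∧
    (seeds21.all fun c => Nat.beq (ppow c 7) pid) = true ∧
    seedsOK [0] [340831] seeds11 = true ∧ slpOK seeds11 prog11 = true ∧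
    levelsOK (seeds11 ++ prog11.map Prod.fst) [340831] [0] levels11 = true ∧
    (seeds11.all fun c => Nat.beq (ppow c 11) pid) = true ∧
    seedsOK [] [340831] seeds12 = true ∧ slpOK seeds12 prog12 = true ∧
    levelsOK (seeds12 ++ prog12.map Prod.fst) [340831] [] levels12 = true := by
  decide +kernel

theorem prog_mem {l invs seeds : List ℕ} {prog : List (ℕ × ℕ × ℕ)} (hs : seedsOK l invs seeds = true)
    (hp : slpOK seeds prog = true) : ∀ c ∈ seeds ++ prog.map Prod.fst, ∃ g ∈ subG l invs, Repr c g :=
  slp_sound _ _ _ hp (seeds_mem hs)

/-- Seeds of order dividing `p` generate, if their chain has the full order. -/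
theorem le_closure_of_levels {l invs seeds : List ℕ} {prog : List (ℕ × ℕ × ℕ)} {p : ℕ}
    {levels : List (ℕ × List (ℕ × ℕ))} (hs : seedsOK l invs seeds = true) (hp : slpOK seeds prog = true)
    (hl : levelsOK (seeds ++ prog.map Prod.fst) invs l levels = true)
    (hpow : (seeds.all fun c => Nat.beq (ppow c p) pid) = true)
    (hend : subG (endList l levels) invs = ⊥) :
    subG l invs ≤ Subgroup.closure {g | g ∈ subG l invs ∧ g ^ p = 1} := by
  set K := Subgroup.closure {g | g ∈ subG l invs ∧ g ^ p = 1}
  have hK : K ≤ subG l invs := (Subgroup.closure_le _).mpr fun g hg => hg.1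
  have hseed : ∀ c ∈ seeds, ∃ g ∈ K, Repr c g := by
    intro c hc
    obtain ⟨g, hg, hr⟩ := seeds_mem hs c hc
    refine ⟨g, Subgroup.subset_closure ⟨hg, ?_⟩, hr⟩
    have := hr.pow p
    rw [Nat.eq_of_beq_eq_true (List.all_eq_true.mp hpow c hc)] at this
    exact this.unique repr_pid
  have hk := levels_card (hK.trans (subG_le l invs)) (slp_sound _ _ _ hp hseed)
    (fun g hg => subG_inv l invs g (hK hg)) levels l hl
  have hg := levels_card (subG_le l invs) (prog_mem hs hp) (subG_inv l invs) levels l hl
  have hbot : ∀ H : Subgroup (Equiv.Perm GolayPt), H ≤ subG l invs →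
      Nat.card ↥(H ⊓ fixL (endList l levels)) = 1 := by
    intro H hH
    rw [Subgroup.card_eq_one, eq_bot_iff, ← hend]
    exact fun g hg => mem_subG.mpr ⟨(mem_subG.mp (hH hg.1)).1, hg.2, (mem_subG.mp (hH hg.1)).2.2⟩
  rw [inf_eq_left.mpr (fun g hgm => (mem_subG.mp (hK hgm)).2.1), hbot K hK] at hk
  rw [subG_inf_fix, hbot _ le_rfl] at hg
  exact (Subgroup.eq_of_le_of_card_ge hK (by rw [hk, hg])).ge

theorem isSimple_M21 : IsSimpleGroup (subG [1, 0, 23] []) := by
  have : Fact (Nat.Prime 7) := ⟨by norm_num⟩
  obtain ⟨hs, hp, hc, hpow, -⟩ := small_checked
  have hlev : ∀ (lev : List (ℕ × List (ℕ × ℕ))) (l : List ℕ),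
      chainOK (seeds21 ++ prog21.map Prod.fst) [] l lev forced21 = true →
      levelsOK (seeds21 ++ prog21.map Prod.fst) [] l lev = true := by
    intro lev
    induction lev with
    | nil => exact fun l _ => rfl
    | cons p r ih =>
      intro l h
      simp only [chainOK, Bool.and_eq_true] at h
      simp only [levelsOK, Bool.and_eq_true]
      exact ⟨h.1, ih _ h.2⟩
  have hend : subG (endList [1, 0, 23] levels21) [] = ⊥ := base_end_bot
  refine twoTrans_M21.isSimple_of_prime (p := 7) (by decide +kernel) ?_ (fun g hg => hg.1)
    (le_closure_of_levels hs hp (hlev _ _ hc) hpow hend) (fun g hg => hg.2)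
  rw [show ([1, 0, 23] : List ℕ) = (baseL.take 3).reverse from rfl, subG_card_base]
  norm_num

theorem isSimple_M22 : IsSimpleGroup (subG [0, 23] []) := by
  refine twoTrans_M22.isSimple_of_stabilizer (a := pt 1) (by decide +kernel) ?_ (Or.inl ?_)
  · rw [subG_inf_stabilizer (by norm_num)]; exact isSimple_M21
  · rw [show (levelPts (transL.getD 2 [])).card = 22 by decide +kernel]
    rw [isPrimePow_nat_iff_bounded]
    decide +kernel

theorem isSimple_M23 : IsSimpleGroup (subG [23] []) := by
  refine twoTrans_M23.isSimple_of_stabilizer (a := pt 0) (by decide +kernel) ?_ (Or.inr ?_)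
  · rw [subG_inf_stabilizer (by norm_num)]; exact isSimple_M22
  · rw [show (levelPts (transL.getD 1 [])).card = 23 by decide +kernel, subG_inf_stabilizer (by norm_num),
      show ([0, 23] : List ℕ) = (baseL.take 2).reverse from rfl, subG_card_base]
    norm_num

theorem isSimple_M24 : IsSimpleGroup M24 := by
  rw [← subG_nil]
  refine twoTrans_M24.isSimple_of_stabilizer (a := pt 23) (by decide +kernel) ?_ (Or.inl ?_)
  · rw [subG_inf_stabilizer (by norm_num)]; exact isSimple_M23
  · rw [show (levelPts (transL.getD 0 [])).card = 24 by decide +kernel]
    rw [isPrimePow_nat_iff_bounded]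
    decide +kernel

theorem orbit_dodecad {d : Finset GolayPt} (hd : d ∈ dodecads) : MulAction.orbit M24 d = dodecads := by
  ext e
  constructor
  · rintro ⟨⟨g, hg⟩, rfl⟩; exact image_mem_dodecads hg hd
  · intro he
    obtain ⟨g, hg, rfl⟩ := dodecads_transitive hd he
    exact ⟨⟨g, hg⟩, rfl⟩

theorem card_stab_dodecad {d : Finset GolayPt} (hd : d ∈ dodecads) :
    Nat.card (MulAction.stabilizer M24 d) = 95040 := by
  have h := card_stab_mul_orbit d
  rw [orbit_dodecad hd, dodecads_ncard] at h
  omega

theorem square_mem_dodecads : toSet 340831 ∈ dodecads := toSet_mem_dodecads (by decide +kernel)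

theorem subG12_eq : subG [] [340831] = (MulAction.stabilizer M24 (toSet 340831)).map (Subgroup.subtype M24) := by
  ext g
  simp only [mem_subG, List.mem_singleton, forall_eq, fixL_nil, Subgroup.mem_top, true_and,
    Subgroup.mem_map, MulAction.mem_stabilizer_iff]
  constructor
  · rintro ⟨hg, h⟩; exact ⟨⟨g, hg⟩, h, rfl⟩
  · rintro ⟨k, hk, rfl⟩; exact ⟨k.2, hk⟩

theorem card_M12 : Nat.card (subG [] [340831]) = 95040 := by
  rw [subG12_eq, Nat.card_congr ((MulAction.stabilizer M24 _).equivMapOfInjective _
    Subtype.val_injective).toEquiv.symm, card_stab_dodecad square_mem_dodecads]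

theorem dod_end_bot : subG [4, 3, 2, 1, 0] [340831] = ⊥ := by
  obtain ⟨-, -, -, -, -, -, -, -, hs, hp, hl⟩ := small_checked
  have h := levels_card (subG_le [] [340831]) (prog_mem hs hp) (subG_inv _ _) levels12 [] hl
  rw [subG_inf_fix, card_M12, show (levels12.map fun p => p.2.length).prod = 95040 by decide,
    show endList [] levels12 = [4, 3, 2, 1, 0] by decide] at h
  have h1 : Nat.card ↥(subG [] [340831] ⊓ fixL [4, 3, 2, 1, 0]) = 1 := by omega
  have he : subG [4, 3, 2, 1, 0] [340831] = subG [] [340831] ⊓ fixL [4, 3, 2, 1, 0] := by
    ext g
    simp only [Subgroup.mem_inf, mem_subG, fixL_nil, Subgroup.mem_top, true_and]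
    exact ⟨fun h => ⟨⟨h.1, h.2.2⟩, h.2.1⟩, fun h => ⟨h.1.1, h.2, h.1.2⟩⟩
  rw [← Subgroup.card_eq_one, he, h1]

theorem card_M11 : Nat.card (subG [0] [340831]) = 7920 := by
  obtain ⟨-, -, -, -, hs, hp, hl, -⟩ := small_checked
  have h := levels_card (subG_le [0] [340831]) (prog_mem hs hp) (subG_inv _ _) levels11 [0] hl
  rw [subG_inf_fix, show (levels11.map fun p => p.2.length).prod = 7920 by decide,
    show endList [0] levels11 = [4, 3, 2, 1, 0] by decide] at h
  have h1 : subG [0] [340831] ⊓ fixL [4, 3, 2, 1, 0] = ⊥ := by
    rw [eq_bot_iff, ← dod_end_bot]
    exact fun g hg => mem_subG.mpr ⟨(mem_subG.mp hg.1).1, hg.2, (mem_subG.mp hg.1).2.2⟩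
  rw [h1, Subgroup.card_bot, mul_one] at h
  exact h

theorem twoTrans_M11 : TwoTransFaithful (subG [0] [340831]) (levelPts (levels11.getD 0 (0, [])).2) := by
  obtain ⟨-, -, -, -, hs, hp, hl, -⟩ := small_checked
  exact twoTrans_of_levels (b1 := 1) (b2 := 2) (T2 := (levels11.getD 1 (0, [])).2) (rest := levels11.drop 2)
    (prog_mem hs hp) hl dod_end_bot (by decide) (by decide) (by decide)

theorem twoTrans_M12 : TwoTransFaithful (subG [] [340831]) (levelPts (levels12.getD 0 (0, [])).2) := by
  obtain ⟨-, -, -, -, -, -, -, -, hs, hp, hl⟩ := small_checked
  exact twoTrans_of_levels (b1 := 0) (b2 := 1) (T2 := (levels12.getD 1 (0, [])).2) (rest := levels12.drop 2)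
    (prog_mem hs hp) hl dod_end_bot (by decide) (by decide) (by decide)

theorem isSimple_M11 : IsSimpleGroup (subG [0] [340831]) := by
  have : Fact (Nat.Prime 11) := ⟨by norm_num⟩
  obtain ⟨-, -, -, -, hs, hp, hl, hpow, -⟩ := small_checked
  refine twoTrans_M11.isSimple_of_prime (p := 11) (by decide +kernel) ?_ (fun g hg => hg.1)
    (le_closure_of_levels hs hp hl hpow dod_end_bot) (fun g hg => hg.2)
  rw [card_M11]; norm_num

theorem isSimple_M12 : IsSimpleGroup (subG [] [340831]) := by
  refine twoTrans_M12.isSimple_of_stabilizer (a := pt 0) (by decide +kernel) ?_ (Or.inl ?_)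
  · rw [subG_inf_stabilizer (by norm_num)]; exact isSimple_M11
  · rw [show (levelPts (levels12.getD 0 (0, [])).2).card = 12 by decide +kernel]
    rw [isPrimePow_nat_iff_bounded]
    decide +kernel

end CfsgGolay
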