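/-
The Mathieu groups as stabilisers in the code's group: orders, simplicity, transitivity.
-/
import Cfsg.Agent.Lib.Golay.Subgroups
import Cfsg.Prelude.Def_Spor_Mathieu

set_option autoImplicit false

namespace CfsgGolay

open Cfsg
open scoped Pointwise

attribute [local irreducible] codeL octadL dodecadL slpCodes

theorem isSimple_congr {A B : Type*} [Group A] [Group B] (e : A ≃* B) (h : IsSimpleGroup A) :
    IsSimpleGroup B := by
  exact e.symm.isSimpleGroup

/-- A subgroup of the code's group as a subgroup of the symmetric group. -/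
noncomputable def liftEquiv (K : Subgroup M24) : K ≃* K.map M24.subtype :=
  K.equivMapOfInjective _ Subtype.val_injective

theorem stab_pt_map : (MulAction.stabilizer M24 (none : GolayPt)).map M24.subtype = subG [23] [] := by
  ext g
  simp only [Subgroup.mem_map, MulAction.mem_stabilizer_iff, mem_subG, List.not_mem_nil, false_imp_iff,
    implies_true, and_true, mem_fixL, List.mem_singleton]
  constructor
  · rintro ⟨k, hk, rfl⟩
    refine ⟨k.2, fun p hp => ?_⟩
    rw [← pt_idx p, hp]; exact hk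
  · rintro ⟨hg, h⟩
    exact ⟨⟨g, hg⟩, h none rfl, rfl⟩

/-- Any point stabiliser is M23. -/
theorem pointStab_equiv (p : GolayPt) : Nonempty (subG [23] [] ≃* MulAction.stabilizer M24 p) := by
  have := multiply_transitive (show 1 ≤ 5 by norm_num)
  obtain ⟨g, hg, he⟩ := exists_M24_map (show 1 ≤ 5 by norm_num)
    ⟨fun _ : Fin 1 => (none : GolayPt), fun a b _ => Subsingleton.elim a b⟩
    ⟨fun _ : Fin 1 => p, fun a b _ => Subsingleton.elim a b⟩
  have h : p = (⟨g, hg⟩ : M24) • (none : GolayPt) := (he 0).symm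
  exact ⟨((MulEquiv.subgroupCongr stab_pt_map).symm.trans (liftEquiv _).symm).trans
    (MulAction.stabilizerEquivStabilizer h)⟩

theorem card_pointStab (p : GolayPt) : Nat.card (MulAction.stabilizer M24 p) = 10200960 := by
  obtain ⟨e⟩ := pointStab_equiv p
  rw [← Nat.card_congr e.toEquiv, show ([23] : List ℕ) = (baseL.take 1).reverse from rfl, subG_card_base]
  norm_num

theorem isSimple_pointStab (p : GolayPt) : IsSimpleGroup (MulAction.stabilizer M24 p) := by
  obtain ⟨e⟩ := pointStab_equiv p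
  exact isSimple_congr e isSimple_M23

theorem stab_two_eq {X Y : Type*} [MulAction M24 X] [MulAction M24 Y] (x : X) (y : Y) :
    MulAction.stabilizer M24 x ⊓ MulAction.stabilizer M24 y = MulAction.stabilizer M24 (x, y) := by
  ext g; simp [Prod.ext_iff]

theorem stab_pair_map :
    (MulAction.stabilizer M24 ((none : GolayPt), (some 0 : GolayPt))).map M24.subtype = subG [0, 23] [] := by
  ext g
  simp only [Subgroup.mem_map, MulAction.mem_stabilizer_iff, mem_subG, List.not_mem_nil, false_imp_iff,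
    implies_true, and_true, mem_fixL, List.mem_cons, or_false, Prod.smul_mk, Prod.ext_iff]
  constructor
  · rintro ⟨k, hk, rfl⟩
    refine ⟨k.2, fun p hp => ?_⟩
    rcases hp with hp | hp
    · rw [← pt_idx p, hp]; exact hk.2
    · rw [← pt_idx p, hp]; exact hk.1
  · rintro ⟨hg, h⟩
    exact ⟨⟨g, hg⟩, ⟨h none (Or.inr rfl), h (some 0) (Or.inl rfl)⟩, rfl⟩

/-- An embedding of two distinct points. -/
def emb2 (p q : GolayPt) (h : p ≠ q) : Fin 2 ↪ GolayPt :=
  ⟨![p, q], by intro i j; fin_cases i <;> fin_cases j <;> simp [h, h.symm]⟩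

theorem pairStab_equiv {p q : GolayPt} (hpq : p ≠ q) :
    Nonempty (subG [0, 23] [] ≃* ↥(MulAction.stabilizer M24 p ⊓ MulAction.stabilizer M24 q)) := by
  obtain ⟨g, hg, he⟩ := exists_M24_map (show 2 ≤ 5 by norm_num) (emb2 none (some 0) (by simp)) (emb2 p q hpq)
  have h : (p, q) = (⟨g, hg⟩ : M24) • ((none : GolayPt), (some 0 : GolayPt)) :=
    Prod.ext (he 0).symm (he 1).symm
  exact ⟨(((MulEquiv.subgroupCongr stab_pair_map).symm.trans (liftEquiv _).symm).trans
    (MulAction.stabilizerEquivStabilizer h)).trans (MulEquiv.subgroupCongr (stab_two_eq p q).symm)⟩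

theorem card_pairStab {p q : GolayPt} (hpq : p ≠ q) :
    Nat.card ↥(MulAction.stabilizer M24 p ⊓ MulAction.stabilizer M24 q) = 443520 := by
  obtain ⟨e⟩ := pairStab_equiv hpq
  rw [← Nat.card_congr e.toEquiv, show ([0, 23] : List ℕ) = (baseL.take 2).reverse from rfl, subG_card_base]
  norm_num

theorem isSimple_pairStab {p q : GolayPt} (hpq : p ≠ q) :
    IsSimpleGroup ↥(MulAction.stabilizer M24 p ⊓ MulAction.stabilizer M24 q) := by
  obtain ⟨e⟩ := pairStab_equiv hpq
  exact isSimple_congr e isSimple_M22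

/-- Any dodecad stabiliser is M12. -/
theorem dodStab_equiv {d : Finset GolayPt} (hd : d ∈ dodecads) :
    Nonempty (subG [] [340831] ≃* MulAction.stabilizer M24 d) := by
  obtain ⟨g, hg, he⟩ := dodecads_transitive square_mem_dodecads hd
  have h : d = (⟨g, hg⟩ : M24) • toSet 340831 := he.symm
  exact ⟨((MulEquiv.subgroupCongr subG12_eq).trans (liftEquiv _).symm).trans
    (MulAction.stabilizerEquivStabilizer h)⟩

theorem isSimple_dodStab {d : Finset GolayPt} (hd : d ∈ dodecads) :
    IsSimpleGroup (MulAction.stabilizer M24 d) := by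
  obtain ⟨e⟩ := dodStab_equiv hd
  exact isSimple_congr e isSimple_M12

theorem levelPts_M12 : levelPts (SubData.levels12.getD 0 (0, [])).2 = toSet 340831 := by decide +kernel

theorem stab_dodPt_map :
    (MulAction.stabilizer M24 (toSet 340831, (some 0 : GolayPt))).map M24.subtype = subG [0] [340831] := by
  ext g
  simp only [Subgroup.mem_map, MulAction.mem_stabilizer_iff, mem_subG, List.mem_singleton, forall_eq, mem_fixL,
    Prod.smul_mk, Prod.ext_iff]
  constructor
  · rintro ⟨k, hk, rfl⟩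
    refine ⟨k.2, fun p hp => ?_, hk.1⟩
    rw [← pt_idx p, hp]; exact hk.2
  · rintro ⟨hg, h, h'⟩
    exact ⟨⟨g, hg⟩, ⟨h', h (some 0) rfl⟩, rfl⟩

theorem dodPt_transitive {d : Finset GolayPt} (hd : d ∈ dodecads) {p : GolayPt} (hp : p ∈ d) :
    ∃ g : M24, (d, p) = g • (toSet 340831, (some 0 : GolayPt)) := by
  obtain ⟨g, hg, rfl⟩ := dodecads_transitive square_mem_dodecads hd
  obtain ⟨x, hx, rfl⟩ := Finset.mem_image.mp hp
  have h0 : (some 0 : GolayPt) ∈ toSet 340831 := by decide
  have hex : ∃ k ∈ subG [] [340831], k (some 0 : GolayPt) = x := by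
    rcases eq_or_ne (some 0 : GolayPt) x with rfl | hne
    · exact ⟨1, one_mem _, rfl⟩
    · rw [← levelPts_M12] at h0 hx
      obtain ⟨k, hk, hk1, -⟩ := twoTrans_M12.twoTrans _ h0 x hx x hx _ h0 hne hne.symm
      exact ⟨k, hk, hk1⟩
  obtain ⟨k, hk, rfl⟩ := hex
  obtain ⟨hk1, -, hk2⟩ := mem_subG.mp hk
  refine ⟨⟨g * k, mul_mem hg hk1⟩, Prod.ext ?_ rfl⟩
  show _ = (toSet 340831).image (g * k)
  rw [Equiv.Perm.coe_mul, ← Finset.image_image, hk2 340831 (by simp)]

theorem dodPtStab_equiv {d : Finset GolayPt} (hd : d ∈ dodecads) {p : GolayPt} (hp : p ∈ d) :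
    Nonempty (subG [0] [340831] ≃* ↥(MulAction.stabilizer M24 d ⊓ MulAction.stabilizer M24 p)) := by
  obtain ⟨g, h⟩ := dodPt_transitive hd hp
  exact ⟨(((MulEquiv.subgroupCongr stab_dodPt_map).symm.trans (liftEquiv _).symm).trans
    (MulAction.stabilizerEquivStabilizer h)).trans (MulEquiv.subgroupCongr (stab_two_eq d p).symm)⟩

theorem card_dodPtStab {d : Finset GolayPt} (hd : d ∈ dodecads) {p : GolayPt} (hp : p ∈ d) :
    Nat.card ↥(MulAction.stabilizer M24 d ⊓ MulAction.stabilizer M24 p) = 7920 := by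
  obtain ⟨e⟩ := dodPtStab_equiv hd hp
  rw [← Nat.card_congr e.toEquiv, card_M11]

theorem isSimple_dodPtStab {d : Finset GolayPt} (hd : d ∈ dodecads) {p : GolayPt} (hp : p ∈ d) :
    IsSimpleGroup ↥(MulAction.stabilizer M24 d ⊓ MulAction.stabilizer M24 p) := by
  obtain ⟨e⟩ := dodPtStab_equiv hd hp
  exact isSimple_congr e isSimple_M11

theorem dod_five_trivial {g : Equiv.Perm GolayPt} (hg : g ∈ subG [] [340831])
    (h : ∀ i < 5, g (pt i) = pt i) : g = 1 := by
  have : g ∈ subG [4, 3, 2, 1, 0] [340831] := by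
    obtain ⟨h1, -, h2⟩ := mem_subG.mp hg
    refine mem_subG.mpr ⟨h1, mem_fixL.mpr fun p hp => ?_, h2⟩
    rw [← pt_idx p]
    refine h _ ?_
    simp only [List.mem_cons, List.not_mem_nil, or_false] at hp
    omega
  rw [dod_end_bot] at this
  exact Subgroup.mem_bot.mp this

theorem dod_sharply_five {d : Finset GolayPt} (hd : d ∈ dodecads) (x y : Fin 5 ↪ GolayPt)
    (hx : ∀ i, x i ∈ d) (hy : ∀ i, y i ∈ d) :
    ∃! g : MulAction.stabilizer M24 d, ∀ i, ((g : M24) : Equiv.Perm GolayPt) (x i) = y i := by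
  have hbase : ∀ i : Fin 5, pt i ∈ toSet 340831 := by decide
  let b : Fin 5 ↪ {p // p ∈ toSet 340831} := ⟨fun i => ⟨pt i, hbase i⟩, fun i j h => by
    have := congrArg (fun z : {p // p ∈ toSet 340831} => idx z.1) h
    simp only [idx_pt (show (i : ℕ) < 24 by omega), idx_pt (show (j : ℕ) < 24 by omega)] at this
    exact Fin.ext this⟩
  have hmaps : ∀ k ∈ subG [] [340831], ∀ p ∈ toSet 340831, k p ∈ toSet 340831 :=
    levelPts_M12 ▸ twoTrans_M12.mapsTo
  let F : subG [] [340831] → (Fin 5 ↪ {p // p ∈ toSet 340831}) := fun k =>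
    ⟨fun i => ⟨(k : Equiv.Perm GolayPt) (b i).1, hmaps k k.2 _ (b i).2⟩, fun i j h =>
      b.injective (Subtype.ext ((k : Equiv.Perm GolayPt).injective (congrArg Subtype.val h)))⟩
  have hFinj : Function.Injective F := by
    intro k k' h
    have he : ∀ i < 5, (k'⁻¹ * k : subG [] [340831]).1 (pt i) = pt i := by
      intro i hi
      have h2 : (k : Equiv.Perm GolayPt) (pt i) = (k' : Equiv.Perm GolayPt) (pt i) :=
        congrArg (fun e : Fin 5 ↪ {p // p ∈ toSet 340831} => (e ⟨i, hi⟩).1) h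
      simp [Equiv.symm_apply_eq, h2]
    exact (inv_mul_eq_one.mp (Subtype.ext (dod_five_trivial (k'⁻¹ * k).2 he))).symm
  have hF : Function.Bijective F := by
    rw [Nat.bijective_iff_injective_and_card]
    refine ⟨hFinj, ?_⟩
    rw [card_M12, Nat.card_eq_fintype_card, Fintype.card_embedding_eq, Fintype.card_coe, card_toSet,
      show pc 340831 = 12 by decide, Fintype.card_fin]
    rfl
  obtain ⟨g, hg, hgd⟩ := dodecads_transitive square_mem_dodecads hd
  have pull : ∀ z : Fin 5 ↪ GolayPt, (∀ i, z i ∈ d) →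
      ∃ k : subG [] [340831], ∀ i, g ((k : Equiv.Perm GolayPt) (b i).1) = z i := by
    intro z hz
    have hz' : ∀ i, g⁻¹ (z i) ∈ toSet 340831 := by
      intro i
      have := hz i
      rw [← hgd, Finset.mem_image] at this
      obtain ⟨q, hq, he⟩ := this
      rw [← he]; simpa using hq
    obtain ⟨k, hk⟩ := hF.2 ⟨fun i => ⟨g⁻¹ (z i), hz' i⟩, fun i j h =>
      z.injective (g⁻¹.injective (congrArg Subtype.val h))⟩
    refine ⟨k, fun i => ?_⟩
    have h2 : (k : Equiv.Perm GolayPt) (b i).1 = g⁻¹ (z i) :=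
      congrArg (fun e : Fin 5 ↪ {p // p ∈ toSet 340831} => (e i).1) hk
    rw [h2]; simp
  have hk24 : ∀ k : subG [] [340831], (k : Equiv.Perm GolayPt) ∈ M24 := fun k => subG_le _ _ k.2
  obtain ⟨kx, hkx⟩ := pull x hx
  obtain ⟨ky, hky⟩ := pull y hy
  have hkd : ∀ k : subG [] [340831], (toSet 340831).image (k : Equiv.Perm GolayPt) = toSet 340831 :=
    fun k => (mem_subG.mp k.2).2.2 340831 (by simp)
  let w : M24 := ⟨g * (ky : Equiv.Perm GolayPt) * (g * (kx : Equiv.Perm GolayPt))⁻¹,
    mul_mem (mul_mem hg (hk24 ky)) (inv_mem (mul_mem hg (hk24 kx)))⟩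
  have himg : ∀ k : subG [] [340831], (⟨_, mul_mem hg (hk24 k)⟩ : M24) • toSet 340831 = d := by
    intro k
    show (toSet 340831).image (g * (k : Equiv.Perm GolayPt)) = d
    rw [Equiv.Perm.coe_mul, ← Finset.image_image, hkd k, hgd]
  have hw : w • d = d := by
    show ((⟨_, mul_mem hg (hk24 ky)⟩ : M24) * (⟨_, mul_mem hg (hk24 kx)⟩ : M24)⁻¹) • d = d
    rw [mul_smul, inv_smul_eq_iff.mpr (himg kx).symm, himg ky]
  refine ⟨⟨w, hw⟩, fun i => ?_, fun v hv => ?_⟩
  · show (w : Equiv.Perm GolayPt) (x i) = y i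
    rw [← hkx i, ← hky i]; simp [w]
  · refine Subtype.ext (Subtype.ext ?_)
    have hvd : ((v : M24) : Equiv.Perm GolayPt) ∈ M24 := (v : M24).2
    have hu : g⁻¹ * (((v : M24) : Equiv.Perm GolayPt))⁻¹ * (w : Equiv.Perm GolayPt) * g ∈ subG [] [340831] := by
      refine mem_subG.mpr ⟨mul_mem (mul_mem (mul_mem (inv_mem hg) (inv_mem hvd)) w.2) hg, by simp [fixL_nil],
        fun o ho => ?_⟩
      rw [List.mem_singleton] at ho; subst ho
      show ((⟨g, hg⟩ : M24)⁻¹ * (v : M24)⁻¹ * w * ⟨g, hg⟩) • toSet 340831 = toSet 340831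
      have hgd' : (⟨g, hg⟩ : M24) • toSet 340831 = d := hgd
      rw [mul_smul, hgd', mul_smul, hw, mul_smul, inv_smul_eq_iff.mpr v.2.symm, ← hgd', inv_smul_smul]
    have h1 : (kx : Equiv.Perm GolayPt)⁻¹ *
        (g⁻¹ * (((v : M24) : Equiv.Perm GolayPt))⁻¹ * (w : Equiv.Perm GolayPt) * g) *
        (kx : Equiv.Perm GolayPt) = 1 := by
      refine dod_five_trivial (mul_mem (mul_mem (inv_mem kx.2) hu) kx.2) fun i hi => ?_
      have e1 : g ((kx : Equiv.Perm GolayPt) (pt i)) = x ⟨i, hi⟩ := hkx ⟨i, hi⟩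
      have e2 : (w : Equiv.Perm GolayPt) (x ⟨i, hi⟩) = y ⟨i, hi⟩ := by
        rw [← hkx ⟨i, hi⟩, ← hky ⟨i, hi⟩]; simp [w]
      have e3 := hv ⟨i, hi⟩
      simp only [Equiv.Perm.mul_apply]
      rw [e1, e2, ← e3]
      simp [← e1]
    have h3 := congrArg (fun t => (kx : Equiv.Perm GolayPt) * t * (kx : Equiv.Perm GolayPt)⁻¹) h1
    simp only [mul_one, mul_inv_cancel, mul_assoc, mul_inv_cancel_left] at h3
    clear h1; have h1 := h3; clear h3
    generalize ((v : M24) : Equiv.Perm GolayPt) = vv at h1 ⊢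
    generalize (w : Equiv.Perm GolayPt) = ww at h1 ⊢
    have : g⁻¹ * vv⁻¹ * ww * g = 1 := by simpa [mul_assoc] using h1
    calc vv = vv * g * (g⁻¹ * vv⁻¹ * ww * g) * g⁻¹ := by rw [this]; group
      _ = ww := by group

theorem M23_eq : Spor.M23 = subG [23] [] := by
  ext g
  simp [Spor.M23, mem_subG, mem_fixL, MulAction.mem_stabilizer_iff, Subgroup.mem_inf]
  exact fun _ => ⟨fun h p hp => by rw [← pt_idx p, hp]; exact h, fun h => h none rfl⟩

theorem M22_eq : Spor.M22 = subG [0, 23] [] := by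
  rw [Spor.M22, M23_eq, show (some 0 : GolayPt) = pt 0 from rfl, subG_inf_stabilizer (by norm_num)]

theorem M12_eq : Spor.M12 = subG [] [340831] := by
  ext g
  simp [Spor.M12, Spor.squareDodecad, squares_eq, mem_subG, fixL_nil, MulAction.mem_stabilizer_iff]
  exact fun _ => Iff.rfl

theorem M11_eq : Spor.M11 = subG [0] [340831] := by
  rw [Spor.M11, M12_eq, show (some 0 : GolayPt) = pt 0 from rfl, subG_inf_stabilizer (by norm_num)]

theorem card_sporM23 : Nat.card Spor.M23 = 10200960 := by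
  rw [M23_eq, show ([23] : List ℕ) = (baseL.take 1).reverse from rfl, subG_card_base]; norm_num

theorem card_sporM22 : Nat.card Spor.M22 = 443520 := by
  rw [M22_eq, show ([0, 23] : List ℕ) = (baseL.take 2).reverse from rfl, subG_card_base]; norm_num

theorem card_sporM12 : Nat.card Spor.M12 = 95040 := by rw [M12_eq, card_M12]

theorem card_sporM11 : Nat.card Spor.M11 = 7920 := by rw [M11_eq, card_M11]

theorem isSimple_sporM23 : IsSimpleGroup Spor.M23 := by rw [M23_eq]; exact isSimple_M23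

theorem isSimple_sporM22 : IsSimpleGroup Spor.M22 := by rw [M22_eq]; exact isSimple_M22

theorem isSimple_sporM12 : IsSimpleGroup Spor.M12 := by rw [M12_eq]; exact isSimple_M12

theorem isSimple_sporM11 : IsSimpleGroup Spor.M11 := by rw [M11_eq]; exact isSimple_M11

end CfsgGolay
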