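/-
Bit-mask encoding of subsets of the 24 points, and of packed permutations, for kernel computations.
-/
import Mathlib
import Cfsg.Prelude.Def_Sporadic_a

set_option autoImplicit false

namespace CfsgGolay

open Cfsg

/-- The index of a point: residues keep their value, the extra point is 23. -/
def idx : GolayPt → ℕ
  | none => 23
  | some x => x.val

/-- The point with a given index. -/
def pt (i : ℕ) : GolayPt := if i < 23 then some (i : ZMod 23) else none

theorem idx_lt (p : GolayPt) : idx p < 24 := by
  revert p; decide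

@[simp] theorem pt_idx (p : GolayPt) : pt (idx p) = p := by
  revert p; decide

theorem idx_pt {i : ℕ} (h : i < 24) : idx (pt i) = i := by
  revert h; revert i; decide

theorem idx_injective : Function.Injective idx := fun p q h => by
  rw [← pt_idx p, h, pt_idx]

theorem idx_inj {p q : GolayPt} : idx p = idx q ↔ p = q := idx_injective.eq_iff

/-- The positions of the one bits below 24. -/
def setBits (m : ℕ) : List ℕ := (List.range 24).filter m.testBit

theorem mem_setBits {m i : ℕ} : i ∈ setBits m ↔ i < 24 ∧ m.testBit i = true := by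
  simp [setBits]

theorem setBits_nodup (m : ℕ) : (setBits m).Nodup := List.Nodup.filter _ List.nodup_range

/-- Number of one bits of a byte, from a packed table of nibbles. -/
def pc8 (b : ℕ) : ℕ := (95125173855764218123276304889944061997689682402263585766959741291920687686033329201817409157123347502415384089435969498586180241031507595463600295898153685276653211633572815512294064538494957912327413386667662218713394765509704508661031522276467630197481635010039778342554499416459730172574551513689147646224 >>> (4 * b)) % 16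

theorem pc8_spec : ∀ b < 256, pc8 b = (List.range 8).countP b.testBit := by decide +kernel

/-- Number of one bits below 24. -/
def pc (m : ℕ) : ℕ := pc8 (m % 256) + pc8 (m / 256 % 256) + pc8 (m / 65536 % 256)

theorem pc_eq (m : ℕ) : pc m = (setBits m).length := by
  have hr : List.range 24 = List.range 8 ++ (List.range 8).map (· + 8) ++ (List.range 8).map (· + 16) := by
    decide
  have hb : ∀ k, (List.range 8).countP (fun i => m.testBit (i + k)) =
      (List.range 8).countP (m / 2 ^ k % 256).testBit := by
    intro k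
    refine List.countP_congr fun i hi => ?_
    rw [show (256 : ℕ) = 2 ^ 8 from rfl, Nat.testBit_mod_two_pow, Nat.testBit_div_two_pow]
    simp [List.mem_range.mp hi, Nat.add_comm]
  have h0 := hb 0
  simp only [Nat.add_zero, pow_zero, Nat.div_one] at h0
  rw [setBits, ← List.countP_eq_length_filter, hr, List.countP_append, List.countP_append,
    List.countP_map, List.countP_map]
  simp only [Function.comp_def, hb 8, hb 16, h0, pc]
  rw [pc8_spec _ (Nat.mod_lt _ (by norm_num)), pc8_spec _ (Nat.mod_lt _ (by norm_num)),
    pc8_spec _ (Nat.mod_lt _ (by norm_num))]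
  norm_num

/-- The set of points coded by a mask. -/
def toSet (m : ℕ) : Finset GolayPt := Finset.univ.filter fun p => m.testBit (idx p) = true

@[simp] theorem mem_toSet {m : ℕ} {p : GolayPt} : p ∈ toSet m ↔ m.testBit (idx p) = true := by
  simp [toSet]

/-- The mask with the given one bits. -/
def orBits : List ℕ → ℕ
  | [] => 0
  | i :: l => 2 ^ i ||| orBits l

theorem testBit_orBits {l : List ℕ} {j : ℕ} : (orBits l).testBit j = true ↔ j ∈ l := by
  induction l with
  | nil => simp [orBits]
  | cons a l ih =>
    rw [orBits, Nat.testBit_or, Bool.or_eq_true, ih, List.mem_cons, Nat.testBit_two_pow,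
      decide_eq_true_iff, eq_comm]

theorem orBits_lt {l : List ℕ} {n : ℕ} (h : ∀ i ∈ l, i < n) : orBits l < 2 ^ n := by
  induction l with
  | nil => simp [orBits]
  | cons a l ih =>
    apply Nat.or_lt_two_pow
    · exact Nat.pow_lt_pow_right (by norm_num) (h a (by simp))
    · exact ih fun i hi => h i (List.mem_cons_of_mem _ hi)

/-- The mask of a set of points. -/
def toMask (s : Finset GolayPt) : ℕ :=
  orBits ((List.range 24).filter fun i => decide (pt i ∈ s))

theorem testBit_toMask {s : Finset GolayPt} {p : GolayPt} :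
    (toMask s).testBit (idx p) = true ↔ p ∈ s := by
  simp [toMask, testBit_orBits, idx_lt]

theorem toMask_lt (s : Finset GolayPt) : toMask s < 2 ^ 24 :=
  orBits_lt fun i hi => by simp at hi; omega

@[simp] theorem toSet_toMask (s : Finset GolayPt) : toSet (toMask s) = s := by
  ext p; simp [testBit_toMask]

theorem eq_of_toSet_eq {m n : ℕ} (hm : m < 2 ^ 24) (hn : n < 2 ^ 24) (h : toSet m = toSet n) : m = n := by
  apply Nat.eq_of_testBit_eq
  intro i
  by_cases hi : i < 24
  · have := congrArg (fun s => pt i ∈ s) h
    simp only [mem_toSet, idx_pt hi, eq_iff_iff] at this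
    exact Bool.eq_iff_iff.mpr this
  · rw [Nat.testBit_lt_two_pow (lt_of_lt_of_le hm (Nat.pow_le_pow_right (by norm_num) (by omega))),
      Nat.testBit_lt_two_pow (lt_of_lt_of_le hn (Nat.pow_le_pow_right (by norm_num) (by omega)))]

@[simp] theorem toMask_toSet {m : ℕ} (hm : m < 2 ^ 24) : toMask (toSet m) = m :=
  eq_of_toSet_eq (toMask_lt _) hm (toSet_toMask _)

theorem toSet_injOn : Set.InjOn toSet {m | m < 2 ^ 24} := fun _ hm _ hn h => eq_of_toSet_eq hm hn h

theorem toMask_injective : Function.Injective toMask :=
  Function.LeftInverse.injective toSet_toMask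

theorem card_toSet (m : ℕ) : (toSet m).card = pc m := by
  have h : (toSet m).image idx = (setBits m).toFinset := by
    ext i
    simp only [Finset.mem_image, mem_toSet, List.mem_toFinset, mem_setBits]
    constructor
    · rintro ⟨p, hp, rfl⟩; exact ⟨idx_lt p, hp⟩
    · rintro ⟨hi, hb⟩; exact ⟨pt i, by rwa [idx_pt hi], idx_pt hi⟩
  rw [← Finset.card_image_of_injective _ idx_injective, h, List.toFinset_card_of_nodup (setBits_nodup m), pc_eq]

theorem pc_toMask (s : Finset GolayPt) : pc (toMask s) = s.card := by
  rw [← card_toSet, toSet_toMask]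

theorem toSet_and (m n : ℕ) : toSet (m &&& n) = toSet m ∩ toSet n := by
  ext p; simp

theorem toSet_or (m n : ℕ) : toSet (m ||| n) = toSet m ∪ toSet n := by
  ext p; simp

theorem toSet_xor (m n : ℕ) : toSet (m ^^^ n) = symmDiff (toSet m) (toSet n) := by
  ext p
  simp only [mem_toSet, Nat.testBit_xor, Finset.mem_symmDiff]
  cases m.testBit (idx p) <;> cases n.testBit (idx p) <;> simp

theorem toMask_inter (s t : Finset GolayPt) : toMask (s ∩ t) = toMask s &&& toMask t := by
  apply eq_of_toSet_eq (toMask_lt _)
  · exact lt_of_le_of_lt Nat.and_le_left (toMask_lt _)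
  · rw [toSet_and]; simp

/-- The word with a given mask as support. -/
def wordOf (m : ℕ) : GolayPt → ZMod 2 := fun p => if m.testBit (idx p) then 1 else 0

theorem support_wordOf (m : ℕ) : support₂ (wordOf m) = toSet m := by
  ext p; simp [support₂, wordOf]

theorem wordOf_xor (m n : ℕ) : wordOf (m ^^^ n) = wordOf m + wordOf n := by
  funext p
  simp only [wordOf, Pi.add_apply, Nat.testBit_xor]
  cases m.testBit (idx p) <;> cases n.testBit (idx p) <;> decide

theorem wordOf_zero : wordOf 0 = 0 := by
  funext p; simp [wordOf]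

theorem wordOf_toMask_support (w : GolayPt → ZMod 2) : wordOf (toMask (support₂ w)) = w := by
  funext p
  have h2 : ∀ x : ZMod 2, x ≠ 0 → (1 : ZMod 2) = x := by decide
  simp only [wordOf, testBit_toMask, support₂, Finset.mem_filter, Finset.mem_univ, true_and]
  split_ifs with h
  · exact h2 _ h
  · exact (not_ne_iff.mp h).symm

/-- Apply a packed permutation (24 fields of 5 bits) to an index. -/
def papp (c i : ℕ) : ℕ := (c >>> (5 * i)) % 32

/-- Image of a mask under a packed permutation. -/
def pmask (c m : ℕ) : ℕ := orBits ((setBits m).map (papp c))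

/-- `g` is coded by `c`. -/
def Repr (c : ℕ) (g : Equiv.Perm GolayPt) : Prop := ∀ p : GolayPt, idx (g p) = papp c (idx p)

instance decidableRepr (c : ℕ) (g : Equiv.Perm GolayPt) : Decidable (Repr c g) := by
  unfold Repr; infer_instance

/-- Pack a function on indices. -/
def pack (f : ℕ → ℕ) : ℕ → ℕ
  | 0 => 0
  | k + 1 => pack f k + f k * 2 ^ (5 * k)

theorem pack_spec (f : ℕ → ℕ) (hf : ∀ i, f i < 32) :
    ∀ k, pack f k < 2 ^ (5 * k) ∧ ∀ i < k, papp (pack f k) i = f i := by
  intro k
  induction k with
  | zero => simp [pack]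
  | succ k ih =>
    obtain ⟨h1, h2⟩ := ih
    have hpow : 2 ^ (5 * (k + 1)) = 2 ^ (5 * k) * 32 := by rw [Nat.mul_succ, pow_add]; norm_num
    refine ⟨?_, fun i hi => ?_⟩
    · rw [hpow, pack]
      have := hf k
      calc pack f k + f k * 2 ^ (5 * k) < 2 ^ (5 * k) + f k * 2 ^ (5 * k) := by omega
        _ = (f k + 1) * 2 ^ (5 * k) := by ring
        _ ≤ 32 * 2 ^ (5 * k) := by gcongr; omega
        _ = _ := by ring
    · simp only [papp, pack, Nat.shiftRight_eq_div_pow] at h2 ⊢
      rcases Nat.lt_succ_iff_lt_or_eq.mp hi with hik | rfl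
      · rw [← h2 i hik]
        obtain ⟨d, hd⟩ : ∃ d, k = i + (d + 1) := ⟨k - i - 1, by omega⟩
        have : f k * 2 ^ (5 * k) = (f k * 2 ^ (5 * d) * 32) * 2 ^ (5 * i) := by
          rw [hd]; ring_nf
        rw [this, Nat.add_mul_div_right _ _ (Nat.two_pow_pos _), Nat.add_mul_mod_self_right]
      · rw [Nat.add_mul_div_right _ _ (Nat.two_pow_pos _), Nat.div_eq_of_lt h1, Nat.zero_add,
          Nat.mod_eq_of_lt (hf _)]

/-- Composition of packed permutations: `c` after `d`. -/
def pcomp (c d : ℕ) : ℕ := pack (fun i => papp c (papp d i)) 24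

theorem Repr.comp {c d : ℕ} {g h : Equiv.Perm GolayPt} (hc : Repr c g) (hd : Repr d h) :
    Repr (pcomp c d) (g * h) := by
  intro p
  rw [pcomp, ((pack_spec (fun i => papp c (papp d i)) (fun i => Nat.mod_lt _ (by norm_num))) 24).2
    _ (idx_lt p), Equiv.Perm.mul_apply, hc, hd]

/-- The packed identity. -/
def pid : ℕ := pack (fun i => i % 32) 24

theorem repr_pid : Repr pid 1 := by decide +kernel

theorem Repr.unique {c : ℕ} {g h : Equiv.Perm GolayPt} (hg : Repr c g) (hh : Repr c h) : g = h :=
  Equiv.ext fun p => idx_injective (by rw [hg, hh])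

theorem Repr.apply_pt {c : ℕ} {g : Equiv.Perm GolayPt} (hg : Repr c g) {i : ℕ} (hi : i < 24) :
    g (pt i) = pt (papp c i) := by
  rw [← pt_idx (g (pt i)), hg, idx_pt hi]

theorem Repr.toSet_pmask {c : ℕ} {g : Equiv.Perm GolayPt} (hg : Repr c g) (m : ℕ) :
    toSet (pmask c m) = (toSet m).image g := by
  ext p
  simp only [pmask, mem_toSet, testBit_orBits, List.mem_map, mem_setBits, Finset.mem_image]
  constructor
  · rintro ⟨i, ⟨hi, hb⟩, he⟩
    refine ⟨pt i, by rwa [idx_pt hi], idx_injective ?_⟩
    rw [hg, idx_pt hi, he]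
  · rintro ⟨q, hq, rfl⟩
    exact ⟨idx q, ⟨idx_lt q, hq⟩, (hg q).symm⟩

theorem Repr.pmask_lt {c : ℕ} {g : Equiv.Perm GolayPt} (hg : Repr c g) (m : ℕ) :
    pmask c m < 2 ^ 24 := by
  refine orBits_lt fun i hi => ?_
  simp only [List.mem_map, mem_setBits] at hi
  obtain ⟨j, ⟨hj, -⟩, rfl⟩ := hi
  rw [← idx_pt hj, ← hg]
  exact idx_lt _

end CfsgGolay
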