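/-
Kernel-checked description of the length-24 binary code: membership, word list, weights, octads, dodecads.
-/
import Cfsg.Agent.Lib.Golay.Bits

set_option autoImplicit false

namespace CfsgGolay

open Cfsg

/-- The generators: translates 0..10 of the squares, and the all-ones mask. -/
def genMasks : List ℕ :=
  [340831, 681662, 1363324, 2726648, 5453296, 2517985, 5035970, 1683333, 3366666, 6733332, 5078057, 16777215]

/-- A systematic basis on the first twelve positions. -/
def sysBasis : List ℕ :=
  [13062145, 4845570, 13938692, 7221256, 10170384, 11952160, 15515712, 2019456, 4038912, 8077824, 11654144, 14919680]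

/-- Decoding columns for the last twelve positions. -/
def decCols : List ℕ := [1501, 2578, 3108, 1085, 3087, 438, 1713, 3274, 1505, 2666, 3284, 2048]

/-- All xor combinations of a list of masks. -/
def spanList : List ℕ → List ℕ
  | [] => [0]
  | e :: es => (spanList es).flatMap fun x => [x, e ^^^ x]

/-- The 4096 code masks, in the order of their low twelve bits. -/
def codeL : List ℕ := spanList sysBasis

/-- Even overlap with every generator. -/
def inCode (m : ℕ) : Bool := genMasks.all fun g => pc (m &&& g) % 2 == 0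

/-- The syndrome as a twelve bit mask. -/
def syn : List ℕ → ℕ → ℕ
  | [], _ => 0
  | g :: gs, m => pc (m &&& g) % 2 + 2 * syn gs m

/-- Xor of the columns selected by a mask. -/
def xorCols : List ℕ → ℕ → ℕ
  | [], _ => 0
  | d :: ds, s => (if s % 2 = 1 then d else 0) ^^^ xorCols ds (s / 2)

theorem spanList_subset (S : Submodule (ZMod 2) (GolayPt → ZMod 2)) :
    ∀ l : List ℕ, (∀ e ∈ l, wordOf e ∈ S) → ∀ x ∈ spanList l, wordOf x ∈ S
  | [], _, x, hx => by
    simp only [spanList, List.mem_singleton] at hx
    subst hx; rw [wordOf_zero]; exact zero_mem _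
  | e :: es, h, x, hx => by
    simp only [spanList, List.mem_flatMap, List.mem_cons, List.not_mem_nil, or_false] at hx
    obtain ⟨y, hy, rfl | rfl⟩ := hx
    · exact spanList_subset S es (fun z hz => h z (List.mem_cons_of_mem _ hz)) _ hy
    · rw [wordOf_xor]
      exact add_mem (h e (by simp))
        (spanList_subset S es (fun z hz => h z (List.mem_cons_of_mem _ hz)) _ hy)

theorem codeL_checks :
    (codeL.length = 4096) ∧
    ((List.range 4096).all fun h => xorCols decCols (syn genMasks (h <<< 12)) == h) = true ∧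
    (codeL == (List.range 4096).map fun l => l ||| (xorCols decCols (syn genMasks l) <<< 12)) = true ∧
    ((sysBasis.all fun e => inCode e && decide (e < 2 ^ 24)) = true) := by
  decide +kernel

theorem sys_subset_span : (sysBasis.all fun e => decide (e ∈ spanList genMasks)) = true := by
  decide +kernel

/-- Masks of the 23 translates of the squares. -/
def qrMasks : List ℕ :=
  [340831, 681662, 1363324, 2726648, 5453296, 2517985, 5035970, 1683333, 3366666, 6733332, 5078057, 1767507, 3535014, 7070028, 5751449, 3114291, 6228582, 4068557, 8137114, 7885621, 7382635, 6376663, 4364719]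

theorem wordOf_qrMask : ∀ i < 23, wordOf (qrMasks.getD i 0) = qrWord (i : ZMod 23) := by decide +kernel

theorem wordOf_genMask {i : ℕ} (h : i < 11) : wordOf (genMasks.getD i 0) = qrWord (i : ZMod 23) := by
  rw [← wordOf_qrMask i (by omega)]; congr 1; revert h; revert i; decide

theorem wordOf_ones : wordOf (genMasks.getD 11 0) = (1 : GolayPt → ZMod 2) := by decide +kernel

theorem genMask_mem {g : ℕ} (hg : g ∈ genMasks) : wordOf g ∈ golayCode := by
  obtain ⟨i, hi, rfl⟩ := List.getElem_of_mem hg
  rw [← List.getD_eq_getElem _ 0 hi]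
  have hi' : i < 12 := by simpa [genMasks] using hi
  by_cases h : i < 11
  · rw [wordOf_genMask h]; exact Submodule.subset_span (Or.inl ⟨_, rfl⟩)
  · obtain rfl : i = 11 := by omega
    rw [wordOf_ones]; exact Submodule.subset_span (Or.inr rfl)

theorem codeL_mem {m : ℕ} (h : m ∈ codeL) : wordOf m ∈ golayCode := by
  refine spanList_subset _ sysBasis (fun e he => ?_) _ h
  refine spanList_subset _ genMasks (fun g hg => genMask_mem hg) _ ?_
  simpa using List.all_eq_true.mp sys_subset_span e he

/-- The linear functional "sum over the positions of a mask". -/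
def dotMask (g : ℕ) : (GolayPt → ZMod 2) →ₗ[ZMod 2] ZMod 2 := ∑ p ∈ toSet g, LinearMap.proj p

theorem dotMask_eq (g : ℕ) (w : GolayPt → ZMod 2) :
    dotMask g w = (pc (toMask (support₂ w) &&& g) : ZMod 2) := by
  rw [← card_toSet, toSet_and, toSet_toMask]
  simp only [dotMask, LinearMap.coe_sum, Finset.sum_apply, LinearMap.proj_apply]
  have h2 : ∀ x : ZMod 2, x = if x ≠ 0 then 1 else 0 := by decide
  rw [Finset.sum_congr rfl fun p _ => h2 (w p), Finset.sum_boole]
  congr 2
  ext p; simp [support₂, and_comm]

theorem dotMask_eq_zero_iff (g : ℕ) (w : GolayPt → ZMod 2) :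
    dotMask g w = 0 ↔ pc (toMask (support₂ w) &&& g) % 2 = 0 := by
  rw [dotMask_eq, ZMod.natCast_eq_zero_iff_even, Nat.even_iff]

theorem gens_orth : ((List.range 23).all fun t => inCode (qrMasks.getD t 0) &&
    decide (qrMasks.getD t 0 < 2 ^ 24)) = true ∧ inCode 16777215 = true := by
  decide +kernel

theorem inCode_of_mem {w : GolayPt → ZMod 2} (hw : w ∈ golayCode) : inCode (toMask (support₂ w)) = true := by
  simp only [inCode, List.all_eq_true, beq_iff_eq]
  intro g hg
  rw [← dotMask_eq_zero_iff, ← LinearMap.mem_ker]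
  refine Submodule.span_le.mpr ?_ hw
  rintro x (⟨t, rfl⟩ | rfl)
  · have h := List.all_eq_true.mp gens_orth.1 t.val (List.mem_range.mpr (ZMod.val_lt t))
    simp only [Bool.and_eq_true, decide_eq_true_eq, inCode, List.all_eq_true, beq_iff_eq] at h
    rw [SetLike.mem_coe, LinearMap.mem_ker, dotMask_eq_zero_iff, ← ZMod.natCast_zmod_val t,
      ← wordOf_qrMask _ (ZMod.val_lt t), support_wordOf, toMask_toSet h.2]
    exact h.1 g hg
  · have h := gens_orth.2
    simp only [inCode, List.all_eq_true, beq_iff_eq] at h
    rw [SetLike.mem_coe, LinearMap.mem_ker, dotMask_eq_zero_iff, ← wordOf_ones, support_wordOf]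
    rw [show genMasks.getD 11 0 = 16777215 from rfl, toMask_toSet (by norm_num)]
    exact h g hg

theorem syn_eq_of_inCode_aux : ∀ (gs : List ℕ) (m l h : ℕ),
    (∀ g ∈ gs, pc (m &&& g) = pc (l &&& g) + pc (h &&& g)) → (∀ g ∈ gs, pc (m &&& g) % 2 = 0) →
    syn gs l = syn gs h
  | [], _, _, _, _, _ => rfl
  | g :: gs, m, l, h, hs, he => by
    have ih := syn_eq_of_inCode_aux gs m l h (fun x hx => hs x (List.mem_cons_of_mem _ hx))
      (fun x hx => he x (List.mem_cons_of_mem _ hx))
    have := hs g (by simp)
    have := he g (by simp)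
    simp only [syn, ih]; omega

theorem mem_codeL_of_inCode {m : ℕ} (hm : m < 2 ^ 24) (h : inCode m = true) : m ∈ codeL := by
  simp only [inCode, List.all_eq_true, beq_iff_eq] at h
  set l := m % 4096 with hl
  set u := m / 4096 with hu
  have hlt : l < 4096 := Nat.mod_lt _ (by norm_num)
  have hult : u < 4096 := by omega
  have hsplit : m = l ||| (u <<< 12) := by
    rw [Nat.or_comm, ← Nat.shiftLeft_add_eq_or_of_lt (by norm_num; exact hlt), Nat.shiftLeft_eq]
    norm_num; omega
  have hdisj : ∀ g : ℕ, pc (m &&& g) = pc (l &&& g) + pc ((u <<< 12) &&& g) := by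
    intro g
    rw [← card_toSet, ← card_toSet, ← card_toSet, hsplit, ← Finset.card_union_of_disjoint]
    · congr 1; simp only [toSet_and, toSet_or, Finset.union_inter_distrib_right]
    · rw [toSet_and, toSet_and]
      refine Finset.disjoint_left.mpr fun p hp hq => ?_
      simp only [Finset.mem_inter, mem_toSet, Nat.testBit_shiftLeft] at hp hq
      by_cases h12 : idx p < 12
      · simp [h12.not_ge] at hq
      · rw [Nat.testBit_lt_two_pow (lt_of_lt_of_le hlt
          (le_trans (by norm_num) (Nat.pow_le_pow_right (by norm_num) (not_lt.mp h12))))] at hp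
        simp at hp
  have hsyn : syn genMasks l = syn genMasks (u <<< 12) :=
    syn_eq_of_inCode_aux genMasks m l _ (fun g _ => hdisj g) h
  obtain ⟨-, hdec, hlist, -⟩ := codeL_checks
  have hd := beq_iff_eq.mp (List.all_eq_true.mp hdec u (List.mem_range.mpr hult))
  rw [beq_iff_eq.mp hlist, List.mem_map]
  exact ⟨l, List.mem_range.mpr hlt, by rw [hsyn, hd, ← hsplit]⟩

theorem toMask_support_mem {w : GolayPt → ZMod 2} (hw : w ∈ golayCode) : toMask (support₂ w) ∈ codeL :=
  mem_codeL_of_inCode (toMask_lt _) (inCode_of_mem hw)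

theorem mem_golayCode_iff {w : GolayPt → ZMod 2} : w ∈ golayCode ↔ toMask (support₂ w) ∈ codeL :=
  ⟨toMask_support_mem, fun h => by rw [← wordOf_toMask_support w]; exact codeL_mem h⟩

theorem codeL_lt : ∀ m ∈ codeL, m < 2 ^ 24 := by
  have h : (codeL.all fun m => decide (m < 2 ^ 24)) = true := by decide +kernel
  simpa [List.all_eq_true] using h

theorem codeL_nodup : codeL.Nodup := by
  obtain ⟨-, -, hlist, -⟩ := codeL_checks
  rw [beq_iff_eq.mp hlist]
  refine List.nodup_range.map_on fun a ha b hb hab => ?_
  rw [List.mem_range] at ha hb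
  have key : ∀ x y : ℕ, x < 4096 → (x ||| (y <<< 12)) % 4096 = x := fun x y hx => by
    rw [Nat.or_comm, ← Nat.shiftLeft_add_eq_or_of_lt (by norm_num; exact hx), Nat.shiftLeft_eq]
    norm_num; omega
  rw [← key a _ ha, hab, key b _ hb]

theorem mem_supports {s : Finset GolayPt} :
    s ∈ supports (golayCode : Set (GolayPt → ZMod 2)) ↔ toMask s ∈ codeL := by
  constructor
  · rintro ⟨w, hw, rfl⟩; exact toMask_support_mem hw
  · intro h; exact ⟨wordOf (toMask s), codeL_mem h, by rw [support_wordOf, toSet_toMask]⟩

theorem supports_eq : supports (golayCode : Set (GolayPt → ZMod 2)) = toSet '' {m | m ∈ codeL} := by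
  ext s
  rw [mem_supports]
  exact ⟨fun h => ⟨_, h, toSet_toMask s⟩, by
    rintro ⟨m, hm, rfl⟩; rwa [toMask_toSet (codeL_lt m hm)]⟩

/-- Masks of the octads. -/
def octadL : List ℕ := codeL.filter fun m => pc m == 8

/-- Masks of the dodecads. -/
def dodecadL : List ℕ := codeL.filter fun m => pc m == 12

theorem mem_wordsOfWeight {n : ℕ} {s : Finset GolayPt} :
    s ∈ wordsOfWeight (golayCode : Set (GolayPt → ZMod 2)) n ↔
      toMask s ∈ codeL.filter fun m => pc m == n := by
  simp [wordsOfWeight, mem_supports, pc_toMask]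

theorem mem_octads {s : Finset GolayPt} : s ∈ octads ↔ toMask s ∈ octadL := mem_wordsOfWeight

theorem mem_dodecads {s : Finset GolayPt} : s ∈ dodecads ↔ toMask s ∈ dodecadL := mem_wordsOfWeight

theorem wordsOfWeight_eq (n : ℕ) : wordsOfWeight (golayCode : Set (GolayPt → ZMod 2)) n =
    toSet '' {m | m ∈ codeL.filter fun m => pc m == n} := by
  ext s
  rw [mem_wordsOfWeight]
  refine ⟨fun h => ⟨_, h, toSet_toMask s⟩, ?_⟩
  rintro ⟨m, hm, rfl⟩
  rwa [toMask_toSet (codeL_lt m (List.mem_filter.mp hm).1)]

theorem ncard_wordsOfWeight (n : ℕ) : (wordsOfWeight (golayCode : Set (GolayPt → ZMod 2)) n).ncard =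
    (codeL.filter fun m => pc m == n).length := by
  have hinj : Set.InjOn toSet {m | m ∈ codeL.filter fun m => pc m == n} := fun a ha b hb h =>
    toSet_injOn (codeL_lt a (List.mem_filter.mp ha).1) (codeL_lt b (List.mem_filter.mp hb).1) h
  rw [wordsOfWeight_eq, hinj.ncard_image, ← List.toFinset_card_of_nodup (codeL_nodup.filter _),
    ← Set.ncard_coe_finset]
  congr 1; ext m; simp

theorem octadL_lt {m : ℕ} (h : m ∈ octadL) : m < 2 ^ 24 := codeL_lt m (List.mem_filter.mp h).1

theorem toSet_mem_octads {m : ℕ} (h : m ∈ octadL) : toSet m ∈ octads := by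
  rw [mem_octads, toMask_toSet (octadL_lt h)]; exact h

theorem toSet_mem_dodecads {m : ℕ} (h : m ∈ dodecadL) : toSet m ∈ dodecads := by
  rw [mem_dodecads, toMask_toSet (codeL_lt m (List.mem_filter.mp h).1)]; exact h

theorem codeL_weights : (codeL.all fun m => [0, 8, 12, 16, 24].contains (pc m)) = true ∧
    octadL.length = 759 ∧ dodecadL.length = 2576 := by
  decide +kernel

theorem code_weight_cases {s : Finset GolayPt} (h : s ∈ supports (golayCode : Set (GolayPt → ZMod 2))) :
    s.card = 0 ∨ s.card = 8 ∨ s.card = 12 ∨ s.card = 16 ∨ s.card = 24 := by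
  have := List.all_eq_true.mp codeL_weights.1 _ (mem_supports.mp h)
  simpa [pc_toMask] using this

theorem octads_ncard : octads.ncard = 759 := (ncard_wordsOfWeight 8).trans codeL_weights.2.1

theorem dodecads_ncard : dodecads.ncard = 2576 := (ncard_wordsOfWeight 12).trans codeL_weights.2.2

theorem card_of_mem_octads {s : Finset GolayPt} (h : s ∈ octads) : s.card = 8 := h.2

theorem octad_unique {o o' s : Finset GolayPt} (ho : o ∈ octads) (ho' : o' ∈ octads)
    (hs : 5 ≤ s.card) (h : s ⊆ o) (h' : s ⊆ o') : o = o' := by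
  obtain ⟨⟨v, hv, hvo⟩, hc⟩ := ho
  obtain ⟨⟨w, hw, hwo⟩, hc'⟩ := ho'
  have hsum : support₂ (v + w) = symmDiff o o' := by
    subst hvo hwo
    ext p
    simp only [support₂, Finset.mem_filter, Finset.mem_univ, true_and, Pi.add_apply, Finset.mem_symmDiff]
    generalize v p = a; generalize w p = b; revert a b; decide
  have hlt : (symmDiff o o').card < 8 := by
    have hi : 5 ≤ (o ∩ o').card := hs.trans (Finset.card_le_card (Finset.subset_inter h h'))
    rw [symmDiff_def, Finset.sup_eq_union, Finset.card_union_of_disjoint disjoint_sdiff_sdiff,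
      Finset.card_sdiff, Finset.card_sdiff, Finset.inter_comm o' o]
    omega
  rcases code_weight_cases ⟨v + w, add_mem hv hw, hsum⟩ with h0 | h0 | h0 | h0 | h0 <;> try omega
  exact symmDiff_eq_bot.mp (Finset.card_eq_zero.mp h0)

end CfsgGolay
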