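/-
The octads form a Steiner system S(5, 8, 24); the code has dimension 12 and is self-orthogonal.
-/
import Cfsg.Agent.Lib.Golay.Code

set_option autoImplicit false

namespace CfsgGolay

open Cfsg

attribute [local irreducible] codeL octadL

/-- The octads as a finset. -/
noncomputable def octF : Finset (Finset GolayPt) := octadL.toFinset.image toSet

theorem coe_octF : (octF : Set (Finset GolayPt)) = octads := by
  ext s
  simp only [octF, Finset.coe_image, List.coe_toFinset, mem_octads, Set.mem_image, Set.mem_ofPred_eq]
  exact ⟨fun ⟨m, hm, he⟩ => by rw [← he, toMask_toSet (octadL_lt hm)]; exact hm,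
    fun h => ⟨_, h, toSet_toMask s⟩⟩

theorem mem_octF {s : Finset GolayPt} : s ∈ octF ↔ s ∈ octads := by
  rw [← coe_octF]; rfl

theorem card_octF : octF.card = 759 := by
  rw [← Set.ncard_coe_finset, coe_octF, octads_ncard]

theorem octads_steiner : IsSteinerSystem 5 8 octads := by
  refine ⟨fun b hb => card_of_mem_octads hb, fun s hs => ?_⟩
  have hdisj : (octF : Set (Finset GolayPt)).PairwiseDisjoint fun o => o.powersetCard 5 := by
    intro o ho o' ho' hne
    refine Finset.disjoint_left.mpr fun t ht ht' => hne ?_
    rw [Finset.mem_powersetCard] at ht ht'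
    exact octad_unique (mem_octF.mp ho) (mem_octF.mp ho') ht.2.ge ht.1 ht'.1
  have heq : octF.biUnion (fun o => o.powersetCard 5) = (Finset.univ : Finset GolayPt).powersetCard 5 := by
    refine Finset.eq_of_subset_of_card_le (fun t ht => ?_) (le_of_eq ?_)
    · simp only [Finset.mem_biUnion, Finset.mem_powersetCard] at ht ⊢
      obtain ⟨o, -, -, h5⟩ := ht
      exact ⟨Finset.subset_univ t, h5⟩
    · rw [Finset.card_biUnion hdisj, Finset.sum_congr rfl fun o ho => by
          rw [Finset.card_powersetCard, card_of_mem_octads (mem_octF.mp ho)],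
        Finset.sum_const, card_octF, Finset.card_powersetCard, Finset.card_univ, Fintype.card_option, ZMod.card,
        smul_eq_mul, Nat.choose_eq_descFactorial_div_factorial, Nat.choose_eq_descFactorial_div_factorial]
      norm_num [Nat.descFactorial, Nat.factorial]
  have : s ∈ octF.biUnion (fun o => o.powersetCard 5) := by
    rw [heq]; simp [Finset.mem_powersetCard, hs]
  obtain ⟨o, ho, hso⟩ := Finset.mem_biUnion.mp this
  rw [Finset.mem_powersetCard] at hso
  exact ⟨o, ⟨mem_octF.mp ho, hso.1⟩, fun b hb => octad_unique hb.1 (mem_octF.mp ho) hs.ge hb.2 hso.1⟩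

theorem golayCode_card : Nat.card golayCode = 4096 := by
  let e : golayCode ≃ {m // m ∈ codeL} :=
    { toFun := fun w => ⟨toMask (support₂ (w : GolayPt → ZMod 2)), toMask_support_mem w.2⟩
      invFun := fun m => ⟨wordOf m.1, codeL_mem m.2⟩
      left_inv := fun w => Subtype.ext (wordOf_toMask_support _)
      right_inv := fun m => Subtype.ext (by
        show toMask (support₂ (wordOf m.1)) = m.1
        rw [support_wordOf, toMask_toSet (codeL_lt m.1 m.2)]) }
  rw [Nat.card_congr e, Nat.card_congr (Equiv.subtypeEquivRight (fun m => (List.mem_toFinset).symm)),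
    Nat.card_eq_fintype_card, Fintype.card_coe, List.toFinset_card_of_nodup codeL_nodup, codeL_checks.1]

theorem golayCode_finrank : Module.finrank (ZMod 2) golayCode = 12 := by
  have h := Module.natCard_eq_pow_finrank (K := ZMod 2) (V := golayCode)
  rw [golayCode_card, Nat.card_zmod] at h
  exact Nat.pow_right_injective (le_refl 2) (h.symm.trans (by norm_num))

theorem golayCode_orth (v w : GolayPt → ZMod 2) (hv : v ∈ golayCode) (hw : w ∈ golayCode) :
    ∑ i, v i * w i = 0 := by
  let f : (GolayPt → ZMod 2) →ₗ[ZMod 2] ZMod 2 := ∑ i, v i • LinearMap.proj i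
  have hf : ∀ x, f x = ∑ i, v i * x i := fun x => by simp [f]
  have hdot : ∀ (g : ℕ) (u : GolayPt → ZMod 2), dotMask g u = ∑ i, wordOf g i * u i := by
    intro g u
    simp only [dotMask, LinearMap.coe_sum, Finset.sum_apply, LinearMap.proj_apply]
    rw [toSet, Finset.sum_filter]
    refine Finset.sum_congr rfl fun i _ => ?_
    simp [wordOf]
  rw [← hf, ← LinearMap.mem_ker]
  have hgen : ∀ g ∈ genMasks, wordOf g ∈ LinearMap.ker f := by
    intro g hg
    rw [LinearMap.mem_ker, hf, Finset.sum_congr rfl fun i _ => mul_comm (v i) _, ← hdot,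
      dotMask_eq_zero_iff]
    have h := inCode_of_mem hv
    simp only [inCode, List.all_eq_true, beq_iff_eq] at h
    exact h g hg
  have h : ∀ m ∈ codeL, wordOf m ∈ LinearMap.ker f := fun m hm =>
    spanList_subset _ sysBasis (fun e he => spanList_subset _ genMasks hgen _
      (by simpa using List.all_eq_true.mp sys_subset_span e he)) _ (by unfold codeL at hm; exact hm)
  simpa [wordOf_toMask_support] using h _ (toMask_support_mem hw)

end CfsgGolay
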