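/-
The three named permutations, membership in the code's group, and straight-line programs.
-/
import Cfsg.Agent.Lib.Golay.Steiner

set_option autoImplicit false

namespace CfsgGolay

open Cfsg
open scoped Pointwise

attribute [local irreducible] codeL octadL dodecadL

theorem mem_M24_iff {g : Equiv.Perm GolayPt} :
    g ∈ M24 ↔ ∀ s ∈ supports (golayCode : Set (GolayPt → ZMod 2)),
      s.image g ∈ supports (golayCode : Set (GolayPt → ZMod 2)) := by
  have hfs : ∀ s : Finset GolayPt, g • s = s.image g := fun s => rfl
  rw [MulAction.mem_stabilizer_iff]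
  constructor
  · intro h s hs
    rw [← h]
    exact ⟨s, hs, hfs s⟩
  · intro h
    refine Set.eq_of_subset_of_ncard_le ?_ ?_ (Set.toFinite _)
    · rintro _ ⟨s, hs, rfl⟩; exact h s hs
    · exact le_of_eq (Set.InjOn.ncard_image (MulAction.injective g).injOn).symm

theorem image_mem_supports {g : Equiv.Perm GolayPt} (hg : g ∈ M24) {s : Finset GolayPt}
    (hs : s ∈ supports (golayCode : Set (GolayPt → ZMod 2))) :
    s.image g ∈ supports (golayCode : Set (GolayPt → ZMod 2)) := mem_M24_iff.mp hg s hs

theorem image_mem_wordsOfWeight {g : Equiv.Perm GolayPt} (hg : g ∈ M24) {s : Finset GolayPt} {n : ℕ}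
    (hs : s ∈ wordsOfWeight (golayCode : Set (GolayPt → ZMod 2)) n) :
    s.image g ∈ wordsOfWeight (golayCode : Set (GolayPt → ZMod 2)) n :=
  ⟨image_mem_supports hg hs.1, (Finset.card_image_of_injective _ g.injective).trans hs.2⟩

theorem image_mem_octads {g : Equiv.Perm GolayPt} (hg : g ∈ M24) {s : Finset GolayPt} (hs : s ∈ octads) :
    s.image g ∈ octads := image_mem_wordsOfWeight hg hs

theorem image_mem_dodecads {g : Equiv.Perm GolayPt} (hg : g ∈ M24) {s : Finset GolayPt}
    (hs : s ∈ dodecads) : s.image g ∈ dodecads := image_mem_wordsOfWeight hg hs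

theorem wordOf_comp_symm {c : ℕ} {g : Equiv.Perm GolayPt} (hg : Repr c g) (m : ℕ) :
    wordOf m ∘ g.symm = wordOf (pmask c m) := by
  funext p
  have h : p ∈ toSet (pmask c m) ↔ g.symm p ∈ toSet m := by
    rw [hg.toSet_pmask, Finset.mem_image]
    exact ⟨fun ⟨q, hq, he⟩ => by rw [← he, Equiv.symm_apply_apply]; exact hq,
      fun hq => ⟨_, hq, Equiv.apply_symm_apply g p⟩⟩
  simp only [mem_toSet] at h
  simp only [wordOf, Function.comp_apply, h]

/-- A coded permutation preserving the generators of the code preserves the code. -/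
def gensKept (c : ℕ) : Bool := genMasks.all fun m => inCode (pmask c m)

theorem mem_M24_of_gensKept {c : ℕ} {g : Equiv.Perm GolayPt} (hg : Repr c g) (h : gensKept c = true) :
    g ∈ M24 := by
  rw [mem_M24_iff]
  let S : Submodule (ZMod 2) (GolayPt → ZMod 2) :=
    golayCode.comap (LinearMap.funLeft (ZMod 2) (ZMod 2) g.symm)
  have hgen : ∀ m ∈ genMasks, wordOf m ∈ S := by
    intro m hm
    show wordOf m ∘ g.symm ∈ golayCode
    rw [wordOf_comp_symm hg]
    exact codeL_mem (mem_codeL_of_inCode (hg.pmask_lt m) (List.all_eq_true.mp h m hm))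
  have hall : ∀ m ∈ codeL, wordOf m ∈ S := fun m hm =>
    spanList_subset _ sysBasis (fun e he => spanList_subset _ genMasks hgen _
      (by simpa using List.all_eq_true.mp sys_subset_span e he)) _ (by unfold codeL at hm; exact hm)
  rintro s ⟨w, hw, rfl⟩
  have hS : w ∈ S := by simpa [wordOf_toMask_support] using hall _ (toMask_support_mem hw)
  refine ⟨w ∘ g.symm, hS, ?_⟩
  ext p
  simp only [support₂, Finset.mem_filter, Finset.mem_univ, true_and, Finset.mem_image, Function.comp_apply]
  exact ⟨fun hp => ⟨_, hp, Equiv.apply_symm_apply g p⟩,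
    fun ⟨q, hq, he⟩ => by rw [← he, Equiv.symm_apply_apply]; exact hq⟩

/-- The translation. -/
def permT : Equiv.Perm GolayPt := Equiv.optionCongr (Equiv.addRight (1 : ZMod 23))

/-- Code of the translation. -/
def cT : ℕ := 956302485175575353788796878166559809

/-- Code of the inversion. -/
def cI : ℕ := 1795248432537898728475572672376535

/-- Code of the cube twist. -/
def cC : ℕ := 974380510768821363662145534143076928

theorem repr_T : Repr cT permT := by decide +kernel

theorem repr_I : Repr cI projInv := by decide +kernel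

theorem repr_C : Repr cC cubeTwist := by
  have h : ∀ p : GolayPt, idx (cubeTwistFun p) = papp cC (idx p) := by decide +kernel
  exact h

theorem gensKept_all : gensKept cT = true ∧ gensKept cI = true ∧ gensKept cC = true := by decide +kernel

/-- The group generated by the three named permutations. -/
def genGroup : Subgroup (Equiv.Perm GolayPt) := Subgroup.closure {permT, projInv, cubeTwist}

theorem genGroup_le : genGroup ≤ M24 := by
  rw [genGroup, Subgroup.closure_le]
  rintro x (rfl | rfl | rfl)
  · exact mem_M24_of_gensKept repr_T gensKept_all.1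
  · exact mem_M24_of_gensKept repr_I gensKept_all.2.1
  · exact mem_M24_of_gensKept repr_C gensKept_all.2.2

/-- Check a straight-line program: each entry is the product of two known codes. -/
def slpOK : List ℕ → List (ℕ × ℕ × ℕ) → Bool
  | _, [] => true
  | known, (c, a, b) :: rest =>
    Nat.blt a known.length && Nat.blt b known.length && Nat.beq c (pcomp (known.getD a 0) (known.getD b 0)) &&
      slpOK (known ++ [c]) rest

theorem slp_sound (H : Subgroup (Equiv.Perm GolayPt)) :
    ∀ (known : List ℕ) (prog : List (ℕ × ℕ × ℕ)), slpOK known prog = true →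
      (∀ c ∈ known, ∃ g ∈ H, Repr c g) → ∀ c ∈ known ++ prog.map Prod.fst, ∃ g ∈ H, Repr c g
  | known, [], _, hk, c, hc => hk c (by simpa using hc)
  | known, (d, a, b) :: rest, h, hk, c, hc => by
    simp only [slpOK, Bool.and_eq_true, Nat.blt_eq] at h
    obtain ⟨⟨⟨ha, hb⟩, hd⟩, hr⟩ := h
    refine slp_sound H (known ++ [d]) rest hr (fun e he => ?_) c (by simpa using hc)
    rw [List.mem_append, List.mem_singleton] at he
    rcases he with he | rfl
    · exact hk e he
    · obtain ⟨g, hg, hgr⟩ := hk _ (List.getElem_mem ha)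
      obtain ⟨k, hkm, hkr⟩ := hk _ (List.getElem_mem hb)
      refine ⟨g * k, mul_mem hg hkm, ?_⟩
      rw [Nat.eq_of_beq_eq_true hd, List.getD_eq_getElem _ _ ha, List.getD_eq_getElem _ _ hb]
      exact hgr.comp hkr

theorem repr_genGroup : ∀ c ∈ [cT, cI, cC], ∃ g ∈ genGroup, Repr c g := by
  intro c hc
  simp only [List.mem_cons, List.not_mem_nil, or_false] at hc
  rcases hc with rfl | rfl | rfl
  · exact ⟨_, Subgroup.subset_closure (by simp), repr_T⟩
  · exact ⟨_, Subgroup.subset_closure (by simp), repr_I⟩
  · exact ⟨_, Subgroup.subset_closure (by simp), repr_C⟩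

end CfsgGolay
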