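/-
The standard octad, sextet, trio and dodecad pair, and the orbits of the code's group on them.
-/
import Cfsg.Agent.Lib.Golay.Data.OrbM
import Cfsg.Agent.Lib.Golay.Data.OrbMF
import Cfsg.Agent.Lib.Golay.Data.OrbO
import Cfsg.Agent.Lib.Golay.Data.GensS
import Cfsg.Agent.Lib.Golay.Data.GensT
import Cfsg.Agent.Lib.Golay.Data.GensW
import Cfsg.Agent.Lib.Golay.Data.GensD

set_option autoImplicit false

namespace CfsgGolay

open Cfsg
open scoped Pointwise

attribute [local irreducible] codeL octadL dodecadL slpCodes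

theorem gM_codes : gM.map GenT.c = [cT, cI, cC] := by decide +kernel

theorem Gr_gM : Gr gM = M24 := by
  refine le_antisymm (Gr_le_M24 gM_ok) ?_
  rw [← genGroup_eq, genGroup, Subgroup.closure_le]
  have key : ∀ (c : ℕ) (g : Equiv.Perm GolayPt), c ∈ [cT, cI, cC] → Repr c g → g ∈ Gr gM := by
    intro c g hc hg
    rw [← gM_codes, List.mem_map] at hc
    obtain ⟨e, he, rfl⟩ := hc
    obtain ⟨g', -, hg'⟩ := exists_good gM_ok he
    exact hg.unique hg'.1 ▸ mem_Gr he hg'
  rintro x (rfl | rfl | rfl)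
  · exact key cT _ (by simp) repr_T
  · exact key cI _ (by simp) repr_I
  · exact key cC _ (by simp) repr_C

section

variable {α : Type*} [MulAction (Equiv.Perm GolayPt) α] {K : Kind α} {o : ℕ} {C : Cert}

theorem orbit_M24 (hv : K.Valid o) (h : orbOK K.act gM o C = true) :
    MulAction.orbit M24 (K.dec o) = K.dec '' (C.codes : Set ℕ) ∧
      (MulAction.orbit M24 (K.dec o)).ncard = C.n := by
  have h1 := orbit_cert hv gM_ok h
  have h2 := ncard_orbit_cert hv gM_ok h
  rw [Gr_gM] at h1 h2
  exact ⟨h1, h2⟩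

theorem stab_std (hv : K.Valid o) (hC : orbOK K.act gM o C = true) {L : List GenT} {base : List ℕ} {N : ℕ}
    (hL : gensOK L = true) (hfix : fixesObj K.act L o = true)
    (hlow : lowBound L [] base = N ∧ (base.all fun b => Nat.blt b 24) = true)
    (hn : C.n * N = 244823040) : Gr L = stabM (K.dec o) ∧ Nat.card ↥(stabM (K.dec o)) = N := by
  have h := card_inf_stab (H := M24) (K.dec o)
  rw [(orbit_M24 hv hC).2, card_M24] at h
  have hN : Nat.card ↥(stabM (K.dec o)) = N := by
    have hpos : 0 < C.n := by rcases Nat.eq_zero_or_pos C.n with h0 | h0; · rw [h0, Nat.zero_mul] at hn; omega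
                              exact h0
    exact Nat.eq_of_mul_eq_mul_right hpos (h.trans (by rw [mul_comm]; exact hn.symm))
  exact ⟨Gr_eq_of_card hL (le_inf (Gr_le_M24 hL) (Gr_le_stab hv hfix)) hlow.2 (by rw [hN, hlow.1]), hN⟩

theorem orbit_std {H : Subgroup (Equiv.Perm GolayPt)} {L : List GenT} (hH : Gr L = H)
    (hL : gensOK L = true) (hv : K.Valid o) (hC : orbOK K.act L o C = true) :
    (MulAction.orbit H (K.dec o)).ncard = C.n := by
  subst hH; exact ncard_orbit_cert hv hL hC

end

/-- The standard octad. -/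
def O0 : Finset GolayPt := toSet 8536111

/-- The standard sextet. -/
def S0 : Finset (Finset GolayPt) := famSet 6 11150382242010895008167239022564679587348520

/-- The standard trio. -/
def T0 : Finset (Finset GolayPt) := famSet 3 2402701777519073634240

/-- The standard dodecad. -/
def D0 : Finset GolayPt := toSet 340831

/-- The standard complementary pair of dodecads. -/
def W0 : Finset (Finset GolayPt) := famSet 2 275756764967775

/-- An octad from a mask. -/
theorem toSet_mem_octads' {m : ℕ} (hm : m < 2 ^ 24) (h : inCode m = true ∧ pc m = 8) : toSet m ∈ octads :=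
  toSet_mem_octads (by
    unfold octadL
    exact List.mem_filter.mpr ⟨mem_codeL_of_inCode hm h.1, by simp [h.2]⟩)

/-- A dodecad from a mask. -/
theorem toSet_mem_dodecads' {m : ℕ} (hm : m < 2 ^ 24) (h : inCode m = true ∧ pc m = 12) :
    toSet m ∈ dodecads :=
  toSet_mem_dodecads (by
    unfold dodecadL
    exact List.mem_filter.mpr ⟨mem_codeL_of_inCode hm h.1, by simp [h.2]⟩)

theorem O0_mem : O0 ∈ octads := toSet_mem_octads' (by norm_num) (by decide +kernel)

theorem D0_mem : D0 ∈ dodecads := toSet_mem_dodecads' (by norm_num) (by decide +kernel)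

theorem octads_eq_orbit : octads = MulAction.orbit M24 O0 := by
  refine (Set.eq_of_subset_of_ncard_le ?_ ?_ (Set.toFinite _)).symm
  · rintro _ ⟨⟨g, hg⟩, rfl⟩; exact image_mem_octads hg O0_mem
  · rw [octads_ncard]
    exact le_of_eq ((orbit_M24 (K := maskK) (o := 8536111) (by show _ < 2 ^ 24; norm_num) cMO_ok).2).symm

theorem dodecads_eq_orbit : dodecads = MulAction.orbit M24 D0 := by
  refine (Set.eq_of_subset_of_ncard_le ?_ ?_ (Set.toFinite _)).symm
  · rintro _ ⟨⟨g, hg⟩, rfl⟩; exact image_mem_dodecads hg D0_mem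
  · rw [dodecads_ncard]
    exact le_of_eq ((orbit_M24 (K := maskK) (o := 340831) (by show _ < 2 ^ 24; norm_num) cMD_ok).2).symm

theorem smul_mem_octads {g : Equiv.Perm GolayPt} (hg : g ∈ M24) {o : Finset GolayPt} (ho : o ∈ octads) :
    g • o ∈ octads := image_mem_octads hg ho

theorem smul_mem_dodecads {g : Equiv.Perm GolayPt} (hg : g ∈ M24) {o : Finset GolayPt} (ho : o ∈ dodecads) :
    g • o ∈ dodecads := image_mem_dodecads hg ho

theorem exists_smul_O0 {o : Finset GolayPt} (ho : o ∈ octads) : ∃ g ∈ M24, g • O0 = o := by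
  rw [octads_eq_orbit] at ho
  obtain ⟨⟨g, hg⟩, rfl⟩ := ho
  exact ⟨g, hg, rfl⟩

theorem exists_smul_D0 {o : Finset GolayPt} (ho : o ∈ dodecads) : ∃ g ∈ M24, g • D0 = o := by
  rw [dodecads_eq_orbit] at ho
  obtain ⟨⟨g, hg⟩, rfl⟩ := ho
  exact ⟨g, hg, rfl⟩

theorem stabO : Gr gO = stabM O0 ∧ Nat.card ↥(stabM O0) = 322560 :=
  stab_std (K := maskK) (by show _ < 2 ^ 24; norm_num) cMO_ok gO_ok fixO lowO (by rfl)

theorem stabS : Gr gS = stabM S0 ∧ Nat.card ↥(stabM S0) = 138240 :=
  stab_std (K := famK 6) (famValidB_sound (by decide +kernel)) cMS_ok gS_ok fixS lowS (by rfl)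

theorem stabT : Gr gT = stabM T0 ∧ Nat.card ↥(stabM T0) = 64512 :=
  stab_std (K := famK 3) (famValidB_sound (by decide +kernel)) cMT_ok gT_ok fixT lowT (by rfl)

theorem stabW : Gr gW = stabM W0 ∧ Nat.card ↥(stabM W0) = 190080 :=
  stab_std (K := famK 2) (famValidB_sound (by decide +kernel)) cMW_ok gW_ok fixW lowW (by rfl)

theorem stabD : Gr gD = stabM D0 ∧ Nat.card ↥(stabM D0) = 95040 :=
  stab_std (K := maskK) (by show _ < 2 ^ 24; norm_num) cMD_ok gD_ok fixD lowD (by rfl)

end CfsgGolay
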