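/-
Sextets: uniqueness through a tetrad, the orbit of the standard sextet, and trios.
-/
import Cfsg.Agent.Lib.Golay.Std

set_option autoImplicit false

namespace CfsgGolay

open Cfsg
open scoped Pointwise

attribute [local irreducible] codeL octadL dodecadL slpCodes

/-- The tetrad in the standard sextet. -/
def tetr0 : Finset GolayPt := toSet 8388615

/-- Four of the blocks and two more: the masks of the standard sextet. -/
def sext0L : List ℕ := unpackF 6 11150382242010895008167239022564679587348520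

theorem sext0_checks : (sext0L.all fun a => Nat.beq (pc a) 4 &&
    sext0L.all fun b => Nat.beq a b || (inCode (a ||| b) && Nat.beq (pc (a ||| b)) 8)) = true ∧
    sext0L.contains 8388615 = true ∧ sext0L.foldr Nat.lor 0 = 16777215 ∧
    sext0L.length = 6 ∧ sext0L.Nodup := by
  decide +kernel

theorem mem_S0 {t : Finset GolayPt} : t ∈ S0 ↔ ∃ m ∈ sext0L, toSet m = t := by
  simp [S0, famSet, sext0L]

theorem card_S0 : S0.card = 6 := by
  rw [S0, famSet, Finset.card_image_of_injOn]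
  · exact (List.toFinset_card_of_nodup sext0_checks.2.2.2.2).trans sext0_checks.2.2.2.1
  · intro a ha b hb h
    simp only [List.coe_toFinset, Set.mem_ofPred_eq] at ha hb
    exact toSet_injOn (unpackF_lt _ _ a ha) (unpackF_lt _ _ b hb) h

theorem S0_mem : S0 ∈ sextets := by
  have h := sext0_checks.1
  simp only [List.all_eq_true, Bool.and_eq_true, Bool.or_eq_true] at h
  refine ⟨card_S0, fun t ht => ?_, fun t ht u hu hne => ?_⟩
  · obtain ⟨a, ha, rfl⟩ := mem_S0.mp ht
    rw [card_toSet, Nat.eq_of_beq_eq_true (h a ha).1]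
  · obtain ⟨a, ha, rfl⟩ := mem_S0.mp ht
    obtain ⟨b, hb, rfl⟩ := mem_S0.mp hu
    rw [← toSet_or]
    rcases (h a ha).2 b hb with he | ⟨hc, h8⟩
    · exact absurd (congrArg toSet (Nat.eq_of_beq_eq_true he)) hne
    · exact toSet_mem_octads' (Nat.or_lt_two_pow (unpackF_lt _ _ a ha) (unpackF_lt _ _ b hb))
        ⟨hc, Nat.eq_of_beq_eq_true h8⟩

theorem tetr0_mem : tetr0 ∈ S0 := mem_S0.mpr ⟨_, List.contains_iff_mem.mp sext0_checks.2.1, rfl⟩

theorem smul_mem_sextets {g : Equiv.Perm GolayPt} (hg : g ∈ M24) {S : Finset (Finset GolayPt)}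
    (hS : S ∈ sextets) : g • S ∈ sextets := by
  obtain ⟨h6, h4, h8⟩ := hS
  refine ⟨by rw [Finset.card_smul_finset]; exact h6, fun t ht => ?_, fun t ht u hu hne => ?_⟩
  · obtain ⟨s, hs, rfl⟩ := Finset.mem_smul_finset.mp ht
    rw [Finset.card_smul_finset]; exact h4 s hs
  · obtain ⟨s, hs, rfl⟩ := Finset.mem_smul_finset.mp ht
    obtain ⟨v, hv, rfl⟩ := Finset.mem_smul_finset.mp hu
    rw [← Finset.smul_finset_union]
    exact smul_mem_octads hg (h8 s hs v hv fun h => hne (h ▸ rfl))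

theorem sextet_disjoint {S : Finset (Finset GolayPt)} (hS : S ∈ sextets) {t u : Finset GolayPt}
    (ht : t ∈ S) (hu : u ∈ S) (hne : t ≠ u) : Disjoint t u := by
  rw [← Finset.card_union_eq_card_add_card, card_of_mem_octads (hS.2.2 t ht u hu hne), hS.2.1 t ht,
    hS.2.1 u hu]

theorem sextet_eq_S0 {S : Finset (Finset GolayPt)} (hS : S ∈ sextets) (ht : tetr0 ∈ S) : S = S0 := by
  refine Finset.eq_of_subset_of_card_le (fun u hu => ?_) (by rw [card_S0, hS.1])
  by_cases hu0 : u = tetr0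
  · rw [hu0]; exact tetr0_mem
  obtain ⟨x, hx⟩ := Finset.card_pos.mp (by rw [hS.2.1 u hu]; norm_num : 0 < u.card)
  obtain ⟨v, hv, hxv⟩ : ∃ v ∈ S0, x ∈ v := by
    have hall : ∀ (l : List ℕ) (p : GolayPt), p ∈ toSet (l.foldr Nat.lor 0) → ∃ m ∈ l, p ∈ toSet m := by
      intro l p
      induction l with
      | nil => simp
      | cons a l ih =>
        intro hp
        change p ∈ toSet (a ||| l.foldr Nat.lor 0) at hp
        rw [toSet_or, Finset.mem_union] at hp
        rcases hp with hp | hp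
        · exact ⟨a, by simp, hp⟩
        · obtain ⟨m, hm, hpm⟩ := ih hp; exact ⟨m, List.mem_cons_of_mem _ hm, hpm⟩
    obtain ⟨m, hm, hpm⟩ := hall sext0L x (by
      rw [sext0_checks.2.2.1, mem_toSet]
      exact (by decide +kernel : ∀ p : GolayPt, (16777215 : ℕ).testBit (idx p) = true) x)
    exact ⟨_, mem_S0.mpr ⟨m, hm, rfl⟩, hpm⟩
  have hxt : x ∉ tetr0 := Finset.disjoint_left.mp (sextet_disjoint hS hu ht hu0) hx
  have hv0 : v ≠ tetr0 := fun h => hxt (h ▸ hxv)
  have heq : tetr0 ∪ u = tetr0 ∪ v := by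
    refine octad_unique (s := insert x tetr0) (hS.2.2 _ ht _ hu (Ne.symm hu0))
      (S0_mem.2.2 _ tetr0_mem _ hv (Ne.symm hv0)) ?_ ?_ ?_
    · rw [Finset.card_insert_of_notMem hxt, hS.2.1 _ ht]
    · exact Finset.insert_subset (Finset.mem_union_right _ hx) Finset.subset_union_left
    · exact Finset.insert_subset (Finset.mem_union_right _ hxv) Finset.subset_union_left
  have : u = v := by
    have h1 := Finset.union_sdiff_cancel_left (sextet_disjoint hS ht hu (Ne.symm hu0))
    have h2 := Finset.union_sdiff_cancel_left (sextet_disjoint S0_mem tetr0_mem hv (Ne.symm hv0))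
    rw [← h1, heq, h2]
  exact this ▸ hv

theorem exists_smul_tetr0 {t : Finset GolayPt} (ht : t.card = 4) : ∃ g ∈ M24, g • tetr0 = t := by
  have h0 : tetr0.card = 4 := by rw [tetr0, card_toSet]; decide +kernel
  obtain ⟨x, hx⟩ := exists_emb_of_card (k := 4) (s := tetr0) h0.ge
  obtain ⟨y, hy⟩ := exists_emb_of_card (k := 4) (s := t) ht.ge
  obtain ⟨g, hg, hgx⟩ := exists_M24_map (by norm_num : 4 ≤ 5) x y
  have hx' : Finset.univ.map x = tetr0 := Finset.eq_of_subset_of_card_le
    (fun p hp => by obtain ⟨i, -, rfl⟩ := Finset.mem_map.mp hp; exact hx i) (by simp [h0])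
  have hy' : Finset.univ.map y = t := Finset.eq_of_subset_of_card_le
    (fun p hp => by obtain ⟨i, -, rfl⟩ := Finset.mem_map.mp hp; exact hy i) (by simp [ht])
  refine ⟨g, hg, ?_⟩
  rw [← hx', ← hy', smul_set_pts]
  ext p
  simp [hgx]

theorem existsUnique_sextet {t : Finset GolayPt} (ht : t.card = 4) :
    ∃! S : Finset (Finset GolayPt), S ∈ sextets ∧ t ∈ S := by
  obtain ⟨g, hg, rfl⟩ := exists_smul_tetr0 ht
  refine ⟨g • S0, ⟨smul_mem_sextets hg S0_mem, Finset.smul_mem_smul_finset tetr0_mem⟩, ?_⟩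
  rintro S ⟨hS, htS⟩
  rw [← inv_smul_eq_iff]
  exact sextet_eq_S0 (smul_mem_sextets (inv_mem hg) hS) (Finset.mem_inv_smul_finset_iff.mpr htS)

theorem exists_smul_S0 {S : Finset (Finset GolayPt)} (hS : S ∈ sextets) : ∃ g ∈ M24, g • S0 = S := by
  obtain ⟨t, ht⟩ := Finset.card_pos.mp (by rw [hS.1]; norm_num : 0 < S.card)
  obtain ⟨g, hg, rfl⟩ := exists_smul_tetr0 (hS.2.1 t ht)
  refine ⟨g, hg, ?_⟩
  rw [← eq_inv_smul_iff]
  exact (sextet_eq_S0 (smul_mem_sextets (inv_mem hg) hS) (Finset.mem_inv_smul_finset_iff.mpr ht)).symm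

theorem sextets_eq_orbit : sextets = MulAction.orbit M24 S0 := by
  ext S
  constructor
  · intro hS; obtain ⟨g, hg, rfl⟩ := exists_smul_S0 hS; exact ⟨⟨g, hg⟩, rfl⟩
  · rintro ⟨⟨g, hg⟩, rfl⟩; exact smul_mem_sextets hg S0_mem

theorem sextets_ncard : sextets.ncard = 1771 := by
  rw [sextets_eq_orbit]
  exact (orbit_M24 (K := famK 6) (famValidB_sound (by decide +kernel)) cMS_ok).2

/-- Intersection with a fixed set, as an invariant. -/
theorem card_inter_smul {g : Equiv.Perm GolayPt} {s t : Finset GolayPt} (h : g • s = s) :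
    (s ∩ g • t).card = (s ∩ t).card := by
  conv_lhs => rw [← h, ← Finset.smul_finset_inter, Finset.card_smul_finset]

/-- Representatives of the octads under the stabiliser of the standard octad. -/
def repsOO : List (Finset GolayPt) := [toSet 8536111, toSet 4202192, toSet 8683614, toSet 12880401]

theorem cover_OO : octads = orbUnion (Gr gO) repsOO ∧ (repsOO.map fun o => (O0 ∩ o).card).Nodup ∧
    (∀ (g : Gr gO), ∀ o ∈ octads, (O0 ∩ g • o).card = (O0 ∩ o).card) := by
  have hinv : ∀ (g : Gr gO), ∀ o ∈ octads, (O0 ∩ g • o).card = (O0 ∩ o).card := fun g o _ =>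
    card_inter_smul ((stabO.1 ▸ g.2 : (g : Equiv.Perm GolayPt) ∈ stabM O0)).2
  have hnd : (repsOO.map fun o => (O0 ∩ o).card).Nodup := by
    simp only [repsOO, O0, List.map_cons, List.map_nil, ← toSet_and, card_toSet]
    decide +kernel
  refine ⟨?_, hnd, hinv⟩
  have hv : ∀ m, m < 2 ^ 24 → maskK.Valid m := fun _ h => h
  refine cover_orbits octads (fun o => (O0 ∩ o).card) repsOO
    (fun g o ho => smul_mem_octads (Gr_le_M24 gO_ok g.2) ho) hinv ?_ hnd ?_
  · simp only [repsOO, List.forall_mem_cons]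
    refine ⟨?_, ?_, ?_, ?_, List.forall_mem_nil _⟩ <;>
      exact toSet_mem_octads' (by norm_num) (by decide +kernel)
  · rw [octads_ncard]
    simp only [repsOO, List.map_cons, List.map_nil]
    rw [show (toSet 8536111) = maskK.dec 8536111 from rfl,
      show (toSet 4202192) = maskK.dec 4202192 from rfl,
      show (toSet 8683614) = maskK.dec 8683614 from rfl,
      show (toSet 12880401) = maskK.dec 12880401 from rfl,
      ncard_orbit_cert (hv _ (by norm_num)) gO_ok cOO0_ok, ncard_orbit_cert (hv _ (by norm_num)) gO_ok cOO1_ok,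
      ncard_orbit_cert (hv _ (by norm_num)) gO_ok cOO2_ok, ncard_orbit_cert (hv _ (by norm_num)) gO_ok cOO3_ok]
    rfl

/-- Octads meeting the standard octad equally are conjugate under its stabiliser. -/
theorem octad_class_O0 {o o' : Finset GolayPt} (ho : o ∈ octads) (ho' : o' ∈ octads)
    (h : (O0 ∩ o).card = (O0 ∩ o').card) : ∃ g ∈ stabM O0, g • o = o' := by
  obtain ⟨hc, hnd, hinv⟩ := cover_OO
  obtain ⟨g, hg⟩ := same_orbit_of_eq hc hinv hnd ho ho' h
  exact ⟨g, stabO.1 ▸ g.2, hg⟩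

theorem smul_mem_trios {g : Equiv.Perm GolayPt} (hg : g ∈ M24) {T : Finset (Finset GolayPt)}
    (hT : T ∈ trios) : g • T ∈ trios := by
  obtain ⟨h3, h8, hd⟩ := hT
  refine ⟨by rw [Finset.card_smul_finset]; exact h3, fun t ht => ?_, fun t ht u hu hne => ?_⟩
  · obtain ⟨s, hs, rfl⟩ := Finset.mem_smul_finset.mp ht
    exact smul_mem_octads hg (h8 s hs)
  · obtain ⟨s, hs, rfl⟩ := Finset.mem_smul_finset.mp ht
    obtain ⟨v, hv, rfl⟩ := Finset.mem_smul_finset.mp hu
    exact (Finset.disjoint_image g.injective).mpr (hd s hs v hv fun h => hne (h ▸ rfl))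

theorem trio_eq_of_two {T : Finset (Finset GolayPt)} (hT : T ∈ trios) {a b : Finset GolayPt}
    (ha : a ∈ T) (hb : b ∈ T) (hne : a ≠ b) : T = {a, b, (a ∪ b)ᶜ} := by
  obtain ⟨c, hc, hca, hcb⟩ : ∃ c ∈ T, c ≠ a ∧ c ≠ b := by
    have h1 : ((T.erase a).erase b).card = 1 := by
      rw [Finset.card_erase_of_mem (Finset.mem_erase.mpr ⟨hne.symm, hb⟩), Finset.card_erase_of_mem ha, hT.1]
    obtain ⟨c, hc⟩ := Finset.card_pos.mp (by rw [h1]; norm_num)
    simp only [Finset.mem_erase] at hc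
    exact ⟨c, hc.2.2, hc.2.1, hc.1⟩
  have hd1 := hT.2.2 a ha b hb hne
  have hceq : c = (a ∪ b)ᶜ := by
    refine Finset.eq_of_subset_of_card_le ?_ ?_
    · intro x hx
      rw [Finset.mem_compl, Finset.mem_union]
      rintro (h | h)
      · exact Finset.disjoint_left.mp (hT.2.2 c hc a ha hca) hx h
      · exact Finset.disjoint_left.mp (hT.2.2 c hc b hb hcb) hx h
    · rw [Finset.card_compl, Finset.card_union_of_disjoint hd1, card_of_mem_octads (hT.2.1 a ha),
        card_of_mem_octads (hT.2.1 b hb), card_of_mem_octads (hT.2.1 c hc)]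
      decide
  refine (Finset.eq_of_subset_of_card_le ?_ ?_).symm
  · simp only [Finset.insert_subset_iff, Finset.singleton_subset_iff]; exact ⟨ha, hb, hceq ▸ hc⟩
  · rw [hT.1, ← hceq, Finset.card_insert_of_notMem (by simp [hne, Ne.symm hca]), Finset.card_pair (Ne.symm hcb)]

/-- The masks of the standard trio. -/
def trio0L : List ℕ := unpackF 3 2402701777519073634240

theorem trio0_checks : (trio0L.all fun a => inCode a && Nat.beq (pc a) 8 &&
    trio0L.all fun b => Nat.beq a b || Nat.beq (a &&& b) 0) = true ∧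
    trio0L.contains 8536111 = true ∧ trio0L.length = 3 ∧ trio0L.Nodup := by
  decide +kernel

theorem T0_mem : T0 ∈ trios := by
  have h := trio0_checks.1
  simp only [List.all_eq_true, Bool.and_eq_true, Bool.or_eq_true] at h
  have hmem : ∀ {t}, t ∈ T0 ↔ ∃ m ∈ trio0L, toSet m = t := by intro t; simp [T0, famSet, trio0L]
  refine ⟨?_, fun t ht => ?_, fun t ht u hu hne => ?_⟩
  · rw [T0, famSet, Finset.card_image_of_injOn]
    · exact (List.toFinset_card_of_nodup trio0_checks.2.2.2).trans trio0_checks.2.2.1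
    · intro a ha b hb h
      simp only [List.coe_toFinset, Set.mem_ofPred_eq] at ha hb
      exact toSet_injOn (unpackF_lt _ _ a ha) (unpackF_lt _ _ b hb) h
  · obtain ⟨a, ha, rfl⟩ := hmem.mp ht
    exact toSet_mem_octads' (unpackF_lt _ _ a ha) ⟨(h a ha).1.1, Nat.eq_of_beq_eq_true (h a ha).1.2⟩
  · obtain ⟨a, ha, rfl⟩ := hmem.mp ht
    obtain ⟨b, hb, rfl⟩ := hmem.mp hu
    rcases (h a ha).2 b hb with he | he
    · exact absurd (congrArg toSet (Nat.eq_of_beq_eq_true he)) hne
    · rw [Finset.disjoint_iff_inter_eq_empty, ← toSet_and, Nat.eq_of_beq_eq_true he]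
      ext p; simp

theorem O0_mem_T0 : O0 ∈ T0 := by
  simp only [T0, O0, famSet, Finset.mem_image, List.mem_toFinset]
  exact ⟨_, List.contains_iff_mem.mp trio0_checks.2.1, rfl⟩

theorem exists_smul_T0 {T : Finset (Finset GolayPt)} (hT : T ∈ trios) : ∃ g ∈ M24, g • T0 = T := by
  obtain ⟨a, ha⟩ := Finset.card_pos.mp (by rw [hT.1]; norm_num : 0 < T.card)
  obtain ⟨g, hg, rfl⟩ := exists_smul_O0 (hT.2.1 a ha)
  set T' := g⁻¹ • T with hT'
  have hT'm : T' ∈ trios := smul_mem_trios (inv_mem hg) hT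
  have ha' : O0 ∈ T' := Finset.mem_inv_smul_finset_iff.mpr ha
  obtain ⟨b, hb, hbne⟩ := Finset.exists_mem_ne (by rw [hT'm.1]; norm_num : 1 < T'.card) O0
  obtain ⟨b', hb', hb'ne⟩ := Finset.exists_mem_ne (by rw [T0_mem.1]; norm_num : 1 < T0.card) O0
  obtain ⟨k, hk, hkb⟩ := octad_class_O0 (T0_mem.2.1 b' hb') (hT'm.2.1 b hb) (by
    rw [Finset.disjoint_iff_inter_eq_empty.mp (T0_mem.2.2 _ O0_mem_T0 _ hb' hb'ne.symm),
      Finset.disjoint_iff_inter_eq_empty.mp (hT'm.2.2 _ ha' _ hb hbne.symm)])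
  have hk2 := mem_stabM.mp hk
  refine ⟨g * k, mul_mem hg hk2.1, ?_⟩
  have hkT := smul_mem_trios hk2.1 T0_mem
  have h1 : k • O0 ∈ k • T0 := Finset.smul_mem_smul_finset O0_mem_T0
  have h2 : k • b' ∈ k • T0 := Finset.smul_mem_smul_finset hb'
  rw [hk2.2] at h1
  rw [hkb] at h2
  rw [mul_smul, trio_eq_of_two hkT h1 h2 hbne.symm, ← trio_eq_of_two hT'm ha' hb hbne.symm, hT',
    smul_inv_smul]

theorem trios_eq_orbit : trios = MulAction.orbit M24 T0 := by
  ext T
  constructor
  · intro hT; obtain ⟨g, hg, rfl⟩ := exists_smul_T0 hT; exact ⟨⟨g, hg⟩, rfl⟩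
  · rintro ⟨⟨g, hg⟩, rfl⟩; exact smul_mem_trios hg T0_mem

theorem trios_ncard : trios.ncard = 3795 := by
  rw [trios_eq_orbit]
  exact (orbit_M24 (K := famK 3) (famValidB_sound (by decide +kernel)) cMT_ok).2

end CfsgGolay
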