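/-
Classes of a group given by coded generators inside one orbit of the code's group.
-/
import Cfsg.Agent.Lib.Golay.Sextets

set_option autoImplicit false

namespace CfsgGolay

open Cfsg
open scoped Pointwise

attribute [local irreducible] codeL octadL dodecadL slpCodes

/-- How many listed codes satisfy the test. -/
def Cert.count (C : Cert) (p : ℕ → Bool) : ℕ := ((List.range C.n).filter fun i => p (C.obj i)).length

/-- The code is among the listed ones. -/
def Cert.mem' (C : Cert) (m : ℕ) : Bool := (List.range C.n).any fun i => Nat.beq (C.obj i) m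

section

variable {α : Type*} [MulAction (Equiv.Perm GolayPt) α] {K : Kind α} {o : ℕ} {C : Cert}

theorem mem_orbit_iff (hv : K.Valid o) (hC : orbOK K.act gM o C = true) {y : α} :
    y ∈ MulAction.orbit M24 (K.dec o) ↔ ∃ i < C.n, K.Valid (C.obj i) ∧ K.dec (C.obj i) = y := by
  rw [(orbit_M24 hv hC).1]
  constructor
  · rintro ⟨m, hm, rfl⟩
    obtain ⟨i, hi, rfl⟩ := Finset.mem_image.mp (Finset.mem_coe.mp hm)
    rw [Finset.mem_range] at hi
    exact ⟨i, hi, (orb_valid hv gM_ok hC i hi).1, rfl⟩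
  · rintro ⟨i, hi, -, rfl⟩
    exact ⟨_, Finset.mem_coe.mpr (Finset.mem_image.mpr ⟨i, Finset.mem_range.mpr hi, rfl⟩), rfl⟩

theorem mem'_valid (hv : K.Valid o) (hC : orbOK K.act gM o C = true) {m : ℕ} (h : C.mem' m = true) :
    K.Valid m ∧ K.dec m ∈ MulAction.orbit M24 (K.dec o) := by
  simp only [Cert.mem', List.any_eq_true, List.mem_range] at h
  obtain ⟨i, hi, he⟩ := h
  rw [← Nat.eq_of_beq_eq_true he]
  exact ⟨(orb_valid hv gM_ok hC i hi).1, (mem_orbit_iff hv hC).mpr ⟨i, hi, (orb_valid hv gM_ok hC i hi).1, rfl⟩⟩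

/-- Counting inside an orbit of the code's group. -/
theorem ncard_sub_orbit (hv : K.Valid o) (hC : orbOK K.act gM o C = true) (P : α → Prop) (p : ℕ → Bool)
    (hp : ∀ n, K.Valid n → (p n = true ↔ P (K.dec n))) :
    {y | y ∈ MulAction.orbit M24 (K.dec o) ∧ P y}.ncard = C.count p := by
  classical
  have hset : {y | y ∈ MulAction.orbit M24 (K.dec o) ∧ P y} =
      (fun i => K.dec (C.obj i)) '' (((List.range C.n).filter fun i => p (C.obj i)).toFinset : Set ℕ) := by
    ext y
    simp only [Set.mem_ofPred_eq, mem_orbit_iff hv hC, Set.mem_image, List.coe_toFinset, List.mem_filter,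
      List.mem_range]
    constructor
    · rintro ⟨⟨i, hi, hvi, rfl⟩, hP⟩; exact ⟨i, ⟨hi, (hp _ hvi).mpr hP⟩, rfl⟩
    · rintro ⟨i, ⟨hi, hpi⟩, rfl⟩
      exact ⟨⟨i, hi, (orb_valid hv gM_ok hC i hi).1, rfl⟩, (hp _ (orb_valid hv gM_ok hC i hi).1).mp hpi⟩
  have hobj : Set.InjOn C.obj (Finset.range C.n : Set ℕ) := by
    refine Finset.injOn_of_card_image_eq ?_
    rw [Finset.card_range]; exact card_codes hC
  rw [hset, Set.InjOn.ncard_image, Set.ncard_coe_finset,
    List.toFinset_card_of_nodup (List.nodup_range.filter _), Cert.count]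
  intro i hi j hj he
  simp only [List.coe_toFinset, List.mem_filter, List.mem_range, Set.mem_ofPred_eq] at hi hj
  refine hobj (Finset.mem_coe.mpr (Finset.mem_range.mpr hi.1)) (Finset.mem_coe.mpr (Finset.mem_range.mpr hj.1)) ?_
  exact K.inj (orb_valid hv gM_ok hC i hi.1).1 (orb_valid hv gM_ok hC j hj.1).1 he

end

/-- The data of a class partition: representatives pass the test and sizes add up. -/
def classOK (C : Cert) (p : ℕ → Bool) (cs : List (ℕ × Cert)) : Bool :=
  (cs.all fun x => C.mem' x.1 && p x.1) && Nat.beq (cs.map fun x => x.2.n).sum (C.count p)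

section

variable {α : Type*} [Finite α] [MulAction (Equiv.Perm GolayPt) α] {β : Type*}

/-- The outcome of a class computation. -/
structure ClassData (H : Subgroup (Equiv.Perm GolayPt)) (F : Set α) (f : α → β) (L : List (β × ℕ)) : Prop where
  trans : ∀ y ∈ F, ∀ y' ∈ F, f y = f y' → ∃ g ∈ H, g • y = y'
  count : ∀ x ∈ L, {y | y ∈ F ∧ f y = x.1}.ncard = x.2
  total : F.ncard = (L.map Prod.snd).sum
  values : ∀ y ∈ F, ∃ x ∈ L, f y = x.1

theorem class_cert {K : Kind α} {o : ℕ} {C : Cert} (hv : K.Valid o) (hC : orbOK K.act gM o C = true)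
    {L : List GenT} (hL : gensOK L = true) (P : α → Prop) (p : ℕ → Bool)
    (hp : ∀ n, K.Valid n → (p n = true ↔ P (K.dec n))) (f : α → β) (fc : ℕ → β)
    (hfc : ∀ n, K.Valid n → f (K.dec n) = fc n)
    (hPinv : ∀ g ∈ Gr L, ∀ y, P y → P (g • y)) (hfinv : ∀ g ∈ Gr L, ∀ y, P y → f (g • y) = f y)
    (cs : List (ℕ × Cert)) (hok : ∀ x ∈ cs, orbOK K.act L x.1 x.2 = true) (hcs : classOK C p cs = true)
    (hnd : (cs.map fun x => fc x.1).Nodup) :
    ClassData (Gr L) {y | y ∈ MulAction.orbit M24 (K.dec o) ∧ P y} f (cs.map fun x => (fc x.1, x.2.n)) := by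
  simp only [classOK, Bool.and_eq_true, List.all_eq_true] at hcs
  obtain ⟨hmem, hsum⟩ := hcs
  set F := {y | y ∈ MulAction.orbit M24 (K.dec o) ∧ P y}
  set reps := cs.map fun x => K.dec x.1 with hreps
  have hvx : ∀ x ∈ cs, K.Valid x.1 ∧ K.dec x.1 ∈ F := fun x hx =>
    ⟨(mem'_valid hv hC (hmem x hx).1).1, (mem'_valid hv hC (hmem x hx).1).2,
      (hp _ (mem'_valid hv hC (hmem x hx).1).1).mp (hmem x hx).2⟩
  have hmemF : ∀ y ∈ reps, y ∈ F := by
    intro y hy; obtain ⟨x, hx, rfl⟩ := List.mem_map.mp hy; exact (hvx x hx).2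
  have hinv : ∀ (g : Gr L), ∀ y ∈ F, g • y ∈ F := by
    rintro g y ⟨⟨k, rfl⟩, hy⟩
    exact ⟨⟨⟨(g : Equiv.Perm GolayPt), Gr_le_M24 hL g.2⟩ * k, mul_smul _ _ _⟩, hPinv g g.2 _ hy⟩
  have hf : ∀ (g : Gr L), ∀ y ∈ F, f (g • y) = f y := fun g y hy => hfinv g g.2 y hy.2
  have hnd' : (reps.map f).Nodup := by
    rw [hreps, List.map_map]
    convert hnd using 1
    exact List.map_congr_left fun x hx => hfc _ (hvx x hx).1
  have hsz : (reps.map fun y => (MulAction.orbit (Gr L) y).ncard) = cs.map fun x => x.2.n := by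
    rw [hreps, List.map_map]
    exact List.map_congr_left fun x hx => ncard_orbit_cert (hvx x hx).1 hL (hok x hx)
  have hF : F.ncard = (cs.map fun x => x.2.n).sum := by
    rw [Nat.eq_of_beq_eq_true hsum]; exact ncard_sub_orbit hv hC P p hp
  have hcov := cover_orbits F f reps hinv hf hmemF hnd' (by rw [hsz, hF])
  refine ⟨fun y hy y' hy' he => ?_, fun z hz => ?_, ?_, fun y hy => ?_⟩
  · obtain ⟨g, hg⟩ := same_orbit_of_eq hcov hf hnd' hy hy' he
    exact ⟨g, g.2, hg⟩
  · obtain ⟨x, hx, rfl⟩ := List.mem_map.mp hz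
    show {y | y ∈ F ∧ f y = fc x.1}.ncard = x.2.n
    rw [← hfc _ (hvx x hx).1, class_eq_orbit hcov hf hnd' (List.mem_map_of_mem hx)]
    exact ncard_orbit_cert (hvx x hx).1 hL (hok x hx)
  · rw [hF, List.map_map]; rfl
  · rw [hcov] at hy
    obtain ⟨r, hr, g, rfl⟩ := hy
    obtain ⟨x, hx, rfl⟩ := List.mem_map.mp hr
    exact ⟨_, List.mem_map_of_mem hx, (hf g _ (hvx x hx).2).trans (hfc _ (hvx x hx).1)⟩

end

theorem reach_of_orbMask {L : List GenT} (hL : gensOK L = true) {b mask : ℕ} (hb : b < 24)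
    (h : mask &&& orbMask L b = mask) : ∀ p ∈ toSet mask, ∃ g ∈ Gr L, g (pt b) = p := by
  intro p hp
  rw [← h, toSet_and] at hp
  refine closeIter_sound (H := Gr L) (M := L) (fun e he => ?_) (List.range 23) (Nat.pow 2 b)
    (Nat.pow_lt_pow_right (by norm_num) hb) ?_ p (Finset.mem_inter.mp hp).2
  · obtain ⟨g, -, hg⟩ := exists_good hL he
    exact ⟨g, mem_Gr he hg, hg⟩
  · intro r hr
    refine ⟨1, one_mem _, ?_⟩
    rw [mem_toSet] at hr
    have : idx r = b := by simpa [Nat.testBit_two_pow, eq_comm] using hr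
    rw [← pt_idx r, this]; rfl

theorem smul_mem_octads_iff {g : Equiv.Perm GolayPt} (hg : g ∈ M24) {o : Finset GolayPt} :
    g • o ∈ octads ↔ o ∈ octads := by
  refine ⟨fun h => ?_, smul_mem_octads hg⟩
  have := smul_mem_octads (inv_mem hg) h
  rwa [inv_smul_smul] at this

theorem smul_mem_dodecads_iff {g : Equiv.Perm GolayPt} (hg : g ∈ M24) {o : Finset GolayPt} :
    g • o ∈ dodecads ↔ o ∈ dodecads := by
  refine ⟨fun h => ?_, smul_mem_dodecads hg⟩
  have := smul_mem_dodecads (inv_mem hg) h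
  rwa [inv_smul_smul] at this

theorem pt_mem_toSet {i m : ℕ} (hi : i < 24) : pt i ∈ toSet m ↔ m.testBit i = true := by
  rw [mem_toSet, idx_pt hi]

theorem pt_mem_smul {g : Equiv.Perm GolayPt} {p : GolayPt} {s : Finset GolayPt} : g p ∈ g • s ↔ p ∈ s :=
  Finset.smul_mem_smul_finset_iff g

theorem card_inter_smul' {g : Equiv.Perm GolayPt} (s t : Finset GolayPt) :
    (g • s ∩ g • t).card = (s ∩ t).card := by
  rw [← Finset.smul_finset_inter, Finset.card_smul_finset]

/-- Counting is unchanged by a translation. -/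
theorem ncard_translate {α : Type*} [MulAction (Equiv.Perm GolayPt) α] (g : Equiv.Perm GolayPt)
    {P Q : α → Prop} (h : ∀ y, Q (g • y) ↔ P y) : {y | Q y}.ncard = {y | P y}.ncard := by
  have : {y | Q y} = g • {y | P y} := by
    ext y
    rw [Set.mem_smul_set_iff_inv_smul_mem, Set.mem_ofPred_eq, Set.mem_ofPred_eq]
    conv_lhs => rw [← smul_inv_smul g y]
    exact h _
  rw [this]
  exact (MulAction.injective g).injOn.ncard_image

/-- Transfer of a transitivity statement along a translation. -/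
theorem trans_translate {α : Type*} [MulAction (Equiv.Perm GolayPt) α] {g : Equiv.Perm GolayPt}
    {y y' : α} {H : Subgroup (Equiv.Perm GolayPt)} (h : ∃ k ∈ H, k • (g⁻¹ • y) = g⁻¹ • y') :
    ∃ k ∈ H, (g * k * g⁻¹) • y = y' := by
  obtain ⟨k, hk, he⟩ := h
  exact ⟨k, hk, by rw [mul_smul, mul_smul, he, smul_inv_smul]⟩

end CfsgGolay
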