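/-
Classes of octads and dodecads relative to standard configurations, and the configurations themselves.
-/
import Cfsg.Agent.Lib.Golay.Classes
import Cfsg.Agent.Lib.Golay.Data.OrbD
import Cfsg.Agent.Lib.Golay.Data.ClO
import Cfsg.Agent.Lib.Golay.Data.ClD

set_option autoImplicit false

namespace CfsgGolay

open Cfsg
open scoped Pointwise

attribute [local irreducible] codeL octadL dodecadL slpCodes

theorem cast_classData {α : Type*} [Finite α] [MulAction (Equiv.Perm GolayPt) α] {β : Type*}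
    {H : Subgroup (Equiv.Perm GolayPt)} {F : Set α} {f : α → β} {L L' : List (β × ℕ)}
    (h : ClassData H F f L) (e : L = L') : ClassData H F f L' := e ▸ h

theorem pt_fix_mem {g : Equiv.Perm GolayPt} {p : GolayPt} (h : g p = p) {y : Finset GolayPt} (hy : p ∈ y) :
    p ∈ g • y := by
  have := (pt_mem_smul (g := g)).mpr hy
  rwa [h] at this

theorem pt_fix_notMem {g : Equiv.Perm GolayPt} {p : GolayPt} (h : g p = p) {y : Finset GolayPt} (hy : p ∉ y) :
    p ∉ g • y := fun hc => hy ((pt_mem_smul (g := g)).mp (by rw [h]; exact hc))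

theorem card_inter_inv {g : Equiv.Perm GolayPt} (s t : Finset GolayPt) :
    (s ∩ g⁻¹ • t).card = (g • s ∩ t).card := by
  rw [← card_inter_smul' (g := g) s (g⁻¹ • t), smul_inv_smul]

theorem mem_inv_smul {g : Equiv.Perm GolayPt} {p : GolayPt} {t : Finset GolayPt} :
    p ∈ g⁻¹ • t ↔ g p ∈ t := Finset.mem_inv_smul_finset_iff

theorem conj_fix {α : Type*} [MulAction (Equiv.Perm GolayPt) α] {g k : Equiv.Perm GolayPt} {x : α}
    (h : k • x = x) : (g * k * g⁻¹) • (g • x) = g • x := by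
  rw [mul_smul, mul_smul, inv_smul_smul, h]

theorem conj_fix_pt {g k : Equiv.Perm GolayPt} {x : GolayPt} (h : k x = x) :
    (g * k * g⁻¹) (g x) = g x := by simp [h]

theorem conj_mem_M24 {g k : Equiv.Perm GolayPt} {L : List GenT} (hL : gensOK L = true) (hg : g ∈ M24)
    (hk : k ∈ Gr L) : g * k * g⁻¹ ∈ M24 := mul_mem (mul_mem hg (Gr_le_M24 hL hk)) (inv_mem hg)

theorem clsO : ClassData (Gr gO) {y | y ∈ octads ∧ True} (fun y => (O0 ∩ y).card) [(8, 1), (0, 30), (4, 280), (2, 448)] := by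
  have hf : ∀ g ∈ Gr gO, g • O0 = O0 := fun g hg =>
    Gr_le_stab (K := maskK) (o := 8536111) (by show _ < 2 ^ 24; norm_num) (by decide +kernel) hg
  have h := class_cert (K := maskK) (o := 8536111) (C := cMO) (by show _ < 2 ^ 24; norm_num) cMO_ok gO_ok
    (fun y => True) (fun n => true) (fun n _ => by simp) (fun y => (O0 ∩ y).card) (fun n => pc (8536111 &&& n))
    (fun n _ => by simp [maskK, O0, ← toSet_and, card_toSet]) (fun _ _ _ h => h)
    (fun g hg y _ => card_inter_smul (hf g hg)) [(8536111, cOO0), (4202192, cOO1), (8683614, cOO2), (12880401, cOO3)]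
    (by simp only [List.forall_mem_cons]; exact ⟨cOO0_ok, cOO1_ok, cOO2_ok, cOO3_ok, List.forall_mem_nil _⟩)
    (by decide +kernel) (by decide +kernel)
  rw [show maskK.dec 8536111 = O0 from rfl, ← octads_eq_orbit] at h
  exact cast_classData h (by decide +kernel)

theorem clsD : ClassData (Gr gD) {y | y ∈ dodecads ∧ True} (fun y => (D0 ∩ y).card) [(12, 1), (0, 1), (8, 495), (4, 495), (6, 1584)] := by
  have hf : ∀ g ∈ Gr gD, g • D0 = D0 := fun g hg =>
    Gr_le_stab (K := maskK) (o := 340831) (by show _ < 2 ^ 24; norm_num) (by decide +kernel) hg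
  have h := class_cert (K := maskK) (o := 340831) (C := cMD) (by show _ < 2 ^ 24; norm_num) cMD_ok gD_ok
    (fun y => True) (fun n => true) (fun n _ => by simp) (fun y => (D0 ∩ y).card) (fun n => pc (340831 &&& n))
    (fun n _ => by simp [maskK, D0, ← toSet_and, card_toSet]) (fun _ _ _ h => h)
    (fun g hg y _ => card_inter_smul (hf g hg)) [(340831, cDD0), (16436384, cDD1), (4994521, cDD2), (12312770, cDD3), (681662, cDD4)]
    (by simp only [List.forall_mem_cons]; exact ⟨cDD0_ok, cDD1_ok, cDD2_ok, cDD3_ok, cDD4_ok, List.forall_mem_nil _⟩)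
    (by decide +kernel) (by decide +kernel)
  rw [show maskK.dec 340831 = D0 from rfl, ← dodecads_eq_orbit] at h
  exact cast_classData h (by decide +kernel)

theorem clsDO : ClassData (Gr gD) {y | y ∈ octads ∧ True} (fun y => (D0 ∩ y).card) [(2, 132), (6, 132), (4, 495)] := by
  have hf : ∀ g ∈ Gr gD, g • D0 = D0 := fun g hg =>
    Gr_le_stab (K := maskK) (o := 340831) (by show _ < 2 ^ 24; norm_num) (by decide +kernel) hg
  have h := class_cert (K := maskK) (o := 8536111) (C := cMO) (by show _ < 2 ^ 24; norm_num) cMO_ok gD_ok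
    (fun y => True) (fun n => true) (fun n _ => by simp) (fun y => (D0 ∩ y).card) (fun n => pc (340831 &&& n))
    (fun n _ => by simp [maskK, D0, ← toSet_and, card_toSet]) (fun _ _ _ h => h)
    (fun g hg y _ => card_inter_smul (hf g hg)) [(4900873, cDO0), (8683614, cDO1), (8536111, cDO2)]
    (by simp only [List.forall_mem_cons]; exact ⟨cDO0_ok, cDO1_ok, cDO2_ok, List.forall_mem_nil _⟩)
    (by decide +kernel) (by decide +kernel)
  rw [show maskK.dec 8536111 = O0 from rfl, ← octads_eq_orbit] at h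
  exact cast_classData h (by decide +kernel)

theorem clsA : ClassData (Gr gA) {y | y ∈ octads ∧ pt 23 ∈ y} (fun y => (O0 ∩ y).card) [(8, 1), (4, 140), (2, 112)] := by
  have h23 : ∀ g ∈ Gr gA, g (pt 23) = pt 23 := fun g hg =>
    Gr_le_stab (K := pointK) (o := 23) (by show _ < 24; norm_num) (by decide +kernel) hg
  have hf : ∀ g ∈ Gr gA, g • O0 = O0 := fun g hg =>
    Gr_le_stab (K := maskK) (o := 8536111) (by show _ < 2 ^ 24; norm_num) (by decide +kernel) hg
  have h := class_cert (K := maskK) (o := 8536111) (C := cMO) (by show _ < 2 ^ 24; norm_num) cMO_ok gA_ok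
    (fun y => pt 23 ∈ y) (fun n => bitF n 23) (fun n _ => by simp [maskK, bitF_eq, idx_pt]) (fun y => (O0 ∩ y).card) (fun n => pc (8536111 &&& n))
    (fun n _ => by simp [maskK, O0, ← toSet_and, card_toSet]) (fun g hg y h => pt_fix_mem (h23 g hg) h)
    (fun g hg y _ => card_inter_smul (hf g hg)) [(8536111, cA0), (8683614, cA1), (12880401, cA2)]
    (by simp only [List.forall_mem_cons]; exact ⟨cA0_ok, cA1_ok, cA2_ok, List.forall_mem_nil _⟩)
    (by decide +kernel) (by decide +kernel)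
  rw [show maskK.dec 8536111 = O0 from rfl, ← octads_eq_orbit] at h
  exact cast_classData h (by decide +kernel)

theorem clsB : ClassData (Gr gB) {y | y ∈ octads ∧ pt 4 ∉ y} (fun y => (O0 ∩ y).card) [(8, 1), (4, 210), (2, 280), (0, 15)] := by
  have h4 : ∀ g ∈ Gr gB, g (pt 4) = pt 4 := fun g hg =>
    Gr_le_stab (K := pointK) (o := 4) (by show _ < 24; norm_num) (by decide +kernel) hg
  have hf : ∀ g ∈ Gr gB, g • O0 = O0 := fun g hg =>
    Gr_le_stab (K := maskK) (o := 8536111) (by show _ < 2 ^ 24; norm_num) (by decide +kernel) hg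
  have h := class_cert (K := maskK) (o := 8536111) (C := cMO) (by show _ < 2 ^ 24; norm_num) cMO_ok gB_ok
    (fun y => pt 4 ∉ y) (fun n => !bitF n 4) (fun n _ => by simp [maskK, bitF_eq, idx_pt]) (fun y => (O0 ∩ y).card) (fun n => pc (8536111 &&& n))
    (fun n _ => by simp [maskK, O0, ← toSet_and, card_toSet]) (fun g hg y h => pt_fix_notMem (h4 g hg) h)
    (fun g hg y _ => card_inter_smul (hf g hg)) [(8536111, cB0), (10881097, cB1), (175681, cB2), (7612992, cB3)]
    (by simp only [List.forall_mem_cons]; exact ⟨cB0_ok, cB1_ok, cB2_ok, cB3_ok, List.forall_mem_nil _⟩)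
    (by decide +kernel) (by decide +kernel)
  rw [show maskK.dec 8536111 = O0 from rfl, ← octads_eq_orbit] at h
  exact cast_classData h (by decide +kernel)

theorem clsC : ClassData (Gr gC) {y | y ∈ octads ∧ pt 23 ∈ y ∧ pt 0 ∈ y} (fun y => (O0 ∩ y).card) [(8, 1), (2, 16), (4, 60)] := by
  have h23 : ∀ g ∈ Gr gC, g (pt 23) = pt 23 := fun g hg =>
    Gr_le_stab (K := pointK) (o := 23) (by show _ < 24; norm_num) (by decide +kernel) hg
  have h0 : ∀ g ∈ Gr gC, g (pt 0) = pt 0 := fun g hg =>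
    Gr_le_stab (K := pointK) (o := 0) (by show _ < 24; norm_num) (by decide +kernel) hg
  have hf : ∀ g ∈ Gr gC, g • O0 = O0 := fun g hg =>
    Gr_le_stab (K := maskK) (o := 8536111) (by show _ < 2 ^ 24; norm_num) (by decide +kernel) hg
  have h := class_cert (K := maskK) (o := 8536111) (C := cMO) (by show _ < 2 ^ 24; norm_num) cMO_ok gC_ok
    (fun y => pt 23 ∈ y ∧ pt 0 ∈ y) (fun n => bitF n 23 && bitF n 0) (fun n _ => by simp [maskK, bitF_eq, idx_pt]) (fun y => (O0 ∩ y).card) (fun n => pc (8536111 &&& n))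
    (fun n _ => by simp [maskK, O0, ← toSet_and, card_toSet]) (fun g hg y h => ⟨pt_fix_mem (h23 g hg) h.1, pt_fix_mem (h0 g hg) h.2⟩)
    (fun g hg y _ => card_inter_smul (hf g hg)) [(8536111, cC0), (12880401, cC1), (10881097, cC2)]
    (by simp only [List.forall_mem_cons]; exact ⟨cC0_ok, cC1_ok, cC2_ok, List.forall_mem_nil _⟩)
    (by decide +kernel) (by decide +kernel)
  rw [show maskK.dec 8536111 = O0 from rfl, ← octads_eq_orbit] at h
  exact cast_classData h (by decide +kernel)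

theorem clsE : ClassData (Gr gE) {y | y ∈ octads ∧ pt 23 ∈ y ∧ pt 4 ∉ y} (fun y => (O0 ∩ y).card) [(8, 1), (4, 105), (2, 70)] := by
  have h23 : ∀ g ∈ Gr gE, g (pt 23) = pt 23 := fun g hg =>
    Gr_le_stab (K := pointK) (o := 23) (by show _ < 24; norm_num) (by decide +kernel) hg
  have h4 : ∀ g ∈ Gr gE, g (pt 4) = pt 4 := fun g hg =>
    Gr_le_stab (K := pointK) (o := 4) (by show _ < 24; norm_num) (by decide +kernel) hg
  have hf : ∀ g ∈ Gr gE, g • O0 = O0 := fun g hg =>
    Gr_le_stab (K := maskK) (o := 8536111) (by show _ < 2 ^ 24; norm_num) (by decide +kernel) hg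
  have h := class_cert (K := maskK) (o := 8536111) (C := cMO) (by show _ < 2 ^ 24; norm_num) cMO_ok gE_ok
    (fun y => pt 23 ∈ y ∧ pt 4 ∉ y) (fun n => bitF n 23 && !bitF n 4) (fun n _ => by simp [maskK, bitF_eq, idx_pt]) (fun y => (O0 ∩ y).card) (fun n => pc (8536111 &&& n))
    (fun n _ => by simp [maskK, O0, ← toSet_and, card_toSet]) (fun g hg y h => ⟨pt_fix_mem (h23 g hg) h.1, pt_fix_notMem (h4 g hg) h.2⟩)
    (fun g hg y _ => card_inter_smul (hf g hg)) [(8536111, cE0), (10881097, cE1), (14747201, cE2)]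
    (by simp only [List.forall_mem_cons]; exact ⟨cE0_ok, cE1_ok, cE2_ok, List.forall_mem_nil _⟩)
    (by decide +kernel) (by decide +kernel)
  rw [show maskK.dec 8536111 = O0 from rfl, ← octads_eq_orbit] at h
  exact cast_classData h (by decide +kernel)

theorem clsP : ClassData (Gr gP) {y | y ∈ octads ∧ pt 23 ∈ y ∧ pt 4 ∉ y} (fun _ => 0) [(0, 176)] := by
  have h23 : ∀ g ∈ Gr gP, g (pt 23) = pt 23 := fun g hg =>
    Gr_le_stab (K := pointK) (o := 23) (by show _ < 24; norm_num) (by decide +kernel) hg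
  have h4 : ∀ g ∈ Gr gP, g (pt 4) = pt 4 := fun g hg =>
    Gr_le_stab (K := pointK) (o := 4) (by show _ < 24; norm_num) (by decide +kernel) hg
  have h := class_cert (K := maskK) (o := 8536111) (C := cMO) (by show _ < 2 ^ 24; norm_num) cMO_ok gP_ok
    (fun y => pt 23 ∈ y ∧ pt 4 ∉ y) (fun n => bitF n 23 && !bitF n 4) (fun n _ => by simp [maskK, bitF_eq, idx_pt]) (fun _ => 0) (fun _ => 0)
    (fun n _ => by rfl) (fun g hg y h => ⟨pt_fix_mem (h23 g hg) h.1, pt_fix_notMem (h4 g hg) h.2⟩)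
    (fun _ _ _ _ => rfl) [(8536111, cP0)]
    (by simp only [List.forall_mem_cons]; exact ⟨cP0_ok, List.forall_mem_nil _⟩)
    (by decide +kernel) (by decide +kernel)
  rw [show maskK.dec 8536111 = O0 from rfl, ← octads_eq_orbit] at h
  exact cast_classData h (by decide +kernel)

theorem clsF : ClassData (Gr gF) {y | y ∈ dodecads ∧ pt 0 ∈ y} (fun y => (D0 ∩ y).card) [(12, 1), (6, 792), (8, 330), (4, 165)] := by
  have h0 : ∀ g ∈ Gr gF, g (pt 0) = pt 0 := fun g hg =>
    Gr_le_stab (K := pointK) (o := 0) (by show _ < 24; norm_num) (by decide +kernel) hg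
  have hf : ∀ g ∈ Gr gF, g • D0 = D0 := fun g hg =>
    Gr_le_stab (K := maskK) (o := 340831) (by show _ < 2 ^ 24; norm_num) (by decide +kernel) hg
  have h := class_cert (K := maskK) (o := 340831) (C := cMD) (by show _ < 2 ^ 24; norm_num) cMD_ok gF_ok
    (fun y => pt 0 ∈ y) (fun n => bitF n 0) (fun n _ => by simp [maskK, bitF_eq, idx_pt]) (fun y => (D0 ∩ y).card) (fun n => pc (340831 &&& n))
    (fun n _ => by simp [maskK, D0, ← toSet_and, card_toSet]) (fun g hg y h => pt_fix_mem (h0 g hg) h)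
    (fun g hg y _ => card_inter_smul (hf g hg)) [(340831, cF0), (16095553, cF1), (4994521, cF2), (2808241, cF3)]
    (by simp only [List.forall_mem_cons]; exact ⟨cF0_ok, cF1_ok, cF2_ok, cF3_ok, List.forall_mem_nil _⟩)
    (by decide +kernel) (by decide +kernel)
  rw [show maskK.dec 340831 = D0 from rfl, ← dodecads_eq_orbit] at h
  exact cast_classData h (by decide +kernel)

theorem cfg_step {L : List GenT} (hL : gensOK L = true) {g : Equiv.Perm GolayPt} (hg : g ∈ M24)
    {b mask : ℕ} (hb : b < 24) (h : mask &&& orbMask L b = mask) {x : GolayPt} (hx : g⁻¹ x ∈ toSet mask) :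
    ∃ k ∈ Gr L, g * k ∈ M24 ∧ (g * k) (pt b) = x := by
  obtain ⟨k, hk, hkp⟩ := reach_of_orbMask hL hb h _ hx
  exact ⟨k, hk, mul_mem hg (Gr_le_M24 hL hk), by simp [hkp]⟩

theorem inv_apply_mem {g : Equiv.Perm GolayPt} {x : GolayPt} {s : Finset GolayPt} :
    g⁻¹ x ∈ s ↔ x ∈ g • s := by
  rw [← pt_mem_smul (g := g)]; simp

theorem mem_compl_mask {p : GolayPt} {m : ℕ} (h : p ∉ toSet m) : p ∈ toSet (16777215 ^^^ m) := by
  rw [toSet_xor, Finset.mem_symmDiff]
  refine Or.inl ⟨?_, h⟩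
  revert p; intro p _
  exact (by decide +kernel : ∀ q : GolayPt, q ∈ toSet 16777215) p

theorem gO_fix {k : Equiv.Perm GolayPt} (hk : k ∈ Gr gO) : k • O0 = O0 :=
  Gr_le_stab (K := maskK) (o := 8536111) (by show _ < 2 ^ 24; norm_num) fixO hk

theorem gA_fix {k : Equiv.Perm GolayPt} (hk : k ∈ Gr gA) : k • O0 = O0 ∧ k (pt 23) = pt 23 :=
  ⟨Gr_le_stab (K := maskK) (o := 8536111) (by show _ < 2 ^ 24; norm_num) (by decide +kernel) hk,
    Gr_le_stab (K := pointK) (o := 23) (by show _ < 24; norm_num) (by decide +kernel) hk⟩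

theorem gD_fix {k : Equiv.Perm GolayPt} (hk : k ∈ Gr gD) : k • D0 = D0 :=
  Gr_le_stab (K := maskK) (o := 340831) (by show _ < 2 ^ 24; norm_num) fixD hk

theorem cfgA {o : Finset GolayPt} (ho : o ∈ octads) {x : GolayPt} (hx : x ∈ o) :
    ∃ g ∈ M24, g • O0 = o ∧ g (pt 23) = x := by
  obtain ⟨g, hg, rfl⟩ := exists_smul_O0 ho
  obtain ⟨k, hk, hgk, he⟩ := cfg_step gO_ok hg (b := 23) (mask := 8536111) (by norm_num) (by decide +kernel)
    (inv_apply_mem.mpr hx)
  exact ⟨g * k, hgk, by rw [mul_smul, gO_fix hk], he⟩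

theorem cfgB {o : Finset GolayPt} (ho : o ∈ octads) {x : GolayPt} (hx : x ∉ o) :
    ∃ g ∈ M24, g • O0 = o ∧ g (pt 4) = x := by
  obtain ⟨g, hg, rfl⟩ := exists_smul_O0 ho
  obtain ⟨k, hk, hgk, he⟩ := cfg_step gO_ok hg (b := 4) (mask := 16777215 ^^^ 8536111) (by norm_num)
    (by decide +kernel) (mem_compl_mask fun hc => hx (inv_apply_mem.mp hc))
  exact ⟨g * k, hgk, by rw [mul_smul, gO_fix hk], he⟩

theorem cfgC {o : Finset GolayPt} (ho : o ∈ octads) {p q : GolayPt} (hp : p ∈ o) (hq : q ∈ o) (hpq : p ≠ q) :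
    ∃ g ∈ M24, g • O0 = o ∧ g (pt 23) = p ∧ g (pt 0) = q := by
  obtain ⟨g, hg, rfl, rfl⟩ := cfgA ho hp
  obtain ⟨k, hk, hgk, he⟩ := cfg_step gA_ok hg (b := 0) (mask := 8536111 ^^^ 8388608) (by norm_num)
    (by decide +kernel) (x := q) (by
      rw [toSet_xor, Finset.mem_symmDiff]
      refine Or.inl ⟨inv_apply_mem.mpr hq, fun hc => hpq ?_⟩
      have h23 : ∀ r : GolayPt, r ∈ toSet 8388608 → r = pt 23 := by decide +kernel
      rw [← h23 _ hc]; simp)
  exact ⟨g * k, hgk, by rw [mul_smul, (gA_fix hk).1], by simp [(gA_fix hk).2], he⟩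

theorem cfgE {o : Finset GolayPt} (ho : o ∈ octads) {p q : GolayPt} (hp : p ∈ o) (hq : q ∉ o) :
    ∃ g ∈ M24, g • O0 = o ∧ g (pt 23) = p ∧ g (pt 4) = q := by
  obtain ⟨g, hg, rfl, rfl⟩ := cfgA ho hp
  obtain ⟨k, hk, hgk, he⟩ := cfg_step gA_ok hg (b := 4) (mask := 16777215 ^^^ 8536111) (by norm_num)
    (by decide +kernel) (x := q) (mem_compl_mask fun hc => hq (inv_apply_mem.mp hc))
  exact ⟨g * k, hgk, by rw [mul_smul, (gA_fix hk).1], by simp [(gA_fix hk).2], he⟩

theorem cfgF {d : Finset GolayPt} (hd : d ∈ dodecads) {x : GolayPt} (hx : x ∈ d) :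
    ∃ g ∈ M24, g • D0 = d ∧ g (pt 0) = x := by
  obtain ⟨g, hg, rfl⟩ := exists_smul_D0 hd
  obtain ⟨k, hk, hgk, he⟩ := cfg_step gD_ok hg (b := 0) (mask := 340831) (by norm_num) (by decide +kernel)
    (inv_apply_mem.mpr hx)
  exact ⟨g * k, hgk, by rw [mul_smul, gD_fix hk], he⟩

theorem cfgP {p q : GolayPt} (hpq : p ≠ q) : ∃ g ∈ M24, g (pt 23) = p ∧ g (pt 4) = q := by
  obtain ⟨g, hg, hgx⟩ := exists_M24_map (by norm_num : 2 ≤ 5)
    (⟨![pt 23, pt 4], by decide +kernel⟩ : Fin 2 ↪ GolayPt)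
    (⟨![p, q], by intro i j; fin_cases i <;> fin_cases j <;> simp [hpq, hpq.symm]⟩ : Fin 2 ↪ GolayPt)
  exact ⟨g, hg, hgx 0, hgx 1⟩

theorem subset_counts : ((setBits 8536111).sublists.all fun l =>
    (!Nat.beq (pc (orBits l)) 2 || Nat.beq (cMO.count fun n => Nat.beq (8536111 &&& n) (orBits l)) 16) &&
      (!Nat.beq (pc (orBits l)) 4 || Nat.beq (cMO.count fun n => Nat.beq (8536111 &&& n) (orBits l)) 4)) = true := by
  decide +kernel

theorem octads_meeting {s : Finset GolayPt} (hs : s ⊆ O0) :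
    (s.card = 2 → {o | o ∈ octads ∧ O0 ∩ o = s}.ncard = 16) ∧
      (s.card = 4 → {o | o ∈ octads ∧ O0 ∩ o = s}.ncard = 4) := by
  have h := List.all_eq_true.mp subset_counts ((List.range 24).filter fun i => decide (pt i ∈ s))
    (List.mem_sublists.mpr (by
      have e : (List.range 24).filter (fun i => decide (pt i ∈ s)) =
          (setBits 8536111).filter (fun i => decide (pt i ∈ s)) := by
        rw [setBits, List.filter_filter]
        refine List.filter_congr fun i hi => ?_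
        by_cases h : pt i ∈ s
        · have hi' : pt i ∈ O0 := hs h
          rw [O0, mem_toSet, idx_pt (List.mem_range.mp hi)] at hi'
          simp [h, hi']
        · simp [h]
      rw [e]; exact List.filter_sublist))
  rw [show orBits ((List.range 24).filter fun i => decide (pt i ∈ s)) = toMask s from rfl] at h
  simp only [Bool.and_eq_true, Bool.or_eq_true, Bool.not_eq_true'] at h
  have hn : {o | o ∈ octads ∧ O0 ∩ o = s}.ncard = cMO.count fun n => Nat.beq (8536111 &&& n) (toMask s) := by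
    rw [octads_eq_orbit]
    refine ncard_sub_orbit (K := maskK) (o := 8536111) (by show _ < 2 ^ 24; norm_num) cMO_ok
      (fun o => O0 ∩ o = s) _ fun n hn => ?_
    change _ ↔ toSet 8536111 ∩ toSet n = s
    rw [← toSet_and]
    constructor
    · intro h'; rw [Nat.eq_of_beq_eq_true h', toSet_toMask]
    · intro h'
      rw [← h', toMask_toSet (lt_of_le_of_lt Nat.and_le_right hn)]
      exact Nat.beq_refl _
  rw [pc_toMask] at h
  refine ⟨fun h2 => ?_, fun h4 => ?_⟩
  · rcases h.1 with h' | h'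
    · rw [h2] at h'; exact absurd h' (by decide)
    · rw [hn, Nat.eq_of_beq_eq_true h']
  · rcases h.2 with h' | h'
    · rw [h4] at h'; exact absurd h' (by decide)
    · rw [hn, Nat.eq_of_beq_eq_true h']

theorem joint_octad_card {o o' : Finset GolayPt} (ho : o ∈ octads) (ho' : o' ∈ octads) {v n : ℕ}
    (hvn : (v, n) ∈ [(8, 1), (0, 30), (4, 280), (2, 448)]) (h : (o ∩ o').card = v) :
    Nat.card ↥(MulAction.stabilizer M24 o ⊓ MulAction.stabilizer M24 o') * n = 322560 := by
  obtain ⟨g, hg, rfl⟩ := exists_smul_O0 ho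
  obtain ⟨y, rfl⟩ : ∃ y, o' = g • y := ⟨g⁻¹ • o', (smul_inv_smul g o').symm⟩
  rw [card_inter_smul'] at h
  have hy : y ∈ octads := (smul_mem_octads_iff hg).mp ho'
  have hinv : ∀ k ∈ stabM O0, ∀ z : Finset GolayPt, (O0 ∩ k • z).card = (O0 ∩ z).card :=
    fun k hk z => card_inter_smul hk.2
  have horb : MulAction.orbit (stabM O0) y = {z | z ∈ {z | z ∈ octads ∧ True} ∧ (O0 ∩ z).card = v} := by
    ext z
    constructor
    · rintro ⟨⟨k, hk⟩, rfl⟩
      exact ⟨⟨smul_mem_octads hk.1 hy, trivial⟩, (hinv k hk y).trans h⟩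
    · rintro ⟨hz, hv⟩
      obtain ⟨k, hk, rfl⟩ := clsO.trans y ⟨hy, trivial⟩ z hz (h.trans hv.symm)
      exact ⟨⟨k, stabO.1 ▸ hk⟩, rfl⟩
  have hc := card_inf_stab (H := stabM O0) y
  rw [horb, clsO.count (v, n) hvn, stabO.2] at hc
  have hmap : (MulAction.stabilizer M24 (g • O0) ⊓ MulAction.stabilizer M24 (g • y)).map M24.subtype =
      stabM (g • O0) ⊓ MulAction.stabilizer (Equiv.Perm GolayPt) (g • y) := by
    rw [map_inf_subtype, map_stab, map_stab]
    refine le_antisymm (inf_le_inf_left _ inf_le_right) ?_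
    exact le_inf inf_le_left (le_inf (inf_le_left.trans inf_le_left) inf_le_right)
  rw [card_sub hmap, ((isConjOf_stabM hg O0).inf (isConjOf_stab y)).card_eq]
  exact hc

end CfsgGolay
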