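/-
The orbit partitions of the standard stabilisers on octads, sextets and trios.
-/
import Cfsg.Agent.Lib.Golay.Sextets
import Cfsg.Agent.Lib.Golay.Data.OrbS
import Cfsg.Agent.Lib.Golay.Data.OrbT
import Cfsg.Agent.Lib.Golay.Data.OrbW

set_option autoImplicit false

namespace CfsgGolay

open Cfsg
open scoped Pointwise

attribute [local irreducible] codeL octadL dodecadL slpCodes

/-- The certificate lists the code. -/
def Cert.has (C : Cert) (m : ℕ) : Bool := (List.range C.n).any fun i => Nat.beq (C.obj i) m

theorem mem_orbit_codes {α : Type*} [MulAction (Equiv.Perm GolayPt) α] {K : Kind α} {o : ℕ} {C : Cert}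
    (hv : K.Valid o) (hC : orbOK K.act gM o C = true) (l : List ℕ) (h : (l.all fun m => C.has m) = true) :
    ∀ y ∈ l.map K.dec, y ∈ MulAction.orbit M24 (K.dec o) := by
  intro y hy
  obtain ⟨m, hm, rfl⟩ := List.mem_map.mp hy
  simp only [List.all_eq_true, Cert.has, List.any_eq_true, List.mem_range] at h
  obtain ⟨i, hi, he⟩ := h m hm
  rw [(orbit_M24 hv hC).1, ← Nat.eq_of_beq_eq_true he]
  exact ⟨_, Finset.mem_coe.mpr (Finset.mem_image.mpr ⟨i, Finset.mem_range.mpr hi, rfl⟩), rfl⟩

theorem partition_of_sizes {G : Type*} {X : Type*} [Group G] [Finite X] [MulAction G X] (F : Set X)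
    (l : List X) (hinv : ∀ (g : G), ∀ y ∈ F, g • y ∈ F) (hmem : ∀ x ∈ l, x ∈ F) {sizes : List ℕ}
    (hsz : l.map (fun y => (MulAction.orbit G y).ncard) = sizes) (hnd : sizes.Nodup)
    (hsum : sizes.sum = F.ncard) : F = orbUnion G l :=
  cover_orbits F (fun y => (MulAction.orbit G y).ncard) l hinv
    (fun g y _ => by rw [MulAction.orbit_smul]) hmem (hsz ▸ hnd) (hsz ▸ hsum)

/-- The stabiliser of a translate. -/
theorem isConjOf_stab_M24 {α : Type*} [MulAction (Equiv.Perm GolayPt) α] {g : Equiv.Perm GolayPt}
    (hg : g ∈ M24) (x : α) {β : Type*} [MulAction (Equiv.Perm GolayPt) β] (y : β) :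
    MulAction.orbit (MulAction.stabilizer M24 (g • x)) (g • y) = g • MulAction.orbit (stabM x) y ∧
      (MulAction.orbit (MulAction.stabilizer M24 (g • x)) (g • y)).ncard =
        (MulAction.orbit (stabM x) y).ncard := by
  rw [orbit_sub (map_stab (g • x))]
  exact ⟨(isConjOf_stabM hg x).orbit_smul y, (isConjOf_stabM hg x).ncard_orbit y⟩

theorem orbUnion_smul {α : Type*} [MulAction (Equiv.Perm GolayPt) α] {g : Equiv.Perm GolayPt}
    (hg : g ∈ M24) (x : α) {β : Type*} [MulAction (Equiv.Perm GolayPt) β] (F : Set β) (l : List β)
    (hinv : ∀ h ∈ M24, ∀ y ∈ F, h • y ∈ F) (h : F = orbUnion (stabM x) l) :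
    F = orbUnion (MulAction.stabilizer M24 (g • x)) (l.map (g • ·)) := by
  ext y
  constructor
  · intro hy
    obtain ⟨r, hr, hr'⟩ := h ▸ hinv g⁻¹ (inv_mem hg) y hy
    refine ⟨g • r, List.mem_map_of_mem hr, ?_⟩
    rw [(isConjOf_stab_M24 hg x r).1]
    exact Set.mem_smul_set_iff_inv_smul_mem.mpr hr'
  · rintro ⟨z, hz, hy⟩
    obtain ⟨r, hr, rfl⟩ := List.mem_map.mp hz
    rw [(isConjOf_stab_M24 hg x r).1] at hy
    obtain ⟨w, hw, rfl⟩ := hy
    exact hinv g hg w (h ▸ ⟨r, hr, hw⟩)

/-- Orbit representatives of the stabiliser of `O0` on trios. -/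
def repsOT : List (Finset (Finset GolayPt)) :=
  [famSet 3 2402701777519073634240,
   famSet 3 2527256963559411982080,
   famSet 3 2444220172865853083520]

theorem partOT : trios = orbUnion (stabM O0) repsOT ∧
    repsOT.map (fun y => (MulAction.orbit (stabM O0) y).ncard) = [15, 420, 3360] ∧
    ∀ y ∈ repsOT, y ∈ trios := by
  have hmem : ∀ y ∈ repsOT, y ∈ trios := by
    rw [trios_eq_orbit]
    intro y hy
    refine mem_orbit_codes (K := (famK 3)) (famValidB_sound (by decide +kernel)) cMT_ok [2402701777519073634240, 2527256963559411982080, 2444220172865853083520] ?_ y hy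
    decide +kernel
  have hsz : repsOT.map (fun y => (MulAction.orbit (stabM O0) y).ncard) = [15, 420, 3360] := by
    simp only [repsOT, List.map_cons, List.map_nil, List.cons.injEq, and_true]
    exact ⟨orbit_std (K := (famK 3)) (o := 2402701777519073634240) stabO.1 gO_ok (famValidB_sound (by decide +kernel)) cOT0_ok,
      orbit_std (K := (famK 3)) (o := 2527256963559411982080) stabO.1 gO_ok (famValidB_sound (by decide +kernel)) cOT1_ok,
      orbit_std (K := (famK 3)) (o := 2444220172865853083520) stabO.1 gO_ok (famValidB_sound (by decide +kernel)) cOT2_ok⟩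
  refine ⟨partition_of_sizes trios repsOT (fun h y hy => smul_mem_trios h.2.1 hy) hmem hsz (by decide) ?_, hsz, hmem⟩
  rw [trios_ncard]; rfl

/-- Orbit representatives of the stabiliser of `O0` on sextets. -/
def repsOS : List (Finset (Finset GolayPt)) :=
  [famSet 6 11150382242010895008167239022564679587348520,
   famSet 6 16728282737589973519941691265235352874451240,
   famSet 6 11150410160827573949350680478152798159274050]

theorem partOS : sextets = orbUnion (stabM O0) repsOS ∧
    repsOS.map (fun y => (MulAction.orbit (stabM O0) y).ncard) = [35, 840, 896] ∧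
    ∀ y ∈ repsOS, y ∈ sextets := by
  have hmem : ∀ y ∈ repsOS, y ∈ sextets := by
    rw [sextets_eq_orbit]
    intro y hy
    refine mem_orbit_codes (K := (famK 6)) (famValidB_sound (by decide +kernel)) cMS_ok [11150382242010895008167239022564679587348520, 16728282737589973519941691265235352874451240, 11150410160827573949350680478152798159274050] ?_ y hy
    decide +kernel
  have hsz : repsOS.map (fun y => (MulAction.orbit (stabM O0) y).ncard) = [35, 840, 896] := by
    simp only [repsOS, List.map_cons, List.map_nil, List.cons.injEq, and_true]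
    exact ⟨orbit_std (K := (famK 6)) (o := 11150382242010895008167239022564679587348520) stabO.1 gO_ok (famValidB_sound (by decide +kernel)) cOS0_ok,
      orbit_std (K := (famK 6)) (o := 16728282737589973519941691265235352874451240) stabO.1 gO_ok (famValidB_sound (by decide +kernel)) cOS1_ok,
      orbit_std (K := (famK 6)) (o := 11150410160827573949350680478152798159274050) stabO.1 gO_ok (famValidB_sound (by decide +kernel)) cOS2_ok⟩
  refine ⟨partition_of_sizes sextets repsOS (fun h y hy => smul_mem_sextets h.2.1 hy) hmem hsz (by decide) ?_, hsz, hmem⟩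
  rw [sextets_ncard]; rfl

/-- Orbit representatives of the stabiliser of `S0` on sextets. -/
def repsSS : List (Finset (Finset GolayPt)) :=
  [famSet 6 11150382242010895008167239022564679587348520,
   famSet 6 11847444039760828071477751288397876026197000,
   famSet 6 11150391623871435084294352694298710624059425,
   famSet 6 16728282737589973519941691265235352874451240]

theorem partSS : sextets = orbUnion (stabM S0) repsSS ∧
    repsSS.map (fun y => (MulAction.orbit (stabM S0) y).ncard) = [1, 90, 240, 1440] ∧
    ∀ y ∈ repsSS, y ∈ sextets := by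
  have hmem : ∀ y ∈ repsSS, y ∈ sextets := by
    rw [sextets_eq_orbit]
    intro y hy
    refine mem_orbit_codes (K := (famK 6)) (famValidB_sound (by decide +kernel)) cMS_ok [11150382242010895008167239022564679587348520, 11847444039760828071477751288397876026197000, 11150391623871435084294352694298710624059425, 16728282737589973519941691265235352874451240] ?_ y hy
    decide +kernel
  have hsz : repsSS.map (fun y => (MulAction.orbit (stabM S0) y).ncard) = [1, 90, 240, 1440] := by
    simp only [repsSS, List.map_cons, List.map_nil, List.cons.injEq, and_true]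
    exact ⟨orbit_std (K := (famK 6)) (o := 11150382242010895008167239022564679587348520) stabS.1 gS_ok (famValidB_sound (by decide +kernel)) cSS0_ok,
      orbit_std (K := (famK 6)) (o := 11847444039760828071477751288397876026197000) stabS.1 gS_ok (famValidB_sound (by decide +kernel)) cSS1_ok,
      orbit_std (K := (famK 6)) (o := 11150391623871435084294352694298710624059425) stabS.1 gS_ok (famValidB_sound (by decide +kernel)) cSS2_ok,
      orbit_std (K := (famK 6)) (o := 16728282737589973519941691265235352874451240) stabS.1 gS_ok (famValidB_sound (by decide +kernel)) cSS3_ok⟩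
  refine ⟨partition_of_sizes sextets repsSS (fun h y hy => smul_mem_sextets h.2.1 hy) hmem hsz (by decide) ?_, hsz, hmem⟩
  rw [sextets_ncard]; rfl

/-- Orbit representatives of the stabiliser of `S0` on octads. -/
def repsSO : List (Finset GolayPt) :=
  [toSet 8536111,
   toSet 12880401,
   toSet 8683614]

theorem partSO : octads = orbUnion (stabM S0) repsSO ∧
    repsSO.map (fun y => (MulAction.orbit (stabM S0) y).ncard) = [15, 360, 384] ∧
    ∀ y ∈ repsSO, y ∈ octads := by
  have hmem : ∀ y ∈ repsSO, y ∈ octads := by
    rw [octads_eq_orbit]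
    intro y hy
    refine mem_orbit_codes (K := maskK) (by show _ < 2 ^ 24; norm_num) cMO_ok [8536111, 12880401, 8683614] ?_ y hy
    decide +kernel
  have hsz : repsSO.map (fun y => (MulAction.orbit (stabM S0) y).ncard) = [15, 360, 384] := by
    simp only [repsSO, List.map_cons, List.map_nil, List.cons.injEq, and_true]
    exact ⟨orbit_std (K := maskK) (o := 8536111) stabS.1 gS_ok (by show _ < 2 ^ 24; norm_num) cSO0_ok,
      orbit_std (K := maskK) (o := 12880401) stabS.1 gS_ok (by show _ < 2 ^ 24; norm_num) cSO1_ok,
      orbit_std (K := maskK) (o := 8683614) stabS.1 gS_ok (by show _ < 2 ^ 24; norm_num) cSO2_ok⟩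
  refine ⟨partition_of_sizes octads repsSO (fun h y hy => smul_mem_octads h.2.1 hy) hmem hsz (by decide) ?_, hsz, hmem⟩
  rw [octads_ncard]; rfl

/-- Orbit representatives of the stabiliser of `S0` on trios. -/
def repsST : List (Finset (Finset GolayPt)) :=
  [famSet 3 2402701734698252245440,
   famSet 3 2402701777519073634240,
   famSet 3 3625510608956630328480,
   famSet 3 2444220172865853083520]

theorem partST : trios = orbUnion (stabM S0) repsST ∧
    repsST.map (fun y => (MulAction.orbit (stabM S0) y).ncard) = [15, 180, 720, 2880] ∧
    ∀ y ∈ repsST, y ∈ trios := by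
  have hmem : ∀ y ∈ repsST, y ∈ trios := by
    rw [trios_eq_orbit]
    intro y hy
    refine mem_orbit_codes (K := (famK 3)) (famValidB_sound (by decide +kernel)) cMT_ok [2402701734698252245440, 2402701777519073634240, 3625510608956630328480, 2444220172865853083520] ?_ y hy
    decide +kernel
  have hsz : repsST.map (fun y => (MulAction.orbit (stabM S0) y).ncard) = [15, 180, 720, 2880] := by
    simp only [repsST, List.map_cons, List.map_nil, List.cons.injEq, and_true]
    exact ⟨orbit_std (K := (famK 3)) (o := 2402701734698252245440) stabS.1 gS_ok (famValidB_sound (by decide +kernel)) cST0_ok,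
      orbit_std (K := (famK 3)) (o := 2402701777519073634240) stabS.1 gS_ok (famValidB_sound (by decide +kernel)) cST1_ok,
      orbit_std (K := (famK 3)) (o := 3625510608956630328480) stabS.1 gS_ok (famValidB_sound (by decide +kernel)) cST2_ok,
      orbit_std (K := (famK 3)) (o := 2444220172865853083520) stabS.1 gS_ok (famValidB_sound (by decide +kernel)) cST3_ok⟩
  refine ⟨partition_of_sizes trios repsST (fun h y hy => smul_mem_trios h.2.1 hy) hmem hsz (by decide) ?_, hsz, hmem⟩
  rw [trios_ncard]; rfl

/-- Orbit representatives of the stabiliser of `T0` on trios. -/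
def repsTT : List (Finset (Finset GolayPt)) :=
  [famSet 3 2402701777519073634240,
   famSet 3 2402701737841094376960,
   famSet 3 2453600308344789813300,
   famSet 3 2527256963559411982080,
   famSet 3 2444220172865853083520]

theorem partTT : trios = orbUnion (stabM T0) repsTT ∧
    repsTT.map (fun y => (MulAction.orbit (stabM T0) y).ncard) = [1, 42, 56, 1008, 2688] ∧
    ∀ y ∈ repsTT, y ∈ trios := by
  have hmem : ∀ y ∈ repsTT, y ∈ trios := by
    rw [trios_eq_orbit]
    intro y hy
    refine mem_orbit_codes (K := (famK 3)) (famValidB_sound (by decide +kernel)) cMT_ok [2402701777519073634240, 2402701737841094376960, 2453600308344789813300, 2527256963559411982080, 2444220172865853083520] ?_ y hy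
    decide +kernel
  have hsz : repsTT.map (fun y => (MulAction.orbit (stabM T0) y).ncard) = [1, 42, 56, 1008, 2688] := by
    simp only [repsTT, List.map_cons, List.map_nil, List.cons.injEq, and_true]
    exact ⟨orbit_std (K := (famK 3)) (o := 2402701777519073634240) stabT.1 gT_ok (famValidB_sound (by decide +kernel)) cTT0_ok,
      orbit_std (K := (famK 3)) (o := 2402701737841094376960) stabT.1 gT_ok (famValidB_sound (by decide +kernel)) cTT1_ok,
      orbit_std (K := (famK 3)) (o := 2453600308344789813300) stabT.1 gT_ok (famValidB_sound (by decide +kernel)) cTT2_ok,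
      orbit_std (K := (famK 3)) (o := 2527256963559411982080) stabT.1 gT_ok (famValidB_sound (by decide +kernel)) cTT3_ok,
      orbit_std (K := (famK 3)) (o := 2444220172865853083520) stabT.1 gT_ok (famValidB_sound (by decide +kernel)) cTT4_ok⟩
  refine ⟨partition_of_sizes trios repsTT (fun h y hy => smul_mem_trios h.2.1 hy) hmem hsz (by decide) ?_, hsz, hmem⟩
  rw [trios_ncard]; rfl

/-- Orbit representatives of the stabiliser of `T0` on octads. -/
def repsTO : List (Finset GolayPt) :=
  [toSet 8536111,
   toSet 4900873,
   toSet 8683614]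

theorem partTO : octads = orbUnion (stabM T0) repsTO ∧
    repsTO.map (fun y => (MulAction.orbit (stabM T0) y).ncard) = [3, 84, 672] ∧
    ∀ y ∈ repsTO, y ∈ octads := by
  have hmem : ∀ y ∈ repsTO, y ∈ octads := by
    rw [octads_eq_orbit]
    intro y hy
    refine mem_orbit_codes (K := maskK) (by show _ < 2 ^ 24; norm_num) cMO_ok [8536111, 4900873, 8683614] ?_ y hy
    decide +kernel
  have hsz : repsTO.map (fun y => (MulAction.orbit (stabM T0) y).ncard) = [3, 84, 672] := by
    simp only [repsTO, List.map_cons, List.map_nil, List.cons.injEq, and_true]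
    exact ⟨orbit_std (K := maskK) (o := 8536111) stabT.1 gT_ok (by show _ < 2 ^ 24; norm_num) cTO0_ok,
      orbit_std (K := maskK) (o := 4900873) stabT.1 gT_ok (by show _ < 2 ^ 24; norm_num) cTO1_ok,
      orbit_std (K := maskK) (o := 8683614) stabT.1 gT_ok (by show _ < 2 ^ 24; norm_num) cTO2_ok⟩
  refine ⟨partition_of_sizes octads repsTO (fun h y hy => smul_mem_octads h.2.1 hy) hmem hsz (by decide) ?_, hsz, hmem⟩
  rw [octads_ncard]; rfl

/-- Orbit representatives of the stabiliser of `T0` on sextets. -/
def repsTS : List (Finset (Finset GolayPt)) :=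
  [famSet 6 11150423486532947792874164732049264467837760,
   famSet 6 11150382242010895008167239022564679587348520,
   famSet 6 16728282737589973519941691265235352874451240,
   famSet 6 11150410160827573949350680478152798159274050]

theorem partTS : sextets = orbUnion (stabM T0) repsTS ∧
    repsTS.map (fun y => (MulAction.orbit (stabM T0) y).ncard) = [7, 84, 336, 1344] ∧
    ∀ y ∈ repsTS, y ∈ sextets := by
  have hmem : ∀ y ∈ repsTS, y ∈ sextets := by
    rw [sextets_eq_orbit]
    intro y hy
    refine mem_orbit_codes (K := (famK 6)) (famValidB_sound (by decide +kernel)) cMS_ok [11150423486532947792874164732049264467837760, 11150382242010895008167239022564679587348520, 16728282737589973519941691265235352874451240, 11150410160827573949350680478152798159274050] ?_ y hy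
    decide +kernel
  have hsz : repsTS.map (fun y => (MulAction.orbit (stabM T0) y).ncard) = [7, 84, 336, 1344] := by
    simp only [repsTS, List.map_cons, List.map_nil, List.cons.injEq, and_true]
    exact ⟨orbit_std (K := (famK 6)) (o := 11150423486532947792874164732049264467837760) stabT.1 gT_ok (famValidB_sound (by decide +kernel)) cTS0_ok,
      orbit_std (K := (famK 6)) (o := 11150382242010895008167239022564679587348520) stabT.1 gT_ok (famValidB_sound (by decide +kernel)) cTS1_ok,
      orbit_std (K := (famK 6)) (o := 16728282737589973519941691265235352874451240) stabT.1 gT_ok (famValidB_sound (by decide +kernel)) cTS2_ok,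
      orbit_std (K := (famK 6)) (o := 11150410160827573949350680478152798159274050) stabT.1 gT_ok (famValidB_sound (by decide +kernel)) cTS3_ok⟩
  refine ⟨partition_of_sizes sextets repsTS (fun h y hy => smul_mem_sextets h.2.1 hy) hmem hsz (by decide) ?_, hsz, hmem⟩
  rw [sextets_ncard]; rfl

/-- Orbit representatives of the stabiliser of `W0` on sextets. -/
def repsWS : List (Finset (Finset GolayPt)) :=
  [famSet 6 12544515105770323174495171413611522788788240,
   famSet 6 11150447368461937531538458864133443391074305,
   famSet 6 11150382242010895008167239022564679587348520]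

theorem partWS : sextets = orbUnion (stabM W0) repsWS ∧
    repsWS.map (fun y => (MulAction.orbit (stabM W0) y).ncard) = [396, 495, 880] ∧
    ∀ y ∈ repsWS, y ∈ sextets := by
  have hmem : ∀ y ∈ repsWS, y ∈ sextets := by
    rw [sextets_eq_orbit]
    intro y hy
    refine mem_orbit_codes (K := (famK 6)) (famValidB_sound (by decide +kernel)) cMS_ok [12544515105770323174495171413611522788788240, 11150447368461937531538458864133443391074305, 11150382242010895008167239022564679587348520] ?_ y hy
    decide +kernel
  have hsz : repsWS.map (fun y => (MulAction.orbit (stabM W0) y).ncard) = [396, 495, 880] := by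
    simp only [repsWS, List.map_cons, List.map_nil, List.cons.injEq, and_true]
    exact ⟨orbit_std (K := (famK 6)) (o := 12544515105770323174495171413611522788788240) stabW.1 gW_ok (famValidB_sound (by decide +kernel)) cWS0_ok,
      orbit_std (K := (famK 6)) (o := 11150447368461937531538458864133443391074305) stabW.1 gW_ok (famValidB_sound (by decide +kernel)) cWS1_ok,
      orbit_std (K := (famK 6)) (o := 11150382242010895008167239022564679587348520) stabW.1 gW_ok (famValidB_sound (by decide +kernel)) cWS2_ok⟩
  refine ⟨partition_of_sizes sextets repsWS (fun h y hy => smul_mem_sextets h.2.1 hy) hmem hsz (by decide) ?_, hsz, hmem⟩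
  rw [sextets_ncard]; rfl

end CfsgGolay
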