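/-
Maximality of stabilisers from orbit partitions, and generic orbit facts for translated objects.
-/
import Cfsg.Agent.Lib.Golay.Orbits

set_option autoImplicit false

namespace CfsgGolay

open Cfsg
open scoped Pointwise

attribute [local irreducible] codeL octadL dodecadL slpCodes

/-- No proper subset sum plus one divides `n`. -/
def divOK (sizes : List ℕ) (n : ℕ) : Bool :=
  sizes.sublists.all fun s => Nat.beq s.sum 0 || !Nat.beq (n % (1 + s.sum)) 0 || Nat.beq (1 + s.sum) n

theorem orbit_stab_self {G X : Type*} [Group G] [MulAction G X] (x : X) :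
    MulAction.orbit (MulAction.stabilizer G x) x = {x} := by
  ext y
  constructor
  · rintro ⟨⟨g, hg⟩, rfl⟩; exact hg
  · rintro rfl; exact MulAction.mem_orbit_self _

theorem isCoatom_of_partition {α : Type*} [Finite α] [MulAction (Equiv.Perm GolayPt) α] {g : Equiv.Perm GolayPt}
    (hg : g ∈ M24) (x : α) (F : Set α) (hF : F = MulAction.orbit M24 x) (reps : List α) (sizes : List ℕ)
    (hc : F = orbUnion (stabM x) (x :: reps))
    (hsz : reps.map (fun y => (MulAction.orbit (stabM x) y).ncard) = sizes)
    (hn : F.ncard = 1 + sizes.sum) (hne : 0 < sizes.sum) (hdiv : divOK sizes (1 + sizes.sum) = true) :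
    IsCoatom (MulAction.stabilizer M24 (g • x)) := by
  have hinv : ∀ h ∈ M24, ∀ y ∈ F, h • y ∈ F := by
    rw [hF]
    rintro h hh _ ⟨k, rfl⟩
    exact ⟨⟨h, hh⟩ * k, mul_smul _ _ _⟩
  have hc' := orbUnion_smul hg x F (x :: reps) hinv hc
  have horb : MulAction.orbit M24 (g • x) = F := by
    rw [hF]; exact MulAction.orbit_smul (⟨g, hg⟩ : M24) x
  have hsz' : (reps.map (g • ·)).map
      (fun r => (MulAction.orbit (MulAction.stabilizer M24 (g • x)) r).ncard) = sizes := by
    rw [← hsz, List.map_map]
    exact List.map_congr_left fun r _ => (isConjOf_stab_M24 hg x r).2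
  refine isCoatom_stabilizer (g • x) (reps.map (g • ·)) ?_ ?_ ?_ ?_
  · rw [horb]
    conv_lhs => rw [hc']
    rw [List.map_cons, orbUnion_cons, orbit_stab_self]
    exact subset_of_eq (Set.singleton_union ..)
  · rw [horb, hsz', hn]
  · rw [horb, hn]; omega
  · rw [hsz', horb, hn]
    intro s hs h0 hd
    simp only [divOK, List.all_eq_true, Bool.or_eq_true, Bool.not_eq_true'] at hdiv
    rcases hdiv s hs with (h | h) | h
    · exact absurd (Nat.eq_of_beq_eq_true h) h0
    · rw [Nat.mod_eq_zero_of_dvd hd] at h; exact absurd h (by decide)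
    · exact Nat.eq_of_beq_eq_true h

end CfsgGolay
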