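/-
Orbit partitions of the stabilisers of a dodecad pair, a pair and a triple of points on their own orbits.
-/
import Cfsg.Agent.Lib.Golay.Coatom
import Cfsg.Agent.Lib.Golay.Data.OrbQ
import Cfsg.Agent.Lib.Golay.Data.OrbR

set_option autoImplicit false

namespace CfsgGolay

open Cfsg
open scoped Pointwise

attribute [local irreducible] codeL octadL dodecadL slpCodes

/-- The standard pair. -/
def P20 : Finset GolayPt := toSet 8388609

/-- The standard triple. -/
def P30 : Finset GolayPt := toSet 8388611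

theorem stabQ : Gr gQ = stabM P20 ∧ Nat.card ↥(stabM P20) = 887040 :=
  stab_std (K := maskK) (by show _ < 2 ^ 24; norm_num) cMQ_ok gQ_ok fixQ lowQ (by rfl)

theorem stabR : Gr gR = stabM P30 ∧ Nat.card ↥(stabM P30) = 120960 :=
  stab_std (K := maskK) (by show _ < 2 ^ 24; norm_num) cMR_ok gR_ok fixR lowR (by rfl)

theorem W0_eq : W0 = {D0, D0ᶜ} := by
  have h : unpackF 2 275756764967775 = [340831, 16436384] ∧
      (∀ p : GolayPt, (16436384 : ℕ).testBit (idx p) = !(340831 : ℕ).testBit (idx p)) := by decide +kernel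
  have hc : D0ᶜ = toSet 16436384 := by
    ext p; simp [D0, h.2 p]
  rw [W0, famSet, h.1, hc, D0]
  simp

theorem smul_W0 (g : Equiv.Perm GolayPt) : g • W0 = {g • D0, (g • D0)ᶜ} := by
  have hc : g • D0ᶜ = (g • D0)ᶜ := by
    ext p
    rw [Finset.mem_compl, ← Finset.inv_smul_mem_iff, ← Finset.inv_smul_mem_iff, Finset.mem_compl]
  rw [W0_eq, smul_finset_eq_image, Finset.image_insert, Finset.image_singleton, hc]

theorem exists_smul_set {s t : Finset GolayPt} (h5 : t.card ≤ 5) (h : s.card = t.card) :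
    ∃ g ∈ M24, g • s = t := by
  obtain ⟨x, hx⟩ := exists_emb_of_card (k := t.card) (s := s) h.ge
  obtain ⟨y, hy⟩ := exists_emb_of_card (k := t.card) (s := t) le_rfl
  obtain ⟨g, hg, hgx⟩ := exists_M24_map h5 x y
  have hx' : Finset.univ.map x = s := Finset.eq_of_subset_of_card_le
    (fun p hp => by obtain ⟨i, -, rfl⟩ := Finset.mem_map.mp hp; exact hx i) (by simp [h])
  have hy' : Finset.univ.map y = t := Finset.eq_of_subset_of_card_le
    (fun p hp => by obtain ⟨i, -, rfl⟩ := Finset.mem_map.mp hp; exact hy i) (by simp)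
  refine ⟨g, hg, ?_⟩
  rw [← hx', smul_set_pts]
  refine Eq.trans ?_ hy'
  ext p
  simp [hgx]

/-- Orbit representatives of the stabiliser of `W0` on its orbit. -/
def repsWW : List (Finset (Finset GolayPt)) :=
  [famSet 2 275756764967775,
   famSet 2 197680807294425,
   famSet 2 270038570002110]

theorem partWW : MulAction.orbit M24 W0 = orbUnion (stabM W0) repsWW ∧
    repsWW.map (fun y => (MulAction.orbit (stabM W0) y).ncard) = [1, 495, 792] ∧
    ∀ y ∈ repsWW, y ∈ MulAction.orbit M24 W0 := by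
  have hmem : ∀ y ∈ repsWW, y ∈ MulAction.orbit M24 W0 := by
    intro y hy
    refine mem_orbit_codes (K := (famK 2)) (famValidB_sound (by decide +kernel)) cMW_ok [275756764967775, 197680807294425, 270038570002110] ?_ y hy
    decide +kernel
  have hsz : repsWW.map (fun y => (MulAction.orbit (stabM W0) y).ncard) = [1, 495, 792] := by
    simp only [repsWW, List.map_cons, List.map_nil, List.cons.injEq, and_true]
    exact ⟨orbit_std (K := (famK 2)) (o := 275756764967775) stabW.1 gW_ok (famValidB_sound (by decide +kernel)) cWW0_ok,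
      orbit_std (K := (famK 2)) (o := 197680807294425) stabW.1 gW_ok (famValidB_sound (by decide +kernel)) cWW1_ok,
      orbit_std (K := (famK 2)) (o := 270038570002110) stabW.1 gW_ok (famValidB_sound (by decide +kernel)) cWW2_ok⟩
  refine ⟨partition_of_sizes _ repsWW ?_ hmem hsz (by decide) ?_, hsz, hmem⟩
  · rintro h _ ⟨k, rfl⟩
    exact ⟨⟨(h : Equiv.Perm GolayPt), (mem_stabM.mp h.2).1⟩ * k, mul_smul (⟨(h : Equiv.Perm GolayPt), (mem_stabM.mp h.2).1⟩ : M24) k _⟩
  · rw [show W0 = (famK 2).dec 275756764967775 from rfl, (orbit_M24 (K := (famK 2)) (famValidB_sound (by decide +kernel)) cMW_ok).2]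
    rfl

/-- Orbit representatives of the stabiliser of `P20` on its orbit. -/
def repsQQ : List (Finset GolayPt) :=
  [toSet 8388609,
   toSet 8388610,
   toSet 4098]

theorem partQQ : MulAction.orbit M24 P20 = orbUnion (stabM P20) repsQQ ∧
    repsQQ.map (fun y => (MulAction.orbit (stabM P20) y).ncard) = [1, 44, 231] ∧
    ∀ y ∈ repsQQ, y ∈ MulAction.orbit M24 P20 := by
  have hmem : ∀ y ∈ repsQQ, y ∈ MulAction.orbit M24 P20 := by
    intro y hy
    refine mem_orbit_codes (K := maskK) (by show _ < 2 ^ 24; norm_num) cMQ_ok [8388609, 8388610, 4098] ?_ y hy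
    decide +kernel
  have hsz : repsQQ.map (fun y => (MulAction.orbit (stabM P20) y).ncard) = [1, 44, 231] := by
    simp only [repsQQ, List.map_cons, List.map_nil, List.cons.injEq, and_true]
    exact ⟨orbit_std (K := maskK) (o := 8388609) stabQ.1 gQ_ok (by show _ < 2 ^ 24; norm_num) cQQ0_ok,
      orbit_std (K := maskK) (o := 8388610) stabQ.1 gQ_ok (by show _ < 2 ^ 24; norm_num) cQQ1_ok,
      orbit_std (K := maskK) (o := 4098) stabQ.1 gQ_ok (by show _ < 2 ^ 24; norm_num) cQQ2_ok⟩
  refine ⟨partition_of_sizes _ repsQQ ?_ hmem hsz (by decide) ?_, hsz, hmem⟩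
  · rintro h _ ⟨k, rfl⟩
    exact ⟨⟨(h : Equiv.Perm GolayPt), (mem_stabM.mp h.2).1⟩ * k, mul_smul (⟨(h : Equiv.Perm GolayPt), (mem_stabM.mp h.2).1⟩ : M24) k _⟩
  · rw [show P20 = maskK.dec 8388609 from rfl, (orbit_M24 (K := maskK) (by show _ < 2 ^ 24; norm_num) cMQ_ok).2]
    rfl

/-- Orbit representatives of the stabiliser of `P30` on its orbit. -/
def repsRR : List (Finset GolayPt) :=
  [toSet 8388611,
   toSet 8388614,
   toSet 16396,
   toSet 8388620,
   toSet 139268]

theorem partRR : MulAction.orbit M24 P30 = orbUnion (stabM P30) repsRR ∧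
    repsRR.map (fun y => (MulAction.orbit (stabM P30) y).ncard) = [1, 63, 210, 630, 1120] ∧
    ∀ y ∈ repsRR, y ∈ MulAction.orbit M24 P30 := by
  have hmem : ∀ y ∈ repsRR, y ∈ MulAction.orbit M24 P30 := by
    intro y hy
    refine mem_orbit_codes (K := maskK) (by show _ < 2 ^ 24; norm_num) cMR_ok [8388611, 8388614, 16396, 8388620, 139268] ?_ y hy
    decide +kernel
  have hsz : repsRR.map (fun y => (MulAction.orbit (stabM P30) y).ncard) = [1, 63, 210, 630, 1120] := by
    simp only [repsRR, List.map_cons, List.map_nil, List.cons.injEq, and_true]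
    exact ⟨orbit_std (K := maskK) (o := 8388611) stabR.1 gR_ok (by show _ < 2 ^ 24; norm_num) cRR0_ok,
      orbit_std (K := maskK) (o := 8388614) stabR.1 gR_ok (by show _ < 2 ^ 24; norm_num) cRR1_ok,
      orbit_std (K := maskK) (o := 16396) stabR.1 gR_ok (by show _ < 2 ^ 24; norm_num) cRR2_ok,
      orbit_std (K := maskK) (o := 8388620) stabR.1 gR_ok (by show _ < 2 ^ 24; norm_num) cRR3_ok,
      orbit_std (K := maskK) (o := 139268) stabR.1 gR_ok (by show _ < 2 ^ 24; norm_num) cRR4_ok⟩
  refine ⟨partition_of_sizes _ repsRR ?_ hmem hsz (by decide) ?_, hsz, hmem⟩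
  · rintro h _ ⟨k, rfl⟩
    exact ⟨⟨(h : Equiv.Perm GolayPt), (mem_stabM.mp h.2).1⟩ * k, mul_smul (⟨(h : Equiv.Perm GolayPt), (mem_stabM.mp h.2).1⟩ : M24) k _⟩
  · rw [show P30 = maskK.dec 8388611 from rfl, (orbit_M24 (K := maskK) (by show _ < 2 ^ 24; norm_num) cMR_ok).2]
    rfl

end CfsgGolay
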