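/-
Classes of pairs, triples and sextets relative to a triple, and of pairs relative to four points.
-/
import Cfsg.Agent.Lib.Golay.ClassC
import Cfsg.Agent.Lib.Golay.Small

set_option autoImplicit false

namespace CfsgGolay

open Cfsg
open scoped Pointwise

attribute [local irreducible] codeL octadL dodecadL slpCodes

/-- The mask lies in some octad. -/
def inOctB (m : ℕ) : Bool := (List.range cMO.n).any fun i => Nat.beq (cMO.obj i &&& m) m

theorem inOctB_iff {m : ℕ} (hm : m < 2 ^ 24) : inOctB m = true ↔ ∃ o ∈ octads, toSet m ⊆ o := by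
  rw [octads_eq_orbit]
  simp only [inOctB, List.any_eq_true, List.mem_range,
    show O0 = maskK.dec 8536111 from rfl, mem_orbit_iff (K := maskK) (show maskK.Valid 8536111 by show _ < 2 ^ 24; norm_num) cMO_ok]
  constructor
  · rintro ⟨i, hi, he⟩
    refine ⟨_, ⟨i, hi, (orb_valid (K := maskK) (by show _ < 2 ^ 24; norm_num) gM_ok cMO_ok i hi).1, rfl⟩, ?_⟩
    intro p hp
    rw [← Nat.eq_of_beq_eq_true he, toSet_and] at hp
    exact (Finset.mem_inter.mp hp).1
  · rintro ⟨_, ⟨i, hi, hv, rfl⟩, hsub⟩
    refine ⟨i, hi, ?_⟩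
    change toSet m ⊆ toSet (cMO.obj i) at hsub
    rw [eq_of_toSet_eq (lt_of_le_of_lt Nat.and_le_left hv) hm
      (by rw [toSet_and]; exact Finset.inter_eq_right.mpr hsub)]
    exact Nat.beq_refl _

theorem orbit_eq_card {s : Finset GolayPt} (hs : s.card ≤ 5) :
    MulAction.orbit M24 s = {y | y.card = s.card} := by
  ext y
  constructor
  · rintro ⟨g, rfl⟩; exact Finset.card_smul_finset _ _
  · intro hy
    obtain ⟨g, hg, he⟩ := exists_smul_set (s := s) (t := y) (le_of_eq_of_le hy hs) hy.symm
    exact ⟨⟨g, hg⟩, he⟩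

theorem card_P20 : P20.card = 2 := by rw [P20, card_toSet]; decide +kernel

theorem card_P30 : P30.card = 3 := by rw [P30, card_toSet]; decide +kernel

theorem exists_octad_smul {g : Equiv.Perm GolayPt} (hg : g ∈ M24) (P : Finset GolayPt → Prop) :
    (∃ o ∈ octads, P (g • o)) ↔ ∃ o ∈ octads, P o :=
  ⟨fun ⟨o, ho, h⟩ => ⟨_, smul_mem_octads hg ho, h⟩,
    fun ⟨o, ho, h⟩ => ⟨g⁻¹ • o, smul_mem_octads (inv_mem hg) ho, by rwa [smul_inv_smul]⟩⟩

theorem inOct_smul {g : Equiv.Perm GolayPt} (hg : g ∈ M24) (T U : Finset GolayPt) :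
    (∃ o ∈ octads, g • T ∪ g • U ⊆ o) ↔ ∃ o ∈ octads, T ∪ U ⊆ o := by
  rw [← exists_octad_smul hg (fun o => g • T ∪ g • U ⊆ o)]
  simp only [← Finset.smul_finset_union, Finset.smul_finset_subset_smul_finset_iff]

theorem disjoint_smul {g : Equiv.Perm GolayPt} (s t : Finset GolayPt) :
    Disjoint (g • s) (g • t) ↔ Disjoint s t := Finset.disjoint_image g.injective

/-- Whether a set lies with the standard triple in an octad. -/
noncomputable def withP30 (y : Finset GolayPt) : Bool :=
  @decide (∃ o ∈ octads, P30 ∪ y ⊆ o) (Classical.propDecidable _)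

theorem withP30_iff {y : Finset GolayPt} : withP30 y = true ↔ ∃ o ∈ octads, P30 ∪ y ⊆ o := by
  simp [withP30]

theorem withP30_toSet {n : ℕ} (hn : n < 2 ^ 24) : withP30 (toSet n) = inOctB (8388611 ||| n) := by
  rw [Bool.eq_iff_iff, withP30_iff, inOctB_iff (Nat.or_lt_two_pow (by norm_num) hn), toSet_or]
  rfl

theorem clsR3 : ClassData (Gr gR) {y | y ∈ MulAction.orbit M24 P30 ∧ Disjoint P30 y} withP30
    [(true, 210), (false, 1120)] := by
  have hfix : ∀ g ∈ Gr gR, g • P30 = P30 := fun g hg =>
    Gr_le_stab (K := maskK) (o := 8388611) (by show _ < 2 ^ 24; norm_num) fixR hg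
  have h := class_cert (K := maskK) (o := 8388611) (C := cMR) (by show _ < 2 ^ 24; norm_num) cMR_ok gR_ok
    (fun y => Disjoint P30 y) (fun n => Nat.beq (8388611 &&& n) 0) (fun n hn => by
      change _ ↔ Disjoint (toSet 8388611) (toSet n)
      rw [Finset.disjoint_iff_inter_eq_empty, ← toSet_and]
      have hz : toSet 0 = ∅ := by ext p; simp
      constructor
      · intro h; rw [Nat.eq_of_beq_eq_true h, hz]
      · intro h
        rw [eq_of_toSet_eq (lt_of_le_of_lt Nat.and_le_right hn) (by norm_num) (h.trans hz.symm)]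
        rfl)
    withP30 (fun n => inOctB (8388611 ||| n)) (fun n hn => withP30_toSet hn)
    (fun g hg y hy => by
      show Disjoint P30 (g • y)
      rw [← hfix g hg, disjoint_smul]; exact hy)
    (fun g hg y _ => by
      rw [Bool.eq_iff_iff, withP30_iff, withP30_iff]
      conv_lhs => rw [← hfix g hg]
      exact inOct_smul (Gr_le_M24 gR_ok hg) _ _)
    [(16396, cRR2), (139268, cRR4)]
    (by simp only [List.forall_mem_cons]; exact ⟨cRR2_ok, cRR4_ok, List.forall_mem_nil _⟩)
    (by decide +kernel) (by decide +kernel)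
  exact cast_classData h (by decide +kernel)

/-- Number of tetrads meeting the standard triple. -/
def meetP30 (S : Finset (Finset GolayPt)) : ℕ := (S.filter fun t => (t ∩ P30).Nonempty).card

theorem meetP30_famSet {n : ℕ} (hn : FamValid 6 n) :
    meetP30 (famSet 6 n) = ((unpackF 6 n).filter fun m => !Nat.beq (m &&& 8388611) 0).length := by
  rw [meetP30, famSet, Finset.filter_image, Finset.card_image_of_injOn]
  rotate_left
  · intro a ha b hb h
    simp only [Finset.coe_filter, List.mem_toFinset, Set.mem_ofPred_eq] at ha hb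
    exact toSet_injOn (unpackF_lt _ _ a ha.1) (unpackF_lt _ _ b hb.1) h
  rw [← List.toFinset_card_of_nodup ((hn.2.imp fun h => ne_of_lt h).filter _)]
  congr 1
  ext m
  simp only [Finset.mem_filter, List.mem_toFinset, List.mem_filter, Bool.not_eq_true']
  refine and_congr_right fun hm => ?_
  rw [P30, ← toSet_and, ← Finset.card_pos, card_toSet]
  constructor
  · intro h
    by_contra hc
    rw [Bool.not_eq_false] at hc
    rw [Nat.eq_of_beq_eq_true hc] at h
    exact absurd h (by decide +kernel)
  · intro h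
    rw [← card_toSet, Finset.card_pos]
    by_contra hc
    rw [Finset.not_nonempty_iff_eq_empty] at hc
    have hz : toSet 0 = ∅ := by ext p; simp
    rw [eq_of_toSet_eq (lt_of_le_of_lt Nat.and_le_right (by norm_num)) (by norm_num) (hc.trans hz.symm)] at h
    exact absurd h (by decide)

theorem clsR6 : ClassData (Gr gR) {y | y ∈ sextets ∧ True} meetP30 [(1, 21), (2, 630), (3, 1120)] := by
  have hfix : ∀ g ∈ Gr gR, g • P30 = P30 := fun g hg =>
    Gr_le_stab (K := maskK) (o := 8388611) (by show _ < 2 ^ 24; norm_num) fixR hg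
  have h := class_cert (K := famK 6) (o := 11150382242010895008167239022564679587348520) (C := cMS)
    (famValidB_sound (by decide +kernel)) cMS_ok gR_ok (fun _ => True) (fun _ => true) (fun _ _ => by simp)
    meetP30 (fun n => ((unpackF 6 n).filter fun m => !Nat.beq (m &&& 8388611) 0).length)
    (fun n hn => meetP30_famSet hn) (fun _ _ _ h => h)
    (fun g hg y _ => by
      rw [meetP30, meetP30, smul_finset_eq_image, Finset.filter_image,
        Finset.card_image_of_injective _ (MulAction.injective g)]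
      congr 1
      refine Finset.filter_congr fun t _ => ?_
      conv_lhs => rw [← hfix g hg]
      rw [← Finset.smul_finset_inter, Finset.smul_finset_nonempty])
    [(11150382242010895008167239022564679587348520, cRS0), (11150391623871435084294352694298710624059425, cRS1),
      (11150410160827573949350680478152798159274050, cRS2)]
    (by simp only [List.forall_mem_cons]; exact ⟨cRS0_ok, cRS1_ok, cRS2_ok, List.forall_mem_nil _⟩)
    (by decide +kernel) (by decide +kernel)
  rw [show (famK 6).dec 11150382242010895008167239022564679587348520 = S0 from rfl, ← sextets_eq_orbit] at h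
  exact cast_classData h (by decide +kernel)

/-- The standard pair of further points. -/
def S20 : Finset GolayPt := toSet 6

/-- Invariant of a pair relative to two points and a pair. -/
noncomputable def invH (y : Finset GolayPt) : ℕ × Bool :=
  ((S20 ∩ y).card, @decide (∃ o ∈ octads, pt 23 ∈ o ∧ pt 0 ∈ o ∧ S20 ∪ y ⊆ o) (Classical.propDecidable _))

theorem gH_fix {g : Equiv.Perm GolayPt} (hg : g ∈ Gr gH) :
    g (pt 23) = pt 23 ∧ g (pt 0) = pt 0 ∧ g • S20 = S20 :=
  ⟨Gr_le_stab (K := pointK) (o := 23) (by show _ < 24; norm_num) (by decide +kernel) hg,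
    Gr_le_stab (K := pointK) (o := 0) (by show _ < 24; norm_num) (by decide +kernel) hg,
    Gr_le_stab (K := maskK) (o := 6) (by show _ < 2 ^ 24; norm_num) (by decide +kernel) hg⟩

theorem inOctH_smul {g : Equiv.Perm GolayPt} (hg : g ∈ M24) (p q : GolayPt) (s t : Finset GolayPt) :
    (∃ o ∈ octads, g p ∈ o ∧ g q ∈ o ∧ g • s ∪ g • t ⊆ o) ↔ ∃ o ∈ octads, p ∈ o ∧ q ∈ o ∧ s ∪ t ⊆ o := by
  rw [← exists_octad_smul hg (fun o => g p ∈ o ∧ g q ∈ o ∧ g • s ∪ g • t ⊆ o)]
  simp only [pt_mem_smul, ← Finset.smul_finset_union, Finset.smul_finset_subset_smul_finset_iff]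

theorem clsH : ClassData (Gr gH)
    {y | y ∈ MulAction.orbit M24 P20 ∧ (pt 23 ∉ y ∧ pt 0 ∉ y ∧ y ≠ S20)} invH
    [((1, true), 40), ((0, false), 160), ((0, true), 30)] := by
  have h := class_cert (K := maskK) (o := 8388609) (C := cMQ) (by show _ < 2 ^ 24; norm_num) cMQ_ok gH_ok
    (fun y => pt 23 ∉ y ∧ pt 0 ∉ y ∧ y ≠ S20) (fun n => !bitF n 23 && !bitF n 0 && !Nat.beq n 6)
    (fun n hn => by
      change _ ↔ pt 23 ∉ toSet n ∧ pt 0 ∉ toSet n ∧ toSet n ≠ toSet 6
      simp only [Bool.and_eq_true, Bool.not_eq_true', pt_mem_toSet (by norm_num : (23 : ℕ) < 24),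
        pt_mem_toSet (by norm_num : (0 : ℕ) < 24), bitF_eq, Bool.not_eq_true, and_assoc]
      refine and_congr_right fun _ => and_congr_right fun _ => ?_
      constructor
      · intro h he
        rw [eq_of_toSet_eq hn (by norm_num) he] at h
        exact absurd h (by decide)
      · intro h
        by_contra hc
        rw [Bool.not_eq_false] at hc
        exact h (by rw [Nat.eq_of_beq_eq_true hc]))
    invH (fun n => (pc (6 &&& n), inOctB (8388609 ||| (6 ||| n))))
    (fun n hn => by
      change invH (toSet n) = _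
      refine Prod.ext ?_ ?_
      · show (toSet 6 ∩ toSet n).card = _
        rw [← toSet_and, card_toSet]
      · show @decide _ (Classical.propDecidable _) = _
        rw [Bool.eq_iff_iff, @decide_eq_true_iff _ (Classical.propDecidable _),
          inOctB_iff (Nat.or_lt_two_pow (by norm_num) (Nat.or_lt_two_pow (by norm_num) hn))]
        refine exists_congr fun o => and_congr_right fun _ => ?_
        rw [toSet_or 8388609, toSet_or 6, Finset.union_subset_iff (s := toSet 8388609), ← and_assoc]
        refine and_congr ⟨fun h p hp => ?_, fun h => ⟨h ?_, h ?_⟩⟩ Iff.rfl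
        · have : ∀ r : GolayPt, r ∈ toSet 8388609 → r = pt 23 ∨ r = pt 0 := by decide +kernel
          rcases this p hp with rfl | rfl
          · exact h.1
          · exact h.2
        · decide +kernel
        · decide +kernel)
    (fun g hg y hy => by
      obtain ⟨h1, h2, h3⟩ := gH_fix hg
      refine ⟨pt_fix_notMem h1 hy.1, pt_fix_notMem h2 hy.2.1, fun he => hy.2.2 ?_⟩
      rw [← h3] at he
      exact smul_left_cancel g he)
    (fun g hg y _ => by
      obtain ⟨h1, h2, h3⟩ := gH_fix hg
      refine Prod.ext (card_inter_smul h3) ?_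
      show @decide _ (Classical.propDecidable _) = @decide _ (Classical.propDecidable _)
      rw [Bool.eq_iff_iff, @decide_eq_true_iff _ (Classical.propDecidable _), @decide_eq_true_iff _ (Classical.propDecidable _)]
      conv_lhs => rw [← h1, ← h2, ← h3]
      exact inOctH_smul (Gr_le_M24 gH_ok hg) _ _ _ _)
    [(4098, cH0), (6291456, cH1), (262400, cH2)]
    (by simp only [List.forall_mem_cons]; exact ⟨cH0_ok, cH1_ok, cH2_ok, List.forall_mem_nil _⟩)
    (by decide +kernel) (by decide +kernel)
  exact cast_classData h (by decide +kernel)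

theorem cfgH {p q : GolayPt} (hpq : p ≠ q) {s : Finset GolayPt} (hs : s.card = 2) (hp : p ∉ s) (hq : q ∉ s) :
    ∃ g ∈ M24, g (pt 23) = p ∧ g (pt 0) = q ∧ g • S20 = s := by
  obtain ⟨a, b, hab, rfl⟩ := Finset.card_eq_two.mp hs
  simp only [Finset.mem_insert, Finset.mem_singleton, not_or] at hp hq
  obtain ⟨g, hg, hgx⟩ := exists_M24_map (by norm_num : 4 ≤ 5)
    (⟨![pt 23, pt 0, pt 1, pt 2], by decide +kernel⟩ : Fin 4 ↪ GolayPt)
    (⟨![p, q, a, b], by
      intro i j
      fin_cases i <;> fin_cases j <;>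
        simp [hpq, hpq.symm, hp.1, hp.2, hq.1, hq.2, Ne.symm hp.1, Ne.symm hp.2, Ne.symm hq.1, Ne.symm hq.2,
          hab, hab.symm]⟩ : Fin 4 ↪ GolayPt)
  refine ⟨g, hg, hgx 0, hgx 1, ?_⟩
  have h6 : S20 = {pt 1, pt 2} := by decide +kernel
  rw [h6, smul_set_pts, Finset.image_insert, Finset.image_singleton]
  exact congrArg₂ (fun x y => ({x, y} : Finset GolayPt)) (hgx 2) (hgx 3)

end CfsgGolay
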