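/-
Stabiliser chain of the code's group along a base of seven points: order and generation.
-/
import Cfsg.Agent.Lib.Golay.Perms

set_option autoImplicit false

namespace CfsgGolay

open Cfsg

attribute [local irreducible] codeL octadL dodecadL

/-- Straight-line program over the three generators: each entry is a code and the indices of its two factors. -/
def slpProg : List (ℕ × ℕ × ℕ) := [
   (984818244535754528103549039458486304, 1, 1), (956709441910203461498593497208492130, 0, 0),
   (959359269975321467281073132481517732, 4, 4), (962039135765723329579556122420093158, 4, 5),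
   (964719030889841289394168021884709160, 5, 5), (975438611500981936258461716743572016, 7, 7),
   (983478296959358443554250846857397270, 6, 8), (977864963184960973661438897150854272, 2, 2),
   (980275914351787324191492553553580224, 10, 10), (982138349382962359004952654256308949, 9, 9),
   (958020233522794296771657265635857539, 0, 4), (980798401806566274455654461655243444, 12, 9),
   (979458454230170189906356269054908051, 14, 9), (960699189079096648266625002402749637, 0, 5),
   (978118506653774105357058076477936242, 15, 9), (976778559077378020807759884648599121, 17, 9),
   (963379083314314120277717844002940167, 0, 6), (974098663924585851709164314416465423, 8, 9),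
   (966058978466210220336189714025819465, 0, 7), (972758716348189767159891410582815214, 20, 9),
   (967398926042605456335260515987534186, 0, 21), (971418768771793682611402458539769293, 22, 9),
   (968738873619001514367364102631142795, 0, 23), (970078821195397598087999963796060588, 24, 9),
   (44673570877212604306017735907225623, 0, 1), (15909574972934138282974354882288353, 1, 9),
   (928413874498667716355043516223936224, 1, 27), (87551893321887283366365293184594999, 0, 27),
   (10645900714548972716251708628098092, 28, 9), (477144491347695089491217979027889856, 1, 30),
   (500432394989384232420338740126520576, 31, 1), (130430215766561988943882167652005975, 0, 30),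
   (8361823919338158694102911029052808, 31, 9), (520022813792369793915838637655891969, 0, 32),
   (645267317966049346622286219446798688, 1, 34), (348098720028043870679589637772202176, 35, 1),
   (173308538211236694521424306190793847, 0, 34), (18348116209149352041829329127125254, 35, 9),
   (885535552053993010777501352989086454, 1, 36), (562901136209239204489322825265652770, 0, 36),
   (688145640410724025682632677212540289, 0, 37), (339181575144962394403436043932669964, 38, 9),
   (718267961499543993155408709344759264, 1, 39), (260448145845824367024113129429743040, 40, 1),
   (216186860655884246491689968965664919, 0, 39), (296303252701496614645508509872527051, 1, 42),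
   (605778547530044994874061158138226755, 0, 42), (434266168903020385066597320399887030, 1, 43),
   (498522120187157226716471744246422696, 44, 1), (761146283944218698732925582738428417, 0, 45),
   (275895942620327265292289838802188296, 46, 9), (398680003577220014816791465188141600, 1, 47),
   (259065183100558952069232132176397495, 0, 47), (803995450425088155034233320725812770, 0, 52),
   (842657229609318331717153795711717109, 1, 44), (57144517086277493021102530699602512, 43, 1),
   (969952412052033243847481939299780672, 11, 11), (23710197571682727821368729684921815, 1, 2),
   (8168847651348769536358300724479607, 11, 1), (955976305995358692400003018625453266, 2, 0),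
   (978935966775391239642194360952491190, 9, 11), (962646859440912962280617536895820128, 16, 62),
   (972560138397867987084212241321578816, 63, 17), (967133278164556605756603013334805600, 64, 10),
   (973117422984784395576777451001581824, 64, 59), (971825733130223896712209825337121952, 10, 65),
   (975121738861909610194310935842360640, 64, 11), (983542809571084115611737654106964576, 2, 64),
   (983543532515339173757410569220147360, 65, 11), (963790398002128660363453953870579104, 64, 64),
   (969798645513151360073092347171780800, 65, 65), (971429911905284700618960661122823392, 64, 66),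
   (967878338804532438114888761998477824, 2, 67), (984724139626670984278511548559429152, 64, 67),
   (984083080836395709408748851703131712, 68, 65), (981913883341893794000165505339143872, 2, 70),
   (956830602572755327485942810584170112, 71, 11), (980262256175780857835069637102092768, 64, 70),
   (957309613378184812433361294333717792, 2, 72), (965000691015948763275797058175975104, 73, 11),
   (966566087042836412319565185020470432, 2, 74), (974102346617129311499507240229526176, 64, 74),
   (969076379836942647964680191055898048, 2, 78), (979372993151789109973304248993402240, 2, 81),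
   (968542209761116900108411030142012864, 82, 11), (977834630521229916611548917784066688, 2, 84),
   (975719547221348534171561400988737121, 0, 2), (962738855677243781453175209801685011, 11, 9),
   (66588520016357433398910868223709687, 0, 60), (12172875633488898994001799380782822, 61, 9),
   (977059494797744618720859592818074242, 0, 89), (983090226247751108222435798613688933, 90, 9),
   (832650283062541681933507434683806263, 93, 91), (15930981090626186960726290087713486, 92, 94),
   (978964853185000775582285808238301473, 58, 95), (965175448604857006222476964574898184, 96, 57),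
   (977624905608604691033012904404651264, 9, 97), (966073241519804461487074368484887872, 98, 0),
   (972361832889475989752019811575535648, 68, 99), (975149360923229687214285621790135328, 100, 67),
   (968629148968425473526182855376653344, 101, 101), (962657759913684077973657867094727712, 102, 102),
   (5858540332732579364789734734289463, 60, 2), (3135081975744421648290540234979703, 11, 61),
   (975689143262737985128774114714130130, 2, 89), (957438276506900270989069835665804531, 90, 11),
   (981426705866524278195782757306837120, 16, 107), (976585563023658280820806650133304960, 108, 17),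
   (962606095268170686379997665747948576, 59, 109), (971044827870476430937500939626041376, 110, 10),
   (975551161373321803940652719536670752, 101, 111), (970072755885889478894514095874344992, 112, 102),
   (980551004395263757784158471683835936, 113, 113), (962411357464364391274665116306802720, 114, 114),
   (968464910718784260978688199240235040, 113, 101), (983226000714786429868689529513317408, 113, 103),
   (979650936803392081683351566829165600, 104, 114), (969892238891459174647891428662217760, 113, 104),
   (980177162726206313913738796902007840, 113, 102), (982735448723401994654068971705442336, 113, 117),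
   (958552201143784019386882750744214560, 101, 118), (977791375697663417075193214288931872, 113, 118),
   (972870068364887883607503012006239264, 119, 114), (967690506086130100362680976513777696, 101, 120),
   (984405565954115707114569367671883808, 113, 120), (962607297353269602618989450459557920, 113, 121),
   (977540533758991431590457858417856544, 113, 122), (963743146669033202321827184557709344, 101, 123),
   (970161078983969112559386888297325600, 101, 124), (970333461791615567568218725253854240, 113, 128),
   (967411493050927825085588609188702240, 101, 132), (482329053653343543371556438017582487, 89, 95),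
   (22399016701078975745818770613455306, 96, 90), (978325004532608499566544030087658700, 33, 134),
   (971815400391209947536240128510302762, 135, 32), (962246574103011624260681430533934624, 25, 136),
   (980420562202631679947068898013155840, 137, 26), (971509288664501179463436559663204384, 77, 138),
   (980629845353471446127325108964198432, 139, 76), (972679049849814778609582601333213216, 113, 140),
   (961029066359601346093702817927759904, 141, 114), (836498207352201762196801685000956966, 95, 107),
   (805525219379374770457683879849859109, 108, 96), (974005722768295946506958551987146310, 58, 144),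
   (972925719408776415082729554897940081, 145, 57), (965996133759983910156061873010292096, 18, 146),
   (978895465253189986008043648341752096, 147, 6), (965987403581722331403931107973025824, 87, 148),
   (980698168227897466422651691583319072, 149, 86), (971665801268534733629479418978404384, 111, 150),
   (968816252924646088183698020482910240, 151, 112), (968918221426309407724683958819063840, 115, 152),
   (980874226864350081512017426024335392, 153, 116), (982125237077252311731715764534741024, 154, 142),
   (966039336168793943308839874394687520, 143, 155), (975346028712660580592452217730074656, 154, 143),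
   (969836898326968551397880902883313696, 142, 154), (963515095949177277443875056653535264, 155, 143),
   (971592882964418941354553515258775584, 142, 156), (983548720921252936276249910206105632, 154, 156),
   (752284290277869783041748294925991191, 107, 105), (15066413210064551087796366707735812, 106, 108),
   (973032822318290257376234009083922598, 53, 163), (978965561204570736245730202095327624, 164, 52),
   (965022292823719025873899197072847552, 18, 165), (956827996525884812890799270896636352, 166, 6),
   (973665165612086646824697390682975264, 79, 167), (981808273718557126821051789472814112, 168, 78),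
   (969962635889578251610160686887897120, 125, 169), (975108023057846108100123378994055200, 170, 124),
   (980456082672250434663558209273727008, 171, 115), (969832192716165499587623260873426976, 116, 172),
   (962223308431878189186809386174122016, 171, 116), (975526482844923635508667718993905696, 171, 114),
   (983012951612526918446581083863681056, 142, 171), (962748449556181013399451750574229536, 113, 173),
   (980717513807977534628435478231451680, 171, 173), (984715045893605764374353088376735776, 154, 173),
   (984194634442532612801072814331922464, 174, 155), (974342461627251108742749487946729504, 142, 175),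
   (974028975324366749664780523551557664, 154, 175), (984438894701818910931862588267071520, 171, 176),
   (977759963321773229283051977059960864, 113, 177), (984312095570601498136806567669499936, 154, 179),
   (418366195862594615088669975542779457, 2, 144), (804178607212573281043636178850928645, 145, 11),
   (965213754361203281198472851221892645, 51, 187), (971694855178416100656352771749419531, 188, 50),
   (958514016507897068564654018853681536, 17, 189), (966383941807971837578001779338172640, 190, 16),
   (980876839956312686307121106640804896, 87, 191), (969851196684331239203142927893250080, 192, 86),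
   (983348392565677151799348970400253984, 103, 193), (967973583432999127906770890009446432, 194, 104),
   (963582593757073591850928955785840672, 181, 195), (967738580936480664927891663448279072, 196, 180),
   (972606645568131968584696805283956768, 162, 197), (976531636853126291160407323722221600, 198, 162),
   (961409415667826064667231448532617248, 199, 143), (980504394422866046962412236452235296, 199, 156),
   (981515887986994088769278604842469408, 199, 159), (970452748381697609285226999098476576, 199, 155)]

/-- The base. -/
def baseL : List ℕ := [23, 0, 1, 2, 3, 4, 5]

/-- Transversals along the base: (image, index in the program). -/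
def transL : List (List (ℕ × ℕ)) :=
  [[(0, 1), (1, 27), (2, 30), (3, 34), (4, 39), (5, 47), (6, 55), (7, 48), (8, 44), (9, 54), (10, 50), (11, 32), (12, 36), (13, 42), (14, 49), (15, 37), (16, 43), (17, 45), (18, 52), (19, 56), (20, 57), (21, 41), (22, 29), (23, 3)]
   , [(0, 3), (1, 0), (2, 4), (3, 13), (4, 5), (5, 16), (6, 6), (7, 19), (8, 7), (9, 21), (10, 23), (11, 25), (12, 26), (13, 24), (14, 22), (15, 20), (16, 8), (17, 18), (18, 17), (19, 15), (20, 14), (21, 12), (22, 9)]
   , [(1, 3), (2, 59), (3, 66), (4, 10), (5, 83), (6, 11), (7, 74), (8, 67), (9, 81), (10, 69), (11, 64), (12, 86), (13, 72), (14, 85), (15, 80), (16, 75), (17, 76), (18, 2), (19, 70), (20, 88), (21, 84), (22, 78)]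
   , [(2, 3), (3, 120), (4, 129), (5, 118), (6, 101), (7, 104), (8, 122), (9, 131), (10, 133), (11, 124), (12, 128), (13, 132), (14, 117), (15, 123), (16, 126), (17, 121), (18, 127), (19, 103), (20, 112), (21, 102), (22, 130)]
   , [(3, 3), (4, 175), (5, 177), (6, 176), (7, 114), (8, 180), (9, 116), (10, 179), (11, 185), (12, 173), (13, 178), (14, 172), (15, 183), (16, 115), (17, 171), (18, 113), (19, 186), (20, 174), (21, 184), (22, 182)]
   , [(4, 3), (6, 155), (7, 202), (8, 159), (9, 203), (10, 156), (11, 161), (12, 157), (13, 143), (15, 154), (16, 201), (18, 204), (19, 162), (20, 158), (21, 160), (22, 142)]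
   , [(5, 3), (14, 200), (17, 199)]]

/-- Order in which the remaining points are forced to be fixed. -/
def forcedL : List ℕ := [6, 7, 8, 9, 10, 11, 12, 13, 14, 15, 16, 17, 18, 19, 20, 21, 22]

/-- Codes of all program entries. -/
def slpCodes : List ℕ := [cT, cI, cC] ++ slpProg.map Prod.fst

/-- The pointwise stabiliser of a list of indexed points. -/
def fixL (l : List ℕ) : Subgroup (Equiv.Perm GolayPt) :=
  fixingSubgroup (Equiv.Perm GolayPt) {p : GolayPt | idx p ∈ l}

theorem mem_fixL {l : List ℕ} {g : Equiv.Perm GolayPt} :
    g ∈ fixL l ↔ ∀ p : GolayPt, idx p ∈ l → g p = p := by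
  rw [fixL, mem_fixingSubgroup_iff]; rfl

theorem mem_fixL_cons {i : ℕ} (hi : i < 24) {l : List ℕ} {g : Equiv.Perm GolayPt} :
    g ∈ fixL (i :: l) ↔ g (pt i) = pt i ∧ g ∈ fixL l := by
  simp only [mem_fixL, List.mem_cons]
  constructor
  · exact fun h => ⟨h _ (Or.inl (idx_pt hi)), fun p hp => h p (Or.inr hp)⟩
  · rintro ⟨h1, h2⟩ p (hp | hp)
    · rw [← pt_idx p, hp]; exact h1
    · exact h2 p hp

/-- Orbit-stabiliser step along a base. -/
theorem card_fix_step (H : Subgroup (Equiv.Perm GolayPt)) (l : List ℕ) (b : ℕ) (hb : b < 24)
    (T : Finset GolayPt) (hsub : ∀ g ∈ H ⊓ fixL l, g (pt b) ∈ T)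
    (hex : ∀ q ∈ T, ∃ g ∈ H ⊓ fixL l, g (pt b) = q) :
    Nat.card ↥(H ⊓ fixL l) = T.card * Nat.card ↥(H ⊓ fixL (b :: l)) := by
  set K := H ⊓ fixL l
  have horb : MulAction.orbit K (pt b) = (T : Set GolayPt) := by
    ext q
    constructor
    · rintro ⟨⟨g, hg⟩, rfl⟩; exact hsub g hg
    · intro hq; obtain ⟨g, hg, rfl⟩ := hex q hq; exact ⟨⟨g, hg⟩, rfl⟩
  have hst : (MulAction.stabilizer K (pt b)).map K.subtype = H ⊓ fixL (b :: l) := by
    ext g
    simp only [Subgroup.mem_map, MulAction.mem_stabilizer_iff, Subgroup.mem_inf, mem_fixL_cons hb]
    constructor
    · rintro ⟨⟨k, hk1, hk2⟩, hk, rfl⟩; exact ⟨hk1, hk, hk2⟩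
    · rintro ⟨h1, h2, h3⟩; exact ⟨⟨g, h1, h3⟩, h2, rfl⟩
  rw [← hst, Nat.card_congr ((MulAction.stabilizer K (pt b)).equivMapOfInjective K.subtype
      Subtype.val_injective).toEquiv.symm, ← (MulAction.stabilizer K (pt b)).index_mul_card,
    MulAction.index_stabilizer, horb, Set.ncard_coe_finset]

/-- Mask of a list of indices. -/
def fixMask (l : List ℕ) : ℕ := orBits l

/-- The point `y` is excluded from the class of `b` by some octad through five fixed points, or is fixed. -/
def separated (invs l : List ℕ) (b y : ℕ) : Bool :=
  l.contains y || (invs.any fun o => o.testBit b != o.testBit y) ||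
    octadL.any fun o => Nat.ble 5 (pc (o &&& fixMask l)) && (o.testBit b != o.testBit y)

theorem ne_of_separated {invs l : List ℕ} {b y : ℕ} (hb : b < 24) (hy : y < 24) (hbl : b ∉ l)
    (h : separated invs l b y = true) {g : Equiv.Perm GolayPt} (hg : g ∈ M24)
    (hinv : ∀ o ∈ invs, (toSet o).image g = toSet o) (hf : g ∈ fixL l) :
    g (pt b) ≠ pt y := by
  intro he
  simp only [separated, Bool.or_eq_true, List.contains_iff_mem, List.any_eq_true, Bool.and_eq_true,
    Nat.ble_eq, bne_iff_ne] at h
  have key : ∀ o : ℕ, (toSet o).image g = toSet o → o.testBit b ≠ o.testBit y → False := by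
    intro o himg hne
    have hiff : pt b ∈ toSet o ↔ g (pt b) ∈ toSet o := by
      conv_rhs => rw [← himg]
      rw [Finset.mem_image]
      exact ⟨fun h => ⟨_, h, rfl⟩, fun ⟨q, hq, hqe⟩ => g.injective hqe ▸ hq⟩
    rw [he, mem_toSet, mem_toSet, idx_pt hb, idx_pt hy] at hiff
    exact hne (Bool.eq_iff_iff.mpr hiff)
  rcases h with (h | ⟨o, ho, hne⟩) | ⟨o, ho, h5, hne⟩
  · have hfy := mem_fixL.mp hf (pt y) (by rw [idx_pt hy]; exact h)
    have := idx_pt hb
    rw [g.injective (he.trans hfy.symm), idx_pt hy] at this
    exact hbl (this ▸ h)
  · exact key o (hinv o ho) hne
  · have hfix : ∀ p ∈ toSet (o &&& fixMask l), g p = p := by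
      intro p hp
      simp only [mem_toSet, Nat.testBit_and, Bool.and_eq_true, fixMask, testBit_orBits] at hp
      exact mem_fixL.mp hf p hp.2
    have himg : (toSet o).image g = toSet o := by
      refine octad_unique (image_mem_octads hg (toSet_mem_octads ho)) (toSet_mem_octads ho)
        (s := toSet (o &&& fixMask l)) (by rw [card_toSet]; exact h5) (fun p hp => ?_)
        (fun p hp => ?_)
      · have : p ∈ toSet o := by rw [toSet_and] at hp; exact (Finset.mem_inter.mp hp).1
        exact Finset.mem_image.mpr ⟨p, this, hfix p hp⟩
      · rw [toSet_and] at hp; exact (Finset.mem_inter.mp hp).1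
    exact key o himg hne

/-- Level data check: the transversal sends `b` to each listed image fixing `l`; all others are separated. -/
def levelOK (cs invs l : List ℕ) (b : ℕ) (T : List (ℕ × ℕ)) : Bool :=
  Nat.blt b 24 && !l.contains b &&
  (T.all fun yi => Nat.blt yi.1 24 && Nat.blt yi.2 cs.length &&
    Nat.beq (papp (cs.getD yi.2 0) b) yi.1 &&
    l.all fun x => Nat.blt x 24 && Nat.beq (papp (cs.getD yi.2 0) x) x) &&
  ((List.range 24).all fun y => (T.map Prod.fst).contains y || separated invs l b y) &&
  decide (T.map Prod.fst).Nodup

theorem level_card {H : Subgroup (Equiv.Perm GolayPt)} (hH : H ≤ M24) {cs invs : List ℕ}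
    (hcs : ∀ c ∈ cs, ∃ g ∈ H, Repr c g) (hinv : ∀ g ∈ H, ∀ o ∈ invs, (toSet o).image g = toSet o)
    {l : List ℕ} {b : ℕ} {T : List (ℕ × ℕ)} (h : levelOK cs invs l b T = true) :
    Nat.card ↥(H ⊓ fixL l) = T.length * Nat.card ↥(H ⊓ fixL (b :: l)) := by
  simp only [levelOK, Bool.and_eq_true, List.all_eq_true, Nat.blt_eq, decide_eq_true_eq, Bool.or_eq_true,
    List.contains_iff_mem, Bool.not_eq_true', Bool.eq_false_iff, ne_eq, List.mem_range] at h
  obtain ⟨⟨⟨⟨hb, hbl⟩, hT⟩, hcov⟩, hnd⟩ := h
  have hcard : ((T.map Prod.fst).toFinset.image pt).card = T.length := by
    rw [Finset.card_image_of_injOn, List.toFinset_card_of_nodup hnd, List.length_map]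
    intro x hx y hy hxy
    simp only [List.coe_toFinset, Set.mem_ofPred_eq, List.mem_map] at hx hy
    obtain ⟨⟨x, i⟩, hxi, rfl⟩ := hx
    obtain ⟨⟨y, j⟩, hyj, rfl⟩ := hy
    dsimp only at hxy ⊢
    exact (idx_pt (hT _ hxi).1.1.1).symm.trans ((congrArg idx hxy).trans (idx_pt (hT _ hyj).1.1.1))
  rw [card_fix_step H l b hb ((T.map Prod.fst).toFinset.image pt), hcard]
  · intro g hg
    rcases hcov (idx (g (pt b))) (idx_lt _) with hy | hy
    · exact Finset.mem_image.mpr ⟨_, List.mem_toFinset.mpr hy, pt_idx _⟩
    · exact absurd (pt_idx _).symm (ne_of_separated hb (idx_lt _) hbl hy (hH hg.1) (hinv g hg.1) hg.2)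
  · intro q hq
    simp only [Finset.mem_image, List.mem_toFinset, List.mem_map] at hq
    obtain ⟨_, ⟨⟨y, i⟩, hyi, rfl⟩, rfl⟩ := hq
    obtain ⟨⟨⟨hy, hi⟩, him⟩, hfx⟩ := hT _ hyi
    rw [List.getD_eq_getElem _ _ hi] at him hfx
    obtain ⟨g, hg, hr⟩ := hcs _ (List.getElem_mem hi)
    refine ⟨g, ⟨hg, mem_fixL.mpr fun p hp => ?_⟩, ?_⟩
    · apply idx_injective
      rw [hr, Nat.eq_of_beq_eq_true (hfx _ hp).2]
    · rw [hr.apply_pt hb, Nat.eq_of_beq_eq_true him]

/-- The forcing steps fix everything. -/
def forcedOK (invs : List ℕ) : List ℕ → List ℕ → Bool
  | l, [] => (List.range 24).all fun x => l.contains x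
  | l, x :: rest => Nat.blt x 24 && !l.contains x &&
      ((List.range 24).all fun y => Nat.beq y x || separated invs l x y) && forcedOK invs (x :: l) rest

theorem eq_one_of_forced {g : Equiv.Perm GolayPt} (hg : g ∈ M24) {invs : List ℕ}
    (hinv : ∀ o ∈ invs, (toSet o).image g = toSet o) :
    ∀ (rest l : List ℕ), forcedOK invs l rest = true → g ∈ fixL l → g = 1
  | [], l, h, hf => by
    simp only [forcedOK, List.all_eq_true, List.contains_iff_mem, List.mem_range] at h
    exact Equiv.ext fun p => mem_fixL.mp hf p (h _ (idx_lt p))
  | x :: rest, l, h, hf => by
    simp only [forcedOK, Bool.and_eq_true, Nat.blt_eq, Bool.not_eq_true', Bool.eq_false_iff, ne_eq,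
      List.contains_iff_mem, List.all_eq_true, Bool.or_eq_true, List.mem_range] at h
    obtain ⟨⟨⟨hx, hxl⟩, hsep⟩, hrest⟩ := h
    refine eq_one_of_forced hg hinv rest (x :: l) hrest ((mem_fixL_cons hx).mpr ⟨?_, hf⟩)
    rcases hsep (idx (g (pt x))) (idx_lt _) with hy | hy
    · rw [← pt_idx (g (pt x)), Nat.eq_of_beq_eq_true hy]
    · exact absurd (pt_idx _).symm (ne_of_separated hx (idx_lt _) hxl hy hg hinv hf)

/-- A whole chain check, ending with the forcing steps. -/
def chainOK (cs invs : List ℕ) : List ℕ → List (ℕ × List (ℕ × ℕ)) → List ℕ → Bool
  | l, [], forced => forcedOK invs l forced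
  | l, (b, T) :: rest, forced => levelOK cs invs l b T && chainOK cs invs (b :: l) rest forced

/-- The order of a group read off from a checked chain. -/
theorem chain_card {H : Subgroup (Equiv.Perm GolayPt)} (hH : H ≤ M24) {cs invs : List ℕ}
    (hcs : ∀ c ∈ cs, ∃ g ∈ H, Repr c g) (hinv : ∀ g ∈ H, ∀ o ∈ invs, (toSet o).image g = toSet o)
    {forced : List ℕ} :
    ∀ (levels : List (ℕ × List (ℕ × ℕ))) (l : List ℕ), chainOK cs invs l levels forced = true →
      Nat.card ↥(H ⊓ fixL l) = (levels.map fun p => p.2.length).prod
  | [], l, h => by
    rw [List.map_nil, List.prod_nil, Subgroup.card_eq_one, eq_bot_iff]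
    intro g hg
    exact Subgroup.mem_bot.mpr (eq_one_of_forced (hH hg.1) (hinv g hg.1) forced l h hg.2)
  | (b, T) :: rest, l, h => by
    simp only [chainOK, Bool.and_eq_true] at h
    rw [level_card hH hcs hinv h.1, chain_card hH hcs hinv rest (b :: l) h.2, List.map_cons,
      List.prod_cons]

/-- The levels of the base chain. -/
def baseLevels : List (ℕ × List (ℕ × ℕ)) := baseL.zip transL

theorem slp_checked : slpOK [cT, cI, cC] slpProg = true := by decide +kernel

theorem exists_repr {c : ℕ} (hc : c ∈ slpCodes) : ∃ g ∈ genGroup, Repr c g :=
  slp_sound genGroup _ _ slp_checked repr_genGroup c hc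

theorem chain_checked : chainOK slpCodes [] [] baseLevels forcedL = true ∧
    (baseLevels.map fun p => p.2.length) = [24, 23, 22, 21, 20, 16, 3] := by
  decide +kernel

theorem chainOK_drop {cs invs forced : List ℕ} :
    ∀ (k : ℕ) (lev : List (ℕ × List (ℕ × ℕ))) (l : List ℕ), chainOK cs invs l lev forced = true →
      chainOK cs invs (((lev.take k).map Prod.fst).reverse ++ l) (lev.drop k) forced = true
  | 0, lev, l, h => by simpa using h
  | k + 1, [], l, h => by simpa using h
  | k + 1, (b, T) :: rest, l, h => by
    simp only [chainOK, Bool.and_eq_true] at h
    simpa using chainOK_drop k rest (b :: l) h.2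

/-- Orders of the pointwise stabilisers along the base. -/
theorem chain_cards {H : Subgroup (Equiv.Perm GolayPt)} (hle : genGroup ≤ H) (hH : H ≤ M24) (k : ℕ) :
    Nat.card ↥(H ⊓ fixL (baseL.take k).reverse) =
      (([24, 23, 22, 21, 20, 16, 3] : List ℕ).drop k).prod := by
  obtain ⟨hc, hlen⟩ := chain_checked
  have h := chainOK_drop k _ _ hc
  have hb : baseLevels.map Prod.fst = baseL := by decide
  rw [List.append_nil, List.map_take, hb] at h
  rw [chain_card hH (fun c hc => (exists_repr hc).imp fun g hg => ⟨hle hg.1, hg.2⟩)
    (by simp) _ _ h, List.map_drop, hlen]

theorem fixL_nil : fixL [] = ⊤ := top_unique fun g _ => mem_fixL.mpr fun p hp => by simp at hp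

theorem card_M24 : Nat.card M24 = 244823040 := by
  have := chain_cards genGroup_le le_rfl 0
  simpa [fixL_nil] using this

theorem genGroup_eq : genGroup = M24 := by
  have h := chain_cards le_rfl genGroup_le 0
  simp [fixL_nil] at h
  exact Subgroup.eq_of_le_of_card_ge genGroup_le (by rw [h, card_M24])

end CfsgGolay
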