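/-
Multiple transitivity of the code's group, stabiliser orders, transitivity on octads.
-/
import Cfsg.Agent.Lib.Golay.Chain

set_option autoImplicit false

namespace CfsgGolay

open Cfsg
open scoped Pointwise

attribute [local irreducible] codeL octadL dodecadL slpCodes

theorem card_stab_mul_orbit {X : Type*} [MulAction M24 X] (x : X) :
    Nat.card (MulAction.stabilizer M24 x) * (MulAction.orbit M24 x).ncard = 244823040 := by
  rw [← MulAction.index_stabilizer, Subgroup.card_mul_index, card_M24]

/-- The embedding of the first `k` base points. -/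
def baseEmb (k : ℕ) (hk : k ≤ 7) : Fin k ↪ GolayPt where
  toFun i := pt (baseL.getD i 0)
  inj' := by
    intro i j h
    have key : ∀ a < 7, ∀ b < 7, pt (baseL.getD a 0) = pt (baseL.getD b 0) → a = b := by decide +kernel
    exact Fin.ext (key _ (by omega) _ (by omega) h)

theorem card_stab_emb_map {k : ℕ} (x : Fin k ↪ GolayPt) :
    Nat.card (MulAction.stabilizer M24 x) =
      Nat.card ↥(M24 ⊓ fixingSubgroup (Equiv.Perm GolayPt) (Set.range x)) := by
  rw [Nat.card_congr ((MulAction.stabilizer M24 x).equivMapOfInjective (Subgroup.subtype _)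
    Subtype.val_injective).toEquiv]
  congr 1
  have : (MulAction.stabilizer M24 x).map (Subgroup.subtype M24) =
      M24 ⊓ fixingSubgroup (Equiv.Perm GolayPt) (Set.range x) := by
    ext g
    simp only [Subgroup.mem_map, MulAction.mem_stabilizer_iff, Subgroup.mem_inf, mem_fixingSubgroup_iff]
    constructor
    · rintro ⟨h, hh, rfl⟩
      refine ⟨h.2, ?_⟩
      rintro _ ⟨i, rfl⟩
      exact congrArg (fun e : Fin k ↪ GolayPt => e i) hh
    · rintro ⟨hg, hf⟩
      exact ⟨⟨g, hg⟩, Function.Embedding.ext fun i => hf _ ⟨i, rfl⟩, rfl⟩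
  rw [this]

theorem card_stab_baseEmb (k : ℕ) (hk : k ≤ 7) :
    Nat.card (MulAction.stabilizer M24 (baseEmb k hk)) =
      (([24, 23, 22, 21, 20, 16, 3] : List ℕ).drop k).prod := by
  rw [card_stab_emb_map, ← chain_cards genGroup_le le_rfl k]
  congr 1
  have : fixingSubgroup (Equiv.Perm GolayPt) (Set.range (baseEmb k hk)) = fixL (baseL.take k).reverse := by
    unfold fixL
    congr 1
    ext p
    simp only [Set.mem_range, Set.mem_ofPred_eq, List.mem_reverse, List.mem_take_iff_getElem]
    have hlen : baseL.length = 7 := rfl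
    constructor
    · rintro ⟨i, rfl⟩
      refine ⟨i, by omega, ?_⟩
      show _ = idx (pt (baseL.getD i 0))
      have h24 : ∀ a < 7, baseL.getD a 0 < 24 := by decide
      rw [idx_pt (h24 _ (by omega)), List.getD_eq_getElem _ _ (by omega)]
    · rintro ⟨i, hi, he⟩
      refine ⟨⟨i, by omega⟩, ?_⟩
      show pt (baseL.getD i 0) = p
      rw [List.getD_eq_getElem _ _ (by omega), he, pt_idx]
  rw [this]

theorem multiply_transitive {k : ℕ} (hk : k ≤ 5) : MulAction.IsMultiplyPretransitive M24 GolayPt k := by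
  have hval : (([24, 23, 22, 21, 20, 16, 3] : List ℕ).drop k).prod * Nat.descFactorial 24 k = 244823040 ∧
      0 < (([24, 23, 22, 21, 20, 16, 3] : List ℕ).drop k).prod := by
    interval_cases k <;> norm_num [Nat.descFactorial]
  have h := card_stab_mul_orbit (baseEmb k (by omega))
  rw [card_stab_baseEmb, ← hval.1] at h
  have horb : MulAction.orbit M24 (baseEmb k (by omega)) = Set.univ := by
    refine Set.eq_of_subset_of_ncard_le (Set.subset_univ _) ?_ (Set.toFinite _)
    rw [Set.ncard_univ, Nat.card_eq_fintype_card, Fintype.card_embedding_eq, Fintype.card_option,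
      ZMod.card, Fintype.card_fin]
    exact (Nat.eq_of_mul_eq_mul_left hval.2 h).ge
  refine MulAction.isMultiplyPretransitive_iff.mpr fun x y => ?_
  obtain ⟨g, hg⟩ := (horb ▸ Set.mem_univ x : x ∈ MulAction.orbit M24 (baseEmb k (by omega)))
  obtain ⟨g', hg'⟩ := (horb ▸ Set.mem_univ y : y ∈ MulAction.orbit M24 (baseEmb k (by omega)))
  exact ⟨g' * g⁻¹, (mul_smul g' g⁻¹ x).trans ((congrArg (g' • ·) (eq_inv_smul_iff.mpr hg).symm).trans hg')⟩

theorem card_stab_emb {k : ℕ} (hk : k ≤ 5) (x : Fin k ↪ GolayPt) :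
    Nat.card (MulAction.stabilizer M24 x) = (([24, 23, 22, 21, 20, 16, 3] : List ℕ).drop k).prod := by
  have hb := card_stab_baseEmb k (by omega)
  have := multiply_transitive hk
  obtain ⟨g, hg⟩ := MulAction.exists_smul_eq M24 (baseEmb k (by omega)) x
  rw [← hb]
  exact Nat.card_congr (MulAction.stabilizerEquivStabilizer hg.symm).symm.toEquiv

theorem exists_M24_map {k : ℕ} (hk : k ≤ 5) (x y : Fin k ↪ GolayPt) :
    ∃ g ∈ M24, ∀ i, g (x i) = y i := by
  have := multiply_transitive hk
  obtain ⟨g, hg⟩ := MulAction.exists_smul_eq M24 x y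
  exact ⟨g, g.2, fun i => congrArg (fun e : Fin k ↪ GolayPt => e i) hg⟩

/-- Five distinct points inside a set of at least five. -/
theorem exists_emb_of_card {k : ℕ} {s : Finset GolayPt} (h : k ≤ s.card) :
    ∃ x : Fin k ↪ GolayPt, ∀ i, x i ∈ s := by
  obtain ⟨t, hts, htc⟩ := Finset.exists_subset_card_eq h
  exact ⟨(Finset.equivFinOfCardEq htc).symm.toEmbedding.trans (Function.Embedding.subtype _),
    fun i => hts ((Finset.equivFinOfCardEq htc).symm i).2⟩

theorem octads_transitive {o o' : Finset GolayPt} (ho : o ∈ octads) (ho' : o' ∈ octads) :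
    ∃ g ∈ M24, o.image g = o' := by
  obtain ⟨x, hx⟩ := exists_emb_of_card (k := 5) (s := o) (by rw [card_of_mem_octads ho]; norm_num)
  obtain ⟨y, hy⟩ := exists_emb_of_card (k := 5) (s := o') (by rw [card_of_mem_octads ho']; norm_num)
  obtain ⟨g, hg, hgx⟩ := exists_M24_map le_rfl x y
  refine ⟨g, hg, octad_unique (image_mem_octads hg ho) ho' (s := Finset.univ.map y) (by simp) ?_ ?_⟩
  · intro p hp
    obtain ⟨i, -, rfl⟩ := Finset.mem_map.mp hp
    exact Finset.mem_image.mpr ⟨x i, hx i, hgx i⟩
  · intro p hp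
    obtain ⟨i, -, rfl⟩ := Finset.mem_map.mp hp
    exact hy i

end CfsgGolay
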