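/-
Fast kernel arithmetic: table-driven images of masks and lookup in packed tables.
-/
import Cfsg.Agent.Lib.Golay.Trans

set_option autoImplicit false

namespace CfsgGolay

open Cfsg

/-- Entry of a list, structurally on the list. -/
def nth : List ℕ → ℕ → ℕ
  | [], _ => 0
  | a :: l, i => cond (Nat.beq i 0) a (nth l (Nat.pred i))

/-- Entry `i` of a table of `W`-bit fields packed 64 to a number. -/
def tget (W : ℕ) (A : List ℕ) (i : ℕ) : ℕ :=
  Nat.mod (Nat.shiftRight (nth A (Nat.div i 64)) (Nat.mul W (Nat.mod i 64))) (Nat.pow 2 W)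

/-- `papp` on raw operations. -/
def pappF (c i : ℕ) : ℕ := Nat.mod (Nat.shiftRight c (Nat.mul 5 i)) 32

theorem pappF_eq (c i : ℕ) : pappF c i = papp c i := rfl

/-- Bit test on raw operations. -/
def bitF (m i : ℕ) : Bool := Nat.beq (Nat.mod (Nat.shiftRight m i) 2) 1

theorem bitF_eq (m i : ℕ) : bitF m i = m.testBit i := by
  rw [bitF, Nat.testBit_eq_decide_div_mod_eq]
  have h : (Nat.shiftRight m i).mod 2 = m / 2 ^ i % 2 := by
    show m >>> i % 2 = _
    rw [Nat.shiftRight_eq_div_pow]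
  rw [h]
  rcases Nat.mod_two_eq_zero_or_one (m / 2 ^ i) with h | h <;> rw [h] <;> decide

/-- Image of a mask, on raw operations. -/
def pmaskR (c m : ℕ) : List ℕ → ℕ
  | [] => 0
  | i :: l => cond (bitF m i) (Nat.lor (Nat.pow 2 (pappF c i)) (pmaskR c m l)) (pmaskR c m l)

theorem pmaskR_eq (c m : ℕ) : ∀ l : List ℕ, pmaskR c m l = orBits ((l.filter m.testBit).map (papp c))
  | [] => rfl
  | i :: l => by
    rw [pmaskR, bitF_eq, List.filter_cons, pmaskR_eq c m l]
    cases m.testBit i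
    · rfl
    · rfl

/-- Fast `pmask`. -/
def pmaskF (c m : ℕ) : ℕ := pmaskR c m (List.range 24)

theorem pmaskF_eq (c m : ℕ) : pmaskF c m = pmask c m := pmaskR_eq c m _

/-- A coded permutation together with three byte tables for its action on masks. -/
structure GenT where
  /-- the code -/
  c : ℕ
  /-- images of low bytes -/
  t0 : ℕ
  /-- images of middle bytes -/
  t1 : ℕ
  /-- images of high bytes -/
  t2 : ℕ

/-- One table lookup. -/
def tabEntry (t b : ℕ) : ℕ := Nat.mod (Nat.shiftRight t (Nat.mul 24 b)) 16777216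

/-- Table-driven image of a mask. -/
def pmT (e : GenT) (m : ℕ) : ℕ :=
  Nat.lor (Nat.lor (tabEntry e.t0 (Nat.mod m 256)) (tabEntry e.t1 (Nat.mod (Nat.div m 256) 256)))
    (tabEntry e.t2 (Nat.mod (Nat.div m 65536) 256))

/-- The tables agree with the code. -/
def tabOK (e : GenT) : Bool :=
  (List.range 256).all fun b => Nat.beq (tabEntry e.t0 b) (pmaskF e.c b) &&
    Nat.beq (tabEntry e.t1 b) (pmaskF e.c (Nat.mul b 256)) &&
    Nat.beq (tabEntry e.t2 b) (pmaskF e.c (Nat.mul b 65536))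

/-- The entry codes the permutation and has correct tables. -/
def GenT.Good (e : GenT) (g : Equiv.Perm GolayPt) : Prop := Repr e.c g ∧ tabOK e = true

theorem split_bytes {m : ℕ} (hm : m < 2 ^ 24) :
    m = (m % 256 ||| m / 256 % 256 * 256) ||| m / 65536 % 256 * 65536 := by
  have h1 : m % 256 ||| m / 256 % 256 * 256 = m / 256 % 256 * 256 + m % 256 := by
    rw [Nat.or_comm, mul_comm _ 256, show (256 : ℕ) = 2 ^ 8 from rfl,
      Nat.two_pow_add_eq_or_of_lt (Nat.mod_lt _ (Nat.two_pow_pos 8))]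
  have hlt : m / 256 % 256 * 256 + m % 256 < 2 ^ 16 := by
    have := Nat.mod_lt m (show 256 > 0 by norm_num)
    have := Nat.mod_lt (m / 256) (show 256 > 0 by norm_num)
    norm_num; omega
  rw [h1, Nat.or_comm, mul_comm (m / 65536 % 256), show (65536 : ℕ) = 2 ^ 16 from rfl,
    ← Nat.two_pow_add_eq_or_of_lt hlt]
  norm_num at hm ⊢
  omega

theorem pmask_or {c : ℕ} {g : Equiv.Perm GolayPt} (hg : Repr c g) (a b : ℕ) :
    pmask c (a ||| b) = pmask c a ||| pmask c b := by
  refine eq_of_toSet_eq (hg.pmask_lt _) (Nat.or_lt_two_pow (hg.pmask_lt _) (hg.pmask_lt _)) ?_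
  rw [toSet_or, hg.toSet_pmask, hg.toSet_pmask, hg.toSet_pmask, toSet_or, Finset.image_union]

theorem GenT.Good.pmT_eq {e : GenT} {g : Equiv.Perm GolayPt} (h : e.Good g) {m : ℕ} (hm : m < 2 ^ 24) :
    pmT e m = pmask e.c m := by
  obtain ⟨hr, ht⟩ := h
  simp only [tabOK, List.all_eq_true, List.mem_range, Bool.and_eq_true] at ht
  obtain ⟨⟨a0, -⟩, -⟩ := ht (m % 256) (Nat.mod_lt _ (by norm_num))
  obtain ⟨⟨-, a1⟩, -⟩ := ht (m / 256 % 256) (Nat.mod_lt _ (by norm_num))
  obtain ⟨-, a2⟩ := ht (m / 65536 % 256) (Nat.mod_lt _ (by norm_num))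
  conv_rhs => rw [split_bytes hm, pmask_or hr, pmask_or hr]
  rw [← pmaskF_eq, ← pmaskF_eq, ← pmaskF_eq]
  show tabEntry e.t0 (m % 256) ||| tabEntry e.t1 (m / 256 % 256) ||| tabEntry e.t2 (m / 65536 % 256) = _
  rw [Nat.eq_of_beq_eq_true a0, Nat.eq_of_beq_eq_true a1, Nat.eq_of_beq_eq_true a2]
  rfl

theorem GenT.Good.toSet_pmT {e : GenT} {g : Equiv.Perm GolayPt} (h : e.Good g) {m : ℕ} (hm : m < 2 ^ 24) :
    toSet (pmT e m) = (toSet m).image g ∧ pmT e m < 2 ^ 24 := by
  rw [h.pmT_eq hm]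
  exact ⟨h.1.toSet_pmask m, h.1.pmask_lt m⟩

/-- The code is that of a permutation. -/
def permOK (c : ℕ) : Bool :=
  ((List.range 24).map (papp c)).all (fun x => Nat.blt x 24) && decide ((List.range 24).map (papp c)).Nodup

theorem exists_repr_of_permOK {c : ℕ} (h : permOK c = true) : ∃ g : Equiv.Perm GolayPt, Repr c g := by
  simp only [permOK, Bool.and_eq_true, List.all_eq_true, List.mem_map, List.mem_range,
    Nat.blt_eq, decide_eq_true_eq] at h
  have hlt : ∀ i < 24, papp c i < 24 := fun i hi => h.1 _ ⟨i, hi, rfl⟩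
  have hinj : Function.Injective fun p : GolayPt => pt (papp c (idx p)) := by
    intro p q hpq
    have := congrArg idx hpq
    rw [idx_pt (hlt _ (idx_lt p)), idx_pt (hlt _ (idx_lt q))] at this
    exact idx_injective (List.inj_on_of_nodup_map h.2 (List.mem_range.mpr (idx_lt p))
      (List.mem_range.mpr (idx_lt q)) this)
  refine ⟨Equiv.ofBijective _ (Finite.injective_iff_bijective.mp hinj), fun p => ?_⟩
  rw [Equiv.ofBijective_apply, idx_pt (hlt _ (idx_lt p))]

/-- A list of entries coding code-preserving permutations, with correct tables. -/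
def gensOK (L : List GenT) : Bool := L.all fun e => permOK e.c && tabOK e && gensKept e.c

theorem exists_good {L : List GenT} (h : gensOK L = true) {e : GenT} (he : e ∈ L) :
    ∃ g ∈ M24, e.Good g := by
  simp only [gensOK, List.all_eq_true, Bool.and_eq_true] at h
  obtain ⟨⟨hp, ht⟩, hk⟩ := h e he
  obtain ⟨g, hg⟩ := exists_repr_of_permOK hp
  exact ⟨g, mem_M24_of_gensKept hg hk, hg, ht⟩

/-- The group generated by the permutations coded in a list. -/
def Gr (L : List GenT) : Subgroup (Equiv.Perm GolayPt) :=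
  Subgroup.closure {g | ∃ e ∈ L, e.Good g}

theorem Gr_le {L : List GenT} (H : Subgroup (Equiv.Perm GolayPt))
    (h : ∀ e ∈ L, ∀ g, e.Good g → g ∈ H) : Gr L ≤ H := by
  rw [Gr, Subgroup.closure_le]
  rintro g ⟨e, he, hg⟩
  exact h e he g hg

theorem mem_Gr {L : List GenT} {e : GenT} (he : e ∈ L) {g : Equiv.Perm GolayPt} (hg : e.Good g) :
    g ∈ Gr L := Subgroup.subset_closure ⟨e, he, hg⟩

theorem Gr_le_M24 {L : List GenT} (h : gensOK L = true) : Gr L ≤ M24 := by
  refine Gr_le _ fun e he g hg => ?_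
  obtain ⟨g', hg', hr⟩ := exists_good h he
  rwa [hg.1.unique hr.1]

end CfsgGolay
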