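/-
Kinds of coded objects: points, masks, and families of masks.
-/
import Cfsg.Agent.Lib.Golay.Fast
import Cfsg.Prelude.Def_SporadicCombinatorics

set_option autoImplicit false

namespace CfsgGolay

open Cfsg
open scoped Pointwise

/-- A coding of some objects acted on by permutations of the points. -/
structure Kind (α : Type*) [MulAction (Equiv.Perm GolayPt) α] where
  /-- decoding -/
  dec : ℕ → α
  /-- action on codes -/
  act : GenT → ℕ → ℕ
  /-- well-formed codes -/
  Valid : ℕ → Prop
  spec : ∀ {e : GenT} {g : Equiv.Perm GolayPt} {n : ℕ}, e.Good g → Valid n →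
    Valid (act e n) ∧ g • dec n = dec (act e n)
  inj : Set.InjOn dec {n | Valid n}

theorem smul_finset_eq_image {α : Type*} [DecidableEq α] [MulAction (Equiv.Perm GolayPt) α]
    (g : Equiv.Perm GolayPt) (s : Finset α) : g • s = s.image (g • ·) := rfl

theorem smul_set_pts (g : Equiv.Perm GolayPt) (s : Finset GolayPt) : g • s = s.image g := rfl

/-- Points. -/
def pointK : Kind GolayPt where
  dec := pt
  act e i := pappF e.c i
  Valid n := n < 24
  spec := by
    intro e g n hg hn
    refine ⟨?_, ?_⟩
    · rw [pappF_eq, ← idx_pt hn, ← hg.1 (pt n)]; exact idx_lt _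
    · rw [pappF_eq, ← hg.1.apply_pt hn]; rfl
  inj := fun a ha b hb h => by rw [← idx_pt ha, h, idx_pt hb]

/-- Sets of points. -/
def maskK : Kind (Finset GolayPt) where
  dec := toSet
  act := pmT
  Valid n := n < 2 ^ 24
  spec := by
    intro e g n hg hn
    exact ⟨(hg.toSet_pmT hn).2, (hg.toSet_pmT hn).1.symm⟩
  inj := toSet_injOn

/-- Fields of a packed family. -/
def unpackF : ℕ → ℕ → List ℕ
  | 0, _ => []
  | k + 1, n => Nat.mod n 16777216 :: unpackF k (Nat.div n 16777216)

/-- Pack a family. -/
def packF : List ℕ → ℕ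
  | [] => 0
  | a :: l => Nat.add a (Nat.mul 16777216 (packF l))

/-- Insert into a sorted list. -/
def ins (a : ℕ) : List ℕ → List ℕ
  | [] => [a]
  | b :: l => cond (Nat.ble a b) (a :: b :: l) (b :: ins a l)

/-- Insertion sort. -/
def isortF : List ℕ → List ℕ
  | [] => []
  | a :: l => ins a (isortF l)

theorem unpackF_lt : ∀ (k n : ℕ), ∀ m ∈ unpackF k n, m < 2 ^ 24
  | 0, _, m, h => by simp [unpackF] at h
  | k + 1, n, m, h => by
    rcases List.mem_cons.mp h with rfl | h
    · exact Nat.mod_lt n (by norm_num)
    · exact unpackF_lt k _ m h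

theorem unpackF_length : ∀ k n : ℕ, (unpackF k n).length = k
  | 0, _ => rfl
  | k + 1, n => by simp [unpackF, unpackF_length k]

theorem unpackF_packF : ∀ l : List ℕ, (∀ m ∈ l, m < 2 ^ 24) → unpackF l.length (packF l) = l
  | [], _ => rfl
  | a :: l, h => by
    have ha : a < 16777216 := h a (by simp)
    show (a + 16777216 * packF l) % 16777216 :: unpackF l.length ((a + 16777216 * packF l) / 16777216) = _
    rw [Nat.add_mul_mod_self_left, Nat.mod_eq_of_lt ha, Nat.add_mul_div_left _ _ (by norm_num),
      Nat.div_eq_of_lt ha, Nat.zero_add, unpackF_packF l fun m hm => h m (List.mem_cons_of_mem _ hm)]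

theorem ins_perm (a : ℕ) : ∀ l : List ℕ, (ins a l).Perm (a :: l)
  | [] => List.Perm.refl _
  | b :: l => by
    rw [ins]
    cases Nat.ble a b
    · exact ((ins_perm a l).cons b).trans (List.Perm.swap a b l)
    · exact List.Perm.refl _

theorem isortF_perm : ∀ l : List ℕ, (isortF l).Perm l
  | [] => List.Perm.refl _
  | a :: l => (ins_perm a _).trans ((isortF_perm l).cons a)

theorem ins_sorted (a : ℕ) : ∀ l : List ℕ, l.Pairwise (· ≤ ·) → (ins a l).Pairwise (· ≤ ·)
  | [], _ => List.pairwise_singleton _ _
  | b :: l, h => by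
    rw [ins]
    obtain ⟨h1, h2⟩ := List.pairwise_cons.mp h
    cases hab : Nat.ble a b
    · have hba : b ≤ a := by
        by_contra hlt
        rw [Nat.ble_eq.mpr (by omega : a ≤ b)] at hab
        cases hab
      refine List.pairwise_cons.mpr ⟨fun x hx => ?_, ins_sorted a l h2⟩
      rcases List.mem_cons.mp ((ins_perm a l).mem_iff.mp hx) with rfl | hx
      · exact hba
      · exact h1 x hx
    · have hab' : a ≤ b := Nat.ble_eq.mp hab
      refine List.pairwise_cons.mpr ⟨fun x hx => ?_, h⟩
      rcases List.mem_cons.mp hx with rfl | hx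
      · exact hab'
      · exact hab'.trans (h1 x hx)

theorem isortF_sorted : ∀ l : List ℕ, (isortF l).Pairwise (· ≤ ·)
  | [] => List.Pairwise.nil
  | a :: l => ins_sorted a _ (isortF_sorted l)

/-- A family code is the packing of a strictly increasing list of masks. -/
def FamValid (k n : ℕ) : Prop := packF (unpackF k n) = n ∧ (unpackF k n).Pairwise (· < ·)

/-- The boolean check of `FamValid`. -/
def famValidB (k n : ℕ) : Bool :=
  Nat.beq (packF (unpackF k n)) n && decide ((unpackF k n).Pairwise (· < ·))

theorem famValidB_sound {k n : ℕ} (h : famValidB k n = true) : FamValid k n := by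
  simp only [famValidB, Bool.and_eq_true, decide_eq_true_eq] at h
  exact ⟨Nat.eq_of_beq_eq_true h.1, h.2⟩

/-- Decoding of a family code. -/
def famSet (k n : ℕ) : Finset (Finset GolayPt) := (unpackF k n).toFinset.image toSet

theorem famSet_injOn (k : ℕ) : Set.InjOn (famSet k) {n | FamValid k n} := by
  intro a ha b hb h
  have hinj : Set.InjOn toSet (((unpackF k a).toFinset ∪ (unpackF k b).toFinset : Finset ℕ) : Set ℕ) := by
    intro x hx y hy hxy
    simp only [Finset.coe_union, List.coe_toFinset, Set.mem_union, Set.mem_ofPred_eq] at hx hy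
    exact toSet_injOn (hx.elim (unpackF_lt _ _ x) (unpackF_lt _ _ x))
      (hy.elim (unpackF_lt _ _ y) (unpackF_lt _ _ y)) hxy
  have hfs : (unpackF k a).toFinset = (unpackF k b).toFinset :=
    ((Finset.image_subset_image_iff_of_injOn hinj Finset.subset_union_left Finset.subset_union_right).mp
      h.subset).antisymm
      ((Finset.image_subset_image_iff_of_injOn hinj Finset.subset_union_right Finset.subset_union_left).mp
        (le_of_eq h.symm))
  have hp : (unpackF k a).Perm (unpackF k b) :=
    List.perm_of_nodup_nodup_toFinset_eq (ha.2.imp fun h => ne_of_lt h) (hb.2.imp fun h => ne_of_lt h) hfs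
  rw [← ha.1, ← hb.1, hp.eq_of_pairwise (fun x y _ _ h1 h2 => absurd h2 (lt_asymm h1)) ha.2 hb.2]

/-- Families of `k` sets of points. -/
def famK (k : ℕ) : Kind (Finset (Finset GolayPt)) where
  dec := famSet k
  act e n := packF (isortF ((unpackF k n).map (pmT e)))
  Valid := FamValid k
  spec := by
    intro e g n hg hn
    set L := (unpackF k n).map (pmT e) with hL
    have hlt : ∀ m ∈ isortF L, m < 2 ^ 24 := by
      intro m hm
      obtain ⟨x, hx, rfl⟩ := List.mem_map.mp ((isortF_perm L).mem_iff.mp hm)
      exact (hg.toSet_pmT (unpackF_lt _ _ x hx)).2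
    have hlen : (isortF L).length = k := by
      rw [(isortF_perm L).length_eq, hL, List.length_map, unpackF_length]
    have hup : unpackF k (packF (isortF L)) = isortF L := by
      conv_lhs => rw [← hlen]
      exact unpackF_packF _ hlt
    have hnd : L.Nodup := by
      refine List.Nodup.map_on (fun x hx y hy hxy => ?_) (hn.2.imp fun h => ne_of_lt h)
      refine toSet_injOn (unpackF_lt _ _ x hx) (unpackF_lt _ _ y hy) ?_
      exact Finset.image_injective g.injective
        (((hg.toSet_pmT (unpackF_lt _ _ x hx)).1.symm.trans (congrArg toSet hxy)).trans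
          (hg.toSet_pmT (unpackF_lt _ _ y hy)).1)
    refine ⟨⟨by rw [hup], ?_⟩, ?_⟩
    · rw [hup]
      exact ((isortF_sorted L).and ((isortF_perm L).nodup_iff.mpr hnd)).imp fun h => lt_of_le_of_ne h.1 h.2
    · rw [famSet, famSet, hup, smul_finset_eq_image, Finset.image_image]
      ext s
      simp only [Finset.mem_image, List.mem_toFinset, Function.comp_apply]
      constructor
      · rintro ⟨x, hx, rfl⟩
        exact ⟨pmT e x, (isortF_perm L).mem_iff.mpr (List.mem_map_of_mem hx),
          (hg.toSet_pmT (unpackF_lt _ _ x hx)).1⟩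
      · rintro ⟨y, hy, rfl⟩
        obtain ⟨x, hx, rfl⟩ := List.mem_map.mp ((isortF_perm L).mem_iff.mp hy)
        exact ⟨x, hx, (hg.toSet_pmT (unpackF_lt _ _ x hx)).1.symm⟩
  inj := famSet_injOn k

end CfsgGolay
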