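/-
Orbit certificates over coded objects, and lower bounds for orders of generated groups.
-/
import Cfsg.Agent.Lib.Golay.Kinds

set_option autoImplicit false

namespace CfsgGolay

open Cfsg
open scoped Pointwise

attribute [local irreducible] codeL octadL dodecadL slpCodes

/-- An orbit table: objects, successor indices (12 bits per generator), parents (index, generator),
and the order in which the objects increase. -/
structure Cert where
  /-- number of objects -/
  n : ℕ
  /-- width of an object code -/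
  W : ℕ
  /-- packed objects -/
  objs : List ℕ
  /-- packed successor indices -/
  nxt : List ℕ
  /-- packed parents -/
  par : List ℕ
  /-- packed increasing order -/
  ord : List ℕ

/-- The `i`-th object. -/
def Cert.obj (C : Cert) (i : ℕ) : ℕ := tget C.W C.objs i

/-- The index of the image of object `i` under generator `j` of `len`. -/
def Cert.succ (C : Cert) (len i j : ℕ) : ℕ :=
  Nat.mod (Nat.shiftRight (tget (Nat.mul 12 len) C.nxt i) (Nat.mul 12 j)) 4096

/-- The set of codes listed. -/
def Cert.codes (C : Cert) : Finset ℕ := (Finset.range C.n).image C.obj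

/-- Closure under the generators. -/
def stepsOK (act : GenT → ℕ → ℕ) (C : Cert) (len i : ℕ) : List GenT → ℕ → Bool
  | [], _ => true
  | e :: rest, j => Nat.blt (C.succ len i j) C.n && Nat.beq (act e (C.obj i)) (C.obj (C.succ len i j)) &&
      stepsOK act C len i rest (Nat.succ j)

/-- The tree condition at `i`. -/
def parentOK (C : Cert) (len i : ℕ) : Bool :=
  Nat.beq i 0 ||
    (Nat.blt (Nat.mod (tget 24 C.par i) 4096) i && Nat.blt (Nat.div (tget 24 C.par i) 4096) len &&
      Nat.beq (C.succ len (Nat.mod (tget 24 C.par i) 4096) (Nat.div (tget 24 C.par i) 4096)) i)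

/-- The increasing-order condition at `k`. -/
def orderOK (C : Cert) (k : ℕ) : Bool :=
  Nat.blt (tget 12 C.ord k) C.n &&
    (Nat.ble C.n (Nat.succ k) || Nat.blt (C.obj (tget 12 C.ord k)) (C.obj (tget 12 C.ord (Nat.succ k))))

/-- The certificate describes the orbit of `o₀`. -/
def orbOK (act : GenT → ℕ → ℕ) (L : List GenT) (o₀ : ℕ) (C : Cert) : Bool :=
  Nat.blt 0 C.n && Nat.beq (C.obj 0) o₀ &&
    (List.range C.n).all fun i => stepsOK act C L.length i L 0 && parentOK C L.length i && orderOK C i

/-- A stretch of the certificate check. -/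
def orbPart (act : GenT → ℕ → ℕ) (L : List GenT) (C : Cert) (a k : ℕ) : Bool :=
  (List.range' a k).all fun i => stepsOK act C L.length i L 0 && parentOK C L.length i && orderOK C i

theorem orbPart_append {act : GenT → ℕ → ℕ} {L : List GenT} {C : Cert} {a k b m s : ℕ}
    (hb : b = a + k) (hs : s = k + m)
    (h₁ : orbPart act L C a k = true) (h₂ : orbPart act L C b m = true) :
    orbPart act L C a s = true := by
  subst hb hs
  rw [orbPart, ← List.range'_append_1, List.all_append, Bool.and_eq_true]
  exact ⟨h₁, h₂⟩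

theorem orbOK_of_part {act : GenT → ℕ → ℕ} {L : List GenT} {o₀ n : ℕ} {C : Cert} (hn : C.n = n)
    (h₀ : (Nat.blt 0 C.n && Nat.beq (C.obj 0) o₀) = true) (h : orbPart act L C 0 n = true) :
    orbOK act L o₀ C = true := by
  subst hn
  rw [orbPart, ← List.range_eq_range'] at h
  rw [orbOK, h₀, h]; rfl

theorem stepsOK_spec {act : GenT → ℕ → ℕ} {C : Cert} {len i : ℕ} :
    ∀ {L : List GenT} {j : ℕ}, stepsOK act C len i L j = true → ∀ k (hk : k < L.length),
      C.succ len i (j + k) < C.n ∧ act L[k] (C.obj i) = C.obj (C.succ len i (j + k))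
  | e :: rest, j, h, k, hk => by
    simp only [stepsOK, Bool.and_eq_true, Nat.blt_eq] at h
    obtain ⟨⟨h1, h2⟩, h3⟩ := h
    cases k with
    | zero => exact ⟨h1, Nat.eq_of_beq_eq_true h2⟩
    | succ k =>
      have := stepsOK_spec h3 k (by simpa using hk)
      rw [show j + (k + 1) = Nat.succ j + k from by omega]
      simpa using this

theorem card_codes {act : GenT → ℕ → ℕ} {L : List GenT} {o₀ : ℕ} {C : Cert}
    (h : orbOK act L o₀ C = true) : C.codes.card = C.n := by
  simp only [orbOK, Bool.and_eq_true, List.all_eq_true, List.mem_range, orderOK, Bool.or_eq_true,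
    Nat.ble_eq, Nat.blt_eq] at h
  obtain ⟨-, h⟩ := h
  refine le_antisymm ((Finset.card_image_le).trans (Finset.card_range _).le) ?_
  have hmono : ∀ k l, k < l → l < C.n → C.obj (tget 12 C.ord k) < C.obj (tget 12 C.ord l) := by
    intro k l hkl hl
    induction hkl with
    | refl => exact (h k (by omega)).2.2.resolve_left (by omega)
    | @step m hm ih =>
      have := (h m (by omega)).2.2.resolve_left (by omega)
      have := ih (by omega)
      omega
  calc C.n = ((Finset.range C.n).image fun k => C.obj (tget 12 C.ord k)).card := by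
        rw [Finset.card_image_of_injOn, Finset.card_range]
        intro a ha b hb hab
        simp only [Finset.coe_range, Set.mem_Iio] at ha hb
        rcases lt_trichotomy a b with hlt | he | hlt
        · have := hmono a b hlt hb; simp only at hab; omega
        · exact he
        · have := hmono b a hlt ha; simp only at hab; omega
    _ ≤ C.codes.card := by
        refine Finset.card_le_card fun x hx => ?_
        obtain ⟨k, hk, rfl⟩ := Finset.mem_image.mp hx
        exact Finset.mem_image.mpr ⟨_, Finset.mem_range.mpr (h k (Finset.mem_range.mp hk)).2.1, rfl⟩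

variable {α : Type*} [MulAction (Equiv.Perm GolayPt) α] {K : Kind α} {L : List GenT} {o₀ : ℕ} {C : Cert}

theorem orb_valid (hv : K.Valid o₀) (hL : gensOK L = true) (h : orbOK K.act L o₀ C = true) :
    ∀ i < C.n, K.Valid (C.obj i) ∧ ∃ g ∈ Gr L, g • K.dec o₀ = K.dec (C.obj i) := by
  simp only [orbOK, Bool.and_eq_true, List.all_eq_true, List.mem_range, parentOK, Bool.or_eq_true,
    Nat.blt_eq] at h
  obtain ⟨⟨-, h0⟩, h⟩ := h
  intro i
  induction i using Nat.strong_induction_on with
  | _ i ih =>
    intro hi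
    obtain ⟨⟨-, hp⟩, -⟩ := h i hi
    rcases hp with he | ⟨⟨hp, hg⟩, he⟩
    · rw [Nat.eq_of_beq_eq_true he, Nat.eq_of_beq_eq_true h0]; exact ⟨hv, 1, one_mem _, one_smul _ _⟩
    · obtain ⟨hvk, k, hk, hkd⟩ := ih _ hp (lt_trans hp hi)
      obtain ⟨hs, hact⟩ := stepsOK_spec (h _ (lt_trans hp hi)).1.1 _ hg
      rw [Nat.zero_add, Nat.eq_of_beq_eq_true he] at hact
      obtain ⟨g, -, hgood⟩ := exists_good hL (List.getElem_mem hg)
      obtain ⟨hval, hdec⟩ := K.spec hgood hvk
      rw [hact] at hval hdec
      exact ⟨hval, g * k, mul_mem (mem_Gr (List.getElem_mem hg) hgood) hk, by rw [mul_smul, hkd, hdec]⟩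

theorem orbit_cert (hv : K.Valid o₀) (hL : gensOK L = true) (h : orbOK K.act L o₀ C = true) :
    MulAction.orbit (Gr L) (K.dec o₀) = K.dec '' (C.codes : Set ℕ) := by
  have hval := orb_valid hv hL h
  set S : Set α := K.dec '' (C.codes : Set ℕ) with hS
  have hfin : S.Finite := (C.codes.finite_toSet).image _
  have h2 := h
  simp only [orbOK, Bool.and_eq_true, List.all_eq_true, List.mem_range, Nat.blt_eq] at h2
  obtain ⟨⟨hn, h0⟩, h2⟩ := h2
  have hmem : K.dec o₀ ∈ S :=
    ⟨o₀, Finset.mem_coe.mpr (Finset.mem_image.mpr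
      ⟨0, Finset.mem_range.mpr hn, Nat.eq_of_beq_eq_true h0⟩), rfl⟩
  have hstab : Gr L ≤ MulAction.stabilizer (Equiv.Perm GolayPt) S := by
    refine Gr_le _ fun e he g hg => ?_
    rw [MulAction.mem_stabilizer_iff]
    refine Set.eq_of_subset_of_ncard_le ?_ ?_ hfin
    · rintro _ ⟨_, ⟨m, hm, rfl⟩, rfl⟩
      obtain ⟨i, hi, rfl⟩ := Finset.mem_image.mp (Finset.mem_coe.mp hm)
      obtain ⟨j, hj, rfl⟩ := List.getElem_of_mem he
      rw [Finset.mem_range] at hi
      obtain ⟨hs, hact⟩ := stepsOK_spec (h2 i hi).1.1 j hj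
      refine ⟨C.obj (C.succ L.length i (0 + j)),
        Finset.mem_coe.mpr (Finset.mem_image.mpr ⟨_, Finset.mem_range.mpr hs, rfl⟩), ?_⟩
      rw [← hact]
      exact ((K.spec hg (hval i hi).1).2).symm
    · exact le_of_eq (Set.InjOn.ncard_image (MulAction.injective g).injOn).symm
  refine Set.Subset.antisymm ?_ ?_
  · rintro _ ⟨⟨g, hg⟩, rfl⟩
    have hs : g • S = S := MulAction.mem_stabilizer_iff.mp (hstab hg)
    rw [← hs]
    exact Set.smul_mem_smul_set hmem
  · rintro _ ⟨m, hm, rfl⟩
    obtain ⟨i, hi, rfl⟩ := Finset.mem_image.mp (Finset.mem_coe.mp hm)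
    obtain ⟨g, hg, he⟩ := (hval i (Finset.mem_range.mp hi)).2
    exact ⟨⟨g, hg⟩, he⟩

theorem ncard_orbit_cert (hv : K.Valid o₀) (hL : gensOK L = true) (h : orbOK K.act L o₀ C = true) :
    (MulAction.orbit (Gr L) (K.dec o₀)).ncard = C.n := by
  have hinj : Set.InjOn K.dec (C.codes : Set ℕ) := K.inj.mono fun m hm => by
    obtain ⟨i, hi, rfl⟩ := Finset.mem_image.mp (Finset.mem_coe.mp hm)
    exact (orb_valid hv hL h i (Finset.mem_range.mp hi)).1
  rw [orbit_cert hv hL h, hinj.ncard_image, Set.ncard_coe_finset, card_codes h]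

/-- A coded object fixed by every generator. -/
def fixesObj (act : GenT → ℕ → ℕ) (L : List GenT) (o : ℕ) : Bool := L.all fun e => Nat.beq (act e o) o

theorem Gr_le_stab {o : ℕ} (hv : K.Valid o) (h : fixesObj K.act L o = true) :
    Gr L ≤ MulAction.stabilizer (Equiv.Perm GolayPt) (K.dec o) := by
  simp only [fixesObj, List.all_eq_true] at h
  refine Gr_le _ fun e he g hg => ?_
  rw [MulAction.mem_stabilizer_iff, (K.spec hg hv).2, Nat.eq_of_beq_eq_true (h e he)]

/-- The generators fixing all listed points. -/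
def fixers (L : List GenT) (l : List ℕ) : List GenT :=
  L.filter fun e => l.all fun x => Nat.beq (pappF e.c x) x

/-- One round of closing a mask under generators. -/
def closeMask : List GenT → ℕ → ℕ
  | [], m => m
  | e :: rest, m => closeMask rest (Nat.lor m (pmT e m))

/-- Repeat `closeMask`. -/
def closeIter (L : List GenT) : List ℕ → ℕ → ℕ
  | [], m => m
  | _ :: rest, m => closeIter L rest (closeMask L m)

/-- Points reached from `b`. -/
def orbMask (L : List GenT) (b : ℕ) : ℕ := closeIter L (List.range 23) (Nat.pow 2 b)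

/-- Product of the basic orbit sizes found along a base. -/
def lowBound (L : List GenT) : List ℕ → List ℕ → ℕ
  | _, [] => 1
  | l, b :: rest => pc (orbMask (fixers L l) b) * lowBound L (b :: l) rest

theorem closeMask_sound {H : Subgroup (Equiv.Perm GolayPt)} {p : GolayPt} :
    ∀ (M : List GenT), (∀ e ∈ M, ∃ g ∈ H, e.Good g) → ∀ m, m < 2 ^ 24 →
      (∀ q ∈ toSet m, ∃ g ∈ H, g p = q) →
      closeMask M m < 2 ^ 24 ∧ ∀ q ∈ toSet (closeMask M m), ∃ g ∈ H, g p = q
  | [], _, m, hm, h => ⟨hm, h⟩
  | e :: rest, hM, m, hm, h => by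
    obtain ⟨g, hg, hgood⟩ := hM e (by simp)
    obtain ⟨himg, hlt⟩ := hgood.toSet_pmT hm
    refine closeMask_sound rest (fun x hx => hM x (List.mem_cons_of_mem _ hx)) _
      (Nat.or_lt_two_pow hm hlt) fun q hq => ?_
    change q ∈ toSet (m ||| pmT e m) at hq
    rw [toSet_or, Finset.mem_union, himg, Finset.mem_image] at hq
    rcases hq with hq | ⟨r, hr, rfl⟩
    · exact h q hq
    · obtain ⟨k, hk, rfl⟩ := h r hr
      exact ⟨g * k, mul_mem hg hk, rfl⟩

theorem closeIter_sound {H : Subgroup (Equiv.Perm GolayPt)} {p : GolayPt} {M : List GenT}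
    (hM : ∀ e ∈ M, ∃ g ∈ H, e.Good g) :
    ∀ (rounds : List ℕ) m, m < 2 ^ 24 → (∀ q ∈ toSet m, ∃ g ∈ H, g p = q) →
      ∀ q ∈ toSet (closeIter M rounds m), ∃ g ∈ H, g p = q
  | [], _, _, h => h
  | _ :: rest, m, hm, h =>
    closeIter_sound hM rest _ (closeMask_sound M hM m hm h).1 (closeMask_sound M hM m hm h).2

theorem lowBound_le (hL : gensOK L = true) :
    ∀ (base l : List ℕ), (∀ b ∈ base, b < 24) →
      lowBound L l base ≤ Nat.card ↥(Gr L ⊓ fixL l)
  | [], _, _ => Nat.one_le_iff_ne_zero.mpr Nat.card_pos.ne'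
  | b :: rest, l, hb => by
    classical
    have hb24 : b < 24 := hb b (by simp)
    set H := Gr L ⊓ fixL l
    set T : Finset GolayPt := Finset.univ.filter fun q => ∃ g ∈ H, g (pt b) = q with hT
    rw [card_fix_step (Gr L) l b hb24 T
      (fun g hg => Finset.mem_filter.mpr ⟨Finset.mem_univ _, g, hg, rfl⟩)
      (fun q hq => (Finset.mem_filter.mp hq).2), lowBound]
    refine Nat.mul_le_mul ?_ (lowBound_le hL rest _ fun x hx => hb x (List.mem_cons_of_mem _ hx))
    rw [← card_toSet]
    refine Finset.card_le_card fun q hq => Finset.mem_filter.mpr ⟨Finset.mem_univ _, ?_⟩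
    refine closeIter_sound (M := fixers L l) ?_ (List.range 23) (Nat.pow 2 b) ?_ ?_ q hq
    · intro e he
      simp only [fixers, List.mem_filter, List.all_eq_true] at he
      obtain ⟨g, -, hg⟩ := exists_good hL he.1
      refine ⟨g, ⟨mem_Gr he.1 hg, mem_fixL.mpr fun p hp => idx_injective ?_⟩, hg⟩
      rw [hg.1, ← pappF_eq, Nat.eq_of_beq_eq_true (he.2 _ hp)]
    · exact Nat.pow_lt_pow_right (by norm_num) hb24
    · intro r hr
      refine ⟨1, one_mem _, ?_⟩
      rw [mem_toSet] at hr
      have : idx r = b := by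
        simpa [Nat.testBit_two_pow, eq_comm] using hr
      rw [← pt_idx r, this]; rfl

theorem lowBound_le_card (hL : gensOK L = true) {base : List ℕ}
    (hb : (base.all fun b => Nat.blt b 24) = true) : lowBound L [] base ≤ Nat.card ↥(Gr L) := by
  simp only [List.all_eq_true, Nat.blt_eq] at hb
  exact (lowBound_le hL base [] hb).trans (Subgroup.card_le_of_le inf_le_left)

end CfsgGolay
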