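/-
Stabilisers in the code's group: transport along group elements, orbit covers, maximality.
-/
import Cfsg.Agent.Lib.Golay.Cert

set_option autoImplicit false

namespace CfsgGolay

open Cfsg
open scoped Pointwise

/-- The union of the orbits of the listed elements. -/
def orbUnion (G : Type*) {X : Type*} [Group G] [MulAction G X] (l : List X) : Set X :=
  {y | ∃ x ∈ l, y ∈ MulAction.orbit G x}

theorem orbUnion_cons (G : Type*) {X : Type*} [Group G] [MulAction G X] (a : X) (l : List X) :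
    orbUnion G (a :: l) = MulAction.orbit G a ∪ orbUnion G l := by
  ext y; simp [orbUnion]

theorem ncard_orbUnion_le (G : Type*) {X : Type*} [Group G] [Finite X] [MulAction G X] :
    ∀ l : List X, (orbUnion G l).ncard ≤ (l.map fun x => (MulAction.orbit G x).ncard).sum
  | [] => by simp [orbUnion]
  | a :: l => by
    rw [orbUnion_cons, List.map_cons, List.sum_cons]
    exact (Set.ncard_union_le _ _).trans (by have := ncard_orbUnion_le G l; omega)

theorem ncard_orbUnion {G : Type*} {X : Type*} {β : Type*} [Group G] [Finite X] [MulAction G X] (f : X → β) :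
    ∀ l : List X, (∀ (g : G), ∀ x ∈ l, f (g • x) = f x) → (l.map f).Nodup →
      (orbUnion G l).ncard = (l.map fun x => (MulAction.orbit G x).ncard).sum
  | [], _, _ => by simp [orbUnion]
  | a :: l, hf, hnd => by
    rw [List.map_cons, List.nodup_cons] at hnd
    rw [orbUnion_cons, List.map_cons, List.sum_cons,
      Set.ncard_union_eq _ (Set.toFinite _) (Set.toFinite _),
      ncard_orbUnion f l (fun g x hx => hf g x (List.mem_cons_of_mem _ hx)) hnd.2]
    refine Set.disjoint_left.mpr ?_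
    rintro _ ⟨g, rfl⟩ ⟨x, hx, k, hk⟩
    refine hnd.1 (List.mem_map.mpr ⟨x, hx, ?_⟩)
    rw [← hf k x (List.mem_cons_of_mem _ hx)]
    change f ((fun m : G => m • x) k) = f a
    rw [hk]
    exact hf g a (by simp)

theorem cover_orbits {G : Type*} {X : Type*} {β : Type*} [Group G] [Finite X] [MulAction G X]
    (F : Set X) (f : X → β) (l : List X) (hinv : ∀ (g : G), ∀ y ∈ F, g • y ∈ F)
    (hf : ∀ (g : G), ∀ y ∈ F, f (g • y) = f y) (hmem : ∀ x ∈ l, x ∈ F) (hnd : (l.map f).Nodup)
    (hsum : (l.map fun x => (MulAction.orbit G x).ncard).sum = F.ncard) : F = orbUnion G l := by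
  refine (Set.eq_of_subset_of_ncard_le ?_ ?_ (Set.toFinite _)).symm
  · rintro _ ⟨x, hx, g, rfl⟩; exact hinv g x (hmem x hx)
  · rw [ncard_orbUnion f l (fun g x hx => hf g x (hmem x hx)) hnd, hsum]

theorem same_orbit_of_eq {G : Type*} {X : Type*} {β : Type*} [Group G] [Finite X] [MulAction G X]
    {F : Set X} {f : X → β} {l : List X} (hcov : F = orbUnion G l)
    (hf : ∀ (g : G), ∀ y ∈ F, f (g • y) = f y) (hnd : (l.map f).Nodup) {y y' : X} (hy : y ∈ F)
    (hy' : y' ∈ F) (h : f y = f y') : ∃ g : G, g • y = y' := by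
  rw [hcov] at hy hy' hf
  obtain ⟨x, hx, g, rfl⟩ := hy
  obtain ⟨x', hx', g', rfl⟩ := hy'
  simp only [hf g x ⟨x, hx, MulAction.mem_orbit_self x⟩, hf g' x' ⟨x', hx', MulAction.mem_orbit_self x'⟩] at h
  obtain rfl := List.inj_on_of_nodup_map hnd hx hx' h
  exact ⟨g' * g⁻¹, by simp [mul_smul]⟩

theorem class_eq_orbit {G : Type*} {X : Type*} {β : Type*} [Group G] [Finite X] [MulAction G X]
    {F : Set X} {f : X → β} {l : List X} (hcov : F = orbUnion G l)
    (hf : ∀ (g : G), ∀ y ∈ F, f (g • y) = f y) (hnd : (l.map f).Nodup) {x : X} (hx : x ∈ l) :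
    {y | y ∈ F ∧ f y = f x} = MulAction.orbit G x := by
  have hxF : x ∈ F := hcov ▸ ⟨x, hx, MulAction.mem_orbit_self x⟩
  ext y
  constructor
  · rintro ⟨hy, he⟩
    exact same_orbit_of_eq hcov hf hnd hxF hy he.symm
  · rintro ⟨g, rfl⟩
    exact ⟨hcov ▸ ⟨x, hx, g, rfl⟩, hf g x hxF⟩

theorem card_inf_stab {H : Subgroup (Equiv.Perm GolayPt)} {α : Type*}
    [MulAction (Equiv.Perm GolayPt) α] (x : α) :
    Nat.card ↥(H ⊓ MulAction.stabilizer (Equiv.Perm GolayPt) x) * (MulAction.orbit H x).ncard = Nat.card H := by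
  rw [← MulAction.index_stabilizer, ← Subgroup.card_mul_index (MulAction.stabilizer H x)]
  congr 1
  have : (MulAction.stabilizer H x).map H.subtype = H ⊓ MulAction.stabilizer (Equiv.Perm GolayPt) x := by
    ext g
    simp only [Subgroup.mem_map, MulAction.mem_stabilizer_iff, Subgroup.mem_inf]
    constructor
    · rintro ⟨k, hk, rfl⟩; exact ⟨k.2, hk⟩
    · rintro ⟨h1, h2⟩; exact ⟨⟨g, h1⟩, h2, rfl⟩
  rw [← this]
  exact (Nat.card_congr ((MulAction.stabilizer H x).equivMapOfInjective H.subtype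
    Subtype.val_injective).toEquiv).symm

/-- The stabiliser in the code's group, as a subgroup of all permutations. -/
def stabM {α : Type*} [MulAction (Equiv.Perm GolayPt) α] (x : α) : Subgroup (Equiv.Perm GolayPt) :=
  M24 ⊓ MulAction.stabilizer (Equiv.Perm GolayPt) x

theorem mem_stabM {α : Type*} [MulAction (Equiv.Perm GolayPt) α] {x : α} {g : Equiv.Perm GolayPt} :
    g ∈ stabM x ↔ g ∈ M24 ∧ g • x = x := Iff.rfl

theorem map_stab {α : Type*} [MulAction (Equiv.Perm GolayPt) α] (x : α) :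
    (MulAction.stabilizer M24 x).map M24.subtype = stabM x := by
  ext g
  simp only [Subgroup.mem_map, MulAction.mem_stabilizer_iff, mem_stabM]
  constructor
  · rintro ⟨k, hk, rfl⟩; exact ⟨k.2, hk⟩
  · rintro ⟨h1, h2⟩; exact ⟨⟨g, h1⟩, h2, rfl⟩

theorem map_inf_subtype {A B : Subgroup M24} :
    (A ⊓ B).map M24.subtype = A.map M24.subtype ⊓ B.map M24.subtype :=
  Subgroup.map_inf A B M24.subtype Subtype.val_injective

theorem orbit_sub {K : Subgroup M24} {H : Subgroup (Equiv.Perm GolayPt)} (h : K.map M24.subtype = H)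
    {α : Type*} [MulAction (Equiv.Perm GolayPt) α] (y : α) :
    MulAction.orbit K y = MulAction.orbit H y := by
  subst h
  ext z
  constructor
  · rintro ⟨k, rfl⟩; exact ⟨⟨_, Subgroup.mem_map_of_mem _ k.2⟩, rfl⟩
  · rintro ⟨⟨_, k, hk, rfl⟩, rfl⟩; exact ⟨⟨k, hk⟩, rfl⟩

theorem card_sub {K : Subgroup M24} {H : Subgroup (Equiv.Perm GolayPt)} (h : K.map M24.subtype = H) :
    Nat.card K = Nat.card H := by
  subst h
  exact Nat.card_congr (K.equivMapOfInjective _ Subtype.val_injective).toEquiv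

/-- `H'` is the conjugate of `H` by `g`. -/
def IsConjOf (g : Equiv.Perm GolayPt) (H H' : Subgroup (Equiv.Perm GolayPt)) : Prop :=
  ∀ k, k ∈ H' ↔ g⁻¹ * k * g ∈ H

theorem IsConjOf.orbit_smul {g : Equiv.Perm GolayPt} {H H' : Subgroup (Equiv.Perm GolayPt)}
    (h : IsConjOf g H H') {α : Type*} [MulAction (Equiv.Perm GolayPt) α] (y : α) :
    MulAction.orbit H' (g • y) = g • MulAction.orbit H y := by
  ext z
  constructor
  · rintro ⟨⟨k, hk⟩, rfl⟩
    refine ⟨(g⁻¹ * k * g) • y, ⟨⟨_, (h k).mp hk⟩, rfl⟩, ?_⟩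
    show g • (g⁻¹ * k * g) • y = k • g • y
    simp [mul_smul]
  · rintro ⟨_, ⟨⟨k, hk⟩, rfl⟩, rfl⟩
    refine ⟨⟨g * k * g⁻¹, (h _).mpr (by simpa [mul_assoc] using hk)⟩, ?_⟩
    show (g * k * g⁻¹) • g • y = g • k • y
    simp [mul_smul]

theorem IsConjOf.ncard_orbit {g : Equiv.Perm GolayPt} {H H' : Subgroup (Equiv.Perm GolayPt)}
    (h : IsConjOf g H H') {α : Type*} [MulAction (Equiv.Perm GolayPt) α] (y : α) :
    (MulAction.orbit H' (g • y)).ncard = (MulAction.orbit H y).ncard := by
  rw [h.orbit_smul]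
  exact (MulAction.injective g).injOn.ncard_image

theorem IsConjOf.map_eq {g : Equiv.Perm GolayPt} {H H' : Subgroup (Equiv.Perm GolayPt)}
    (h : IsConjOf g H H') : H.map (MulAut.conj g).toMonoidHom = H' := by
  ext k
  simp only [Subgroup.mem_map, MulEquiv.coe_toMonoidHom, MulAut.conj_apply]
  constructor
  · rintro ⟨x, hx, rfl⟩; exact (h _).mpr (by simpa [mul_assoc] using hx)
  · intro hk; exact ⟨_, (h k).mp hk, by simp [mul_assoc]⟩

theorem IsConjOf.card_eq {g : Equiv.Perm GolayPt} {H H' : Subgroup (Equiv.Perm GolayPt)}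
    (h : IsConjOf g H H') : Nat.card H' = Nat.card H := by
  rw [← h.map_eq]
  exact (Nat.card_congr (H.equivMapOfInjective _ (MulAut.conj g).injective).toEquiv).symm

theorem isConjOf_M24 {g : Equiv.Perm GolayPt} (hg : g ∈ M24) : IsConjOf g M24 M24 := fun k =>
  ⟨fun hk => mul_mem (mul_mem (inv_mem hg) hk) hg,
    fun hk => by simpa [mul_assoc] using mul_mem (mul_mem hg hk) (inv_mem hg)⟩

theorem isConjOf_stab {g : Equiv.Perm GolayPt} {α : Type*} [MulAction (Equiv.Perm GolayPt) α] (x : α) :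
    IsConjOf g (MulAction.stabilizer (Equiv.Perm GolayPt) x)
      (MulAction.stabilizer (Equiv.Perm GolayPt) (g • x)) := fun k => by
  simp only [MulAction.mem_stabilizer_iff, mul_smul, inv_smul_eq_iff]

theorem IsConjOf.inf {g : Equiv.Perm GolayPt} {A A' B B' : Subgroup (Equiv.Perm GolayPt)}
    (h₁ : IsConjOf g A A') (h₂ : IsConjOf g B B') : IsConjOf g (A ⊓ B) (A' ⊓ B') := fun k => by
  simp only [Subgroup.mem_inf, h₁ k, h₂ k]

theorem isConjOf_stabM {g : Equiv.Perm GolayPt} (hg : g ∈ M24) {α : Type*}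
    [MulAction (Equiv.Perm GolayPt) α] (x : α) : IsConjOf g (stabM x) (stabM (g • x)) :=
  (isConjOf_M24 hg).inf (isConjOf_stab x)

/-- A stabiliser whose suborbit sums never give a proper divisor is maximal. -/
theorem isCoatom_stabilizer {G : Type*} {X : Type*} [Group G] [Finite G] [Finite X] [MulAction G X]
    (x : X) (reps : List X)
    (hcov : MulAction.orbit G x ⊆ insert x (orbUnion (MulAction.stabilizer G x) reps))
    (hsum : (MulAction.orbit G x).ncard =
      1 + (reps.map fun r => (MulAction.orbit (MulAction.stabilizer G x) r).ncard).sum)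
    (hne : 1 < (MulAction.orbit G x).ncard)
    (hdiv : ∀ s ∈ (reps.map fun r => (MulAction.orbit (MulAction.stabilizer G x) r).ncard).sublists,
      s.sum ≠ 0 → (1 + s.sum) ∣ (MulAction.orbit G x).ncard → 1 + s.sum = (MulAction.orbit G x).ncard) :
    IsCoatom (MulAction.stabilizer G x) := by
  classical
  refine ⟨fun htop => ?_, fun K hK => ?_⟩
  · have := congrArg Subgroup.index htop
    rw [MulAction.index_stabilizer, Subgroup.index_top] at this
    omega
  set S := MulAction.stabilizer G x with hS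
  set sz := fun r : X => (MulAction.orbit S r).ncard with hsz
  set B := MulAction.orbit K x with hB
  have hBΩ : B ⊆ MulAction.orbit G x := by rintro _ ⟨k, rfl⟩; exact ⟨k.1, rfl⟩
  have hclosed : ∀ r y : X, y ∈ MulAction.orbit S r → (y ∈ B ↔ r ∈ B) := by
    rintro r _ ⟨s, rfl⟩
    constructor
    · rintro ⟨k, hk⟩
      refine ⟨(⟨s.1, hK.le s.2⟩ : K)⁻¹ * k, ?_⟩
      show ((s.1)⁻¹ * k.1) • x = r
      rw [mul_smul]
      exact inv_smul_eq_iff.mpr hk
    · rintro ⟨k, hk⟩
      refine ⟨(⟨s.1, hK.le s.2⟩ : K) * k, ?_⟩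
      show (s.1 * k.1) • x = s.1 • r
      rw [mul_smul]
      exact congrArg (s.1 • ·) hk
  set sel := reps.filter fun r => decide (r ∈ B) with hsel
  set out := reps.filter fun r => !decide (r ∈ B) with hout
  have h1 : B ⊆ insert x (orbUnion S sel) := by
    intro y hy
    rcases hcov (hBΩ hy) with h | ⟨r, hr, hyr⟩
    · exact Or.inl h
    · exact Or.inr ⟨r, List.mem_filter.mpr ⟨hr, decide_eq_true ((hclosed r y hyr).mp hy)⟩, hyr⟩
  have h2 : MulAction.orbit G x \ B ⊆ orbUnion S out := by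
    rintro y ⟨hy, hyB⟩
    rcases hcov hy with h | ⟨r, hr, hyr⟩
    · exact absurd (h ▸ MulAction.mem_orbit_self x) hyB
    · exact ⟨r, List.mem_filter.mpr ⟨hr, by simpa using fun h => hyB ((hclosed r y hyr).mpr h)⟩, hyr⟩
  have hsplit : (reps.map sz).sum = (sel.map sz).sum + (out.map sz).sum := by
    rw [← List.sum_append, ← List.map_append]
    exact ((List.filter_append_perm _ reps).map sz).sum_eq.symm
  have hB1 := (Set.ncard_le_ncard h1).trans (Set.ncard_insert_le _ _)
  have hB2 := Set.ncard_le_ncard h2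
  rw [Set.ncard_sdiff hBΩ] at hB2
  have hs1 := ncard_orbUnion_le S sel
  have hs2 := ncard_orbUnion_le S out
  have hle := Set.ncard_le_ncard hBΩ (Set.toFinite _)
  have hsum' : (MulAction.orbit G x).ncard = 1 + (reps.map sz).sum := hsum
  have hcard : B.ncard = 1 + (sel.map sz).sum := by simp only [hsz] at hsplit hs1 hs2 hsum' hB1 hB2 ⊢; omega
  have hKS : Nat.card K = Nat.card S * B.ncard := by
    rw [hB, ← MulAction.index_stabilizer, ← Subgroup.card_mul_index (MulAction.stabilizer K x)]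
    congr 1
    exact Nat.card_congr
      ⟨fun k => ⟨k.1.1, k.2⟩, fun s => ⟨⟨s.1, hK.le s.2⟩, s.2⟩, fun _ => rfl, fun _ => rfl⟩
  have hGS : Nat.card G = Nat.card S * (MulAction.orbit G x).ncard := by
    rw [← MulAction.index_stabilizer, Subgroup.card_mul_index]
  have hdvd : B.ncard ∣ (MulAction.orbit G x).ncard :=
    Nat.dvd_of_mul_dvd_mul_left Nat.card_pos (hKS ▸ hGS ▸ Subgroup.card_subgroup_dvd_card K)
  by_cases h0 : (sel.map sz).sum = 0
  · rw [h0] at hcard
    rw [hcard, Nat.add_zero, mul_one] at hKS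
    exact absurd (Subgroup.eq_of_le_of_card_ge hK.le hKS.le) hK.ne
  · have := hdiv _ (List.mem_sublists.mpr (List.Sublist.map sz (List.filter_sublist (l := reps)))) h0
      (hcard ▸ hdvd)
    exact Subgroup.eq_top_of_le_card K (by rw [hKS, hcard, this, hGS])

theorem Gr_eq_of_card {L : List GenT} {H : Subgroup (Equiv.Perm GolayPt)} (hL : gensOK L = true)
    (hle : Gr L ≤ H) {base : List ℕ} (hb : (base.all fun b => Nat.blt b 24) = true)
    (hN : Nat.card H ≤ lowBound L [] base) : Gr L = H :=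
  Subgroup.eq_of_le_of_card_ge hle (hN.trans (lowBound_le_card hL hb))

end CfsgGolay
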