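/-
Pointwise stabilisers of small sets of points.
-/
import Cfsg.Agent.Lib.Golay.Transfer

set_option autoImplicit false

namespace CfsgGolay

open Cfsg
open scoped Pointwise

attribute [local irreducible] codeL octadL dodecadL slpCodes

theorem card_fix_finset {B : Finset GolayPt} (hB : B.card ≤ 5) :
    Nat.card ↥(M24 ⊓ fixingSubgroup (Equiv.Perm GolayPt) (B : Set GolayPt)) =
      (([24, 23, 22, 21, 20, 16, 3] : List ℕ).drop B.card).prod := by
  obtain ⟨x, hx⟩ := exists_emb_of_card (k := B.card) (s := B) le_rfl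
  have hr : Set.range x = (B : Set GolayPt) := by
    refine Set.eq_of_subset_of_ncard_le ?_ ?_ (Set.toFinite _)
    · rintro _ ⟨i, rfl⟩; exact Finset.mem_coe.mpr (hx i)
    · rw [← Set.image_univ, x.injective.injOn.ncard_image]; simp
  rw [← card_stab_emb hB x, card_stab_emb_map, hr]

theorem exists_fixing_six {B : Finset GolayPt} (hB : B.card ≤ 6) :
    ∃ g ∈ M24, g ≠ 1 ∧ ∀ b ∈ B, g b = b := by
  obtain ⟨B6, hsub, h6⟩ := Finset.exists_superset_card_eq (n := 6) hB (by simp [Fintype.card_option, ZMod.card])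
  obtain ⟨p, hp⟩ := Finset.card_pos.mp (by omega : 0 < B6.card)
  have h5 : (B6.erase p).card = 5 := by rw [Finset.card_erase_of_mem hp, h6]
  set K := M24 ⊓ fixingSubgroup (Equiv.Perm GolayPt) ((B6.erase p : Finset GolayPt) : Set GolayPt) with hK
  have hcard : Nat.card K = 48 := by rw [hK, card_fix_finset (by omega), h5]; rfl
  have horb : (MulAction.orbit K p).ncard ≤ 24 := by
    refine (Set.ncard_le_ncard (Set.subset_univ _) (Set.toFinite _)).trans ?_
    simp [Set.ncard_univ, Nat.card_eq_fintype_card, Fintype.card_option, ZMod.card]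
  have hmul := card_inf_stab (H := K) p
  have hgt : 1 < Nat.card ↥(K ⊓ MulAction.stabilizer (Equiv.Perm GolayPt) p) := by
    by_contra hle
    rw [not_lt] at hle
    have := Nat.mul_le_mul hle horb
    omega
  have : Nontrivial ↥(K ⊓ MulAction.stabilizer (Equiv.Perm GolayPt) p) :=
    Finite.one_lt_card_iff_nontrivial.mp hgt
  obtain ⟨⟨g, hgK, hgp⟩, hne⟩ := exists_ne (1 : ↥(K ⊓ MulAction.stabilizer (Equiv.Perm GolayPt) p))
  refine ⟨g, hgK.1, fun h => hne (Subtype.ext h), fun b hb => ?_⟩
  by_cases hbp : b = p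
  · subst hbp; exact hgp
  · exact (mem_fixingSubgroup_iff _).mp hgK.2 b (Finset.mem_coe.mpr (Finset.mem_erase.mpr ⟨hbp, hsub hb⟩))

end CfsgGolay
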