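/-
The octads span the code; invariant subspaces of binary words.
-/
import Cfsg.Agent.Lib.Golay.Subgroups

set_option autoImplicit false

namespace CfsgGolay

open Cfsg
open scoped Pointwise

attribute [local irreducible] codeL octadL dodecadL slpCodes

/-- Twelve octads forming a basis of the code. -/
def octBasis : List ℕ :=
  [5279, 10558, 18147, 36294, 69395, 133817, 262637, 525274, 1050548, 2101096, 4196943, 8391797]

theorem octBasis_checks : (octBasis.all fun m => inCode m && Nat.beq (pc m) 8 && decide (m < 2 ^ 24)) = true ∧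
    (sysBasis.all fun e => decide (e ∈ spanList octBasis)) = true := by
  decide +kernel

theorem octBasis_mem {m : ℕ} (hm : m ∈ octBasis) : toSet m ∈ octads := by
  have h := List.all_eq_true.mp octBasis_checks.1 m hm
  simp only [Bool.and_eq_true, decide_eq_true_eq] at h
  refine toSet_mem_octads ?_
  unfold octadL
  exact List.mem_filter.mpr ⟨mem_codeL_of_inCode h.2 h.1.1, by simp [Nat.eq_of_beq_eq_true h.1.2]⟩

/-- A subspace containing all octad words contains the code. -/
theorem golayCode_le_of_octads {W : Submodule (ZMod 2) (GolayPt → ZMod 2)}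
    (h : ∀ w : GolayPt → ZMod 2, support₂ w ∈ octads → w ∈ W) : golayCode ≤ W := by
  intro w hw
  rw [← wordOf_toMask_support w]
  have hm := toMask_support_mem hw
  unfold codeL at hm
  refine spanList_subset W sysBasis (fun e he => spanList_subset W octBasis (fun m hm => h _ ?_) _
    (by simpa using List.all_eq_true.mp octBasis_checks.2 e he)) _ hm
  rw [support_wordOf]
  exact octBasis_mem hm

theorem wordOf_support {w w' : GolayPt → ZMod 2} (h : support₂ w = support₂ w') : w = w' := by
  rw [← wordOf_toMask_support w, h, wordOf_toMask_support]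

theorem support_comp_symm (g : Equiv.Perm GolayPt) (w : GolayPt → ZMod 2) :
    support₂ (fun p => w (g.symm p)) = (support₂ w).image g := by
  ext p
  simp only [support₂, Finset.mem_filter, Finset.mem_univ, true_and, Finset.mem_image]
  exact ⟨fun hp => ⟨_, hp, Equiv.apply_symm_apply g p⟩,
    fun ⟨q, hq, he⟩ => by rw [← he, Equiv.symm_apply_apply]; exact hq⟩

theorem mem_M24_of_octads {g : Equiv.Perm GolayPt} (h : ∀ o ∈ octads, o.image g ∈ octads) : g ∈ M24 := by
  rw [mem_M24_iff]
  rintro s ⟨w, hw, rfl⟩
  let W : Submodule (ZMod 2) (GolayPt → ZMod 2) :=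
    golayCode.comap (LinearMap.funLeft (ZMod 2) (ZMod 2) g.symm)
  have hle : golayCode ≤ W := by
    refine golayCode_le_of_octads fun v hv => ?_
    show (fun p => v (g.symm p)) ∈ golayCode
    obtain ⟨⟨u, hu, hus⟩, -⟩ := h _ hv
    rwa [wordOf_support ((support_comp_symm g v).trans hus.symm)]
  exact ⟨_, hle hw, support_comp_symm g w⟩

theorem M24_eq_octadAut : M24 = setSystemAut octads := by
  refine le_antisymm (fun g hg => ?_) fun g hg => ?_
  · rw [MulAction.mem_stabilizer_iff]
    refine Set.eq_of_subset_of_ncard_le ?_ ?_ (Set.toFinite _)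
    · rintro _ ⟨o, ho, rfl⟩; exact image_mem_octads hg ho
    · exact le_of_eq (MulAction.injective g).injOn.ncard_image.symm
  · refine mem_M24_of_octads fun o ho => ?_
    have := Set.smul_mem_smul_set (a := g) ho
    rwa [MulAction.mem_stabilizer_iff.mp hg] at this

/-- Four commuting involutions fixing the octad of mask 8536111 pointwise. -/
def octFix : List ℕ :=
  [965128854020860192151391391390468128, 963721886883755259286232606933354528,
   968708902336673183175954409307867168, 976448692869377735270425038196672544]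

/-- Sum over the group they generate, on masks. -/
def octTrace : List ℕ → ℕ → ℕ
  | [], m => m
  | c :: cs, m => octTrace cs (m ^^^ pmask c m)

theorem octTrace_unit : ((List.range 24).all fun i => Nat.beq (octTrace octFix (2 ^ i))
    (if (8536111 : ℕ).testBit i then 0 else 16777215 - 8536111)) = true ∧
    (octFix.all fun c => decide ((List.range 24).map (papp c)).Nodup && gensKept c &&
      (List.range 24).all fun i => decide (papp c i < 24)) = true := by
  decide +kernel

/-- A subspace of binary words invariant under the code's group. -/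
def M24Invariant (W : Submodule (ZMod 2) (GolayPt → ZMod 2)) : Prop :=
  ∀ σ ∈ M24, ∀ w ∈ W, (fun p => w (σ.symm p)) ∈ W

theorem wordOf_two_pow {i : ℕ} (hi : i < 24) : wordOf (2 ^ i) = Pi.single (pt i) 1 := by
  funext p
  simp only [wordOf, Pi.single_apply, Nat.testBit_two_pow]
  by_cases h : p = pt i
  · subst h; simp [idx_pt hi]
  · rw [if_neg h, if_neg]
    simp only [decide_eq_true_eq]
    exact fun he => h (by rw [← pt_idx p, ← he])

/-- Sum of the values off a mask. -/
def offSum (m : ℕ) : (GolayPt → ZMod 2) →ₗ[ZMod 2] ZMod 2 :=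
  ∑ p ∈ Finset.univ.filter (fun p => m.testBit (idx p) = false), LinearMap.proj p

theorem offSum_apply (m : ℕ) (w : GolayPt → ZMod 2) :
    offSum m w = ∑ p ∈ Finset.univ.filter (fun p => m.testBit (idx p) = false), w p := by
  simp [offSum]

theorem compl_word_mem {W : Submodule (ZMod 2) (GolayPt → ZMod 2)} (hW : M24Invariant W)
    {w : GolayPt → ZMod 2} (hw : w ∈ W) (hp : offSum 8536111 w ≠ 0) :
    wordOf (16777215 - 8536111) ∈ W := by
  obtain ⟨hunit, hfix⟩ := octTrace_unit
  simp only [List.all_eq_true, Bool.and_eq_true, decide_eq_true_eq, List.mem_range] at hfix hunit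
  have hex : ∀ c ∈ octFix, ∃ g ∈ M24, Repr c g := by
    intro c hc
    obtain ⟨⟨hnd, hk⟩, hlt⟩ := hfix c hc
    have hinj : Function.Injective fun p : GolayPt => pt (papp c (idx p)) := by
      intro p q hpq
      have := congrArg idx hpq
      rw [idx_pt (hlt _ (idx_lt p)), idx_pt (hlt _ (idx_lt q))] at this
      exact idx_injective (List.inj_on_of_nodup_map hnd (List.mem_range.mpr (idx_lt p))
        (List.mem_range.mpr (idx_lt q)) this)
    have hr : Repr c (Equiv.ofBijective _ (Finite.injective_iff_bijective.mp hinj)) := fun p => by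
      rw [Equiv.ofBijective_apply, idx_pt (hlt _ (idx_lt p))]
    exact ⟨_, mem_M24_of_gensKept hr hk, hr⟩
  -- the trace as a linear map
  have key : ∀ cs : List ℕ, (∀ c ∈ cs, ∃ g ∈ M24, Repr c g) →
      ∃ A : (GolayPt → ZMod 2) →ₗ[ZMod 2] (GolayPt → ZMod 2),
        (∀ v ∈ W, A v ∈ W) ∧ ∀ m, A (wordOf m) = wordOf (octTrace cs m) := by
    intro cs
    induction cs with
    | nil => exact fun _ => ⟨LinearMap.id, fun v hv => hv, fun m => rfl⟩
    | cons c cs ih =>
      intro hcs
      obtain ⟨A, hA, hAm⟩ := ih fun x hx => hcs x (List.mem_cons_of_mem _ hx)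
      obtain ⟨g, hg, hr⟩ := hcs c (by simp)
      refine ⟨A ∘ₗ (LinearMap.id + LinearMap.funLeft (ZMod 2) (ZMod 2) g.symm),
        fun v hv => hA _ (add_mem hv (hW g hg v hv)), fun m => ?_⟩
      show A (wordOf m + wordOf m ∘ g.symm) = _
      rw [wordOf_comp_symm hr, ← wordOf_xor, hAm]
      rfl
  obtain ⟨A, hA, hAm⟩ := key octFix hex
  have hAeq : A = (offSum 8536111).smulRight (wordOf (16777215 - 8536111)) := by
    refine (Pi.basisFun (ZMod 2) GolayPt).ext fun p => ?_
    rw [Pi.basisFun_apply]
    conv_lhs => rw [← pt_idx p, ← wordOf_two_pow (idx_lt p), hAm, Nat.eq_of_beq_eq_true (hunit _ (idx_lt p))]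
    rw [LinearMap.smulRight_apply, offSum_apply, Finset.sum_pi_single']
    cases hb : (8536111 : ℕ).testBit (idx p) <;> simp [hb, wordOf_zero]
  have := hA w hw
  rw [hAeq, LinearMap.smulRight_apply] at this
  have h1 : ∀ x : ZMod 2, x ≠ 0 → x = 1 := by decide
  rwa [h1 _ hp, one_smul] at this

theorem sample_masks : (toSet 5279 ∈ octads ∧ toSet 10558 ∈ octads ∧ toSet 15777 ∈ octads ∧
      toSet 8536111 ∈ octads) ∧ (toSet 28637 ∈ dodecads ∧ toSet 57274 ∈ dodecads ∧ toSet 45159 ∈ octads) ∧
    ((5279 : ℕ) ^^^ 10558 = 15777 ∧ (28637 : ℕ) ^^^ 57274 = 45159) := by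
  have h : ([5279, 10558, 15777, 8536111, 45159].all fun m => inCode m && Nat.beq (pc m) 8) = true ∧
      ([28637, 57274].all fun m => inCode m && Nat.beq (pc m) 12) = true := by decide +kernel
  simp only [List.all_eq_true, Bool.and_eq_true] at h
  have ho : ∀ m ∈ [5279, 10558, 15777, 8536111, 45159], toSet m ∈ octads := fun m hm => by
    refine toSet_mem_octads ?_
    unfold octadL
    refine List.mem_filter.mpr ⟨mem_codeL_of_inCode ?_ (h.1 m hm).1, by simp [Nat.eq_of_beq_eq_true (h.1 m hm).2]⟩
    revert m; decide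
  have hd : ∀ m ∈ [28637, 57274], toSet m ∈ dodecads := fun m hm => by
    refine toSet_mem_dodecads ?_
    unfold dodecadL
    refine List.mem_filter.mpr ⟨mem_codeL_of_inCode ?_ (h.2 m hm).1, by simp [Nat.eq_of_beq_eq_true (h.2 m hm).2]⟩
    revert m; decide
  refine ⟨⟨ho _ ?_, ho _ ?_, ho _ ?_, ho _ ?_⟩, ⟨hd _ ?_, hd _ ?_, ho _ ?_⟩, by decide, by decide⟩ <;>
    simp only [List.mem_cons, List.not_mem_nil, or_false, true_or, or_true]

theorem octad_words_of_one {W : Submodule (ZMod 2) (GolayPt → ZMod 2)} (hW : M24Invariant W)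
    {m : ℕ} (ho : toSet m ∈ octads) (hm : wordOf m ∈ W) : golayCode ≤ W := by
  refine golayCode_le_of_octads fun v hv => ?_
  obtain ⟨g, hg, hgo⟩ := octads_transitive ho hv
  have : v = fun p => wordOf m (g.symm p) := wordOf_support (by rw [support_comp_symm, support_wordOf, hgo])
  rw [this]; exact hW g hg _ hm

theorem wordOf_compl (m : ℕ) : wordOf (16777215 ^^^ m) = 1 + wordOf m := by
  rw [wordOf_xor, show wordOf 16777215 = (1 : GolayPt → ZMod 2) from wordOf_ones]

theorem code_le_of_compl {W : Submodule (ZMod 2) (GolayPt → ZMod 2)} (hW : M24Invariant W)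
    {m : ℕ} (ho : toSet m ∈ octads) (hm : 1 + wordOf m ∈ W) : golayCode ≤ W := by
  obtain ⟨⟨ha, hb, hc, -⟩, -, hx, -⟩ := sample_masks
  have key : ∀ k, toSet k ∈ octads → (1 + wordOf k) ∈ W := by
    intro k hk
    obtain ⟨g, hg, hgo⟩ := octads_transitive ho hk
    have : wordOf k = fun p => wordOf m (g.symm p) :=
      wordOf_support (by rw [support_comp_symm, support_wordOf, support_wordOf, hgo])
    rw [this]; exact hW g hg _ hm
  refine octad_words_of_one hW hc ?_
  have := add_mem (key _ ha) (key _ hb)
  have h2 : (1 : GolayPt → ZMod 2) + 1 = 0 := funext fun _ => (by decide : (1 : ZMod 2) + 1 = 0)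
  rwa [show (1 + wordOf 5279) + (1 + wordOf 10558) = (1 + 1) + (wordOf 5279 + wordOf 10558) from by abel, h2,
    zero_add, ← wordOf_xor, hx] at this

theorem mem_code_of_orth {w : GolayPt → ZMod 2}
    (h : ∀ v ∈ golayCode, ∑ i, v i * w i = 0) : w ∈ golayCode := by
  rw [mem_golayCode_iff]
  refine mem_codeL_of_inCode (toMask_lt _) ?_
  simp only [inCode, List.all_eq_true, beq_iff_eq]
  intro g hg
  rw [← dotMask_eq_zero_iff, ← h _ (genMask_mem hg)]
  simp only [dotMask, LinearMap.coe_sum, Finset.sum_apply, LinearMap.proj_apply]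
  rw [toSet, Finset.sum_filter]
  refine Finset.sum_congr rfl fun i _ => ?_
  simp only [wordOf]; split_ifs <;> simp

theorem code_le_of_not_mem {W : Submodule (ZMod 2) (GolayPt → ZMod 2)} (hW : M24Invariant W)
    {w : GolayPt → ZMod 2} (hw : w ∈ W) (hwC : w ∉ golayCode) : golayCode ≤ W := by
  obtain ⟨⟨ha, hb, hc, h0⟩, -, hx, -⟩ := sample_masks
  by_contra hne
  -- every translate of `w` has even parity off the standard octad
  have hpar : ∀ v ∈ W, offSum 8536111 v = 0 := by
    intro v hv
    by_contra hp
    refine hne (code_le_of_compl hW h0 ?_)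
    have := compl_word_mem hW hv hp
    rwa [show (16777215 - 8536111 : ℕ) = 16777215 ^^^ 8536111 from by decide, wordOf_compl] at this
  let d : (GolayPt → ZMod 2) →ₗ[ZMod 2] ZMod 2 := ∑ i, w i • LinearMap.proj i
  have hd : ∀ v, d v = ∑ i, w i * v i := fun v => by simp [d]
  have hval : ∀ v, support₂ v ∈ octads → d v = ∑ i, w i := by
    intro v hv
    obtain ⟨g, hg, hgo⟩ := octads_transitive h0 hv
    have h := hpar _ (hW g⁻¹ (inv_mem hg) w hw)
    rw [offSum_apply] at h
    have h2 : ∑ i, (1 - v i) * w i = 0 := by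
      rw [← Equiv.sum_comp g, ← h, Finset.sum_filter]
      refine Finset.sum_congr rfl fun p _ => ?_
      have hp : g p ∈ support₂ v ↔ (8536111 : ℕ).testBit (idx p) = true := by
        rw [← hgo, ← mem_toSet, Finset.mem_image]
        exact ⟨fun ⟨q, hq, he⟩ => g.injective he ▸ hq, fun hq => ⟨p, hq, rfl⟩⟩
      simp only [support₂, Finset.mem_filter, Finset.mem_univ, true_and] at hp
      have e1 : (g⁻¹ : Equiv.Perm GolayPt).symm p = g p := rfl
      rw [e1]
      have h2 : ∀ x : ZMod 2, x ≠ 0 → x = 1 := by decide
      cases hb : (8536111 : ℕ).testBit (idx p)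
      · rw [hb] at hp; simp [not_not.mp (mt hp.mp (by simp))]
      · rw [hb] at hp; simp [h2 _ (hp.mpr rfl)]
    rw [hd, ← sub_eq_zero, ← h2, ← Finset.sum_sub_distrib]
    refine Finset.sum_congr rfl fun i _ => ?_
    generalize v i = a; generalize w i = b; revert a b; decide
  have hzero : ∑ i, w i = 0 := by
    have := map_add d (wordOf 5279) (wordOf 10558)
    rw [← wordOf_xor, hx, hval _ (by rwa [support_wordOf]), hval _ (by rwa [support_wordOf]),
      hval _ (by rwa [support_wordOf])] at this
    simpa using this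
  have hker : golayCode ≤ LinearMap.ker d :=
    golayCode_le_of_octads fun v hv => by rw [LinearMap.mem_ker, hval v hv, hzero]
  refine hwC (mem_code_of_orth fun v hv => ?_)
  rw [← LinearMap.mem_ker.mp (hker hv), hd]
  exact Finset.sum_congr rfl fun i _ => mul_comm _ _

theorem eq_zero_or_one_or_code_le {W : Submodule (ZMod 2) (GolayPt → ZMod 2)} (hW : M24Invariant W) :
    W ≤ Submodule.span (ZMod 2) {fun _ => (1 : ZMod 2)} ∨ golayCode ≤ W := by
  by_contra hcon
  rw [not_or] at hcon
  obtain ⟨w, hw, hw1⟩ := SetLike.not_le_iff_exists.mp hcon.1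
  have hwC : w ∈ golayCode := by
    by_contra h; exact hcon.2 (code_le_of_not_mem hW hw h)
  obtain ⟨-, ⟨hd1, hd2, h3⟩, -, hx⟩ := sample_masks
  refine hcon.2 ?_
  rcases code_weight_cases (s := support₂ w) ⟨w, hwC, rfl⟩ with h | h | h | h | h
  · exact absurd (wordOf_support (w' := 0) (by rw [Finset.card_eq_zero.mp h]; simp [support₂]) ▸ zero_mem _) hw1
  · refine octad_words_of_one hW (m := toMask (support₂ w)) ?_ (by rwa [wordOf_toMask_support])
    rw [toSet_toMask]; exact ⟨⟨w, hwC, rfl⟩, h⟩
  · have key : ∀ k, toSet k ∈ dodecads → wordOf k ∈ W := by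
      intro k hk
      obtain ⟨g, hg, hgo⟩ := dodecads_transitive (show support₂ w ∈ dodecads from ⟨⟨w, hwC, rfl⟩, h⟩) hk
      have : wordOf k = fun p => w (g.symm p) :=
        wordOf_support (by rw [support_comp_symm, support_wordOf, hgo])
      rw [this]; exact hW g hg _ hw
    exact octad_words_of_one hW h3 (by rw [← hx, wordOf_xor]; exact add_mem (key _ hd1) (key _ hd2))
  · have h1 : (1 : GolayPt → ZMod 2) ∈ golayCode := Submodule.subset_span (Or.inr rfl)
    have hone : ∀ x : ZMod 2, 1 + (1 + x) = x := by decide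
    refine code_le_of_compl hW (m := toMask (support₂ (1 + w))) ?_ ?_
    · rw [toSet_toMask]
      refine ⟨⟨_, add_mem h1 hwC, rfl⟩, ?_⟩
      have : support₂ (1 + w) = (support₂ w)ᶜ := by
        ext p
        simp only [support₂, Finset.mem_filter, Finset.mem_univ, true_and, Pi.add_apply, Pi.one_apply,
          Finset.mem_compl]
        generalize w p = a; revert a; decide
      rw [this, Finset.card_compl, h]; decide
    · rw [wordOf_toMask_support, show 1 + (1 + w) = w from funext fun p => hone (w p)]
      exact hw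
  · refine absurd ?_ hw1
    have : support₂ w = Finset.univ := Finset.eq_univ_of_card _ (by rw [h]; decide)
    have hw' : w = fun _ => (1 : ZMod 2) := by
      funext p
      have := Finset.eq_univ_iff_forall.mp this p
      simp only [support₂, Finset.mem_filter, Finset.mem_univ, true_and] at this
      have h2 : ∀ x : ZMod 2, x ≠ 0 → x = 1 := by decide
      exact h2 _ this
    rw [hw']; exact Submodule.mem_span_singleton_self _

/-- The word with support `s`. -/
def indW (s : Finset GolayPt) : GolayPt → ZMod 2 := fun p => if p ∈ s then 1 else 0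

theorem support_indW (s : Finset GolayPt) : support₂ (indW s) = s := by
  ext p; simp [indW, support₂]

theorem indW_support (w : GolayPt → ZMod 2) : indW (support₂ w) = w :=
  wordOf_support (support_indW _)

theorem indW_image (g : Equiv.Perm GolayPt) (s : Finset GolayPt) :
    (fun p => indW s (g.symm p)) = indW (s.image g) :=
  wordOf_support (by rw [support_comp_symm, support_indW, support_indW])

theorem support_add (v w : GolayPt → ZMod 2) : support₂ (v + w) = symmDiff (support₂ v) (support₂ w) := by
  ext p
  simp only [support₂, Finset.mem_filter, Finset.mem_univ, true_and, Pi.add_apply, Finset.mem_symmDiff]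
  generalize v p = a; generalize w p = b; revert a b; decide

theorem octad_ext {t : Finset GolayPt} (ht : t.card = 5) : ∃ o ∈ octads, t ⊆ o :=
  (octads_steiner.2 t ht).exists

/-- Every word is congruent to one of weight at most four. -/
theorem exists_small_rep : ∀ (n : ℕ) (w : GolayPt → ZMod 2), (support₂ w).card ≤ n →
    ∃ c ∈ golayCode, (support₂ (w + c)).card ≤ 4
  | 0, w, h => ⟨0, zero_mem _, by rw [add_zero]; omega⟩
  | n + 1, w, h => by
    by_cases h4 : (support₂ w).card ≤ 4
    · exact ⟨0, zero_mem _, by rwa [add_zero]⟩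
    obtain ⟨t, hts, htc⟩ := Finset.exists_subset_card_eq (n := 5) (s := support₂ w) (by omega)
    obtain ⟨o, ho, hto⟩ := octad_ext htc
    obtain ⟨⟨v, hv, rfl⟩, h8⟩ := ho
    have hi : 5 ≤ (support₂ w ∩ support₂ v).card :=
      htc ▸ Finset.card_le_card (Finset.subset_inter hts hto)
    have hc : (support₂ (w + v)).card ≤ n := by
      rw [support_add, symmDiff_def, Finset.sup_eq_union, Finset.card_union_of_disjoint disjoint_sdiff_sdiff,
        Finset.card_sdiff, Finset.card_sdiff, Finset.inter_comm (support₂ v)]
      have h5 := Finset.card_le_card (Finset.inter_subset_left (s₁ := support₂ w) (s₂ := support₂ v))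
      rw [show Finset.card (support₂ v) = 8 from h8]
      omega
    obtain ⟨c, hc1, hc2⟩ := exists_small_rep n _ hc
    exact ⟨v + c, add_mem hv hc1, by rwa [← add_assoc]⟩

theorem indW_pair_add {a b c : GolayPt} (hab : a ≠ b) (hac : a ≠ c) :
    indW {a, b} + indW {a, c} = if b = c then 0 else indW {b, c} := by
  funext p
  split_ifs with h
  · subst h
    simp only [Pi.add_apply, Pi.zero_apply, indW]
    split_ifs <;> decide
  · simp only [Pi.add_apply, indW, Finset.mem_insert, Finset.mem_singleton]
    by_cases h1 : p = a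
    · subst h1; simp [hab, hac]; decide
    · by_cases h2 : p = b
      · subst h2; simp [h1, h]
      · simp [h1, h2]

/-- Even words lie in any subspace with all pairs. -/
theorem even_mem_of_pairs {W : Submodule (ZMod 2) (GolayPt → ZMod 2)}
    (h2 : ∀ a b : GolayPt, a ≠ b → indW {a, b} ∈ W) {w : GolayPt → ZMod 2} (hw : ∑ p, w p = 0) : w ∈ W := by
  classical
  have hsum : ∀ v : GolayPt → ZMod 2, ∑ p, v p = ((support₂ v).card : ZMod 2) := by
    intro v
    rw [Finset.card_eq_sum_ones, Nat.cast_sum, support₂, Finset.sum_filter]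
    refine Finset.sum_congr rfl fun p _ => ?_
    generalize v p = a; revert a; decide
  rw [hsum, ZMod.natCast_eq_zero_iff_even] at hw
  obtain ⟨k, hk⟩ := hw
  suffices h : ∀ (k : ℕ) (s : Finset GolayPt), s.card = k + k → indW s ∈ W by
    rw [← indW_support w]; exact h k _ hk
  intro k
  induction k with
  | zero =>
    intro s hs
    rw [Finset.card_eq_zero.mp hs]
    have : indW ∅ = 0 := by funext p; simp [indW]
    rw [this]; exact zero_mem _
  | succ k ih =>
    intro s hs
    obtain ⟨t, hts, htc⟩ := Finset.exists_subset_card_eq (n := 2) (s := s) (by omega)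
    obtain ⟨a, b, hab, rfl⟩ := Finset.card_eq_two.mp htc
    have : indW s = indW (s \ {a, b}) + indW {a, b} := by
      refine wordOf_support ?_
      rw [support_add, support_indW, support_indW, support_indW, symmDiff_def, Finset.sup_eq_union]
      ext p
      simp only [Finset.mem_union, Finset.mem_sdiff]
      constructor
      · intro hp; by_cases hq : p ∈ ({a, b} : Finset GolayPt) <;> simp [hp, hq]
      · rintro (⟨⟨hp, -⟩, -⟩ | ⟨hp, -⟩)
        · exact hp
        · exact hts hp
    rw [this]
    refine add_mem (ih _ ?_) (h2 a b hab)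
    rw [Finset.card_sdiff_of_subset hts, htc, hs]; omega

theorem pairs_mem_of_one {W : Submodule (ZMod 2) (GolayPt → ZMod 2)} (hW : M24Invariant W)
    {a b : GolayPt} (hab : a ≠ b) (h : indW {a, b} ∈ W) :
    ∀ c d : GolayPt, c ≠ d → indW {c, d} ∈ W := by
  intro c d hcd
  obtain ⟨g, hg, hgx⟩ := exists_M24_map (by norm_num : 2 ≤ 5)
    (⟨![a, b], by intro i j; fin_cases i <;> fin_cases j <;> simp [hab, hab.symm]⟩ : Fin 2 ↪ GolayPt)
    (⟨![c, d], by intro i j; fin_cases i <;> fin_cases j <;> simp [hcd, hcd.symm]⟩ : Fin 2 ↪ GolayPt)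
  have h0 := hgx 0; have h1 := hgx 1
  change g a = c at h0
  change g b = d at h1
  have := hW g hg _ h
  rwa [indW_image, Finset.image_insert, Finset.image_singleton, h0, h1] at this

/-- An invariant subspace containing a word of weight two, three or four contains a pair. -/
theorem pair_of_small {W : Submodule (ZMod 2) (GolayPt → ZMod 2)} (hW : M24Invariant W) {s : Finset GolayPt}
    (h : indW s ∈ W) (h2 : 2 ≤ s.card) (h4 : s.card ≤ 4) :
    ∃ a b : GolayPt, a ≠ b ∧ indW {a, b} ∈ W := by
  obtain ⟨a, ha⟩ := Finset.card_pos.mp (by omega : 0 < s.card)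
  obtain ⟨b, hb⟩ : ∃ b, b ∉ s := by
    by_contra hall
    push Not at hall
    have := Finset.eq_univ_iff_forall.mpr hall
    rw [this, Finset.card_univ] at h4
    norm_num [Fintype.card_option, ZMod.card] at h4
  obtain ⟨x, hx⟩ := exists_emb_of_card (k := (s.erase a).card + 1) (s := insert a (s.erase a))
    (by rw [Finset.card_insert_of_notMem (Finset.notMem_erase a s)])
  have hk : (s.erase a).card + 1 ≤ 5 := by rw [Finset.card_erase_of_mem ha]; omega
  -- send `a` to `b` fixing the rest of `s`
  have hinj : Function.Injective fun i => if x i = a then b else x i := by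
    intro i j hij
    have hmem : ∀ i, x i ≠ b := fun i he => hb (by
      rw [← he]
      rcases Finset.mem_insert.mp (hx i) with h | h
      · rw [h]; exact ha
      · exact (Finset.mem_erase.mp h).2)
    by_cases hi : x i = a <;> by_cases hj : x j = a <;> simp only [hi, hj, if_true, if_false] at hij
    · exact x.injective (hi.trans hj.symm)
    · exact absurd hij.symm (hmem j)
    · exact absurd hij (hmem i)
    · exact x.injective hij
  obtain ⟨g, hg, hgx⟩ := exists_M24_map hk x ⟨_, hinj⟩
  have hrange : ∀ p ∈ s, ∃ i, x i = p := by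
    intro p hp
    have hu : Finset.univ.map x = insert a (s.erase a) := Finset.eq_of_subset_of_card_le
      (fun q hq => by obtain ⟨i, -, rfl⟩ := Finset.mem_map.mp hq; exact hx i)
      (by simp [Finset.card_insert_of_notMem (Finset.notMem_erase a s)])
    rw [Finset.insert_erase ha] at hu
    obtain ⟨i, -, hi⟩ := Finset.mem_map.mp (hu ▸ hp)
    exact ⟨i, hi⟩
  have himg : s.image g = insert b (s.erase a) := by
    ext p
    simp only [Finset.mem_image, Finset.mem_insert, Finset.mem_erase]
    constructor
    · rintro ⟨q, hq, rfl⟩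
      obtain ⟨i, rfl⟩ := hrange q hq
      rw [hgx i]
      show (if x i = a then b else x i) = b ∨ _
      split_ifs with hi
      · exact Or.inl rfl
      · refine Or.inr ⟨?_, ?_⟩
        · show (if x i = a then b else x i) ≠ a
          rw [if_neg hi]; exact hi
        · show (if x i = a then b else x i) ∈ s
          rw [if_neg hi]; exact hq
    · rintro (rfl | ⟨hpa, hps⟩)
      · obtain ⟨i, hi⟩ := hrange a ha
        exact ⟨a, ha, by rw [← hi, hgx i]; exact if_pos hi⟩
      · obtain ⟨i, hi⟩ := hrange p hps
        exact ⟨p, hps, by rw [← hi, hgx i]; exact if_neg (hi ▸ hpa)⟩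
  refine ⟨a, b, fun he => hb (he ▸ ha), ?_⟩
  have := add_mem h (hW g hg _ h)
  rw [indW_image, himg] at this
  convert this using 1
  refine wordOf_support ?_
  rw [support_add, support_indW, support_indW, support_indW]
  ext p
  simp only [Finset.mem_symmDiff, Finset.mem_insert, Finset.mem_singleton, Finset.mem_erase]
  by_cases h1 : p = a
  · subst h1
    have : p ≠ b := fun he => hb (he ▸ ha)
    simp [ha, this]
  · by_cases h2 : p = b
    · subst h2; simp [hb]
    · simp [h1, h2]

theorem sum_support (w : GolayPt → ZMod 2) : ∑ p, w p = ((support₂ w).card : ZMod 2) := by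
  rw [Finset.card_eq_sum_ones, Nat.cast_sum, support₂, Finset.sum_filter]
  refine Finset.sum_congr rfl fun p _ => ?_
  generalize w p = a; revert a; decide

/-- The five invariant subspaces of binary words. -/
theorem invariant_classification {W : Submodule (ZMod 2) (GolayPt → ZMod 2)} (hW : M24Invariant W) :
    W = ⊥ ∨ W = Submodule.span (ZMod 2) {fun _ => (1 : ZMod 2)} ∨ W = golayCode ∨
      (W : Set (GolayPt → ZMod 2)) = {w | ∑ p, w p = 0} ∨ W = ⊤ := by
  rcases eq_zero_or_one_or_code_le hW with h | hC
  · by_cases hb : W = ⊥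
    · exact Or.inl hb
    · refine Or.inr (Or.inl (le_antisymm h (Submodule.span_le.mpr (Set.singleton_subset_iff.mpr ?_))))
      obtain ⟨w, hw, h0⟩ := Submodule.exists_mem_ne_zero_of_ne_bot hb
      obtain ⟨c, rfl⟩ := Submodule.mem_span_singleton.mp (h hw)
      have h2 : ∀ x : ZMod 2, x ≠ 0 → x = 1 := by decide
      rwa [h2 c (fun hc => h0 (by rw [hc, zero_smul])), one_smul] at hw
  by_cases hle : W ≤ golayCode
  · exact Or.inr (Or.inr (Or.inl (le_antisymm hle hC)))
  obtain ⟨w, hw, hwC⟩ := SetLike.not_le_iff_exists.mp hle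
  obtain ⟨c, hc, h4⟩ := exists_small_rep _ w le_rfl
  have hv : indW (support₂ (w + c)) ∈ W := by rw [indW_support]; exact add_mem hw (hC hc)
  have hne : support₂ (w + c) ≠ ∅ := fun he => hwC (by
    have h0 : w + c = 0 := by rw [← indW_support (w + c), he]; funext p; simp [indW]
    have : w = c := funext fun p => by
      have := congrFun h0 p
      simp only [Pi.add_apply, Pi.zero_apply] at this
      revert this; generalize w p = a; generalize c p = b; revert a b; decide
    exact this ▸ hc)
  have hall : ∀ a b : GolayPt, a ≠ b → indW {a, b} ∈ W := by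
    by_cases h1 : (support₂ (w + c)).card = 1
    · intro a b hab
      obtain ⟨p, hp⟩ := Finset.card_eq_one.mp h1
      rw [hp] at hv
      have hsing : ∀ q : GolayPt, indW {q} ∈ W := by
        intro q
        obtain ⟨g, hg, hgx⟩ := exists_M24_map (by norm_num : 1 ≤ 5)
          (⟨fun _ : Fin 1 => p, fun a b _ => Subsingleton.elim a b⟩)
          (⟨fun _ : Fin 1 => q, fun a b _ => Subsingleton.elim a b⟩)
        have := hW g hg _ hv
        rwa [indW_image, Finset.image_singleton, show g p = q from hgx 0] at this
      have : indW {a, b} = indW {a} + indW {b} := wordOf_support (by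
        rw [support_add, support_indW, support_indW, support_indW]
        ext q; simp only [Finset.mem_symmDiff, Finset.mem_insert, Finset.mem_singleton]
        constructor
        · rintro (rfl | rfl) <;> simp [hab, hab.symm]
        · rintro (⟨rfl, -⟩ | ⟨rfl, -⟩) <;> simp)
      rw [this]; exact add_mem (hsing a) (hsing b)
    · have h2 : 2 ≤ (support₂ (w + c)).card := by
        have := Finset.card_pos.mpr (Finset.nonempty_iff_ne_empty.mpr hne); omega
      obtain ⟨a, b, hab, h⟩ := pair_of_small hW hv h2 h4
      exact pairs_mem_of_one hW hab h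
  have heven : ∀ v : GolayPt → ZMod 2, ∑ p, v p = 0 → v ∈ W := fun v => even_mem_of_pairs hall
  refine Or.inr (Or.inr (Or.inr ?_))
  by_cases hodd : ∃ v ∈ W, ∑ p, v p ≠ 0
  · obtain ⟨v, hv, hv1⟩ := hodd
    refine Or.inr (Submodule.eq_top_iff'.mpr fun x => ?_)
    by_cases hx : ∑ p, x p = 0
    · exact heven x hx
    · have : x - v ∈ W := heven _ (by
        simp only [Pi.sub_apply, Finset.sum_sub_distrib]
        generalize (∑ p, x p) = a at hx ⊢; generalize (∑ p, v p) = b at hv1 ⊢; revert a b; decide)
      simpa using add_mem this hv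
  · exact Or.inl (Set.ext fun v => ⟨fun hv => not_not.mp fun h => hodd ⟨v, hv, h⟩, heven v⟩)

end CfsgGolay
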