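/-
The stabiliser of an octad: pointwise part, the action on the octad, trios through it.
-/
import Cfsg.Agent.Lib.Golay.ClassC
import Cfsg.Agent.Lib.Golay.Base
import Cfsg.Agent.Lib.Golay.Modules
import Cfsg.Agent.Lib.Golay.Data.Oct

set_option autoImplicit false

namespace CfsgGolay

open Cfsg
open scoped Pointwise

attribute [local irreducible] codeL octadL dodecadL slpCodes

/-- The pointwise stabiliser of an octad. -/
def fixOct (o : Finset GolayPt) : Subgroup (Equiv.Perm GolayPt) :=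
  M24 ⊓ fixingSubgroup (Equiv.Perm GolayPt) (o : Set GolayPt)

/-- The five base points in the standard octad. -/
def five0 : Finset GolayPt := toSet 8388623

theorem five0_sub : five0 ⊆ O0 ∧ five0.card = 5 := by
  refine ⟨?_, by rw [five0, card_toSet]; decide +kernel⟩
  intro p hp
  simp only [five0, O0, mem_toSet] at hp ⊢
  revert hp; revert p; decide +kernel

/-- The pointwise stabiliser of the five base points. -/
def K48 : Subgroup (Equiv.Perm GolayPt) := M24 ⊓ fixingSubgroup (Equiv.Perm GolayPt) (five0 : Set GolayPt)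

theorem card_K48 : Nat.card ↥K48 = 48 := by
  rw [K48, card_fix_finset five0_sub.2.le, five0_sub.2]; rfl

theorem gK5_le : Gr gK5 ≤ K48 := by
  refine le_inf (Gr_le_M24 gK5_ok) fun g hg => (mem_fixingSubgroup_iff _).mpr fun p hp => ?_
  have h : ∀ i < 24, (8388623 : ℕ).testBit i = true → fixesObj pointK.act gK5 i = true := by decide +kernel
  have := Gr_le_stab (K := pointK) (o := idx p) (idx_lt p)
    (h _ (idx_lt p) (by simpa [five0] using Finset.mem_coe.mp hp)) hg
  rwa [MulAction.mem_stabilizer_iff, show pointK.dec (idx p) = p from pt_idx p] at this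

theorem reach_K48 : (147488 &&& orbMask gK5 5 = 147488) ∧
    ((16777215 ^^^ 8536111) &&& orbMask gK5 4 = 16777215 ^^^ 8536111) := by decide +kernel

theorem exists_K48 {b : ℕ} (hb : b < 24) {mask : ℕ} (h : mask &&& orbMask gK5 b = mask) {p : GolayPt}
    (hp : p ∈ toSet mask) : ∃ k ∈ K48, k (pt b) = p := by
  obtain ⟨k, hk, he⟩ := reach_of_orbMask gK5_ok hb h p hp
  exact ⟨k, gK5_le hk, he⟩

theorem octFix_le : ∀ c ∈ octFix, ∃ g, g ∈ fixOct O0 ∧ Repr c g := by
  intro c hc
  have h : ∀ c ∈ octFix, permOK c = true ∧ gensKept c = true ∧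
      ∀ i < 24, (8536111 : ℕ).testBit i = true → papp c i = i := by decide +kernel
  obtain ⟨hp, hk, hfix⟩ := h c hc
  obtain ⟨g, hg⟩ := exists_repr_of_permOK hp
  refine ⟨g, ⟨mem_M24_of_gensKept hg hk, (mem_fixingSubgroup_iff _).mpr fun p hp => idx_injective ?_⟩, hg⟩
  rw [Equiv.Perm.smul_def, hg, hfix _ (idx_lt p) (by simpa [O0] using Finset.mem_coe.mp hp)]

/-- The group generated by the four standard involutions. -/
def octFixGr : Subgroup (Equiv.Perm GolayPt) := Subgroup.closure {g | ∃ c ∈ octFix, Repr c g}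

theorem octFix_checks : (octFix.all fun c => Nat.beq (pcomp c c) pid &&
    octFix.all fun d => Nat.beq (pcomp c d) (pcomp d c)) = true := by decide +kernel

theorem octFixGr_le : octFixGr ≤ fixOct O0 := by
  rw [octFixGr, Subgroup.closure_le]
  rintro g ⟨c, hc, hr⟩
  obtain ⟨g', hg', hr'⟩ := octFix_le c hc
  exact hr.unique hr' ▸ hg'

theorem octFixGr_invol {x : Equiv.Perm GolayPt} (hx : x ∈ octFixGr) : x * x = 1 := by
  have h := octFix_checks
  simp only [List.all_eq_true, Bool.and_eq_true] at h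
  have hcomm : ∀ a ∈ {g : Equiv.Perm GolayPt | ∃ c ∈ octFix, Repr c g},
      ∀ b ∈ {g : Equiv.Perm GolayPt | ∃ c ∈ octFix, Repr c g}, a * b = b * a := by
    rintro a ⟨c, hc, ha⟩ b ⟨d, hd, hb⟩
    have := ha.comp hb
    rw [Nat.eq_of_beq_eq_true ((h c hc).2 d hd)] at this
    exact this.unique (hb.comp ha)
  refine Subgroup.closure_induction (p := fun x _ => x * x = 1) ?_ (mul_one _) ?_ ?_ hx
  · rintro a ⟨c, hc, ha⟩
    have := ha.comp ha
    rw [Nat.eq_of_beq_eq_true (h c hc).1] at this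
    exact this.unique repr_pid
  · intro a b ha hb h1 h2
    have hc : Commute a b := by
      haveI := Subgroup.isMulCommutative_closure hcomm
      exact congrArg Subtype.val (mul_comm' (⟨a, ha⟩ : Subgroup.closure _) ⟨b, hb⟩)
    rw [← sq, hc.mul_pow, sq, sq, h1, h2, mul_one]
  · intro a _ h1
    rw [← mul_inv_rev, h1, inv_one]

/-- Apply a list of coded permutations to a point index, last first. -/
def pappL : List ℕ → ℕ → ℕ
  | [], i => i
  | c :: l, i => papp c (pappL l i)

theorem orbMask_octFix : ∀ p ∈ toSet (16777215 ^^^ 8536111), ∃ g ∈ octFixGr, g (pt 4) = p := by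
  have h : (List.range 24).all (fun i => !(Nat.testBit 8241104 i) ||
      octFix.sublists.any (fun l => Nat.beq (pappL l 4) i)) = true := by decide +kernel
  simp only [List.all_eq_true, List.mem_range, Bool.or_eq_true, Bool.not_eq_true', List.any_eq_true] at h
  intro p hp
  rw [mem_toSet, show (16777215 ^^^ 8536111 : ℕ) = 8241104 by decide +kernel] at hp
  obtain ⟨l, hl, he⟩ := (h _ (idx_lt p)).resolve_left (by simp [hp])
  replace he := Nat.eq_of_beq_eq_true he
  have key : ∀ l : List ℕ, (∀ c ∈ l, c ∈ octFix) → ∃ g ∈ octFixGr, idx (g (pt 4)) = pappL l 4 := by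
    intro l
    induction l with
    | nil => exact fun _ => ⟨1, one_mem _, by rw [Equiv.Perm.one_apply, idx_pt (by norm_num)]; rfl⟩
    | cons c l ih =>
      intro hc
      obtain ⟨g, hg, hr⟩ := ih fun x hx => hc x (List.mem_cons_of_mem _ hx)
      obtain ⟨g', -, hr'⟩ := octFix_le c (hc c (by simp))
      refine ⟨g' * g, mul_mem (Subgroup.subset_closure ⟨c, hc c (by simp), hr'⟩) hg, ?_⟩
      rw [Equiv.Perm.mul_apply, hr', hr]; rfl
  obtain ⟨g, hg, hr⟩ := key l fun c hc => (List.mem_sublists.mp hl).subset hc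
  exact ⟨g, hg, idx_injective (by rw [hr, he])⟩

theorem K48_orbit5 : 3 ≤ (MulAction.orbit K48 (pt 5)).ncard := by
  have h : (toSet 147488 : Set GolayPt) ⊆ MulAction.orbit K48 (pt 5) := by
    intro p hp
    obtain ⟨k, hk, he⟩ := exists_K48 (b := 5) (by norm_num) reach_K48.1 (Finset.mem_coe.mp hp)
    exact ⟨⟨k, hk⟩, he⟩
  have h2 := Set.ncard_le_ncard h
  rw [Set.ncard_coe_finset, card_toSet] at h2
  exact le_trans (le_of_eq (by decide +kernel)) h2

theorem octFixGr_eq : octFixGr = fixOct O0 ∧ Nat.card ↥(fixOct O0) = 16 := by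
  have hlow : 16 ≤ Nat.card ↥octFixGr := by
    have h1 := card_inf_stab (H := octFixGr) (pt 4)
    have hsub : (toSet (16777215 ^^^ 8536111) : Set GolayPt) ⊆ MulAction.orbit octFixGr (pt 4) := by
      intro p hp
      obtain ⟨g, hg, he⟩ := orbMask_octFix p (Finset.mem_coe.mp hp)
      exact ⟨⟨g, hg⟩, he⟩
    have h2 := Set.ncard_le_ncard hsub
    rw [Set.ncard_coe_finset, card_toSet, show pc (16777215 ^^^ 8536111) = 16 by decide +kernel] at h2
    rw [← h1]
    exact h2.trans (Nat.le_mul_of_pos_left _ Nat.card_pos)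
  have hup : Nat.card ↥(fixOct O0) ≤ 16 := by
    have h1 := card_inf_stab (H := K48) (pt 5)
    rw [card_K48] at h1
    have hle : fixOct O0 ≤ K48 ⊓ MulAction.stabilizer (Equiv.Perm GolayPt) (pt 5) := by
      refine le_inf (inf_le_inf_left _ (fixingSubgroup_antitone _ _ (Finset.coe_subset.mpr five0_sub.1))) ?_
      intro g hg
      exact (mem_fixingSubgroup_iff _).mp hg.2 (pt 5)
        (Finset.mem_coe.mpr (by rw [O0, pt_mem_toSet (by norm_num)]; decide))
    have h3 := Subgroup.card_le_of_le hle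
    nlinarith [K48_orbit5, Nat.card_pos (α := ↥(K48 ⊓ MulAction.stabilizer (Equiv.Perm GolayPt) (pt 5)))]
  have := Subgroup.card_le_of_le octFixGr_le
  exact ⟨Subgroup.eq_of_le_of_card_ge octFixGr_le (by omega), by omega⟩

theorem isConjOf_fixing {g : Equiv.Perm GolayPt} (s : Finset GolayPt) :
    IsConjOf g (fixingSubgroup (Equiv.Perm GolayPt) (s : Set GolayPt))
      (fixingSubgroup (Equiv.Perm GolayPt) ((g • s : Finset GolayPt) : Set GolayPt)) := by
  intro k
  simp only [mem_fixingSubgroup_iff, Finset.mem_coe, Equiv.Perm.smul_def]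
  constructor
  · intro h p hp
    simp [h (g p) (pt_mem_smul.mpr hp)]
  · intro h p hp
    obtain ⟨q, hq, rfl⟩ := Finset.mem_smul_finset.mp hp
    have := congrArg g (h q hq)
    simpa using this

theorem card_fixOct {o : Finset GolayPt} (ho : o ∈ octads) :
    Nat.card ↥(fixOct o) = 16 ∧ ∀ x ∈ fixOct o, x * x = 1 := by
  obtain ⟨g, hg, rfl⟩ := exists_smul_O0 ho
  have hc : IsConjOf g (fixOct O0) (fixOct (g • O0)) := (isConjOf_M24 hg).inf (isConjOf_fixing O0)
  refine ⟨hc.card_eq.trans octFixGr_eq.2, fun x hx => ?_⟩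
  have h := octFixGr_invol (octFixGr_eq.1 ▸ (hc x).mp hx)
  have : g⁻¹ * (x * x) * g = 1 := by rw [← h]; group
  have := congrArg (fun y => g * y * g⁻¹) this
  simpa [mul_assoc] using this

/-- The stabiliser of an octad and a point. -/
def octPt (o : Finset GolayPt) (p : GolayPt) : Subgroup (Equiv.Perm GolayPt) :=
  stabM o ⊓ MulAction.stabilizer (Equiv.Perm GolayPt) p

theorem card_octPt {o : Finset GolayPt} (ho : o ∈ octads) {p : GolayPt} (hp : p ∉ o) :
    Nat.card ↥(octPt o p) = 20160 ∧ fixOct o ⊓ octPt o p = ⊥ ∧ fixOct o ⊔ octPt o p = stabM o := by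
  obtain ⟨g, hg, rfl, rfl⟩ := cfgB ho hp
  have hle : fixOct O0 ≤ stabM O0 := by
    refine le_inf inf_le_left fun k hk => ?_
    rw [MulAction.mem_stabilizer_iff, smul_set_pts]
    conv_rhs => rw [← Finset.image_id (s := O0)]
    exact Finset.image_congr fun q hq => (mem_fixingSubgroup_iff _).mp hk.2 q hq
  have horb : MulAction.orbit (stabM O0) (pt 4) = (toSet (16777215 ^^^ 8536111) : Set GolayPt) := by
    refine Set.Subset.antisymm ?_ ?_
    · rintro _ ⟨⟨k, hk⟩, rfl⟩
      refine Finset.mem_coe.mpr (mem_compl_mask fun hc => ?_)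
      change k (pt 4) ∈ O0 at hc
      rw [← (mem_stabM.mp hk).2, pt_mem_smul, O0, pt_mem_toSet (by norm_num)] at hc
      revert hc; decide
    · intro q hq
      obtain ⟨k, hk, he⟩ := orbMask_octFix q (Finset.mem_coe.mp hq)
      exact ⟨⟨k, hle (octFixGr_le hk)⟩, he⟩
  have h1 := card_inf_stab (H := stabM O0) (pt 4)
  rw [horb, Set.ncard_coe_finset, card_toSet, stabO.2, show pc (16777215 ^^^ 8536111) = 16 by decide +kernel] at h1
  have hcard : Nat.card ↥(octPt O0 (pt 4)) = 20160 := by unfold octPt; omega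
  have hbot : fixOct O0 ⊓ octPt O0 (pt 4) = ⊥ := by
    rw [← Subgroup.card_eq_one]
    have h2 := card_inf_stab (H := fixOct O0) (pt 4)
    have hsub : (toSet (16777215 ^^^ 8536111) : Set GolayPt) ⊆ MulAction.orbit (fixOct O0) (pt 4) := by
      intro q hq
      obtain ⟨k, hk, he⟩ := orbMask_octFix q (Finset.mem_coe.mp hq)
      exact ⟨⟨k, octFixGr_le hk⟩, he⟩
    have h3 := Set.ncard_le_ncard hsub
    rw [Set.ncard_coe_finset, card_toSet, show pc (16777215 ^^^ 8536111) = 16 by decide +kernel] at h3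
    rw [octFixGr_eq.2] at h2
    have hle2 := Subgroup.card_le_of_le (show fixOct O0 ⊓ octPt O0 (pt 4) ≤
      fixOct O0 ⊓ MulAction.stabilizer (Equiv.Perm GolayPt) (pt 4) from inf_le_inf_left _ inf_le_right)
    have hpos := Nat.card_pos (α := ↥(fixOct O0 ⊓ octPt O0 (pt 4)))
    nlinarith
  have hfull : fixOct O0 ⊔ octPt O0 (pt 4) = stabM O0 := by
    refine le_antisymm (sup_le hle inf_le_left) fun k hk => ?_
    obtain ⟨m, hm, he⟩ := orbMask_octFix (k (pt 4)) (by
      have : k (pt 4) ∈ MulAction.orbit (stabM O0) (pt 4) := ⟨⟨k, hk⟩, rfl⟩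
      rw [horb] at this; exact Finset.mem_coe.mp this)
    rw [show k = m * (m⁻¹ * k) by group]
    refine Subgroup.mul_mem_sup (octFixGr_le hm)
      (Subgroup.mem_inf.mpr ⟨(stabM O0).mul_mem ((stabM O0).inv_mem (hle (octFixGr_le hm))) hk, ?_⟩)
    show (m⁻¹ * k) (pt 4) = pt 4
    rw [Equiv.Perm.mul_apply, ← he]; simp
  have hA : IsConjOf g (octPt O0 (pt 4)) (octPt (g • O0) (g (pt 4))) :=
    (isConjOf_stabM hg O0).inf (isConjOf_stab (pt 4))
  have hN : IsConjOf g (fixOct O0) (fixOct (g • O0)) := (isConjOf_M24 hg).inf (isConjOf_fixing O0)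
  refine ⟨hA.card_eq.trans hcard, ?_, ?_⟩
  · rw [← (hN.inf hA).map_eq, hbot, Subgroup.map_bot]
  · rw [← hN.map_eq, ← hA.map_eq, ← Subgroup.map_sup, hfull, (isConjOf_stabM hg O0).map_eq]

/-- The action of an octad's stabiliser on the octad. -/
def octRes (o : Finset GolayPt) : stabM o →* Equiv.Perm ↥o where
  toFun g := (g : Equiv.Perm GolayPt).subtypePerm fun x => by
    have h := pt_mem_smul (g := (g : Equiv.Perm GolayPt)) (p := x) (s := o)
    rwa [(mem_stabM.mp g.2).2] at h
  map_one' := by ext x; rfl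
  map_mul' a b := by ext x; rfl

theorem octRes_apply {o : Finset GolayPt} (g : stabM o) (x : ↥o) :
    ((octRes o g x : ↥o) : GolayPt) = (g : Equiv.Perm GolayPt) x := rfl

theorem octRes_bij {o : Finset GolayPt} (ho : o ∈ octads) {p : GolayPt} (hp : p ∉ o) :
    Function.Injective ((octRes o).comp (Subgroup.inclusion (inf_le_left : octPt o p ≤ stabM o))) ∧
      ((octRes o).comp (Subgroup.inclusion (inf_le_left : octPt o p ≤ stabM o))).range = alternatingGroup ↥o := by
  obtain ⟨hc, hbot, -⟩ := card_octPt ho hp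
  unfold octPt at hc
  have hinj : Function.Injective ((octRes o).comp (Subgroup.inclusion (inf_le_left : octPt o p ≤ stabM o))) := by
    rw [injective_iff_map_eq_one]
    intro x hx
    have hmem : (x : Equiv.Perm GolayPt) ∈ fixOct o ⊓ octPt o p := by
      refine ⟨⟨x.2.1.1, (mem_fixingSubgroup_iff _).mpr fun q hq => ?_⟩, x.2⟩
      exact congrArg (fun e : Equiv.Perm ↥o => ((e ⟨q, hq⟩ : ↥o) : GolayPt)) hx
    rw [hbot] at hmem
    exact Subtype.ext hmem
  refine ⟨hinj, Equiv.Perm.eq_alternatingGroup_of_index_eq_two ?_⟩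
  have h1 := Subgroup.card_mul_index
    ((octRes o).comp (Subgroup.inclusion (inf_le_left : octPt o p ≤ stabM o))).range
  rw [← Nat.card_congr (MonoidHom.ofInjective hinj).toEquiv, hc,
    Nat.card_perm, Nat.card_eq_fintype_card, Fintype.card_coe, card_of_mem_octads ho] at h1
  norm_num [Nat.factorial] at h1
  omega

theorem exists_notMem_octad {o : Finset GolayPt} (ho : o ∈ octads) : ∃ p, p ∉ o := by
  by_contra h
  push Not at h
  have := card_of_mem_octads ho
  rw [Finset.eq_univ_iff_forall.mpr h, Finset.card_univ] at this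
  norm_num [Fintype.card_option, ZMod.card] at this

theorem octRes_range {o : Finset GolayPt} (ho : o ∈ octads) : (octRes o).range = alternatingGroup ↥o := by
  obtain ⟨p, hp⟩ := exists_notMem_octad ho
  obtain ⟨-, -, hfull⟩ := card_octPt ho hp
  rw [← (octRes_bij ho hp).2]
  refine le_antisymm ?_ ?_
  · rintro _ ⟨⟨k, hk⟩, rfl⟩
    have hk' : k ∈ (((octRes o).comp (Subgroup.inclusion (inf_le_left : octPt o p ≤ stabM o))).range.comap
        (octRes o)).map (stabM o).subtype := by
      have hle : fixOct o ⊔ octPt o p ≤ (((octRes o).comp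
          (Subgroup.inclusion (inf_le_left : octPt o p ≤ stabM o))).range.comap (octRes o)).map (stabM o).subtype := by
        refine sup_le (fun x hx => ?_) (fun x hx => ⟨⟨x, hx.1⟩, ⟨⟨x, hx⟩, rfl⟩, rfl⟩)
        have hxs : x ∈ stabM o := by rw [← hfull]; exact Subgroup.mem_sup_left hx
        refine ⟨⟨x, hxs⟩, ?_, rfl⟩
        have : octRes o ⟨x, hxs⟩ = 1 := Equiv.ext fun q => Subtype.ext ((mem_fixingSubgroup_iff _).mp hx.2 q q.2)
        rw [SetLike.mem_coe, Subgroup.mem_comap, this]; exact one_mem _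
      rw [hfull] at hle; exact hle hk
    obtain ⟨y, hy, hye⟩ := hk'
    rw [show (⟨k, hk⟩ : stabM o) = y from Subtype.ext hye.symm]
    exact hy
  · rintro _ ⟨x, rfl⟩; exact ⟨_, rfl⟩

theorem octPt_equiv {o : Finset GolayPt} (ho : o ∈ octads) {p : GolayPt} (hp : p ∉ o) :
    Nonempty (↥(octPt o p) ≃* alternatingGroup (Fin 8)) := by
  obtain ⟨hinj, hr⟩ := octRes_bij ho hp
  refine ⟨((MonoidHom.ofInjective hinj).trans (MulEquiv.subgroupCongr hr)).trans ?_⟩
  exact (Finset.equivFinOfCardEq (card_of_mem_octads ho)).altCongrHom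

/-- Trios through the standard octad. -/
theorem trios_through_O0 :
    {T : Finset (Finset GolayPt) | T ∈ trios ∧ O0 ∈ T} = MulAction.orbit (stabM O0) T0 ∧
      (MulAction.orbit (stabM O0) T0).ncard = 15 := by
  refine ⟨?_, orbit_std (K := famK 3) stabO.1 gO_ok (famValidB_sound (by decide +kernel)) cOT0_ok⟩
  ext T
  constructor
  · rintro ⟨hT, hO⟩
    obtain ⟨b, hb, hbne⟩ := Finset.exists_mem_ne (by rw [hT.1]; norm_num : 1 < T.card) O0
    obtain ⟨b', hb', hb'ne⟩ := Finset.exists_mem_ne (by rw [T0_mem.1]; norm_num : 1 < T0.card) O0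
    obtain ⟨k, hk, hkb⟩ := octad_class_O0 (T0_mem.2.1 b' hb') (hT.2.1 b hb) (by
      rw [Finset.disjoint_iff_inter_eq_empty.mp (T0_mem.2.2 _ O0_mem_T0 _ hb' hb'ne.symm),
        Finset.disjoint_iff_inter_eq_empty.mp (hT.2.2 _ hO _ hb hbne.symm)])
    refine ⟨⟨k, hk⟩, ?_⟩
    have h1 : k • O0 ∈ k • T0 := Finset.smul_mem_smul_finset O0_mem_T0
    have h2 : k • b' ∈ k • T0 := Finset.smul_mem_smul_finset hb'
    rw [(mem_stabM.mp hk).2] at h1
    rw [hkb] at h2
    show k • T0 = T
    rw [trio_eq_of_two (smul_mem_trios (mem_stabM.mp hk).1 T0_mem) h1 h2 hbne.symm,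
      ← trio_eq_of_two hT hO hb hbne.symm]
  · rintro ⟨⟨k, hk⟩, rfl⟩
    refine ⟨smul_mem_trios (mem_stabM.mp hk).1 T0_mem, ?_⟩
    show O0 ∈ k • T0
    rw [← (mem_stabM.mp hk).2]
    exact Finset.smul_mem_smul_finset O0_mem_T0

theorem trios_pair_O0 {T T' : Finset (Finset GolayPt)} (hT : T ∈ MulAction.orbit (stabM O0) T0)
    (hT' : T' ∈ MulAction.orbit (stabM O0) T0) (hne : T ≠ T') :
    ∃ g ∈ stabM O0, g • T0 = T ∧ g • (famSet 3 2402701737841094376960) = T' := by
  obtain ⟨⟨k, hk⟩, rfl⟩ := hT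
  set Y := (famK 3).dec 2402701737841094376960
  have hvY : (famK 3).Valid 2402701737841094376960 := famValidB_sound (by decide +kernel)
  have hv0 : (famK 3).Valid 2402701777519073634240 := famValidB_sound (by decide +kernel)
  have hfix : ∀ g ∈ Gr gOT, g ∈ stabM O0 ∧ g • T0 = T0 := fun g hg =>
    ⟨⟨Gr_le_M24 gOT_ok hg, Gr_le_stab (K := maskK) (o := 8536111) (by show _ < 2 ^ 24; norm_num)
      (by decide +kernel) hg⟩, Gr_le_stab (K := famK 3) hv0 (by decide +kernel) hg⟩
  set F := MulAction.orbit (stabM O0) T0 with hF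
  have hn14 := ncard_orbit_cert hvY gOT_ok cOT14_ok
  have hnot : T0 ∉ MulAction.orbit (Gr gOT) Y := by
    rintro ⟨⟨g, hg⟩, he⟩
    change g • Y = T0 at he
    rw [← (hfix g hg).2, smul_left_cancel_iff] at he
    exact absurd ((famK 3).inj hvY hv0 he) (by decide)
  have hYF : Y ∈ F := by
    have h : (List.range cOT0.n).any (fun i => Nat.beq (cOT0.obj i) 2402701737841094376960) = true := by
      decide +kernel
    simp only [List.any_eq_true, List.mem_range] at h
    obtain ⟨i, hi, he⟩ := h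
    rw [hF, ← stabO.1, show T0 = (famK 3).dec 2402701777519073634240 from rfl, orbit_cert hv0 gO_ok cOT0_ok]
    exact ⟨_, Finset.mem_coe.mpr (Finset.mem_image.mpr ⟨i, Finset.mem_range.mpr hi, rfl⟩),
      by rw [Nat.eq_of_beq_eq_true he]⟩
  have hFeq : F = insert T0 (MulAction.orbit (Gr gOT) Y) := by
    refine (Set.eq_of_subset_of_ncard_le ?_ ?_ (Set.toFinite _)).symm
    · rintro z (rfl | ⟨⟨g, hg⟩, rfl⟩)
      · exact MulAction.mem_orbit_self _
      · obtain ⟨⟨m, hm⟩, he⟩ := hYF
        exact ⟨⟨g * m, mul_mem (hfix g hg).1 hm⟩, by rw [← he]; exact mul_smul g m T0⟩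
    · rw [trios_through_O0.2, Set.ncard_insert_of_notMem hnot, hn14]
      exact le_of_eq rfl
  have hw : k⁻¹ • T' ∈ F := by
    obtain ⟨⟨m, hm⟩, rfl⟩ := hT'
    exact ⟨⟨k⁻¹ * m, mul_mem (inv_mem hk) hm⟩, mul_smul k⁻¹ m T0⟩
  rw [hFeq] at hw
  rcases hw with hw | ⟨⟨g, hg⟩, hgY⟩
  · exact absurd (eq_inv_smul_iff.mp hw.symm) hne
  · refine ⟨k * g, mul_mem hk (hfix g hg).1, by rw [mul_smul, (hfix g hg).2]; rfl, ?_⟩
    change g • Y = k⁻¹ • T' at hgY
    rw [mul_smul]
    show k • g • Y = T'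
    rw [hgY, smul_inv_smul]

theorem trio_kernel_O0 {g : Equiv.Perm GolayPt} (hg : g ∈ stabM O0) :
    (∀ T ∈ MulAction.orbit (stabM O0) T0, g • T = T) ↔ g ∈ fixOct O0 := by
  let A := octPt O0 (pt 4)
  have hp : pt 4 ∉ O0 := by rw [O0, pt_mem_toSet (by norm_num)]; decide
  obtain ⟨hcardA, -, hfull⟩ := card_octPt O0_mem hp
  have hN : ∀ x ∈ fixOct O0, ∀ T ∈ MulAction.orbit (stabM O0) T0, x • T = T := by
    intro x hx T hT
    have h : ∀ c ∈ octFix, ∀ i < cOT0.n, Nat.beq (packF (isortF ((unpackF 3 (cOT0.obj i)).map (pmask c)))) (cOT0.obj i) = true := by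
      decide +kernel
    rw [show T0 = (famK 3).dec 2402701777519073634240 from rfl, ← stabO.1,
      orbit_cert (famValidB_sound (by decide +kernel)) gO_ok cOT0_ok] at hT
    obtain ⟨m, hm, rfl⟩ := hT
    obtain ⟨i, hi, rfl⟩ := Finset.mem_image.mp (Finset.mem_coe.mp hm)
    rw [← octFixGr_eq.1] at hx
    refine (Subgroup.closure_le (MulAction.stabilizer (Equiv.Perm GolayPt) ((famK 3).dec (cOT0.obj i)))).mpr ?_ hx
    rintro y ⟨c, hc, hy⟩
    rw [SetLike.mem_coe, MulAction.mem_stabilizer_iff]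
    conv_rhs => rw [← Nat.eq_of_beq_eq_true (h c hc i (Finset.mem_range.mp hi))]
    show y • famSet 3 _ = famSet 3 (packF _)
    set L := (unpackF 3 (cOT0.obj i)).map (pmask c) with hL
    have hlen : (isortF L).length = 3 := by
      rw [(isortF_perm L).length_eq, hL, List.length_map, unpackF_length]
    have hlt : ∀ m ∈ isortF L, m < 2 ^ 24 := by
      intro m hm
      obtain ⟨z, -, rfl⟩ := List.mem_map.mp ((isortF_perm L).mem_iff.mp hm)
      exact hy.pmask_lt z
    have hup : unpackF 3 (packF (isortF L)) = isortF L := by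
      conv_lhs => rw [← hlen]
      exact unpackF_packF _ hlt
    rw [famSet, famSet, hup, smul_finset_eq_image, Finset.image_image]
    ext s
    simp only [Finset.mem_image, List.mem_toFinset, Function.comp_apply]
    constructor
    · rintro ⟨z, hz, rfl⟩
      exact ⟨pmask c z, (isortF_perm L).mem_iff.mpr (List.mem_map_of_mem hz), hy.toSet_pmask z⟩
    · rintro ⟨w, hw, rfl⟩
      obtain ⟨z, hz, rfl⟩ := List.mem_map.mp ((isortF_perm L).mem_iff.mp hw)
      exact ⟨z, hz, (hy.toSet_pmask z).symm⟩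
  refine ⟨fun hall => ?_, fun hx => hN g hx⟩
  -- the part of the complement acting trivially is a normal subgroup of a simple group
  let P : Subgroup A :=
    { carrier := {a | ∀ T ∈ MulAction.orbit (stabM O0) T0, (a : Equiv.Perm GolayPt) • T = T}
      one_mem' := fun T _ => one_smul _ T
      mul_mem' := fun {a b} ha hb T hT => by
        show ((a : Equiv.Perm GolayPt) * b) • T = T
        rw [mul_smul, hb T hT, ha T hT]
      inv_mem' := fun {a} ha T hT => inv_smul_eq_iff.mpr (ha T hT).symm }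
  have hPn : P.Normal := ⟨fun a ha b T hT => by
    show ((b : Equiv.Perm GolayPt) * a * (b : Equiv.Perm GolayPt)⁻¹) • T = T
    have : (b : Equiv.Perm GolayPt)⁻¹ • T ∈ MulAction.orbit (stabM O0) T0 := by
      obtain ⟨⟨m, hm⟩, rfl⟩ := hT
      exact ⟨⟨(b : Equiv.Perm GolayPt)⁻¹ * m, mul_mem (inv_mem b.2.1) hm⟩, mul_smul (b : Equiv.Perm GolayPt)⁻¹ m T0⟩
    rw [mul_smul, mul_smul, ha _ this, smul_inv_smul]⟩
  obtain ⟨e⟩ := octPt_equiv O0_mem hp
  have hsimple : IsSimpleGroup A := by
    haveI : IsSimpleGroup (alternatingGroup (Fin 8)) :=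
      alternatingGroup.isSimpleGroup (by simp [Nat.card_eq_fintype_card])
    exact e.isSimpleGroup
  obtain ⟨x, hx, a, ha, rfl⟩ : ∃ x ∈ fixOct O0, ∃ a ∈ A, x * a = g := by
    obtain ⟨m, hm, he⟩ := orbMask_octFix (g (pt 4)) (mem_compl_mask fun hc => by
      change g (pt 4) ∈ O0 at hc
      rw [← (mem_stabM.mp hg).2, pt_mem_smul] at hc
      exact hp hc)
    have hxs : m ∈ stabM O0 := by rw [← hfull]; exact Subgroup.mem_sup_left (octFixGr_le hm)
    refine ⟨m, octFixGr_le hm, m⁻¹ * g, Subgroup.mem_inf.mpr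
      ⟨(stabM O0).mul_mem ((stabM O0).inv_mem hxs) hg, ?_⟩, by group⟩
    show (m⁻¹ * g) (pt 4) = pt 4
    rw [Equiv.Perm.mul_apply, ← he]; simp
  have haP : (⟨a, ha⟩ : A) ∈ P := by
    intro T hT
    have h1 := hall T hT
    rw [mul_smul] at h1
    have h2 : x • T = T := hN x hx T hT
    show a • T = T
    exact smul_left_cancel x (h1.trans h2.symm)
  rcases hPn.eq_bot_or_eq_top with hb | ht
  · rw [hb, Subgroup.mem_bot] at haP
    rw [show a = 1 from congrArg Subtype.val haP, mul_one]; exact hx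
  · exfalso
    have hstab : stabM O0 ≤ MulAction.stabilizer (Equiv.Perm GolayPt) T0 := by
      rw [← hfull]
      exact sup_le (fun y hy => hN y hy T0 (MulAction.mem_orbit_self _))
        fun y hy => (show (⟨y, hy⟩ : A) ∈ P from ht ▸ Subgroup.mem_top _) T0 (MulAction.mem_orbit_self _)
    have := trios_through_O0.2
    rw [show MulAction.orbit (stabM O0) T0 = {T0} from Set.eq_singleton_iff_unique_mem.mpr
      ⟨MulAction.mem_orbit_self _, fun z ⟨⟨m, hm⟩, he⟩ => he ▸ hstab hm⟩, Set.ncard_singleton] at this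
    exact absurd this (by norm_num)

end CfsgGolay
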