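/-
The point stabiliser of a dodecad on the complementary dodecad, and the small Steiner system inside.
-/
import Cfsg.Agent.Lib.Golay.OctStab

set_option autoImplicit false

namespace CfsgGolay

open Cfsg
open scoped Pointwise

attribute [local irreducible] codeL octadL dodecadL slpCodes

theorem gM11a_fix {g : Equiv.Perm GolayPt} (hg : g ∈ Gr gM11a) : g • D0 = D0 ∧ g (pt 0) = pt 0 :=
  ⟨Gr_le_stab (L := gM11a) (K := maskK) (o := 340831) (by show _ < 2 ^ 24; norm_num) (by decide +kernel) hg,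
    Gr_le_stab (L := gM11a) (K := pointK) (o := 0) (by show _ < 24; norm_num) (by decide +kernel) hg⟩

theorem gM11b_fix {g : Equiv.Perm GolayPt} (hg : g ∈ Gr gM11b) : g • D0 = D0 ∧ g (pt 0) = pt 0 ∧ g (pt 5) = pt 5 :=
  ⟨Gr_le_stab (L := gM11b) (K := maskK) (o := 340831) (by show _ < 2 ^ 24; norm_num) (by decide +kernel) hg,
    Gr_le_stab (L := gM11b) (K := pointK) (o := 0) (by show _ < 24; norm_num) (by decide +kernel) hg,
    Gr_le_stab (L := gM11b) (K := pointK) (o := 5) (by show _ < 24; norm_num) (by decide +kernel) hg⟩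

theorem gM11c_fix {g : Equiv.Perm GolayPt} (hg : g ∈ Gr gM11c) : g • D0 = D0 ∧ g (pt 0) = pt 0 ∧ g (pt 5) = pt 5 ∧ g (pt 7) = pt 7 :=
  ⟨Gr_le_stab (L := gM11c) (K := maskK) (o := 340831) (by show _ < 2 ^ 24; norm_num) (by decide +kernel) hg,
    Gr_le_stab (L := gM11c) (K := pointK) (o := 0) (by show _ < 24; norm_num) (by decide +kernel) hg,
    Gr_le_stab (L := gM11c) (K := pointK) (o := 5) (by show _ < 24; norm_num) (by decide +kernel) hg,
    Gr_le_stab (L := gM11c) (K := pointK) (o := 7) (by show _ < 24; norm_num) (by decide +kernel) hg⟩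

theorem perm_apply_inv (g : Equiv.Perm GolayPt) (x : GolayPt) : g (g⁻¹ x) = x :=
  Equiv.apply_symm_apply g x

theorem gM11_reach : 16436384 &&& orbMask gM11a 5 = 16436384 ∧
    16436352 &&& orbMask gM11b 7 = 16436352 ∧ 16436224 &&& orbMask gM11c 10 = 16436224 := by decide +kernel

theorem mem_outside {y : GolayPt} (h : y ∉ D0) : y ∈ toSet 16436384 := by
  have := mem_compl_mask h
  rwa [show (16777215 ^^^ 340831 : ℕ) = 16436384 by decide +kernel] at this

/-- Three distinct points outside the standard dodecad, reached from the standard three. -/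
theorem exists_M11_std (z : Fin 3 ↪ GolayPt) (hz : ∀ i, z i ∉ D0) :
    ∃ g ∈ M24, g • D0 = D0 ∧ g (pt 0) = pt 0 ∧ g (pt 5) = z 0 ∧ g (pt 7) = z 1 ∧ g (pt 10) = z 2 := by
  obtain ⟨a, hag, ha5⟩ := reach_of_orbMask gM11a_ok (b := 5) (by norm_num) gM11_reach.1 _ (mem_outside (hz 0))
  obtain ⟨haD, ha0⟩ := gM11a_fix hag
  have hstep : ∀ {q : GolayPt}, q ∉ D0 → a⁻¹ q ∉ D0 := by
    intro q hq h
    exact hq (by rw [← haD]; exact inv_apply_mem.mp h)
  have h1 : a⁻¹ (z 1) ∈ toSet 16436352 := by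
    have h := mem_outside (hstep (hz 1))
    have hne : a⁻¹ (z 1) ≠ pt 5 := fun he => by
      have := congrArg a he
      rw [ha5, perm_apply_inv] at this
      exact absurd (z.injective this) (by decide)
    revert h hne; generalize a⁻¹ (z 1) = q; revert q; decide +kernel
  obtain ⟨b, hbg, hb7⟩ := reach_of_orbMask gM11b_ok (b := 7) (by norm_num) gM11_reach.2.1 _ h1
  obtain ⟨hbD, hb0, hb5⟩ := gM11b_fix hbg
  have h2 : b⁻¹ (a⁻¹ (z 2)) ∈ toSet 16436224 := by
    have h : b⁻¹ (a⁻¹ (z 2)) ∈ toSet 16436384 := mem_outside fun h => hstep (hz 2)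
      (by rw [← hbD]; exact inv_apply_mem.mp h)
    have hne5 : b⁻¹ (a⁻¹ (z 2)) ≠ pt 5 := fun he => by
      have := congrArg (fun q => a (b q)) he
      simp only [perm_apply_inv, hb5, ha5] at this
      exact absurd (z.injective this) (by decide)
    have hne7 : b⁻¹ (a⁻¹ (z 2)) ≠ pt 7 := fun he => by
      have := congrArg (fun q => a (b q)) he
      simp only [perm_apply_inv, hb7] at this
      exact absurd (z.injective this) (by decide)
    revert h hne5 hne7; generalize b⁻¹ (a⁻¹ (z 2)) = q; revert q; decide +kernel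
  obtain ⟨c, hcg, hc10⟩ := reach_of_orbMask gM11c_ok (b := 10) (by norm_num) gM11_reach.2.2 _ h2
  obtain ⟨hcD, hc0, hc5, hc7⟩ := gM11c_fix hcg
  refine ⟨a * b * c, mul_mem (mul_mem (Gr_le_M24 gM11a_ok hag) (Gr_le_M24 gM11b_ok hbg))
    (Gr_le_M24 gM11c_ok hcg), by rw [mul_smul, mul_smul, hcD, hbD, haD], ?_, ?_, ?_, ?_⟩
  · simp [Equiv.Perm.mul_apply, hc0, hb0, ha0]
  · simp [Equiv.Perm.mul_apply, hc5, hb5, ha5]
  · simp [Equiv.Perm.mul_apply, hc7, hb7]
  · simp [Equiv.Perm.mul_apply, hc10]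

theorem dodecad_M11_three {d : Finset GolayPt} (hd : d ∈ dodecads) {p : GolayPt} (hp : p ∈ d)
    (x y : Fin 3 ↪ GolayPt) (hx : ∀ i, x i ∉ d) (hy : ∀ i, y i ∉ d) :
    ∃ g ∈ M24, g • d = d ∧ g p = p ∧ ∀ i, g (x i) = y i := by
  obtain ⟨g, hg, rfl, rfl⟩ := cfgF hd hp
  have hpull : ∀ w : Fin 3 ↪ GolayPt, (∀ i, w i ∉ g • D0) →
      ∀ i, (w.trans g⁻¹.toEmbedding) i ∉ D0 := fun w hw i h => hw i (inv_apply_mem.mp h)
  obtain ⟨a, haM, haD, ha0, ha1, ha2, ha3⟩ := exists_M11_std _ (hpull x hx)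
  obtain ⟨b, hbM, hbD, hb0, hb1, hb2, hb3⟩ := exists_M11_std _ (hpull y hy)
  simp only [Function.Embedding.trans_apply, Equiv.coe_toEmbedding] at ha1 ha2 ha3 hb1 hb2 hb3
  refine ⟨g * (b * a⁻¹) * g⁻¹, mul_mem (mul_mem hg (mul_mem hbM (inv_mem haM))) (inv_mem hg), ?_, ?_, ?_⟩
  · rw [mul_smul, inv_smul_smul, mul_smul, mul_smul, inv_smul_eq_iff.mpr haD.symm, hbD]
  · have : a⁻¹ (pt 0) = pt 0 := by conv_lhs => rw [← ha0]; simp
    simp [Equiv.Perm.mul_apply, this, hb0]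
  · intro i
    fin_cases i
    · simp [Equiv.Perm.mul_apply, ← ha1, hb1]
    · simp [Equiv.Perm.mul_apply, ← ha2, hb2]
    · simp [Equiv.Perm.mul_apply, ← ha3, hb3]

theorem dodecad_blocks {d : Finset GolayPt} (hd : d ∈ dodecads) {F : Finset GolayPt} (hF : F.card = 5)
    (hFd : F ⊆ d) : ∃ o ∈ octads, F ⊆ o ∧ (o ∩ d).card = 6 := by
  obtain ⟨o, ⟨ho, hFo⟩, -⟩ := octads_steiner.2 F hF
  refine ⟨o, ho, hFo, ?_⟩
  obtain ⟨g, hg, rfl⟩ := exists_smul_D0 hd
  obtain ⟨x, hx, he⟩ := clsDO.values (g⁻¹ • o) ⟨(smul_mem_octads_iff (inv_mem hg)).mpr ho, trivial⟩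
  have h5 : 5 ≤ (D0 ∩ g⁻¹ • o).card := by
    have := Finset.card_le_card (Finset.subset_inter hFd hFo)
    rw [hF] at this
    calc 5 ≤ (g • D0 ∩ o).card := this
      _ = (g • (D0 ∩ g⁻¹ • o)).card := by rw [Finset.smul_finset_inter, smul_inv_smul]
      _ = _ := Finset.card_smul_finset _ _
  have heq : (o ∩ g • D0).card = (D0 ∩ g⁻¹ • o).card := by
    rw [Finset.inter_comm, ← Finset.card_smul_finset g (D0 ∩ g⁻¹ • o), Finset.smul_finset_inter, smul_inv_smul]
  rw [heq]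
  simp only [List.mem_cons, List.not_mem_nil, or_false] at hx
  rcases hx with rfl | rfl | rfl <;> simp only at he <;> omega

end CfsgGolay
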