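/-
Six-point sets: induced actions and stabiliser orders.
-/
import Cfsg.Agent.Lib.Golay.OctStab

set_option autoImplicit false

namespace CfsgGolay

open Cfsg
open scoped Pointwise

attribute [local irreducible] codeL octadL dodecadL slpCodes

/-- The pointwise stabiliser, in the code's group, of a finite set of points. -/
def fixM (F : Finset GolayPt) : Subgroup (Equiv.Perm GolayPt) :=
  M24 ⊓ fixingSubgroup (Equiv.Perm GolayPt) (F : Set GolayPt)

theorem mem_fixM {F : Finset GolayPt} {g : Equiv.Perm GolayPt} :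
    g ∈ fixM F ↔ g ∈ M24 ∧ ∀ p ∈ F, g p = p := by
  simp [fixM, mem_fixingSubgroup_iff]

theorem octad_of_five {F : Finset GolayPt} (hF : F.card = 5) {o o' : Finset GolayPt} (ho : o ∈ octads)
    (ho' : o' ∈ octads) (h : F ⊆ o) (h' : F ⊆ o') : o = o' :=
  octad_unique ho ho' hF.ge h h'

theorem fix_five_orbit0 {x y : GolayPt} (hx : x ∉ five0) (hy : y ∉ five0) (hiff : x ∈ O0 ↔ y ∈ O0) :
    ∃ k ∈ K48, k x = y := by
  have hmask : ∀ p : GolayPt, p ∉ five0 →
      (p ∈ O0 → p ∈ toSet 147488) ∧ (p ∉ O0 → p ∈ toSet (16777215 ^^^ 8536111)) := by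
    intro p hp
    refine ⟨fun h => ?_, mem_compl_mask⟩
    have key : ∀ i < 24, Nat.testBit 8536111 i = true → Nat.testBit 8388623 i = false →
        Nat.testBit 147488 i = true := by decide +kernel
    rw [mem_toSet]
    exact key _ (idx_lt p) (by simpa [O0] using h) (by simpa [five0] using hp)
  by_cases h : x ∈ O0
  · obtain ⟨a, ha, hax⟩ := exists_K48 (b := 5) (by norm_num) reach_K48.1 ((hmask x hx).1 h)
    obtain ⟨b, hb, hby⟩ := exists_K48 (b := 5) (by norm_num) reach_K48.1 ((hmask y hy).1 (hiff.mp h))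
    exact ⟨b * a⁻¹, mul_mem hb (inv_mem ha), by rw [Equiv.Perm.mul_apply, ← hax]; simp [hby]⟩
  · obtain ⟨a, ha, hax⟩ := exists_K48 (b := 4) (by norm_num) reach_K48.2 ((hmask x hx).2 h)
    obtain ⟨b, hb, hby⟩ := exists_K48 (b := 4) (by norm_num) reach_K48.2
      ((hmask y hy).2 (fun hc => h (hiff.mpr hc)))
    exact ⟨b * a⁻¹, mul_mem hb (inv_mem ha), by rw [Equiv.Perm.mul_apply, ← hax]; simp [hby]⟩

theorem fix_five_orbit {F o : Finset GolayPt} (hF : F.card = 5) (ho : o ∈ octads) (hFo : F ⊆ o)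
    {x y : GolayPt} (hx : x ∉ F) (hy : y ∉ F) (hiff : x ∈ o ↔ y ∈ o) : ∃ k ∈ fixM F, k x = y := by
  obtain ⟨u, hu⟩ := exists_emb_of_card (k := 5) (s := F) hF.ge
  obtain ⟨v, hv⟩ := exists_emb_of_card (k := 5) (s := five0) five0_sub.2.ge
  obtain ⟨g, hg, hgu⟩ := exists_M24_map le_rfl v u
  have himg : g • five0 = F := by
    symm
    refine Finset.eq_of_subset_of_card_le ?_ (by rw [Finset.card_smul_finset, five0_sub.2, hF])
    intro p hp
    have huniv : Finset.univ.map u = F := Finset.eq_of_subset_of_card_le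
      (fun q hq => by obtain ⟨i, -, rfl⟩ := Finset.mem_map.mp hq; exact hu i) (by simp [hF])
    rw [← huniv] at hp
    obtain ⟨i, -, rfl⟩ := Finset.mem_map.mp hp
    rw [← hgu i]
    exact pt_mem_smul.mpr (hv i)
  have hO : g • O0 = o := octad_of_five hF ((smul_mem_octads_iff hg).mpr O0_mem) ho
    (himg ▸ Finset.smul_finset_subset_smul_finset five0_sub.1) hFo
  have hmem : ∀ (s : Finset GolayPt) (p : GolayPt), g⁻¹ p ∈ s ↔ p ∈ g • s := by
    intro s p
    rw [← pt_mem_smul (g := g)]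
    simp
  obtain ⟨k, hk, hkx⟩ := fix_five_orbit0 (x := g⁻¹ x) (y := g⁻¹ y)
    (by rw [hmem, himg]; exact hx) (by rw [hmem, himg]; exact hy) (by rw [hmem, hmem, hO]; exact hiff)
  refine ⟨g * k * g⁻¹, mem_fixM.mpr ⟨mul_mem (mul_mem hg hk.1) (inv_mem hg), fun p hp => ?_⟩, ?_⟩
  · rw [← himg, ← hmem] at hp
    rw [Equiv.Perm.mul_apply, Equiv.Perm.mul_apply]
    have := (mem_fixingSubgroup_iff _).mp hk.2 _ (Finset.mem_coe.mpr hp)
    rw [Equiv.Perm.smul_def] at this
    rw [this]; simp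
  · rw [Equiv.Perm.mul_apply, Equiv.Perm.mul_apply, hkx]; simp

theorem exists_induce_six {E : Finset GolayPt} (hE : E.card = 6) (σ : Equiv.Perm ↥E) :
    ∃ g ∈ M24, ∀ p : ↥E, g p = σ p := by
  obtain ⟨e, he⟩ := Finset.card_pos.mp (by omega : 0 < E.card)
  set F := E.erase e with hFdef
  have hF : F.card = 5 := by rw [hFdef, Finset.card_erase_of_mem he, hE]
  obtain ⟨u, hu⟩ := exists_emb_of_card (k := 5) (s := F) hF.ge
  have huE : ∀ i, u i ∈ E := fun i => Finset.mem_of_mem_erase (hu i)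
  let v : Fin 5 ↪ GolayPt := ⟨fun i => (σ ⟨u i, huE i⟩ : GolayPt), fun i j h => by
    exact u.injective (congrArg Subtype.val (σ.injective (Subtype.ext h)))⟩
  obtain ⟨g, hg, hgv⟩ := exists_M24_map le_rfl u v
  have huniv : Finset.univ.map u = F := Finset.eq_of_subset_of_card_le
    (fun q hq => by obtain ⟨i, -, rfl⟩ := Finset.mem_map.mp hq; exact hu i) (by simp [hF])
  have hgp : ∀ p : ↥E, (p : GolayPt) ≠ e → g p = σ p := by
    intro p hp
    have : (p : GolayPt) ∈ Finset.univ.map u := huniv.symm ▸ Finset.mem_erase.mpr ⟨hp, p.2⟩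
    obtain ⟨i, -, hi⟩ := Finset.mem_map.mp this
    rw [← hi, hgv i]
    exact congrArg (fun q : ↥E => (σ q : GolayPt)) (Subtype.ext hi)
  set F' := g • F with hF'def
  have hF' : F'.card = 5 := by rw [hF'def, Finset.card_smul_finset, hF]
  have hF'E : F' ⊆ E := by
    intro q hq
    obtain ⟨p, hp, rfl⟩ := Finset.mem_smul_finset.mp hq
    rw [Equiv.Perm.smul_def, hgp ⟨p, Finset.mem_of_mem_erase hp⟩ (Finset.ne_of_mem_erase hp)]
    exact (σ _).2
  have hse : (σ ⟨e, he⟩ : GolayPt) ∉ F' := by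
    intro h
    obtain ⟨p, hp, hpe⟩ := Finset.mem_smul_finset.mp h
    rw [Equiv.Perm.smul_def, hgp ⟨p, Finset.mem_of_mem_erase hp⟩ (Finset.ne_of_mem_erase hp)] at hpe
    exact Finset.ne_of_mem_erase hp (congrArg Subtype.val (σ.injective (Subtype.ext hpe)))
  have hge : g e ∉ F' := by
    rw [hF'def, pt_mem_smul]; simp [hFdef]
  obtain ⟨o, ho, hFo, -⟩ : ∃ o, o ∈ octads ∧ F' ⊆ o ∧ True := by
    obtain ⟨o, ho, -⟩ := octads_steiner.2 F' hF'
    exact ⟨o, ho.1, ho.2, trivial⟩
  have hiff : g e ∈ o ↔ (σ ⟨e, he⟩ : GolayPt) ∈ o := by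
    constructor
    · intro h
      have hsub : E ⊆ g⁻¹ • o := by
        intro p hp
        rw [← pt_mem_smul (g := g), smul_inv_smul]
        by_cases hpe : p = e
        · subst hpe; exact h
        · exact hFo (Finset.smul_mem_smul_finset (Finset.mem_erase.mpr ⟨hpe, hp⟩))
      have := octad_of_five hF' ((smul_mem_octads_iff (inv_mem hg)).mpr ho) ho (hF'E.trans hsub) hFo
      exact this ▸ hsub (σ _).2
    · intro h
      have hins : insert (σ ⟨e, he⟩ : GolayPt) F' = E := Finset.eq_of_subset_of_card_le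
        (Finset.insert_subset (σ _).2 hF'E) (by rw [Finset.card_insert_of_notMem hse, hF', hE])
      have hEo : E ⊆ o := hins ▸ Finset.insert_subset h hFo
      have := octad_of_five hF' ((smul_mem_octads_iff hg).mpr ho) ho
        (Finset.smul_finset_subset_smul_finset ((Finset.erase_subset _ _).trans hEo)) hFo
      exact this ▸ pt_mem_smul.mpr (hEo he)
  obtain ⟨k, hk, hke⟩ := fix_five_orbit hF' ho hFo hge hse hiff
  rw [mem_fixM] at hk
  refine ⟨k * g, mul_mem hk.1 hg, fun p => ?_⟩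
  rw [Equiv.Perm.mul_apply]
  by_cases hp : (p : GolayPt) = e
  · rw [show p = ⟨e, he⟩ from Subtype.ext hp]; exact hke
  · rw [hk.2 (g p) (Finset.smul_mem_smul_finset (Finset.mem_erase.mpr ⟨hp, p.2⟩)), hgp p hp]

theorem card_fixM_six {E : Finset GolayPt} (hE : E.card = 6) :
    ((∃ o ∈ octads, E ⊆ o) → Nat.card ↥(fixM E) = 16) ∧
    ((¬ ∃ o ∈ octads, E ⊆ o) → Nat.card ↥(fixM E) = 3) := by
  obtain ⟨e, he⟩ := Finset.card_pos.mp (by omega : 0 < E.card)
  set F := E.erase e with hFdef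
  have hF : F.card = 5 := by rw [hFdef, Finset.card_erase_of_mem he, hE]
  obtain ⟨o, ⟨ho, hFo⟩, -⟩ := octads_steiner.2 F hF
  have heF : e ∉ F := by simp [hFdef]
  have hins : insert e F = E := Finset.insert_erase he
  have hEq : fixM F ⊓ MulAction.stabilizer (Equiv.Perm GolayPt) e = fixM E := by
    ext g
    simp only [Subgroup.mem_inf, mem_fixM, MulAction.mem_stabilizer_iff, Equiv.Perm.smul_def, ← hins,
      Finset.mem_insert, forall_eq_or_imp]
    tauto
  have horb : MulAction.orbit (fixM F) e =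
      ({y | y ∉ F ∧ (e ∈ o ↔ y ∈ o)} : Set GolayPt) := by
    ext y
    constructor
    · rintro ⟨⟨k, hk⟩, rfl⟩
      obtain ⟨hkM, hkF⟩ := mem_fixM.mp hk
      have hko : k • o = o := octad_of_five hF ((smul_mem_octads_iff hkM).mpr ho) ho
        (fun p hp => by rw [← hkF p hp]; exact pt_mem_smul.mpr (hFo hp)) hFo
      refine ⟨fun h => ?_, ?_⟩
      · exact heF (k.injective ((hkF _ h).trans rfl) ▸ h)
      · show e ∈ o ↔ k e ∈ o
        conv_rhs => rw [← hko, pt_mem_smul]
    · rintro ⟨hy, hiff⟩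
      obtain ⟨k, hk, hke⟩ := fix_five_orbit hF ho hFo heF hy hiff
      exact ⟨⟨k, hk⟩, hke⟩
  have hmul := card_inf_stab (H := fixM F) e
  rw [hEq, horb, show Nat.card ↥(fixM F) = 48 from by rw [fixM, card_fix_finset hF.le, hF]; rfl] at hmul
  have hcount : ∀ (S : Finset GolayPt), (∀ y, y ∈ S ↔ y ∉ F ∧ (e ∈ o ↔ y ∈ o)) →
      ({y | y ∉ F ∧ (e ∈ o ↔ y ∈ o)} : Set GolayPt).ncard = S.card := by
    intro S hS
    rw [← Set.ncard_coe_finset]
    congr 1
    ext y
    simp [hS]
  by_cases heo : e ∈ o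
  · rw [hcount (o \ F) (fun y => by simp [heo, and_comm]), Finset.card_sdiff_of_subset hFo,
      card_of_mem_octads ho, hF] at hmul
    refine ⟨fun _ => by omega, fun h => absurd ⟨o, ho, hins ▸ Finset.insert_subset heo hFo⟩ h⟩
  · rw [hcount oᶜ (fun y => by
      simp only [Finset.mem_compl, heo, false_iff]
      exact ⟨fun h => ⟨fun hy => h (hFo hy), h⟩, And.right⟩),
      Finset.card_compl, card_of_mem_octads ho] at hmul
    simp only [Fintype.card_option, ZMod.card] at hmul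
    refine ⟨fun ⟨o', ho', hEo'⟩ => ?_, fun _ => by omega⟩
    exact absurd (octad_of_five hF ho' ho ((Finset.erase_subset _ _).trans hEo') hFo ▸ hEo' he) heo

theorem card_setwise_six {E : Finset GolayPt} (hE : E.card = 6) :
    Nat.card ↥(MulAction.stabilizer M24 E) = 720 * Nat.card ↥(fixM E) := by
  classical
  let f : ↥(MulAction.stabilizer M24 E) →* Equiv.Perm ↥E :=
    { toFun := fun g => ((g : M24) : Equiv.Perm GolayPt).subtypePerm fun x => by
        have h := pt_mem_smul (g := ((g : M24) : Equiv.Perm GolayPt)) (p := x) (s := E)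
        have h2 : ((g : M24) : Equiv.Perm GolayPt) • E = E := g.2
        rwa [h2] at h
      map_one' := by ext x; rfl
      map_mul' := fun a b => by ext x; rfl }
  have hsurj : Function.Surjective f := by
    intro σ
    obtain ⟨g, hg, hgs⟩ := exists_induce_six hE σ
    refine ⟨⟨⟨g, hg⟩, ?_⟩, Equiv.ext fun p => Subtype.ext (hgs p)⟩
    refine Finset.eq_of_subset_of_card_le (fun q hq => ?_) (by rw [Finset.card_smul_finset])
    obtain ⟨p, hp, rfl⟩ := Finset.mem_smul_finset.mp hq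
    show g p ∈ E
    rw [hgs ⟨p, hp⟩]
    exact (σ _).2
  have hker : Nat.card ↥f.ker = Nat.card ↥(fixM E) := by
    refine Nat.card_congr
      { toFun := fun g => ⟨((g.1 : M24) : Equiv.Perm GolayPt), mem_fixM.mpr ⟨(g.1 : M24).2, fun p hp => ?_⟩⟩
        invFun := fun g => ⟨⟨⟨g.1, (mem_fixM.mp g.2).1⟩, ?_⟩, ?_⟩
        left_inv := fun g => rfl
        right_inv := fun g => rfl }
    · exact congrArg (fun e : Equiv.Perm ↥E => ((e ⟨p, hp⟩ : ↥E) : GolayPt)) g.2
    · show (g.1 : Equiv.Perm GolayPt) • E = E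
      rw [smul_finset_eq_image]
      conv_rhs => rw [← Finset.image_id (s := E)]
      exact Finset.image_congr fun p hp => (mem_fixM.mp g.2).2 p hp
    · exact Equiv.ext fun p => Subtype.ext ((mem_fixM.mp g.2).2 p p.2)
  rw [← hker, Subgroup.card_eq_card_quotient_mul_card_subgroup f.ker,
    Nat.card_congr (QuotientGroup.quotientKerEquivOfSurjective f hsurj).toEquiv, Nat.card_perm,
    Nat.card_eq_fintype_card, Fintype.card_coe, hE]
  rfl

end CfsgGolay
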