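/-
Triples of points on a dodecad, the two classes of point stabilisers, and the pair stabiliser over M22.
-/
import Cfsg.Agent.Lib.Golay.DodM11
import Cfsg.Agent.Lib.Golay.Six
import Cfsg.Agent.Lib.Golay.ClassT
import Cfsg.Agent.Lib.Golay.Mathieu

set_option autoImplicit false

namespace CfsgGolay

open Cfsg
open scoped Pointwise

attribute [local irreducible] codeL octadL dodecadL slpCodes

theorem smul_compl_pts (g : Equiv.Perm GolayPt) (s : Finset GolayPt) : g • sᶜ = (g • s)ᶜ := by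
  ext q
  obtain ⟨p, rfl⟩ := g.surjective q
  rw [pt_mem_smul, Finset.mem_compl, Finset.mem_compl, pt_mem_smul]

theorem dod_k_transitive {d : Finset GolayPt} (hd : d ∈ dodecads) {k : ℕ} (hk : k ≤ 5) (x y : Fin k ↪ GolayPt)
    (hx : ∀ i, x i ∈ d) (hy : ∀ i, y i ∈ d) : ∃ g ∈ M24, g • d = d ∧ ∀ i, g (x i) = y i := by
  classical
  have hext : ∀ z : Fin k ↪ GolayPt, (∀ i, z i ∈ d) → ∃ w : Fin 5 ↪ GolayPt,
      (∀ i, w i ∈ d) ∧ ∀ i : Fin k, w (Fin.castLE hk i) = z i := by
    intro z hz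
    obtain ⟨t, hts, htd, htc⟩ := Finset.exists_subsuperset_card_eq (s := Finset.univ.map z) (t := d) (n := 5)
      (fun p hp => by obtain ⟨i, -, rfl⟩ := Finset.mem_map.mp hp; exact hz i) (by simpa using hk)
      (by rw [hd.2]; norm_num)
    obtain ⟨u, hu⟩ := exists_emb_of_card (k := 5 - k) (s := t \ Finset.univ.map z)
      (by rw [Finset.card_sdiff_of_subset hts, htc]; simp)
    let w : Fin 5 → GolayPt := fun i => if h : (i : ℕ) < k then z ⟨i, h⟩ else u ⟨i - k, by omega⟩
    have hw : Function.Injective w := by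
      intro i j hij
      simp only [w] at hij
      split_ifs at hij with h1 h2 h2
      · exact Fin.ext (by simpa using congrArg Fin.val (z.injective hij))
      · exact absurd (Finset.mem_map_of_mem z (Finset.mem_univ _)) (hij ▸ (Finset.mem_sdiff.mp (hu _)).2)
      · exact absurd (Finset.mem_map_of_mem z (Finset.mem_univ _)) (hij.symm ▸ (Finset.mem_sdiff.mp (hu _)).2)
      · have := congrArg Fin.val (u.injective hij)
        simp only at this
        exact Fin.ext (by omega)
    refine ⟨⟨w, hw⟩, fun i => ?_, fun i => ?_⟩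
    · show w i ∈ d
      simp only [w]
      split_ifs with h1
      · exact hz _
      · exact htd (Finset.mem_sdiff.mp (hu _)).1
    · show w _ = _
      simp [w]
  obtain ⟨a, ha, ha'⟩ := hext x hx
  obtain ⟨b, hb, hb'⟩ := hext y hy
  obtain ⟨⟨g, hgd⟩, hg, -⟩ := dod_sharply_five hd a b ha hb
  refine ⟨g, g.2, hgd, fun i => ?_⟩
  rw [← ha' i, ← hb' i]
  exact hg _

/-- The joint stabiliser of a dodecad and three of its points. -/
def dodTriple (d : Finset GolayPt) (p q r : GolayPt) : Subgroup (Equiv.Perm GolayPt) :=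
  stabM d ⊓ MulAction.stabilizer (Equiv.Perm GolayPt) p ⊓ MulAction.stabilizer (Equiv.Perm GolayPt) q ⊓
    MulAction.stabilizer (Equiv.Perm GolayPt) r

theorem mem_dodTriple {d : Finset GolayPt} {p q r : GolayPt} {g : Equiv.Perm GolayPt} :
    g ∈ dodTriple d p q r ↔ (g ∈ M24 ∧ g • d = d) ∧ g p = p ∧ g q = q ∧ g r = r := by
  simp [dodTriple, mem_stabM, and_assoc]

theorem card_dodTriple {d : Finset GolayPt} (hd : d ∈ dodecads) {p q r : GolayPt} (hp : p ∈ d) (hq : q ∈ d)
    (hr : r ∈ d) (hpq : p ≠ q) (hpr : p ≠ r) (hqr : q ≠ r) : Nat.card ↥(dodTriple d p q r) = 72 := by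
  classical
  have step : ∀ (H : Subgroup (Equiv.Perm GolayPt)) (s : GolayPt) (S : Finset GolayPt),
      (∀ g ∈ H, g s ∈ S) → (∀ y ∈ S, ∃ g ∈ H, g s = y) →
      Nat.card ↥(H ⊓ MulAction.stabilizer (Equiv.Perm GolayPt) s) * S.card = Nat.card ↥H := by
    intro H s S h1 h2
    have horb : MulAction.orbit H s = (S : Set GolayPt) := by
      ext y
      constructor
      · rintro ⟨⟨g, hg⟩, rfl⟩; exact h1 g hg
      · intro hy; obtain ⟨g, hg, he⟩ := h2 y hy; exact ⟨⟨g, hg⟩, he⟩
    have := card_inf_stab (H := H) s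
    rwa [horb, Set.ncard_coe_finset] at this
  have hdc : d.card = 12 := hd.2
  have hin : ∀ {g : Equiv.Perm GolayPt} {t : GolayPt}, g • d = d → t ∈ d → g t ∈ d := by
    intro g t hg ht; rw [← hg]; exact pt_mem_smul.mpr ht
  have c0 : Nat.card ↥(stabM d) = 95040 := by
    obtain ⟨g, hg, rfl⟩ := exists_smul_D0 hd
    rw [(isConjOf_stabM hg D0).card_eq, stabD.2]
  have c1 := step (stabM d) p d (fun g hg => hin hg.2 hp) (fun y hy => by
    obtain ⟨g, hg, hgd, he⟩ := dod_k_transitive hd (by norm_num : 1 ≤ 5)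
      (⟨fun _ => p, fun i j _ => Subsingleton.elim i j⟩ : Fin 1 ↪ GolayPt)
      (⟨fun _ => y, fun i j _ => Subsingleton.elim i j⟩ : Fin 1 ↪ GolayPt) (fun _ => hp) (fun _ => hy)
    exact ⟨g, ⟨hg, hgd⟩, he 0⟩)
  have c2 := step (stabM d ⊓ MulAction.stabilizer (Equiv.Perm GolayPt) p) q (d.erase p)
    (fun g hg => Finset.mem_erase.mpr ⟨fun h => hpq (g.injective (h.trans hg.2.symm)).symm, hin hg.1.2 hq⟩)
    (fun y hy => by
      obtain ⟨hyp, hy⟩ := Finset.mem_erase.mp hy
      obtain ⟨g, hg, hgd, he⟩ := dod_k_transitive hd (by norm_num : 2 ≤ 5)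
        (⟨![p, q], by intro i j; fin_cases i <;> fin_cases j <;> simp [hpq, hpq.symm]⟩ : Fin 2 ↪ GolayPt)
        (⟨![p, y], by intro i j; fin_cases i <;> fin_cases j <;> simp [hyp, hyp.symm]⟩ : Fin 2 ↪ GolayPt)
        (fun i => by fin_cases i <;> assumption) (fun i => by fin_cases i <;> assumption)
      exact ⟨g, ⟨⟨hg, hgd⟩, he 0⟩, he 1⟩)
  have c3 := step (stabM d ⊓ MulAction.stabilizer (Equiv.Perm GolayPt) p ⊓
      MulAction.stabilizer (Equiv.Perm GolayPt) q) r ((d.erase p).erase q)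
    (fun g hg => Finset.mem_erase.mpr ⟨fun h => hqr (g.injective (h.trans hg.2.symm)).symm,
      Finset.mem_erase.mpr ⟨fun h => hpr (g.injective (h.trans hg.1.2.symm)).symm, hin hg.1.1.2 hr⟩⟩)
    (fun y hy => by
      obtain ⟨hyq, hy⟩ := Finset.mem_erase.mp hy
      obtain ⟨hyp, hy⟩ := Finset.mem_erase.mp hy
      obtain ⟨g, hg, hgd, he⟩ := dod_k_transitive hd (by norm_num : 3 ≤ 5)
        (⟨![p, q, r], by intro i j; fin_cases i <;> fin_cases j <;> simp [hpq, hpq.symm, hpr, hpr.symm, hqr, hqr.symm]⟩ :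
          Fin 3 ↪ GolayPt)
        (⟨![p, q, y], by intro i j; fin_cases i <;> fin_cases j <;> simp [hpq, hpq.symm, hyp, hyp.symm, hyq, hyq.symm]⟩ :
          Fin 3 ↪ GolayPt)
        (fun i => by fin_cases i <;> assumption) (fun i => by fin_cases i <;> assumption)
      exact ⟨g, ⟨⟨⟨hg, hgd⟩, he 0⟩, he 1⟩, he 2⟩)
  rw [Finset.card_erase_of_mem hp, hdc] at c2
  rw [Finset.card_erase_of_mem (Finset.mem_erase.mpr ⟨hpq.symm, hq⟩), Finset.card_erase_of_mem hp, hdc] at c3
  rw [hdc, c0] at c1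
  unfold dodTriple
  omega

theorem dodTriple_transitive {d : Finset GolayPt} (hd : d ∈ dodecads) {p q r : GolayPt} (hp : p ∈ d) (hq : q ∈ d)
    (hr : r ∈ d) (hpq : p ≠ q) (hpr : p ≠ r) (hqr : q ≠ r) {x y : GolayPt} (hx : x ∉ d) (hy : y ∉ d) :
    ∃ g ∈ dodTriple d p q r, g x = y := by
  obtain ⟨d', hd', hd'eq⟩ : ∃ d', d' ∈ dodecads ∧ d' = dᶜ := by
    obtain ⟨g, hg, rfl⟩ := exists_smul_D0 hd
    refine ⟨_, smul_mem_dodecads hg (toSet_mem_dodecads' (m := 16436384) (by norm_num) (by decide +kernel)), ?_⟩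
    have h0 : toSet 16436384 = D0ᶜ := by decide +kernel
    rw [h0, smul_compl_pts]
  have hcompl : ∀ {g : Equiv.Perm GolayPt}, g • d' = d' → g • d = d := by
    intro g hg
    rw [hd'eq, smul_compl_pts, compl_inj_iff] at hg
    exact hg
  have hmemc : ∀ {t : GolayPt}, t ∈ d → t ∉ d' := fun ht h => by
    rw [hd'eq, Finset.mem_compl] at h; exact h ht
  have hin : ∀ {g : Equiv.Perm GolayPt} {t : GolayPt}, g • d = d → t ∈ d → g t ∈ d := by
    intro g t hg ht; rw [← hg]; exact pt_mem_smul.mpr ht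
  obtain ⟨k, hk, hkd, hke⟩ := dod_k_transitive hd' (by norm_num : 1 ≤ 5)
    (⟨fun _ => x, fun i j _ => Subsingleton.elim i j⟩ : Fin 1 ↪ GolayPt)
    (⟨fun _ => y, fun i j _ => Subsingleton.elim i j⟩ : Fin 1 ↪ GolayPt)
    (fun _ => hd'eq ▸ Finset.mem_compl.mpr hx) (fun _ => hd'eq ▸ Finset.mem_compl.mpr hy)
  obtain ⟨l, hl, hld, hly, hle⟩ := dodecad_M11_three hd' (p := y) (hd'eq ▸ Finset.mem_compl.mpr hy)
    (⟨![k p, k q, k r], by intro i j; fin_cases i <;> fin_cases j <;> simp [hpq, hpq.symm, hpr, hpr.symm, hqr, hqr.symm]⟩ :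
      Fin 3 ↪ GolayPt)
    (⟨![p, q, r], by intro i j; fin_cases i <;> fin_cases j <;> simp [hpq, hpq.symm, hpr, hpr.symm, hqr, hqr.symm]⟩ :
      Fin 3 ↪ GolayPt)
    (fun i => by fin_cases i <;> exact hmemc (hin (hcompl hkd) (by assumption)))
    (fun i => by fin_cases i <;> exact hmemc (by assumption))
  refine ⟨l * k, mem_dodTriple.mpr ⟨⟨mul_mem hl hk, by rw [mul_smul, hcompl hkd, hcompl hld]⟩, hle 0, hle 1, hle 2⟩, ?_⟩
  rw [Equiv.Perm.mul_apply, show k x = y from hke 0, hly]

theorem M11_not_conj : ¬ ∃ k ∈ Spor.M12, MulAut.conj k • Spor.M11 =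
    Spor.M12 ⊓ MulAction.stabilizer (Equiv.Perm GolayPt) (none : GolayPt) := by
  rintro ⟨k, hk, he⟩
  have hD : Spor.squareDodecad = D0 := by rw [Spor.squareDodecad, squares_eq]; rfl
  have hk2 : k • D0 = D0 := hD ▸ hk.2
  have h0 : (some 0 : GolayPt) ∈ D0 := by rw [D0]; decide
  have hnone : (none : GolayPt) ∉ D0 := by rw [D0]; decide
  have hkn : k (some 0) ∈ D0 := by rw [← hk2]; exact pt_mem_smul.mpr h0
  -- every element fixing the dodecad and `none` would fix `k 0`
  have hfix : ∀ g ∈ M24, g • D0 = D0 → g none = none → g (k (some 0)) = k (some 0) := by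
    intro g hg hgd hgn
    have hm : g ∈ MulAut.conj k • Spor.M11 := he ▸ ⟨⟨hg, show g • Spor.squareDodecad = Spor.squareDodecad by rw [hD]; exact hgd⟩, hgn⟩
    rw [Subgroup.mem_pointwise_smul_iff_inv_smul_mem] at hm
    have := hm.2
    simp only [SetLike.mem_coe, MulAction.mem_stabilizer_iff, Equiv.Perm.smul_def, MulAut.smul_def,
      MulAut.conj_inv_apply, Equiv.Perm.mul_apply] at this
    have := congrArg k this
    simpa using this
  -- but they move it
  obtain ⟨q, hq, hne⟩ : ∃ q ∈ D0, q ≠ k (some 0) :=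
    Finset.exists_mem_ne (by rw [D0, card_toSet]; decide +kernel) _
  obtain ⟨d', hd', hd'eq⟩ : ∃ d', d' ∈ dodecads ∧ d' = D0ᶜ :=
    ⟨toSet 16436384, toSet_mem_dodecads' (by norm_num) (by decide +kernel), by decide +kernel⟩
  have hout : ∀ {t : GolayPt}, t ∈ D0 → t ∉ d' := fun ht h => by
    rw [hd'eq, Finset.mem_compl] at h; exact h ht
  obtain ⟨a, ha⟩ : ∃ a : Fin 3 ↪ GolayPt, a 0 = k (some 0) ∧ ∀ i, a i ∈ D0 := by
    obtain ⟨u, hu⟩ := exists_emb_of_card (k := 3) (s := D0) (by rw [D0, card_toSet]; decide +kernel)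
    exact ⟨u.trans (Equiv.swap (u 0) (k (some 0))).toEmbedding, by simp, fun i => by
      simp only [Function.Embedding.trans_apply, Equiv.coe_toEmbedding, Equiv.swap_apply_def]
      split_ifs <;> first | exact hkn | exact hu _⟩
  let b : Fin 3 ↪ GolayPt := a.trans (Equiv.swap (k (some 0)) q).toEmbedding
  have hb : ∀ i, b i ∈ D0 := fun i => by
    simp only [b, Function.Embedding.trans_apply, Equiv.coe_toEmbedding, Equiv.swap_apply_def]
    split_ifs <;> first | exact hkn | exact hq | exact ha.2 _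
  obtain ⟨g, hg, hgd, hgn, hga⟩ := dodecad_M11_three hd' (p := none)
    (hd'eq ▸ Finset.mem_compl.mpr hnone) a b (fun i => hout (ha.2 i)) (fun i => hout (hb i))
  rw [hd'eq, smul_compl_pts, compl_inj_iff] at hgd
  have h1 := hga 0
  rw [ha.1, show b 0 = q by simp [b, ha.1], hfix g hg hgd hgn] at h1
  exact hne h1.symm

theorem M11_swap : ∃ g ∈ M24, g • Spor.squareDodecad = Finset.univ \ Spor.squareDodecad ∧
    MulAut.conj g • Spor.M11 = Spor.M12 ⊓ MulAction.stabilizer (Equiv.Perm GolayPt) (none : GolayPt) := by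
  have hD : Spor.squareDodecad = D0 := by rw [Spor.squareDodecad, squares_eq]; rfl
  obtain ⟨g, hg, hgD, hg0⟩ := cfgF (toSet_mem_dodecads' (m := 16436384) (by norm_num) (by decide +kernel))
    (x := pt 23) (by rw [pt_mem_toSet (by norm_num)]; decide)
  have hcompl : toSet 16436384 = Finset.univ \ D0 := by decide +kernel
  rw [hcompl] at hgD
  refine ⟨g, hg, by rw [hD]; exact hgD, ?_⟩
  have hp0 : pt 0 = (some 0 : GolayPt) := rfl
  have hp23 : pt 23 = (none : GolayPt) := rfl
  rw [hp0, hp23] at hg0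
  have hc : IsConjOf g (Spor.M11) (Spor.M12 ⊓ MulAction.stabilizer (Equiv.Perm GolayPt) (none : GolayPt)) := by
    have h := ((isConjOf_stabM hg D0).inf (isConjOf_stab (some 0 : GolayPt)))
    rw [hgD, Equiv.Perm.smul_def, hg0] at h
    have h1 : stabM (Finset.univ \ D0) = stabM D0 := by
      ext k
      simp only [mem_stabM, ← Finset.compl_eq_univ_sdiff, smul_compl_pts, compl_inj_iff]
    rw [h1] at h
    intro k
    rw [Spor.M11, Spor.M12, hD]
    exact h k
  rw [← hc.map_eq]
  rfl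

theorem M22_normal_pair {g : Equiv.Perm GolayPt} (hg : g ∈ M24) (h₁ : g none = some 0) (h₂ : g (some 0) = none) :
    ∀ x ∈ Spor.M22, g * x * g⁻¹ ∈ Spor.M22 := by
  intro x hx
  have hn : x none = none := hx.1.2
  have h0 : x (some 0) = some 0 := hx.2
  have e1 : g⁻¹ none = some 0 := by conv_lhs => rw [← h₂]; simp
  have e2 : g⁻¹ (some 0) = none := by conv_lhs => rw [← h₁]; simp
  refine ⟨⟨M24.mul_mem (M24.mul_mem hg hx.1.1) (M24.inv_mem hg), ?_⟩, ?_⟩
  · show g (x (g⁻¹ none)) = none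
    rw [e1, h0, h₂]
  · show g (x (g⁻¹ (some 0))) = some 0
    rw [e2, hn, h₁]

theorem M22_outer {g : Equiv.Perm GolayPt} (hg : g ∈ M24) (h₁ : g none = some 0) (_h₂ : g (some 0) = none) :
    ¬ ∃ h ∈ Spor.M22, ∀ x ∈ Spor.M22, g * x * g⁻¹ = h * x * h⁻¹ := by
  rintro ⟨h, hh, hx⟩
  set c := h⁻¹ * g with hc
  have hcomm : ∀ x ∈ Spor.M22, c * x = x * c := by
    intro x hxm
    have := hx x hxm
    calc c * x = h⁻¹ * (g * x * g⁻¹) * g := by rw [hc]; group
      _ = h⁻¹ * (h * x * h⁻¹) * g := by rw [this]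
      _ = x * c := by rw [hc]; group
  have hcM : c ∈ M24 := mul_mem (inv_mem hh.1.1) hg
  have hcn : c none = some 0 := by
    rw [hc, Equiv.Perm.mul_apply, h₁]
    have : h (some 0) = some 0 := hh.2
    conv_lhs => rw [← this]
    simp
  -- `c` fixes every other point
  have hfix : ∀ p : GolayPt, p ≠ none → p ≠ some 0 → c p = p ∨ c p = none ∨ c p = some 0 := by
    intro p hp hp0
    by_contra hcon
    push Not at hcon
    obtain ⟨hc1, hc2, hc3⟩ := hcon
    obtain ⟨q, hq1, hq2, hq3, hq4⟩ : ∃ q : GolayPt, q ≠ none ∧ q ≠ some 0 ∧ q ≠ p ∧ q ≠ c p := by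
      obtain ⟨q, hq⟩ := Finset.exists_mem_notMem_of_card_lt_card
        (show ({none, some 0, p, c p} : Finset GolayPt).card < (Finset.univ : Finset GolayPt).card by
          refine lt_of_le_of_lt Finset.card_le_four ?_
          simp [Fintype.card_option, ZMod.card])
      exact ⟨q, by simpa using hq.2⟩
    obtain ⟨x, hxM, hxe⟩ := exists_M24_map (by norm_num : 4 ≤ 5)
      (⟨![none, some 0, p, c p], by
        intro i j; fin_cases i <;> fin_cases j <;>
          simp [hp, hp.symm, hp0, hp0.symm, hc1, Ne.symm hc1, hc2, hc2.symm, hc3, hc3.symm]⟩ : Fin 4 ↪ GolayPt)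
      (⟨![none, some 0, p, q], by
        intro i j; fin_cases i <;> fin_cases j <;>
          simp [hp, hp.symm, hp0, hp0.symm, hq1, hq1.symm, hq2, hq2.symm, hq3, hq3.symm]⟩ : Fin 4 ↪ GolayPt)
    have hx22 : x ∈ Spor.M22 := ⟨⟨hxM, hxe 0⟩, hxe 1⟩
    have h3 := congrArg (fun e : Equiv.Perm GolayPt => e p) (hcomm x hx22)
    simp only [Equiv.Perm.mul_apply] at h3
    rw [show x p = p from hxe 2, show x (c p) = q from hxe 3] at h3
    exact hq4 h3.symm
  have hc0 : c (some 0) = none := by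
    by_contra hne
    have hne2 : c (some 0) ≠ some 0 := fun h' => by
      have := c.injective (hcn.trans h'.symm); exact absurd this (by simp)
    obtain ⟨p, hp1, hp2, hp3⟩ : ∃ p : GolayPt, p ≠ none ∧ p ≠ some 0 ∧ p ≠ c (some 0) := by
      obtain ⟨p, hp⟩ := Finset.exists_mem_notMem_of_card_lt_card
        (show ({none, some 0, c (some 0)} : Finset GolayPt).card < (Finset.univ : Finset GolayPt).card by
          refine lt_of_le_of_lt Finset.card_le_three ?_
          simp [Fintype.card_option, ZMod.card])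
      exact ⟨p, by simpa using hp.2⟩
    obtain ⟨x, hxM, hxe⟩ := exists_M24_map (by norm_num : 3 ≤ 5)
      (⟨![none, some 0, c (some 0)], by
        intro i j; fin_cases i <;> fin_cases j <;> simp [hne, Ne.symm hne, hne2, Ne.symm hne2]⟩ : Fin 3 ↪ GolayPt)
      (⟨![none, some 0, p], by
        intro i j; fin_cases i <;> fin_cases j <;> simp [hp1, hp1.symm, hp2, hp2.symm]⟩ : Fin 3 ↪ GolayPt)
    have hx22 : x ∈ Spor.M22 := ⟨⟨hxM, hxe 0⟩, hxe 1⟩
    have h3 := congrArg (fun e : Equiv.Perm GolayPt => e (some 0)) (hcomm x hx22)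
    simp only [Equiv.Perm.mul_apply] at h3
    rw [show x (some 0) = some 0 from hxe 1, show x (c (some 0)) = p from hxe 2] at h3
    exact hp3 h3.symm
  have hfix' : ∀ p : GolayPt, p ≠ none → p ≠ some 0 → c p = p := by
    intro p hp hp0
    rcases hfix p hp hp0 with h' | h' | h'
    · exact h'
    · exact absurd (c.injective (h'.trans hc0.symm)) hp0
    · exact absurd (c.injective (h'.trans hcn.symm)) hp
  -- a transposition fixing six points outside an octad is trivial
  have hcfix : c ∈ fixM ((toSet 126 : Finset GolayPt)) := mem_fixM.mpr ⟨hcM, fun p hp => hfix' p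
    (fun h' => by subst h'; exact absurd hp (by decide +kernel))
    (fun h' => by subst h'; exact absurd hp (by decide +kernel))⟩
  have h6 : (toSet 126 : Finset GolayPt).card = 6 := by rw [card_toSet]; decide +kernel
  have hno : ¬ ∃ o ∈ octads, toSet 126 ⊆ o := by
    rw [← inOctB_iff (by norm_num)]; decide +kernel
  have hcard := (card_fixM_six h6).2 hno
  have hsq : c * c = 1 := Equiv.ext fun p => by
    rw [Equiv.Perm.mul_apply, Equiv.Perm.one_apply]
    by_cases hp : p = none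
    · rw [hp, hcn, hc0]
    · by_cases hp0 : p = some 0
      · rw [hp0, hc0, hcn]
      · rw [hfix' p hp hp0, hfix' p hp hp0]
  have h3 : (⟨c, hcfix⟩ : ↥(fixM (toSet 126))) ^ 3 = 1 := hcard ▸ pow_card_eq_one'
  have h3' : c ^ 3 = 1 := congrArg Subtype.val h3
  have hc1 : c = 1 := by rw [pow_succ, pow_two, hsq, one_mul] at h3'; exact h3'
  rw [hc1] at hcn
  exact absurd hcn (by simp)

theorem card_setPairStab {p q : GolayPt} (hpq : p ≠ q) :
    Nat.card ↥(M24 ⊓ MulAction.stabilizer (Equiv.Perm GolayPt) ({p, q} : Finset GolayPt)) = 887040 := by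
  have h := card_inf_stab (H := M24) ({p, q} : Finset GolayPt)
  have horb : MulAction.orbit M24 ({p, q} : Finset GolayPt) = {s | s.card = 2} := by
    ext s
    constructor
    · rintro ⟨g, rfl⟩
      show ((g : Equiv.Perm GolayPt) • ({p, q} : Finset GolayPt)).card = 2
      rw [Finset.card_smul_finset, Finset.card_pair hpq]
    · intro hs
      obtain ⟨a, b, hab, rfl⟩ := Finset.card_eq_two.mp hs
      obtain ⟨g, hg, he⟩ := exists_M24_map (by norm_num : 2 ≤ 5)
        (⟨![p, q], by intro i j; fin_cases i <;> fin_cases j <;> simp [hpq, hpq.symm]⟩ : Fin 2 ↪ GolayPt)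
        (⟨![a, b], by intro i j; fin_cases i <;> fin_cases j <;> simp [hab, hab.symm]⟩ : Fin 2 ↪ GolayPt)
      refine ⟨⟨g, hg⟩, ?_⟩
      show g • ({p, q} : Finset GolayPt) = {a, b}
      rw [smul_finset_eq_image, Finset.image_insert, Finset.image_singleton]
      rw [Equiv.Perm.smul_def, Equiv.Perm.smul_def, show g p = a from he 0, show g q = b from he 1]
  have hn : {s : Finset GolayPt | s.card = 2}.ncard = 276 := by
    rw [show {s : Finset GolayPt | s.card = 2} = ((Finset.univ.powersetCard 2 : Finset (Finset GolayPt)) :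
      Set (Finset GolayPt)) by ext s; simp, Set.ncard_coe_finset, Finset.card_powersetCard, Finset.card_univ]
    simp [Fintype.card_option, ZMod.card]; decide
  rw [horb, hn, card_M24] at h
  omega

theorem M22_relIndex : Spor.M22.relIndex
    (M24 ⊓ MulAction.stabilizer (Equiv.Perm GolayPt) ({none, some 0} : Finset GolayPt)) = 2 := by
  set P := M24 ⊓ MulAction.stabilizer (Equiv.Perm GolayPt) ({none, some 0} : Finset GolayPt)
  have hle : Spor.M22 ≤ P := by
    intro x hx
    refine ⟨hx.1.1, ?_⟩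
    show x • ({none, some 0} : Finset GolayPt) = _
    rw [smul_finset_eq_image, Finset.image_insert, Finset.image_singleton,
      Equiv.Perm.smul_def, Equiv.Perm.smul_def,
      show x none = none from hx.1.2, show x (some 0) = some 0 from hx.2]
  have h := Subgroup.card_mul_index (Spor.M22.subgroupOf P)
  rw [Nat.card_congr (Subgroup.subgroupOfEquivOfLe hle).toEquiv, card_sporM22,
    card_setPairStab (by simp)] at h
  unfold Subgroup.relIndex
  omega

end CfsgGolay
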