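/-
Transitivity on an octad with points off it, and on a dodecad with a point off it.
-/
import Cfsg.Agent.Lib.Golay.DodM11
import Cfsg.Agent.Lib.Golay.Data.OctPair

set_option autoImplicit false

namespace CfsgGolay

open Cfsg
open scoped Pointwise

attribute [local irreducible] codeL octadL dodecadL slpCodes

theorem octpair_reach : (16777215 ^^^ 8536111) &&& orbMask gO 4 = (16777215 ^^^ 8536111) ∧
    8241088 &&& orbMask gOP 6 = 8241088 ∧ 16436384 &&& orbMask gD 5 = 16436384 := by decide +kernel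

theorem gOP_fix {g : Equiv.Perm GolayPt} (hg : g ∈ Gr gOP) : g • O0 = O0 ∧ g (pt 4) = pt 4 :=
  ⟨Gr_le_stab (L := gOP) (K := maskK) (o := 8536111) (by show _ < 2 ^ 24; norm_num) (by decide +kernel) hg,
    Gr_le_stab (L := gOP) (K := pointK) (o := 4) (by show _ < 24; norm_num) (by decide +kernel) hg⟩

theorem octad_two_out {o : Finset GolayPt} (ho : o ∈ octads) {p q : GolayPt} (hp : p ∉ o) (hq : q ∉ o)
    (hpq : p ≠ q) : ∃ g ∈ M24, g • O0 = o ∧ g (pt 4) = p ∧ g (pt 6) = q := by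
  obtain ⟨g, hg, hgo⟩ := exists_smul_O0 ho
  have out : ∀ {x : GolayPt}, x ∉ o → g⁻¹ x ∉ O0 := fun hx h => hx (by rw [← hgo]; exact inv_apply_mem.mp h)
  obtain ⟨a, hag, ha4⟩ := reach_of_orbMask gO_ok (b := 4) (by norm_num) octpair_reach.1 _ (mem_compl_mask (out hp))
  have haO : a • O0 = O0 := gO_fix hag
  have hq2 : a⁻¹ (g⁻¹ q) ∈ toSet 8241088 := by
    have h : a⁻¹ (g⁻¹ q) ∉ O0 := fun hc => out hq (by rw [← haO]; exact inv_apply_mem.mp hc)
    have hne : a⁻¹ (g⁻¹ q) ≠ pt 4 := fun he => by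
      have := congrArg (fun x => g (a x)) he
      simp only [perm_apply_inv, ha4] at this
      exact hpq this.symm
    revert h hne; generalize a⁻¹ (g⁻¹ q) = x; revert x; decide +kernel
  obtain ⟨b, hbg, hb6⟩ := reach_of_orbMask gOP_ok (b := 6) (by norm_num) octpair_reach.2.1 _ hq2
  obtain ⟨hbO, hb4⟩ := gOP_fix hbg
  refine ⟨g * a * b, mul_mem (mul_mem hg (Gr_le_M24 gO_ok hag)) (Gr_le_M24 gOP_ok hbg),
    by rw [mul_smul, mul_smul, hbO, haO, hgo], ?_, ?_⟩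
  · simp [Equiv.Perm.mul_apply, hb4, ha4]
  · simp [Equiv.Perm.mul_apply, hb6]

theorem octad_one_out {o : Finset GolayPt} (ho : o ∈ octads) {p : GolayPt} (hp : p ∉ o) :
    ∃ g ∈ M24, g • O0 = o ∧ g (pt 4) = p := by
  obtain ⟨q, hq⟩ : ∃ q, q ∈ oᶜ.erase p := Finset.card_pos.mp (by
    rw [Finset.card_erase_of_mem (Finset.mem_compl.mpr hp), Finset.card_compl, ho.2]
    simp [Fintype.card_option, ZMod.card])
  obtain ⟨hne, hq⟩ := Finset.mem_erase.mp hq
  obtain ⟨g, hg, h1, h2, -⟩ := octad_two_out ho hp (Finset.mem_compl.mp hq) hne.symm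
  exact ⟨g, hg, h1, h2⟩

theorem dodecad_one_out {d : Finset GolayPt} (hd : d ∈ dodecads) {p : GolayPt} (hp : p ∉ d) :
    ∃ g ∈ M24, g • D0 = d ∧ g (pt 5) = p := by
  obtain ⟨g, hg, hgd⟩ := exists_smul_D0 hd
  have h : g⁻¹ p ∉ D0 := fun h => hp (by rw [← hgd]; exact inv_apply_mem.mp h)
  obtain ⟨a, hag, ha⟩ := reach_of_orbMask gD_ok (b := 5) (by norm_num) octpair_reach.2.2 _ (mem_outside h)
  refine ⟨g * a, mul_mem hg (Gr_le_M24 gD_ok hag), by rw [mul_smul, gD_fix hag, hgd], ?_⟩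
  simp [Equiv.Perm.mul_apply, ha]

end CfsgGolay
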