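/-
Coded permutations as objects: multiplication and conjugation, elements of prime order, centralisers.
-/
import Cfsg.Agent.Lib.Golay.Std
import Cfsg.Agent.Lib.Golay.Subgroups

set_option autoImplicit false

namespace CfsgGolay

open Cfsg
open scoped Pointwise

attribute [local irreducible] codeL octadL dodecadL slpCodes

/-- Decoding of a coded permutation. -/
noncomputable def permDec (n : ℕ) : Equiv.Perm GolayPt := by
  classical exact if h : ∃ g, Repr n g then h.choose else 1

theorem permDec_eq {n : ℕ} {g : Equiv.Perm GolayPt} (h : Repr n g) : permDec n = g := by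
  classical
  rw [permDec, dif_pos ⟨g, h⟩]
  exact (Exists.choose_spec (⟨g, h⟩ : ∃ g, Repr n g)).unique h

/-- A well formed code of a permutation. -/
def PValid (n : ℕ) : Prop := n < 2 ^ 120 ∧ ∃ g, Repr n g

theorem pcomp_lt (c d : ℕ) : pcomp c d < 2 ^ 120 :=
  (pack_spec (fun i => papp c (papp d i)) (fun _ => Nat.mod_lt _ (by norm_num)) 24).1

theorem eq_of_papp {a b : ℕ} (ha : a < 2 ^ 120) (hb : b < 2 ^ 120) (h : ∀ i < 24, papp a i = papp b i) :
    a = b := by
  apply Nat.eq_of_testBit_eq
  intro j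
  by_cases hj : j < 120
  · have := congrArg (fun x => x.testBit (j % 5)) (h (j / 5) (by omega))
    simp only [papp, show (32 : ℕ) = 2 ^ 5 from rfl, Nat.testBit_mod_two_pow, Nat.testBit_shiftRight,
      decide_eq_true (Nat.mod_lt j (show 5 > 0 by norm_num)), Bool.true_and] at this
    rwa [show 5 * (j / 5) + j % 5 = j by omega] at this
  · rw [Nat.testBit_lt_two_pow (lt_of_lt_of_le ha (Nat.pow_le_pow_right (by norm_num) (by omega))),
      Nat.testBit_lt_two_pow (lt_of_lt_of_le hb (Nat.pow_le_pow_right (by norm_num) (by omega)))]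

theorem permDec_injOn : Set.InjOn permDec {n | PValid n} := by
  rintro a ⟨ha, g, hg⟩ b ⟨hb, h, hh⟩ hab
  rw [permDec_eq hg, permDec_eq hh] at hab
  subst hab
  refine eq_of_papp ha hb fun i hi => ?_
  have h1 := hg (pt i)
  have h2 := hh (pt i)
  rw [idx_pt hi] at h1 h2
  rw [← h1, ← h2]

/-- Coded permutations under left multiplication. -/
noncomputable def leftK : Kind (Equiv.Perm GolayPt) where
  dec := permDec
  act e n := pcomp e.c n
  Valid := PValid
  spec := by
    rintro e g n hg ⟨-, x, hx⟩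
    refine ⟨⟨pcomp_lt _ _, _, hg.1.comp hx⟩, ?_⟩
    rw [permDec_eq hx, permDec_eq (hg.1.comp hx)]; rfl
  inj := permDec_injOn

/-- Permutations acted on by conjugation. -/
structure PConj where
  /-- the permutation -/
  val : Equiv.Perm GolayPt

theorem PConj.val_injective : Function.Injective PConj.val := fun a b h => by cases a; cases b; simp_all

instance : MulAction (Equiv.Perm GolayPt) PConj where
  smul g x := ⟨g * x.val * g⁻¹⟩
  one_smul x := PConj.val_injective (show (1 : Equiv.Perm GolayPt) * x.val * 1⁻¹ = x.val by group)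
  mul_smul g h x := PConj.val_injective
    (show (g * h) * x.val * (g * h)⁻¹ = g * (h * x.val * h⁻¹) * g⁻¹ by group)

theorem pconj_smul (g x : Equiv.Perm GolayPt) : g • (⟨x⟩ : PConj) = ⟨g * x * g⁻¹⟩ := rfl

theorem pconj_fix {g x : Equiv.Perm GolayPt} : g • (⟨x⟩ : PConj) = ⟨x⟩ ↔ g * x = x * g := by
  rw [pconj_smul, PConj.mk.injEq, mul_inv_eq_iff_eq_mul]

/-- The code of the inverse. -/
def pinv (c : ℕ) : ℕ := pack (fun i => (List.range 24).findIdx (fun j => Nat.beq (papp c j) i) % 32) 24

theorem Repr.inv {c : ℕ} {g : Equiv.Perm GolayPt} (hc : Repr c g) : Repr (pinv c) g⁻¹ := by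
  intro q
  rw [pinv, ((pack_spec (fun i => (List.range 24).findIdx (fun j => Nat.beq (papp c j) i) % 32)
    (fun _ => Nat.mod_lt _ (by norm_num))) 24).2 _ (idx_lt q)]
  have hj : papp c (idx (g⁻¹ q)) = idx q := by rw [← hc, Equiv.Perm.coe_inv, Equiv.apply_symm_apply]
  have hlt := idx_lt (g⁻¹ q)
  have hfi : (List.range 24).findIdx (fun j => Nat.beq (papp c j) (idx q)) = idx (g⁻¹ q) := by
    rw [List.findIdx_eq (by simpa using hlt)]
    simp only [List.getElem_range]
    refine ⟨?_, fun j hj' => ?_⟩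
    · rw [hj]; exact Nat.beq_refl _
    · by_contra hb
      rw [Bool.not_eq_false] at hb
      have := Nat.eq_of_beq_eq_true hb
      have hg := hc (pt j)
      rw [idx_pt (lt_trans hj' hlt), this] at hg
      have : g (pt j) = q := idx_injective hg
      have e : g⁻¹ q = pt j := by rw [← this, Equiv.Perm.coe_inv, Equiv.symm_apply_apply]
      have e2 : idx (g⁻¹ q) = j := by rw [e, idx_pt (lt_trans hj' hlt)]
      omega
  rw [hfi, Nat.mod_eq_of_lt (lt_trans hlt (by norm_num))]

/-- Conjugation on codes. -/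
def cactF (e : GenT) (n : ℕ) : ℕ := pcomp (pcomp e.c n) (pinv e.c)

/-- Coded permutations under conjugation. -/
noncomputable def conjK : Kind PConj where
  dec n := ⟨permDec n⟩
  act := cactF
  Valid := PValid
  spec := by
    rintro e g n hg ⟨-, x, hx⟩
    refine ⟨⟨pcomp_lt _ _, _, (hg.1.comp hx).comp hg.1.inv⟩, ?_⟩
    rw [pconj_smul, permDec_eq hx, cactF, permDec_eq ((hg.1.comp hx).comp hg.1.inv)]
  inj a ha b hb h := permDec_injOn ha hb (congrArg PConj.val h)

/-- A valid code from a check. -/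
theorem pvalid_of_check {n : ℕ} (h : (Nat.blt n (2 ^ 120) && permOK n) = true) : PValid n := by
  simp only [Bool.and_eq_true, Nat.blt_eq] at h
  exact ⟨h.1, exists_repr_of_permOK h.2⟩

theorem pvalid_pid : PValid pid := pvalid_of_check (by decide +kernel)

theorem permDec_pid : permDec pid = 1 := permDec_eq repr_pid

section

variable {L : List GenT} {C : Cert}

theorem group_cert (hL : gensOK L = true) (h : orbOK (fun e n => pcomp e.c n) L pid C = true) :
    (∀ g ∈ Gr L, ∃ i < C.n, Repr (C.obj i) g) ∧ Nat.card ↥(Gr L) = C.n := by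
  have h1 := orbit_cert (K := leftK) pvalid_pid hL h
  have h2 := ncard_orbit_cert (K := leftK) pvalid_pid hL h
  have horb : MulAction.orbit (Gr L) (leftK.dec pid) = (Gr L : Set (Equiv.Perm GolayPt)) := by
    show MulAction.orbit (Gr L) (permDec pid) = _
    rw [permDec_pid]
    ext x
    constructor
    · rintro ⟨⟨g, hg⟩, rfl⟩
      show g * 1 ∈ Gr L
      rw [mul_one]; exact hg
    · intro hx
      exact ⟨⟨x, hx⟩, mul_one x⟩
  rw [horb] at h1 h2
  refine ⟨fun g hg => ?_, by rw [← h2]; exact (Nat.card_coe_set_eq _)⟩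
  have hg' : g ∈ (Gr L : Set (Equiv.Perm GolayPt)) := hg
  rw [h1] at hg'
  obtain ⟨m, hm, rfl⟩ := hg'
  obtain ⟨i, hi, rfl⟩ := Finset.mem_image.mp (Finset.mem_coe.mp hm)
  obtain ⟨-, x, hx⟩ := (orb_valid (K := leftK) pvalid_pid hL h i (Finset.mem_range.mp hi)).1
  exact ⟨i, Finset.mem_range.mp hi, by rw [show leftK.dec (C.obj i) = x from permDec_eq hx]; exact hx⟩

/-- Every element of order `p` of `H` is conjugate in `H` to a listed element of the certified Sylow group. -/
theorem prime_cert {H : Subgroup (Equiv.Perm GolayPt)} (p : ℕ) [Fact p.Prime] (hle : Gr L ≤ H)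
    (hL : gensOK L = true) (h : orbOK (fun e n => pcomp e.c n) L pid C = true)
    (hn : C.n = p ^ (Nat.card H).factorization p) {g : Equiv.Perm GolayPt} (hg : g ∈ H)
    (ho : orderOf g = p) : ∃ k ∈ H, ∃ i < C.n, Repr (C.obj i) (k * g * k⁻¹) := by
  obtain ⟨hmem, hcard⟩ := group_cert hL h
  have hc : Nat.card ↥((Gr L).subgroupOf H) = p ^ (Nat.card H).factorization p := by
    rw [Nat.card_congr (Subgroup.subgroupOfEquivOfLe hle).toEquiv, hcard, hn]
  let P : Sylow p H := Sylow.ofCard _ hc
  have ho' : orderOf (⟨g, hg⟩ : H) = p := by rw [← Subgroup.orderOf_coe]; exact ho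
  have hp : IsPGroup p ↥(Subgroup.zpowers (⟨g, hg⟩ : H)) :=
    IsPGroup.of_card (n := 1) (by rw [Nat.card_zpowers, ho', pow_one])
  obtain ⟨Q, hQ⟩ := hp.exists_le_sylow
  obtain ⟨k, hk⟩ := MulAction.exists_smul_eq H Q P
  refine ⟨k.1, k.2, ?_⟩
  have hmem' : k * ⟨g, hg⟩ * k⁻¹ ∈ (P : Subgroup H) := by
    rw [← hk]
    show k * ⟨g, hg⟩ * k⁻¹ ∈ ((k • Q : Sylow p H) : Subgroup H)
    rw [Sylow.coe_subgroup_smul]
    exact Subgroup.smul_mem_pointwise_smul _ (MulAut.conj k) _ (hQ (Subgroup.mem_zpowers _))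
  exact hmem _ (Subgroup.mem_subgroupOf.mp (show k * ⟨g, hg⟩ * k⁻¹ ∈ (Gr L).subgroupOf H from hmem'))

end

/-- The conjugator table: each element of order `p` listed is moved to a representative. -/
def conjChk (p : ℕ) (C : Cert) (T reps : List ℕ) (i : ℕ) : Bool :=
  Nat.beq (C.obj i) pid || !(Nat.beq (ppow (C.obj i) p) pid) ||
    (permOK (tget 120 T i) && gensKept (tget 120 T i) &&
      reps.any fun r => Nat.beq (pcomp (tget 120 T i) (C.obj i)) (pcomp r (tget 120 T i)))

/-- A stretch of the conjugator table check. -/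
def conjPart (p : ℕ) (C : Cert) (T reps : List ℕ) (a k : ℕ) : Bool :=
  (List.range' a k).all (conjChk p C T reps)

theorem conjChk_sound {p : ℕ} [Fact p.Prime] {C : Cert} {T reps : List ℕ} {i : ℕ}
    (h : conjChk p C T reps i = true) (hreps : ∀ r ∈ reps, permOK r = true) {x : Equiv.Perm GolayPt}
    (hx : Repr (C.obj i) x) (ho : orderOf x = p) :
    ∃ k ∈ M24, ∃ r ∈ reps, Repr r (k * x * k⁻¹) := by
  simp only [conjChk, Bool.or_eq_true, Bool.and_eq_true, List.any_eq_true, Bool.not_eq_true'] at h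
  rcases h with (h | h) | ⟨⟨hk, hM⟩, r, hr, he⟩
  · exfalso
    rw [Nat.eq_of_beq_eq_true h] at hx
    rw [hx.unique repr_pid, orderOf_one] at ho
    exact (Fact.out : p.Prime).ne_one ho.symm
  · exfalso
    have hp := hx.pow p
    rw [show x ^ p = 1 by rw [← ho]; exact pow_orderOf_eq_one x] at hp
    have hppow : ppow (C.obj i) p < 2 ^ 120 := by
      cases p with
      | zero => exact pvalid_pid.1
      | succ n => exact pcomp_lt _ _
    rw [permDec_injOn ⟨hppow, _, hp⟩ pvalid_pid (by rw [permDec_eq hp, permDec_pid])] at h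
    simp at h
  · obtain ⟨k, hkr⟩ := exists_repr_of_permOK hk
    obtain ⟨y, hy⟩ := exists_repr_of_permOK (hreps r hr)
    refine ⟨k, mem_M24_of_gensKept hkr hM, r, hr, ?_⟩
    have : k * x = y * k :=
      (permDec_eq (hkr.comp hx)).symm.trans ((congrArg permDec (Nat.eq_of_beq_eq_true he)).trans
        (permDec_eq (hy.comp hkr)))
    rwa [this, mul_inv_cancel_right]

/-- The centraliser in the code's group. -/
def centM (z : Equiv.Perm GolayPt) : Subgroup (Equiv.Perm GolayPt) := M24 ⊓ Subgroup.centralizer {z}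

theorem mem_centM {z g : Equiv.Perm GolayPt} : g ∈ centM z ↔ g ∈ M24 ∧ g * z = z * g := by
  rw [centM, Subgroup.mem_inf, Subgroup.mem_centralizer_singleton_iff]

/-- A centraliser contained in a certified group has the order given by a class inside it. -/
theorem cent_card {H : Subgroup (Equiv.Perm GolayPt)} {L : List GenT} {o : ℕ} {C : Cert}
    (hH : Gr L = H) (hHM : H ≤ M24) (hL : gensOK L = true) {z : Equiv.Perm GolayPt} (hz : Repr o z)
    (hlt : o < 2 ^ 120) (hC : orbOK cactF L o C = true) (hsub : centM z ≤ H) :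
    Nat.card ↥(centM z) * C.n = Nat.card ↥H := by
  have h := card_inf_stab (H := H) (⟨z⟩ : PConj)
  have ho := orbit_std (K := conjK) hH hL ⟨hlt, z, hz⟩ hC
  rw [show conjK.dec o = ⟨z⟩ by exact PConj.val_injective (permDec_eq hz)] at ho
  rw [ho] at h
  have : centM z = H ⊓ MulAction.stabilizer (Equiv.Perm GolayPt) (⟨z⟩ : PConj) := by
    ext g
    rw [Subgroup.mem_inf, MulAction.mem_stabilizer_iff, pconj_fix]
    exact ⟨fun hg => ⟨hsub hg, (mem_centM.mp hg).2⟩, fun hg => mem_centM.mpr ⟨hHM hg.1, hg.2⟩⟩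
  rw [this]; exact h

end CfsgGolay
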