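/-
Classes of elements of order two, three and seven, their fixed objects and centralisers.
-/
import Cfsg.Agent.Lib.Golay.Data.ElemsC
import Cfsg.Agent.Lib.Golay.Data.ElemsR
import Cfsg.Agent.Lib.Golay.Classes

set_option autoImplicit false

namespace CfsgGolay

open Cfsg
open scoped Pointwise

attribute [local irreducible] codeL octadL dodecadL slpCodes

/-- The permutation of the first involution class. -/
noncomputable def r2A : Equiv.Perm GolayPt := permDec e2A
/-- The permutation of the second involution class. -/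
noncomputable def r2B : Equiv.Perm GolayPt := permDec e2B
/-- The permutation of the first class of order three. -/
noncomputable def r3A : Equiv.Perm GolayPt := permDec e3A
/-- The permutation of the second class of order three. -/
noncomputable def r3B : Equiv.Perm GolayPt := permDec e3B
/-- The permutation of order seven. -/
noncomputable def r7 : Equiv.Perm GolayPt := permDec e7

theorem rep_facts : (permOK e2A = true ∧ gensKept e2A = true) ∧ (permOK e2B = true ∧ gensKept e2B = true) ∧
    (permOK e3A = true ∧ gensKept e3A = true) ∧ (permOK e3B = true ∧ gensKept e3B = true) ∧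
    (permOK e7 = true ∧ gensKept e7 = true) := by decide +kernel

theorem rep_spec {c : ℕ} (h : permOK c = true ∧ gensKept c = true) :
    Repr c (permDec c) ∧ permDec c ∈ M24 := by
  obtain ⟨g, hg⟩ := exists_repr_of_permOK h.1
  rw [permDec_eq hg]
  exact ⟨hg, mem_M24_of_gensKept hg h.2⟩

theorem good_of {e : GenT} (he : e ∈ [f2A, f2B, f3A, f3B, f7]) : e.Good (permDec e.c) := by
  obtain ⟨g, -, hg⟩ := exists_good elemsR_ok.1 he
  rw [permDec_eq hg.1]; exact hg

theorem good_2A : f2A.Good r2A := good_of (e := f2A) (by simp)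
theorem good_2B : f2B.Good r2B := good_of (e := f2B) (by simp)
theorem good_3A : f3A.Good r3A := good_of (e := f3A) (by simp)
theorem good_3B : f3B.Good r3B := good_of (e := f3B) (by simp)
theorem good_7 : f7.Good r7 := good_of (e := f7) (by simp)

theorem factorization_eq {m p k q : ℕ} (hp : p.Prime) (h : m = p ^ k * q) (hq : ¬ p ∣ q) :
    m.factorization p = k := by
  have hq0 : q ≠ 0 := fun h0 => hq (h0 ▸ dvd_zero p)
  rw [h, Nat.factorization_mul (pow_ne_zero _ hp.ne_zero) hq0, Finsupp.add_apply, hp.factorization_pow,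
    Finsupp.single_eq_same, Nat.factorization_eq_zero_of_not_dvd hq, add_zero]

theorem card_M24_facts : (Nat.card M24).factorization 2 = 10 ∧ (Nat.card M24).factorization 3 = 3 ∧
    (Nat.card M24).factorization 7 = 1 := by
  rw [card_M24]
  exact ⟨factorization_eq (q := 239085) (by norm_num) (by norm_num) (by norm_num),
    factorization_eq (q := 9067520) (by norm_num) (by norm_num) (by norm_num),
    factorization_eq (q := 34974720) (by norm_num) (by norm_num) (by norm_num)⟩

/-- The fixed points. -/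
def fixF (g : Equiv.Perm GolayPt) : Finset GolayPt := Finset.univ.filter fun p => g p = p

theorem mem_fixF {g : Equiv.Perm GolayPt} {p : GolayPt} : p ∈ fixF g ↔ g p = p := by simp [fixF]

theorem fixF_conj (k g : Equiv.Perm GolayPt) : fixF (k * g * k⁻¹) = (fixF g).image k := by
  ext p
  simp only [mem_fixF, Finset.mem_image, Equiv.Perm.mul_apply]
  constructor
  · intro h
    refine ⟨k⁻¹ p, ?_, by simp⟩
    rw [Equiv.Perm.coe_inv] at *
    exact k.injective (by rw [h, Equiv.apply_symm_apply])
  · rintro ⟨q, hq, rfl⟩; simp [hq]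

theorem card_fixF_conj (k g : Equiv.Perm GolayPt) : (fixF (k * g * k⁻¹)).card = (fixF g).card := by
  rw [fixF_conj, Finset.card_image_of_injective _ k.injective]

/-- The mask of the fixed points of a code. -/
def fixedMask (c : ℕ) : ℕ := orBits ((List.range 24).filter fun i => Nat.beq (papp c i) i)

theorem fixF_repr {c : ℕ} {g : Equiv.Perm GolayPt} (h : Repr c g) : fixF g = toSet (fixedMask c) := by
  ext p
  rw [mem_fixF, mem_toSet, fixedMask, testBit_orBits, List.mem_filter, List.mem_range]
  refine ⟨fun he => ⟨idx_lt p, ?_⟩, fun ⟨_, he⟩ => idx_injective ?_⟩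
  · rw [← h, he]; exact Nat.beq_refl _
  · rw [h]; exact Nat.eq_of_beq_eq_true he

theorem fix_checked : fixedMask e2A = 8536111 ∧ fixedMask e2B = 0 ∧ pc (fixedMask e3A) = 6 ∧ pc (fixedMask e3B) = 0 ∧
    pc (fixedMask e7) = 3 := by decide +kernel

theorem fix_2A : fixF r2A = O0 := by rw [fixF_repr good_2A.1]; exact congrArg toSet fix_checked.1
theorem fix_2B : fixF r2B = ∅ := by
  rw [fixF_repr good_2B.1, ← Finset.card_eq_zero, card_toSet]; exact (congrArg pc fix_checked.2.1).trans (by decide +kernel)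
theorem card_fix_2A : (fixF r2A).card = 8 := by rw [fix_2A, O0, card_toSet]; decide +kernel
theorem card_fix_2B : (fixF r2B).card = 0 := by rw [fix_2B]; rfl
theorem card_fix_3A : (fixF r3A).card = 6 := by rw [fixF_repr good_3A.1, card_toSet]; exact fix_checked.2.2.1
theorem card_fix_3B : (fixF r3B).card = 0 := by rw [fixF_repr good_3B.1, card_toSet]; exact fix_checked.2.2.2.1

theorem all_of_part {p : ℕ} {C : Cert} {T reps : List ℕ} {n : ℕ} (h : conjPart p C T reps 0 n = true)
    {i : ℕ} (hi : i < n) : conjChk p C T reps i = true :=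
  List.all_eq_true.mp h i (by simp [List.mem_range'_1, hi])

theorem conjPart_append {p : ℕ} {C : Cert} {T reps : List ℕ} {a k b m : ℕ} (hb : b = a + k)
    (h₁ : conjPart p C T reps a k = true) (h₂ : conjPart p C T reps b m = true) :
    conjPart p C T reps a (k + m) = true := by
  subst hb
  rw [conjPart, ← List.range'_append_1, List.all_append, Bool.and_eq_true]
  exact ⟨h₁, h₂⟩

theorem tP2_all : conjPart 2 cP2 tP2 [e2A, e2B] 0 1024 = true :=
  conjPart_append (k := 768) (m := 256) (by rfl)
    (conjPart_append (k := 512) (m := 256) (by rfl)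
      (conjPart_append (k := 256) (m := 256) (by rfl) tP2_part0 tP2_part1) tP2_part2) tP2_part3

/-- The two classes of involutions. -/
theorem class_two {g : Equiv.Perm GolayPt} (hg : g ∈ M24) (ho : orderOf g = 2) :
    ∃ k ∈ M24, k * g * k⁻¹ = r2A ∨ k * g * k⁻¹ = r2B := by
  obtain ⟨k, hk, i, hi, hr⟩ := prime_cert (H := M24) 2 (Gr_le_M24 gP2_ok) gP2_ok cP2_ok
    (by rw [card_M24_facts.1]; rfl) hg ho
  obtain ⟨j, hj, r, hrmem, hrr⟩ := conjChk_sound (all_of_part tP2_all (show i < 1024 from hi))
    (fun r hr => by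
      simp only [List.mem_cons, List.not_mem_nil, or_false] at hr
      rcases hr with rfl | rfl
      · exact rep_facts.1.1
      · exact rep_facts.2.1.1) hr
    (by rw [← ho]; exact (MulAut.conj k).orderOf_eq g)
  refine ⟨j * k, mul_mem hj hk, ?_⟩
  rw [show j * k * g * (j * k)⁻¹ = j * (k * g * k⁻¹) * j⁻¹ by group]
  simp only [List.mem_cons, List.not_mem_nil, or_false] at hrmem
  rcases hrmem with rfl | rfl
  · exact Or.inl (permDec_eq hrr).symm
  · exact Or.inr (permDec_eq hrr).symm

/-- The two classes of elements of order three. -/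
theorem class_three {g : Equiv.Perm GolayPt} (hg : g ∈ M24) (ho : orderOf g = 3) :
    ∃ k ∈ M24, k * g * k⁻¹ = r3A ∨ k * g * k⁻¹ = r3B := by
  haveI : Fact (Nat.Prime 3) := ⟨by norm_num⟩
  obtain ⟨k, hk, i, hi, hr⟩ := prime_cert (H := M24) 3 (Gr_le_M24 gP3_ok) gP3_ok cP3_ok
    (by rw [card_M24_facts.2.1]; rfl) hg ho
  obtain ⟨j, hj, r, hrmem, hrr⟩ := conjChk_sound (all_of_part tP3_part0 (show i < 27 from hi))
    (fun r hr => by
      simp only [List.mem_cons, List.not_mem_nil, or_false] at hr
      rcases hr with rfl | rfl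
      · exact rep_facts.2.2.1.1
      · exact rep_facts.2.2.2.1.1) hr
    (by rw [← ho]; exact (MulAut.conj k).orderOf_eq g)
  refine ⟨j * k, mul_mem hj hk, ?_⟩
  rw [show j * k * g * (j * k)⁻¹ = j * (k * g * k⁻¹) * j⁻¹ by group]
  simp only [List.mem_cons, List.not_mem_nil, or_false] at hrmem
  rcases hrmem with rfl | rfl
  · exact Or.inl (permDec_eq hrr).symm
  · exact Or.inr (permDec_eq hrr).symm

theorem order_checked : ppow e2A 2 = pid ∧ ppow e2B 2 = pid ∧ ppow e3A 3 = pid ∧ ppow e3B 3 = pid ∧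
    ppow e7 7 = pid ∧ e2A ≠ pid ∧ e2B ≠ pid ∧ e3A ≠ pid ∧ e3B ≠ pid ∧ e7 ≠ pid ∧
    e2A < 2 ^ 120 ∧ e2B < 2 ^ 120 ∧ e3A < 2 ^ 120 ∧ e3B < 2 ^ 120 ∧ e7 < 2 ^ 120 := by decide +kernel

theorem orderOf_rep {c p : ℕ} [Fact p.Prime] (h : Repr c (permDec c)) (hp : ppow c p = pid) (hne : c ≠ pid)
    (hlt : c < 2 ^ 120) : orderOf (permDec c) = p := by
  refine orderOf_eq_prime ?_ fun h1 => hne ?_
  · have := h.pow p
    rw [hp] at this
    exact this.unique repr_pid
  · exact permDec_injOn ⟨hlt, _, h⟩ pvalid_pid (h1.trans permDec_pid.symm)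

theorem order_2A : orderOf r2A = 2 :=
  orderOf_rep (rep_spec rep_facts.1).1 order_checked.1 order_checked.2.2.2.2.2.1 order_checked.2.2.2.2.2.2.2.2.2.2.1

theorem order_2B : orderOf r2B = 2 :=
  orderOf_rep (rep_spec rep_facts.2.1).1 order_checked.2.1 order_checked.2.2.2.2.2.2.1
    order_checked.2.2.2.2.2.2.2.2.2.2.2.1

theorem order_3A : orderOf r3A = 3 :=
  haveI : Fact (Nat.Prime 3) := ⟨by norm_num⟩
  orderOf_rep (rep_spec rep_facts.2.2.1).1 order_checked.2.2.1 order_checked.2.2.2.2.2.2.2.1
    order_checked.2.2.2.2.2.2.2.2.2.2.2.2.1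

theorem order_3B : orderOf r3B = 3 :=
  haveI : Fact (Nat.Prime 3) := ⟨by norm_num⟩
  orderOf_rep (rep_spec rep_facts.2.2.2.1).1 order_checked.2.2.2.1 order_checked.2.2.2.2.2.2.2.2.1
    order_checked.2.2.2.2.2.2.2.2.2.2.2.2.2.1

theorem order_7 : orderOf r7 = 7 :=
  haveI : Fact (Nat.Prime 7) := ⟨by norm_num⟩
  orderOf_rep (rep_spec rep_facts.2.2.2.2).1 order_checked.2.2.2.2.1 order_checked.2.2.2.2.2.2.2.2.2.1
    order_checked.2.2.2.2.2.2.2.2.2.2.2.2.2.2

theorem mem_r2A : r2A ∈ M24 := by
  rw [r2A]; exact (rep_spec rep_facts.1).2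
theorem mem_r2B : r2B ∈ M24 := by
  rw [r2B]; exact (rep_spec rep_facts.2.1).2
theorem mem_r3A : r3A ∈ M24 := by
  rw [r3A]; exact (rep_spec rep_facts.2.2.1).2
theorem mem_r3B : r3B ∈ M24 := by
  rw [r3B]; exact (rep_spec rep_facts.2.2.2.1).2
theorem mem_r7 : r7 ∈ M24 := by
  rw [r7]; exact (rep_spec rep_facts.2.2.2.2).2

/-- An involution with eight fixed points is conjugate to the first representative. -/
theorem class_2A {g : Equiv.Perm GolayPt} (hg : g ∈ M24) (ho : orderOf g = 2) (h : (fixF g).card ≠ 0) :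
    ∃ k ∈ M24, k * g * k⁻¹ = r2A := by
  obtain ⟨k, hk, h1 | h1⟩ := class_two hg ho
  · exact ⟨k, hk, h1⟩
  · exact absurd (by rw [← card_fixF_conj k, h1, card_fix_2B]) h

/-- A fixed-point-free involution is conjugate to the second representative. -/
theorem class_2B {g : Equiv.Perm GolayPt} (hg : g ∈ M24) (ho : orderOf g = 2) (h : (fixF g).card ≠ 8) :
    ∃ k ∈ M24, k * g * k⁻¹ = r2B := by
  obtain ⟨k, hk, h1 | h1⟩ := class_two hg ho
  · exact absurd (by rw [← card_fixF_conj k, h1, card_fix_2A]) h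
  · exact ⟨k, hk, h1⟩

/-- An element of order three with fixed points is conjugate to the first representative. -/
theorem class_3A {g : Equiv.Perm GolayPt} (hg : g ∈ M24) (ho : orderOf g = 3) (h : (fixF g).card ≠ 0) :
    ∃ k ∈ M24, k * g * k⁻¹ = r3A := by
  obtain ⟨k, hk, h1 | h1⟩ := class_three hg ho
  · exact ⟨k, hk, h1⟩
  · exact absurd (by rw [← card_fixF_conj k, h1, card_fix_3B]) h

/-- A fixed-point-free element of order three is conjugate to the second representative. -/
theorem class_3B {g : Equiv.Perm GolayPt} (hg : g ∈ M24) (ho : orderOf g = 3) (h : (fixF g).card ≠ 6) :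
    ∃ k ∈ M24, k * g * k⁻¹ = r3B := by
  obtain ⟨k, hk, h1 | h1⟩ := class_three hg ho
  · exact absurd (by rw [← card_fixF_conj k, h1, card_fix_3A]) h
  · exact ⟨k, hk, h1⟩

theorem fixF_empty_iff {g : Equiv.Perm GolayPt} : (fixF g).card = 0 ↔ ∀ p, g p ≠ p := by
  rw [Finset.card_eq_zero, fixF, Finset.filter_eq_empty_iff]
  exact ⟨fun h p => h (Finset.mem_univ p), fun h p _ => h p⟩

section

variable {α : Type*} [MulAction (Equiv.Perm GolayPt) α]

/-- Fixed objects of conjugate elements. -/
theorem ncard_fixed_conj {F : Set α} (hF : ∀ k ∈ M24, ∀ x ∈ F, k • x ∈ F) {g k r : Equiv.Perm GolayPt}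
    (hk : k ∈ M24) (h : k * g * k⁻¹ = r) :
    {x | x ∈ F ∧ g • x = x}.ncard = {x | x ∈ F ∧ r • x = x}.ncard := by
  refine (ncard_translate k fun y => ⟨fun hy => ⟨?_, ?_⟩, fun hy => ⟨hF k hk y hy.1, ?_⟩⟩).symm
  · simpa using hF k⁻¹ (inv_mem hk) _ hy.1
  · have := hy.2
    rw [← h, ← mul_smul, show k * g * k⁻¹ * k = k * g by group, mul_smul] at this
    exact MulAction.injective k this
  · rw [← h, ← mul_smul, show k * g * k⁻¹ * k = k * g by group, mul_smul, hy.2]

/-- Fixed objects of a coded element inside an orbit of the code's group. -/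
theorem ncard_fixed_rep {K : Kind α} {o : ℕ} {C : Cert} (hv : K.Valid o) (hC : orbOK K.act gM o C = true)
    {e : GenT} {g : Equiv.Perm GolayPt} (he : e.Good g) :
    {x | x ∈ MulAction.orbit M24 (K.dec o) ∧ g • x = x}.ncard =
      C.count fun n => Nat.beq (K.act e n) n := by
  refine ncard_sub_orbit hv hC _ _ fun n hn => ?_
  rw [(K.spec he hn).2]
  exact ⟨fun h => congrArg K.dec (Nat.eq_of_beq_eq_true h),
    fun h => by rw [K.inj (K.spec he hn).1 hn h]; exact Nat.beq_refl _⟩

end

theorem fixed_octads {e : GenT} {g : Equiv.Perm GolayPt} (he : e.Good g) :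
    {o : Finset GolayPt | o ∈ octads ∧ g • o = o}.ncard = cMO.count fun n => Nat.beq (pmT e n) n := by
  rw [octads_eq_orbit]
  exact ncard_fixed_rep (K := maskK) (o := 8536111) (by show _ < 2 ^ 24; norm_num) cMO_ok he

theorem fixed_dodecads {e : GenT} {g : Equiv.Perm GolayPt} (he : e.Good g) :
    {o : Finset GolayPt | o ∈ dodecads ∧ g • o = o}.ncard = cMD.count fun n => Nat.beq (pmT e n) n := by
  rw [dodecads_eq_orbit]
  exact ncard_fixed_rep (K := maskK) (o := 340831) (by show _ < 2 ^ 24; norm_num) cMD_ok he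

theorem fixed_sextets {e : GenT} {g : Equiv.Perm GolayPt} (he : e.Good g) :
    {S : Finset (Finset GolayPt) | S ∈ sextets ∧ g • S = S}.ncard =
      cMS.count fun n => Nat.beq ((famK 6).act e n) n := by
  rw [sextets_eq_orbit]
  exact ncard_fixed_rep (K := famK 6) (o := 11150382242010895008167239022564679587348520)
    (famValidB_sound (by decide +kernel)) cMS_ok he

theorem fixed_trios {e : GenT} {g : Equiv.Perm GolayPt} (he : e.Good g) :
    {T : Finset (Finset GolayPt) | T ∈ trios ∧ g • T = T}.ncard =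
      cMT.count fun n => Nat.beq ((famK 3).act e n) n := by
  rw [trios_eq_orbit]
  exact ncard_fixed_rep (K := famK 3) (o := 2402701777519073634240)
    (famValidB_sound (by decide +kernel)) cMT_ok he

theorem counts_octads : (cMO.count fun n => Nat.beq (pmT f2A n) n) = 71 ∧
    (cMO.count fun n => Nat.beq (pmT f2B n) n) = 15 ∧ (cMO.count fun n => Nat.beq (pmT f3A n) n) = 21 ∧
    (cMD.count fun n => Nat.beq (pmT f3A n) n) = 20 := by decide +kernel

theorem counts_sextets : (cMS.count fun n => Nat.beq ((famK 6).act f2A n) n) = 91 ∧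
    (cMS.count fun n => Nat.beq ((famK 6).act f2B n) n) = 51 := by decide +kernel

theorem counts_sextets3 : (cMS.count fun n => Nat.beq ((famK 6).act f3A n) n) = 16 ∧
    (cMS.count fun n => Nat.beq ((famK 6).act f3B n) n) = 7 := by decide +kernel

theorem counts_trios : (cMT.count fun n => Nat.beq ((famK 3).act f2A n) n) = 99 ∧
    (cMT.count fun n => Nat.beq ((famK 3).act f2B n) n) = 75 := by decide +kernel

theorem counts_trios3 : (cMT.count fun n => Nat.beq ((famK 3).act f3A n) n) = 15 ∧
    (cMT.count fun n => Nat.beq ((famK 3).act f3B n) n) = 15 ∧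
    (cMT.count fun n => Nat.beq ((famK 3).act f7 n) n) = 1 := by decide +kernel

end CfsgGolay
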