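/-
Hexads on a dodecad and pairs of octads meeting in two points: faithful actions on six points.
-/
import Cfsg.Agent.Lib.Golay.Six

set_option autoImplicit false

namespace CfsgGolay

open Cfsg
open scoped Pointwise

attribute [local irreducible] codeL octadL dodecadL slpCodes

/-- Apply a list of coded permutations to a mask, last first. -/
def pmaskL : List ℕ → ℕ → ℕ
  | [], m => m
  | c :: l, m => pmask c (pmaskL l m)

theorem pmaskL_spec {m : ℕ} (hm : m < 2 ^ 24) :
    ∀ l : List ℕ, (∀ c ∈ l, c ∈ octFix) → pmaskL l m < 2 ^ 24 ∧ toSet (pmaskL l m) ∈ MulAction.orbit (fixOct O0) (toSet m)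
  | [], _ => ⟨hm, MulAction.mem_orbit_self _⟩
  | c :: l, h => by
    obtain ⟨-, ⟨k, hk⟩, hke⟩ := pmaskL_spec hm l fun x hx => h x (List.mem_cons_of_mem _ hx)
    obtain ⟨g, hg, hr⟩ := octFix_le c (h c (by simp))
    refine ⟨hr.pmask_lt _, ⟨⟨g * k, mul_mem hg hk⟩, ?_⟩⟩
    show (g * k) • toSet m = toSet (pmask c (pmaskL l m))
    rw [hr.toSet_pmask, mul_smul]
    exact congrArg (g • ·) hke

theorem fixOct_regular_std {m : ℕ} (hm : m < 2 ^ 24)
    (h : decide ((octFix.sublists.map fun l => pmaskL l m).Nodup) = true) :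
    fixOct O0 ⊓ MulAction.stabilizer (Equiv.Perm GolayPt) (toSet m) = ⊥ := by
  classical
  rw [← Subgroup.card_eq_one]
  have hmul := card_inf_stab (H := fixOct O0) (toSet m)
  rw [octFixGr_eq.2] at hmul
  set L := octFix.sublists.map fun l => pmaskL l m
  have hnd : L.Nodup := of_decide_eq_true h
  have hlt : ∀ n ∈ L, n < 2 ^ 24 ∧ toSet n ∈ MulAction.orbit (fixOct O0) (toSet m) := by
    intro n hn
    obtain ⟨l, hl, rfl⟩ := List.mem_map.mp hn
    exact pmaskL_spec hm l fun c hc => (List.mem_sublists.mp hl).subset hc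
  have h16 : 16 ≤ (MulAction.orbit (fixOct O0) (toSet m)).ncard := by
    have hsub : ((L.toFinset.image toSet : Finset (Finset GolayPt)) : Set (Finset GolayPt)) ⊆
        MulAction.orbit (fixOct O0) (toSet m) := by
      intro s hs
      obtain ⟨n, hn, rfl⟩ := Finset.mem_image.mp (Finset.mem_coe.mp hs)
      exact (hlt n (List.mem_toFinset.mp hn)).2
    have hcard := Set.ncard_le_ncard hsub
    rw [Set.ncard_coe_finset, Finset.card_image_of_injOn, List.toFinset_card_of_nodup hnd] at hcard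
    · rwa [List.length_map, List.length_sublists, show octFix.length = 4 from rfl] at hcard
    · intro a ha b hb he
      exact eq_of_toSet_eq (hlt a (List.mem_toFinset.mp ha)).1 (hlt b (List.mem_toFinset.mp hb)).1 he
  have hpos := Nat.card_pos (α := ↥(fixOct O0 ⊓ MulAction.stabilizer (Equiv.Perm GolayPt) (toSet m)))
  nlinarith

theorem fixOct_regular {g : Equiv.Perm GolayPt} (hg : g ∈ M24) {m : ℕ} (hm : m < 2 ^ 24)
    (h : decide ((octFix.sublists.map fun l => pmaskL l m).Nodup) = true) {k : Equiv.Perm GolayPt}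
    (hk : k ∈ fixOct (g • O0)) (hkm : k • (g • toSet m) = g • toSet m) : k = 1 := by
  have hc : IsConjOf g (fixOct O0 ⊓ MulAction.stabilizer (Equiv.Perm GolayPt) (toSet m))
      (fixOct (g • O0) ⊓ MulAction.stabilizer (Equiv.Perm GolayPt) (g • toSet m)) :=
    ((isConjOf_M24 hg).inf (isConjOf_fixing O0)).inf (isConjOf_stab _)
  have h1 := (hc k).mp ⟨hk, hkm⟩
  rw [fixOct_regular_std hm h, Subgroup.mem_bot] at h1
  calc k = g * (g⁻¹ * k * g) * g⁻¹ := by group
    _ = 1 := by rw [h1]; group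

theorem fixM_six_eq {E o : Finset GolayPt} (hE : E.card = 6) (ho : o ∈ octads) (hEo : E ⊆ o) :
    fixM E = fixOct o :=
  (Subgroup.eq_of_le_of_card_ge
    (show fixOct o ≤ fixM E from inf_le_inf_left _ (fixingSubgroup_antitone _ _ (Finset.coe_subset.mpr hEo)))
    (by rw [(card_fixM_six hE).1 ⟨o, ho, hEo⟩, (card_fixOct ho).1])).symm

theorem cfg_hexad {d o : Finset GolayPt} (hd : d ∈ dodecads) (ho : o ∈ octads) (h : (o ∩ d).card = 6) :
    ∃ g ∈ M24, g • D0 = d ∧ g • toSet 8683614 = o := by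
  obtain ⟨g, hg, rfl⟩ := exists_smul_D0 hd
  obtain ⟨y, rfl⟩ : ∃ y, o = g • y := ⟨g⁻¹ • o, (smul_inv_smul g o).symm⟩
  rw [card_inter_smul', Finset.inter_comm] at h
  have hy0 : toSet 8683614 ∈ octads := toSet_mem_octads' (by norm_num) (by decide +kernel)
  obtain ⟨k, hk, rfl⟩ := clsDO.trans (toSet 8683614) ⟨hy0, trivial⟩ y
    ⟨(smul_mem_octads_iff hg).mp ho, trivial⟩ (by rw [h, D0, ← toSet_and, card_toSet]; decide +kernel)
  exact ⟨g * k, mul_mem hg (Gr_le_M24 gD_ok hk), by rw [mul_smul, gD_fix hk], mul_smul g k _⟩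

theorem hexad_fix_trivial {d o : Finset GolayPt} (hd : d ∈ dodecads) (ho : o ∈ octads)
    (h : (o ∩ d).card = 6) {k : Equiv.Perm GolayPt} (hk : k ∈ M24) (hkd : k • d = d)
    (hfix : ∀ p ∈ o ∩ d, k p = p) : k = 1 := by
  obtain ⟨g, hg, h1, h2⟩ := cfg_hexad hd ho h
  have hd1 : toSet 681662 ∈ dodecads := toSet_mem_dodecads' (by norm_num) (by decide +kernel)
  obtain ⟨a, ha, ha1, ha2⟩ := cfg_hexad hd1 O0_mem (by rw [O0, ← toSet_and, card_toSet]; decide +kernel)
  refine fixOct_regular (g := g * a⁻¹) (mul_mem hg (inv_mem ha)) (m := 681662) (by norm_num)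
    (by decide +kernel) ?_ ?_
  · rw [mul_smul, ← ha2, inv_smul_smul, h2, ← fixM_six_eq h ho Finset.inter_subset_left]
    exact mem_fixM.mpr ⟨hk, hfix⟩
  · rw [mul_smul, ← ha1, inv_smul_smul, h1, hkd]

theorem hexad_compl {d o : Finset GolayPt} (hd : d ∈ dodecads) (ho : o ∈ octads) (h : (o ∩ d).card = 6) :
    ∃ o' ∈ octads, o' ∩ d = d \ (o ∩ d) := by
  obtain ⟨g, hg, rfl, rfl⟩ := cfg_hexad hd ho h
  refine ⟨g • toSet 8499969, (smul_mem_octads_iff hg).mpr (toSet_mem_octads' (by norm_num) (by decide +kernel)), ?_⟩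
  rw [← Finset.smul_finset_inter, ← Finset.smul_finset_inter, ← Finset.smul_finset_sdiff]
  congr 1

theorem octad_pair2_fix_trivial {o o' : Finset GolayPt} (ho : o ∈ octads) (ho' : o' ∈ octads)
    (h : (o ∩ o').card = 2) {k : Equiv.Perm GolayPt} (hk : k ∈ M24) (hko : k • o' = o')
    (hfix : ∀ p ∈ o \ o', k p = p) : k = 1 := by
  obtain ⟨g, hg, rfl⟩ := exists_smul_O0 ho
  obtain ⟨y, rfl⟩ : ∃ y, o' = g • y := ⟨g⁻¹ • o', (smul_inv_smul g o').symm⟩
  rw [card_inter_smul'] at h
  have hy0 : toSet 12880401 ∈ octads := toSet_mem_octads' (by norm_num) (by decide +kernel)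
  have hy : y ∈ octads := (smul_mem_octads_iff hg).mp ho'
  obtain ⟨a, ha, rfl⟩ := clsO.trans (toSet 12880401) ⟨hy0, trivial⟩ y ⟨hy, trivial⟩
    (by rw [h, O0, ← toSet_and, card_toSet]; decide +kernel)
  have hsix : ((g • O0) \ (g • a • toSet 12880401)).card = 6 := by
    rw [Finset.card_sdiff, Finset.inter_comm, card_inter_smul', h, card_of_mem_octads ho]
  refine fixOct_regular (g := g * a) (mul_mem hg (Gr_le_M24 gO_ok ha)) (m := 12880401) (by norm_num)
    (by decide +kernel) ?_ ?_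
  · rw [mul_smul, gO_fix ha, ← fixM_six_eq hsix ho Finset.sdiff_subset]
    exact mem_fixM.mpr ⟨hk, hfix⟩
  · rw [mul_smul, hko]

/-- A group acting faithfully on six points with 720 elements. -/
theorem equiv_perm_six {S : Subgroup (Equiv.Perm GolayPt)} {E : Finset GolayPt} (hE : E.card = 6)
    (hinv : ∀ g ∈ S, g • E = E) (htriv : ∀ g ∈ S, (∀ p ∈ E, g p = p) → g = 1)
    (hcard : Nat.card ↥S = 720) : Nonempty (↥S ≃* Equiv.Perm (Fin 6)) := by
  classical
  let f : ↥S →* Equiv.Perm ↥E :=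
    { toFun := fun g => (g : Equiv.Perm GolayPt).subtypePerm fun x => by
        have h := pt_mem_smul (g := (g : Equiv.Perm GolayPt)) (p := x) (s := E)
        rwa [hinv g g.2] at h
      map_one' := by ext x; rfl
      map_mul' := fun a b => by ext x; rfl }
  have hinj : Function.Injective f := by
    rw [injective_iff_map_eq_one]
    intro g hg
    exact Subtype.ext (htriv g g.2 fun p hp =>
      congrArg (fun e : Equiv.Perm ↥E => ((e ⟨p, hp⟩ : ↥E) : GolayPt)) hg)
  have hbij : Function.Bijective f := by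
    refine hinj.bijective_of_nat_card_le (le_of_eq ?_)
    rw [hcard, Nat.card_perm, Nat.card_eq_fintype_card, Fintype.card_coe, hE]
    rfl
  exact ⟨(MulEquiv.ofBijective f hbij).trans (Finset.equivFinOfCardEq hE).permCongrHom⟩

theorem card_stab_hexad {d o : Finset GolayPt} (hd : d ∈ dodecads) (ho : o ∈ octads) (h : (o ∩ d).card = 6) :
    Nat.card ↥(stabM d ⊓ MulAction.stabilizer (Equiv.Perm GolayPt) o) = 720 := by
  obtain ⟨g, hg, rfl, rfl⟩ := cfg_hexad hd ho h
  rw [((isConjOf_stabM hg D0).inf (isConjOf_stab (toSet 8683614))).card_eq]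
  have hy0 : toSet 8683614 ∈ octads := toSet_mem_octads' (by norm_num) (by decide +kernel)
  have h6 : (D0 ∩ toSet 8683614).card = 6 := by rw [D0, ← toSet_and, card_toSet]; decide +kernel
  have horb : MulAction.orbit (stabM D0) (toSet 8683614) =
      {z | z ∈ {z | z ∈ octads ∧ True} ∧ (D0 ∩ z).card = 6} := by
    ext z
    constructor
    · rintro ⟨⟨k, hk⟩, rfl⟩
      exact ⟨⟨smul_mem_octads hk.1 hy0, trivial⟩, (card_inter_smul hk.2).trans h6⟩
    · rintro ⟨hz, hv⟩
      obtain ⟨k, hk, rfl⟩ := clsDO.trans _ ⟨hy0, trivial⟩ z hz (h6.trans hv.symm)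
      exact ⟨⟨k, stabD.1 ▸ hk⟩, rfl⟩
  have hc := card_inf_stab (H := stabM D0) (toSet 8683614)
  rw [horb, clsDO.count (6, 132) (by simp), stabD.2] at hc
  omega

theorem hexad_stab_eq {d o C : Finset GolayPt} (ho : o ∈ octads) (hC : o ∩ d = C)
    (h6 : C.card = 6) : stabM d ⊓ MulAction.stabilizer (Equiv.Perm GolayPt) C =
      stabM d ⊓ MulAction.stabilizer (Equiv.Perm GolayPt) o := by
  ext k
  simp only [Subgroup.mem_inf, mem_stabM, MulAction.mem_stabilizer_iff, and_congr_right_iff, and_imp]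
  intro hk hkd
  constructor
  · intro hkC
    have hCo : C ⊆ o := hC ▸ Finset.inter_subset_left
    exact octad_unique (s := C) ((smul_mem_octads_iff hk).mpr ho) ho (by omega)
      (by rw [← hkC]; exact Finset.smul_finset_subset_smul_finset hCo) hCo
  · intro hko
    rw [← hC, Finset.smul_finset_inter, hko, hkd]

end CfsgGolay
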