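/-
Every automorphism of M23 is inner.
-/
import Cfsg.Agent.Lib.Golay.Mathieu
import Cfsg.Agent.Lib.Golay.Out23Data

set_option autoImplicit false

namespace CfsgGolay

open Cfsg

attribute [local irreducible] codeL octadL dodecadL

/-- Converse of `mem_M24_of_gensKept`. -/
theorem gensKept_of_mem {c : ℕ} {g : Equiv.Perm GolayPt} (hg : Repr c g) (h : g ∈ M24) :
    gensKept c = true := by
  rw [gensKept, List.all_eq_true]
  intro m hm
  have hm' : m < 2 ^ 24 ∧ toSet m ∈ supports (golayCode : Set (GolayPt → ZMod 2)) := by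
    have h1 : inCode m = true ∧ m < 2 ^ 24 := by
      revert m hm; decide +kernel
    exact ⟨h1.2, wordOf m, codeL_mem (mem_codeL_of_inCode h1.2 h1.1), support_wordOf m⟩
  obtain ⟨w, hw, hws⟩ := image_mem_supports h hm'.2
  rw [← hg.toSet_pmask] at hws
  have := inCode_of_mem hw
  rwa [hws, toMask_toSet (hg.pmask_lt m)] at this

namespace Out23

open SubData

/-- Equality of packed permutations on the 24 fields. -/
def eqCode (c d : ℕ) : Bool := (List.range 24).all fun i => Nat.beq (papp c i) (papp d i)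

theorem eqCode_iff {c d : ℕ} {g h : Equiv.Perm GolayPt} (hc : Repr c g) (hd : Repr d h) :
    eqCode c d = true ↔ g = h := by
  simp only [eqCode, List.all_eq_true, List.mem_range]
  constructor
  · intro e
    refine Equiv.ext fun p => idx_injective ?_
    rw [hc, hd]
    exact Nat.eq_of_beq_eq_true (e _ (idx_lt p))
  · rintro rfl i hi
    rw [← idx_pt hi, ← hc, ← hd, Nat.beq_refl]

/-- Positions along the two cycles of the doubling map. -/
def posL : List (Bool × ℕ) := [(false, 0), (true, 0), (true, 1), (true, 8), (true, 2), (false, 0), (true, 9), (false, 9), (true, 3), (true, 5), (false, 1), (false, 4), (true, 10), (true, 7), (false, 10), (false, 8), (true, 4), (false, 3), (true, 6), (false, 7), (false, 2), (false, 6), (false, 5), (false, 0)]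

/-- The permutations sending the doubling map to its cube, by the images of `1` and `5`. -/
def mk (u v : ℕ) : ℕ :=
  pack (fun i => (if Nat.beq i 0 then 0 else if Nat.beq i 23 then 23 else
    papp (ppow cB (3 * (posL.getD i (true, 0)).2)) (if (posL.getD i (true, 0)).1 then u else v)) % 32) 24

theorem posL_spec : ∀ i < 24, i = 0 ∨ i = 23 ∨
    papp (ppow cB (posL.getD i (true, 0)).2) (if (posL.getD i (true, 0)).1 then 1 else 5) = i := by
  decide +kernel

/-- One relation `(T ^ i * N) ^ n = 1` transported. -/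
def relOK (k d : ℕ) : Bool :=
  [(1, 7), (2, 7), (4, 15)].all fun p => eqCode (ppow (pcomp (ppow cT (k * p.1 % 23)) d) p.2) pid

theorem cand_checked : ∀ u < 24, ∀ v < 24, gensKept (mk u v) = false ∨
    (relOK 22 (mk u v) = false ∧ (relOK 1 (mk u v) = false ∨ eqCode (mk u v) cN = true)) := by
  decide +kernel

theorem rel_checked : relOK 1 cN = true := by decide +kernel

theorem gens_checked : gensKept cB = true ∧ gensKept cN = true ∧ papp cT 23 = 23 ∧ papp cB 23 = 23 ∧
    papp cN 23 = 23 ∧ eqCode (pcomp cB cT) (pcomp (ppow cT 2) cB) = true ∧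
    eqCode (pcomp cN cB) (pcomp (ppow cB 3) cN) = true ∧ eqCode (ppow cT 23) pid = true ∧
    papp cB 0 = 0 := by decide +kernel

theorem bij_checked : (List.range 24).all (fun i => Nat.blt (papp cB i) 24 && Nat.blt (papp cN i) 24) = true ∧
    ((List.range 24).map (papp cB)).Nodup ∧ ((List.range 24).map (papp cN)).Nodup := by decide +kernel

theorem exists_perm {c : ℕ} (h : ∀ i < 24, papp c i < 24) (hn : ((List.range 24).map (papp c)).Nodup) :
    ∃ g : Equiv.Perm GolayPt, Repr c g := by
  have hinj : Function.Injective fun p : GolayPt => pt (papp c (idx p)) := by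
    intro p q e
    have e' := congrArg idx e
    rw [idx_pt (h _ (idx_lt p)), idx_pt (h _ (idx_lt q))] at e'
    exact idx_injective (List.inj_on_of_nodup_map hn (List.mem_range.mpr (idx_lt p))
      (List.mem_range.mpr (idx_lt q)) e')
  exact ⟨Equiv.ofBijective _ ⟨hinj, Finite.surjective_of_injective hinj⟩, fun p => idx_pt (h _ (idx_lt p))⟩

theorem chain_checked : slpOK [cT, cN] prog = true ∧
    chainOK ([cT, cN] ++ prog.map Prod.fst) [8388608] [] levels [6, 7, 8, 9, 10, 11, 12, 13, 14, 15, 16, 17, 18, 19, 20, 21, 22] = true ∧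
    (levels.map fun p => p.2.length) = [1, 23, 22, 21, 20, 16, 3] ∧ toMask {(none : GolayPt)} = 8388608 := by
  decide +kernel

theorem mem_M23_of_code {c : ℕ} {g : Equiv.Perm GolayPt} (hg : Repr c g) (h : gensKept c = true)
    (h23 : papp c 23 = 23) : g ∈ Spor.M23 := by
  refine ⟨mem_M24_of_gensKept hg h, idx_injective ?_⟩
  show idx (g none) = idx none
  rw [hg]
  exact h23

theorem closure_eq {gN : Equiv.Perm GolayPt} (hN : Repr cN gN) :
    Subgroup.closure {permT, gN} = Spor.M23 := by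
  have hle : Subgroup.closure {permT, gN} ≤ Spor.M23 := by
    rw [Subgroup.closure_le]
    rintro x (rfl | rfl)
    · exact mem_M23_of_code repr_T gensKept_all.1 gens_checked.2.2.1
    · exact mem_M23_of_code hN gens_checked.2.1 gens_checked.2.2.2.2.1
  obtain ⟨hs, hc, hl, hm⟩ := chain_checked
  have hcard := chain_card (H := Subgroup.closure {permT, gN}) (fun g hg => (hle hg).1)
    (fun c hc => slp_sound _ _ _ hs (by
      intro c hc
      simp only [List.mem_cons, List.not_mem_nil, or_false] at hc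
      rcases hc with rfl | rfl
      · exact ⟨_, Subgroup.subset_closure (Or.inl rfl), repr_T⟩
      · exact ⟨_, Subgroup.subset_closure (Or.inr rfl), hN⟩) c hc)
    (fun g hg o ho => by
      rw [List.mem_singleton.mp ho, ← hm, toSet_toMask, Finset.image_singleton]
      exact congrArg _ (hle hg).2) _ [] hc
  refine Subgroup.eq_of_le_of_card_ge hle ?_
  rw [card_sporM23, hl, fixL_nil, inf_top_eq] at *
  rw [hcard]
  norm_num

/-- Two maps which twist the translation in the same way and agree at two points are equal. -/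
theorem eq_of_twist {X Y : Equiv.Perm GolayPt} (hX : X * permT = permT ^ 2 * X) (hY : Y * permT = permT ^ 2 * Y)
    (h0 : X (pt 0) = Y (pt 0)) (hn : X none = Y none) : X = Y := by
  refine Equiv.ext fun p => ?_
  rcases p with _ | i
  · exact hn
  have key : ∀ n : ℕ, (permT ^ n) (pt 0) = some (n : ZMod 23) := by
    intro n
    induction n with
    | zero => rfl
    | succ n ih =>
      rw [pow_succ', Equiv.Perm.mul_apply, ih]
      show some ((n : ZMod 23) + 1) = _
      rw [Nat.cast_succ]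
  have e : some i = (permT ^ i.val) (pt 0) := by rw [key, ZMod.natCast_zmod_val]
  rw [e, ← Equiv.Perm.mul_apply, ← Equiv.Perm.mul_apply]
  have hp : ∀ Z : Equiv.Perm GolayPt, Z * permT = permT ^ 2 * Z → ∀ n : ℕ, Z * permT ^ n = (permT ^ 2) ^ n * Z :=
    fun Z hZ n => (SemiconjBy.pow_right (show SemiconjBy Z permT (permT ^ 2) from hZ) n)
  rw [hp X hX, hp Y hY, Equiv.Perm.mul_apply, Equiv.Perm.mul_apply, h0]

theorem repr_mk {g gB : Equiv.Perm GolayPt} (hB : Repr cB gB) (h : g * gB = gB ^ 3 * g) (hn : g none = none) :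
    Repr (mk (idx (g (pt 1))) (idx (g (pt 5)))) g := by
  have hsemi : ∀ t : ℕ, g * gB ^ t = gB ^ (3 * t) * g := fun t => by
    rw [pow_mul]; exact (SemiconjBy.pow_right (show SemiconjBy g gB (gB ^ 3) from h) t)
  intro p
  have hi := idx_lt p
  rw [mk, ((pack_spec _ (fun i => Nat.mod_lt _ (by norm_num))) 24).2 _ hi]
  rcases posL_spec (idx p) hi with e | e | e
  · have hp : p = pt 0 := by rw [← pt_idx p, e]
    subst hp
    -- the fixed point
    have hb0 : gB (pt 0) = pt 0 := by rw [hB.apply_pt (by norm_num), gens_checked.2.2.2.2.2.2.2.2]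
    have h3 : (gB ^ 3) (g (pt 0)) = g (pt 0) := by
      rw [← Equiv.Perm.mul_apply, ← h, Equiv.Perm.mul_apply, hb0]
    have hfix : ∀ i < 24, papp (ppow cB 3) i = i → i = 0 ∨ i = 23 := by decide +kernel
    have h4 := hfix (idx (g (pt 0))) (idx_lt _) (by rw [← (hB.pow 3) (g (pt 0)), h3])
    rw [e]
    rcases h4 with h5 | h5
    · rw [h5]; rfl
    · exfalso
      have h6 : g (pt 0) = g none := by rw [hn, ← pt_idx (g (pt 0)), h5]; rfl
      exact absurd (g.injective h6) (by decide)
  · have hp : p = none := by rw [← pt_idx p, e]; rfl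
    subst hp
    rw [hn]; rfl
  · by_cases h0 : idx p = 0 ∨ idx p = 23
    · exfalso
      revert e h0
      generalize idx p = i at hi ⊢
      revert i
      decide +kernel
    push Not at h0
    rw [if_neg (by simpa using h0.1), if_neg (by simpa using h0.2)]
    set s := posL.getD (idx p) (true, 0) with hs
    have hst : (if s.1 then 1 else 5 : ℕ) < 24 := by split <;> norm_num
    have hp : p = (gB ^ s.2) (pt (if s.1 then 1 else 5)) := by
      rw [(hB.pow _).apply_pt hst, e, pt_idx]
    conv_lhs => rw [hp, ← Equiv.Perm.mul_apply, hsemi, Equiv.Perm.mul_apply, (hB.pow _) _]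
    have hlt := idx_lt ((gB ^ (3 * s.2)) (g (pt (if s.1 then 1 else 5))))
    rw [(hB.pow _) _] at hlt
    have e2 : (if s.1 then idx (g (pt 1)) else idx (g (pt 5))) = idx (g (pt (if s.1 then 1 else 5))) := by
      split <;> rfl
    rw [e2, Nat.mod_eq_of_lt (by omega)]

theorem exists_exp : ∀ k < 23, k ≠ 0 → ∃ i < 11, 2 ^ i * k % 23 = 1 ∨ 2 ^ i * k % 23 = 22 := by decide +kernel

theorem exists_inv : ∀ k < 23, k ≠ 0 → ∃ j < 23, k * j % 23 = 1 := by decide +kernel

/-- Every automorphism of M23 is conjugation by an element. -/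
theorem aut_inner (θ : MulAut Spor.M23) : θ ∈ (MulAut.conj : Spor.M23 →* MulAut Spor.M23).range := by
  classical
  obtain ⟨hbB, hdB, hdN⟩ := bij_checked
  simp only [List.all_eq_true, List.mem_range, Bool.and_eq_true, Nat.blt_eq] at hbB
  obtain ⟨gB, hB⟩ := exists_perm (fun i hi => (hbB i hi).1) hdB
  obtain ⟨gN, hN⟩ := exists_perm (fun i hi => (hbB i hi).2) hdN
  obtain ⟨hkB, hkN, hT23, hB23, hN23, hBT, hNB, hT, -⟩ := gens_checked
  let A : Spor.M23 := ⟨permT, mem_M23_of_code repr_T gensKept_all.1 hT23⟩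
  let B : Spor.M23 := ⟨gB, mem_M23_of_code hB hkB hB23⟩
  let C : Spor.M23 := ⟨gN, mem_M23_of_code hN hkN hN23⟩
  have hA23 : A ^ 23 = 1 := Subtype.ext ((eqCode_iff (repr_T.pow 23) repr_pid).mp hT)
  have hA1 : A ≠ 1 := fun e => by
    have h : permT (pt 0) = pt 0 := congrArg (fun g : Spor.M23 => (g : Equiv.Perm GolayPt) (pt 0)) e
    exact absurd h (by decide +kernel)
  haveI : Fact (Nat.Prime 23) := ⟨by norm_num⟩
  have hAord : orderOf A = 23 := orderOf_eq_prime hA23 hA1
  have hBA : B * A = A ^ 2 * B := Subtype.ext ((eqCode_iff (hB.comp repr_T) ((repr_T.pow 2).comp hB)).mp hBT)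
  have hCB : C * B = B ^ 3 * C := Subtype.ext ((eqCode_iff (hN.comp hB) ((hB.pow 3).comp hN)).mp hNB)
  have hgen : Subgroup.closure ({A, C} : Set Spor.M23) = ⊤ := by
    refine Subgroup.map_injective Spor.M23.subtype_injective ?_
    rw [MonoidHom.map_closure, ← MonoidHom.range_eq_map, Subgroup.range_subtype, Set.image_pair]
    exact closure_eq hN
  -- Sylow
  have hfac : (Nat.card Spor.M23).factorization 23 = 1 := by
    rw [card_sporM23, show (10200960 : ℕ) = 23 * 443520 by norm_num,
      Nat.factorization_mul (by norm_num) (by norm_num), Finsupp.add_apply,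
      Nat.Prime.factorization_self (by norm_num), Nat.factorization_eq_zero_of_not_dvd (by norm_num)]
  have hsyl : ∀ x : Spor.M23, orderOf x = 23 → ∃ P : Sylow 23 Spor.M23, (P : Subgroup Spor.M23) = Subgroup.zpowers x :=
    fun x hx => ⟨Sylow.ofCard (Subgroup.zpowers x) (by rw [Nat.card_zpowers, hx, hfac, pow_one]), by rfl⟩
  obtain ⟨P, hP⟩ := hsyl A hAord
  obtain ⟨Q, hQ⟩ := hsyl (θ A) (by rw [MulEquiv.orderOf_eq, hAord])
  obtain ⟨g, hg⟩ := MulAction.exists_smul_eq Spor.M23 Q P
  have hmem : g * θ A * g⁻¹ ∈ Subgroup.zpowers A := by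
    rw [← hP, ← hg, Sylow.coe_subgroup_smul, hQ]
    exact ⟨θ A, Subgroup.mem_zpowers _, rfl⟩
  obtain ⟨k₀, hk₀, hAk⟩ : ∃ k < 23, A ^ k = g * θ A * g⁻¹ := by
    obtain ⟨n, hn⟩ := ((isOfFinOrder_of_finite A).mem_powers_iff_mem_zpowers).mpr hmem
    exact ⟨n % 23, Nat.mod_lt _ (by norm_num), by rw [← hn, ← hAord, pow_mod_orderOf]⟩
  have hk0 : k₀ ≠ 0 := by
    rintro rfl
    rw [pow_zero] at hAk
    exact hA1 (θ.injective (by rw [map_one]; exact (conj_eq_one_iff.mp hAk.symm)))
  let θ₁ : MulAut Spor.M23 := MulAut.conj g * θ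
  have h1A : θ₁ A = A ^ k₀ := hAk.symm
  -- the image of the doubling map
  obtain ⟨j, -, hj⟩ := exists_inv k₀ hk₀ hk0
  have hAkj : (A ^ k₀) ^ j = A := by rw [← pow_mul, ← pow_mod_orderOf, hAord, hj, pow_one]
  let X := θ₁ B
  have hXA : X * A = A ^ 2 * X := by
    have h := congrArg θ₁ hBA
    rw [map_mul, map_mul, map_pow, h1A] at h
    have h' := (show SemiconjBy X (A ^ k₀) ((A ^ k₀) ^ 2) from h).pow_right j
    rw [hAkj, ← pow_mul (A ^ k₀) 2 j, Nat.mul_comm 2 j, pow_mul, hAkj] at h'
    exact h'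
  have hbn : ∀ x : Spor.M23, (x : Equiv.Perm GolayPt) none = none := fun x => x.2.2
  set c := idx ((X : Equiv.Perm GolayPt) (pt 0)) with hc
  have hc23 : c < 23 := by
    rcases Nat.lt_or_ge c 23 with h | h
    · exact h
    · exfalso
      have : c = 23 := by have := idx_lt ((X : Equiv.Perm GolayPt) (pt 0)); omega
      have h1 : (X : Equiv.Perm GolayPt) (pt 0) = (X : Equiv.Perm GolayPt) none := by
        rw [hbn X, ← pt_idx ((X : Equiv.Perm GolayPt) (pt 0)), ← hc, this]; rfl
      exact absurd ((X : Equiv.Perm GolayPt).injective h1) (by decide)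
  have hXeq : X = A ^ c * B := by
    refine Subtype.ext (eq_of_twist (congrArg Subtype.val hXA) (congrArg Subtype.val (show A ^ c * B * A = A ^ 2 * (A ^ c * B) by
      rw [mul_assoc, hBA, ← mul_assoc, ← mul_assoc, ← pow_add, ← pow_add, add_comm])) ?_ ?_)
    · have hA0 : ∀ n < 23, papp (ppow cT n) 0 = n := by decide +kernel
      rw [← pt_idx ((X : Equiv.Perm GolayPt) (pt 0)), ← hc]
      show pt c = ((permT ^ c) * gB) (pt 0)
      rw [Equiv.Perm.mul_apply, hB.apply_pt (by norm_num), show papp cB 0 = 0 from gens_checked.2.2.2.2.2.2.2.2,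
        (repr_T.pow c).apply_pt (by norm_num), hA0 c hc23]
    · rw [hbn, hbn]
  let θ₂ : MulAut Spor.M23 := MulAut.conj (A ^ c) * θ₁
  have h2A : θ₂ A = A ^ k₀ := by
    show A ^ c * θ₁ A * (A ^ c)⁻¹ = A ^ k₀
    rw [h1A, mul_inv_eq_iff_eq_mul, ← pow_add, ← pow_add, add_comm]
  have h2B : θ₂ B = B := by
    show A ^ c * X * (A ^ c)⁻¹ = B
    have h := (show SemiconjBy B A (A ^ 2) from hBA).pow_right c
    rw [hXeq, mul_inv_eq_iff_eq_mul, h.eq, ← pow_mul, ← mul_assoc, ← pow_add, two_mul]
  -- normalise the exponent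
  obtain ⟨i, -, hi⟩ := exists_exp k₀ hk₀ hk0
  let θ₃ : MulAut Spor.M23 := MulAut.conj (B ^ i) * θ₂
  obtain ⟨k, hk, h3A⟩ : ∃ k, (k = 1 ∨ k = 22) ∧ θ₃ A = A ^ k := by
    refine ⟨2 ^ i * k₀ % 23, hi, ?_⟩
    show B ^ i * θ₂ A * (B ^ i)⁻¹ = _
    rw [h2A, mul_inv_eq_iff_eq_mul]
    have hsc : ∀ n : ℕ, SemiconjBy (B ^ n) A (A ^ 2 ^ n) := by
      intro n
      induction n with
      | zero => simp
      | succ n ih =>
        rw [pow_succ', pow_succ' 2 n, pow_mul]
        exact SemiconjBy.mul_left ((show SemiconjBy B A (A ^ 2) from hBA).pow_right _) ih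
    rw [((hsc i).pow_right k₀).eq, ← pow_mul, ← hAord, pow_mod_orderOf]
  have h3B : θ₃ B = B := by
    show B ^ i * θ₂ B * (B ^ i)⁻¹ = B
    rw [h2B, mul_inv_eq_iff_eq_mul, (Commute.self_pow B i).eq]
  -- the third generator
  let Z := θ₃ C
  have hZB : Z * B = B ^ 3 * Z := by
    have h := congrArg θ₃ hCB
    rwa [map_mul, map_mul, map_pow, h3B] at h
  have hZr := repr_mk (g := (Z : Equiv.Perm GolayPt)) hB (congrArg Subtype.val hZB) (hbn Z)
  have hkept := gensKept_of_mem hZr Z.2.1
  have hrel : relOK k (mk (idx ((Z : Equiv.Perm GolayPt) (pt 1))) (idx ((Z : Equiv.Perm GolayPt) (pt 5)))) = true := by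
    have h0 := rel_checked
    simp only [relOK, List.all_eq_true] at h0 ⊢
    intro p hp
    have e := (eqCode_iff (((repr_T.pow _).comp hN).pow p.2) repr_pid).mp (h0 p hp)
    rw [eqCode_iff (((repr_T.pow _).comp hZr).pow p.2) repr_pid]
    have e1 : (A ^ (1 * p.1 % 23) * C) ^ p.2 = 1 := Subtype.ext e
    have e2 := congrArg θ₃ e1
    rw [map_pow, map_mul, map_pow, h3A, map_one, ← pow_mul] at e2
    have e3 : A ^ (k * p.1 % 23) = A ^ (k * (1 * p.1 % 23)) := by
      rw [one_mul, ← pow_mod_orderOf A (k * (p.1 % 23)), hAord, Nat.mul_mod_mod]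
    rw [← e3] at e2
    exact congrArg Subtype.val e2
  have hkey : θ₃ A = A ∧ θ₃ C = C := by
    rcases cand_checked _ (idx_lt _) _ (idx_lt _) with h | ⟨h22, h1⟩
    · rw [h] at hkept; exact absurd hkept (by simp)
    rcases hk with rfl | rfl
    · rcases h1 with h | h
      · rw [h] at hrel; exact absurd hrel (by simp)
      · exact ⟨by rw [h3A, pow_one], Subtype.ext ((eqCode_iff hZr hN).mp h)⟩
    · rw [h22] at hrel; exact absurd hrel (by simp)
  have h3 : θ₃ = 1 := by
    refine MulEquiv.toMonoidHom_injective (MonoidHom.eq_of_eqOn_dense hgen ?_)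
    rintro x (rfl | rfl)
    · exact hkey.1
    · exact hkey.2
  refine ⟨(B ^ i * A ^ c * g)⁻¹, ?_⟩
  rw [map_inv, map_mul, map_mul, inv_eq_iff_mul_eq_one]
  show MulAut.conj (B ^ i) * MulAut.conj (A ^ c) * MulAut.conj g * θ = 1
  rw [← h3]
  simp only [θ₃, θ₂, θ₁, mul_assoc]

end Out23

end CfsgGolay
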