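/-
Every automorphism of M24 is inner.
-/
import Cfsg.Agent.Lib.Golay.Mathieu
import Cfsg.Agent.Lib.Golay.Out23
import Cfsg.Agent.Lib.Golay.Out24Data

set_option autoImplicit false

namespace CfsgGolay

open Cfsg

attribute [local irreducible] codeL octadL dodecadL

namespace Out24

open SubData
open Out23 (eqCode eqCode_iff posL posL_spec exists_perm eq_of_twist exists_exp exists_inv)

/-- The permutations sending the doubling map to its square, by the images of `0`, `1` and `5`. -/
def mk (w u v : ℕ) : ℕ :=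
  pack (fun i => (if Nat.beq i 0 then w else if Nat.beq i 23 then 23 - w else
    papp (ppow cB (2 * (posL.getD i (true, 0)).2)) (if (posL.getD i (true, 0)).1 then u else v)) % 32) 24

/-- One relation `(T ^ i * N) ^ n = 1` transported. -/
def relOK (k d : ℕ) : Bool :=
  [(7, 4)].all fun p => eqCode (ppow (pcomp (ppow cT (k * p.1 % 23)) d) p.2) pid

theorem cand_checked : ∀ w < 2, ∀ u < 24, ∀ v < 24, gensKept (mk (23 * w) u v) = false ∨
    (relOK 22 (mk (23 * w) u v) = false ∧
      (relOK 1 (mk (23 * w) u v) = false ∨ eqCode (mk (23 * w) u v) cN = true)) := by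
  decide +kernel

theorem rel_checked : relOK 1 cN = true := by decide +kernel

theorem gens_checked : gensKept cB = true ∧ gensKept cN = true ∧ papp cT 23 = 23 ∧ papp cB 23 = 23 ∧ eqCode (pcomp cB cT) (pcomp (ppow cT 2) cB) = true ∧
    eqCode (pcomp cN cB) (pcomp (ppow cB 2) cN) = true ∧ eqCode (ppow cT 23) pid = true ∧
    papp cB 0 = 0 := by decide +kernel

theorem bij_checked : (List.range 24).all (fun i => Nat.blt (papp cB i) 24 && Nat.blt (papp cN i) 24) = true ∧
    ((List.range 24).map (papp cB)).Nodup ∧ ((List.range 24).map (papp cN)).Nodup := by decide +kernel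

theorem exists_perm {c : ℕ} (h : ∀ i < 24, papp c i < 24) (hn : ((List.range 24).map (papp c)).Nodup) :
    ∃ g : Equiv.Perm GolayPt, Repr c g := by
  have hinj : Function.Injective fun p : GolayPt => pt (papp c (idx p)) := by
    intro p q e
    have e' := congrArg idx e
    rw [idx_pt (h _ (idx_lt p)), idx_pt (h _ (idx_lt q))] at e'
    exact idx_injective (List.inj_on_of_nodup_map hn (List.mem_range.mpr (idx_lt p))
      (List.mem_range.mpr (idx_lt q)) e')
  exact ⟨Equiv.ofBijective _ ⟨hinj, Finite.surjective_of_injective hinj⟩, fun p => idx_pt (h _ (idx_lt p))⟩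

theorem chain_checked : slpOK [cT, cN] prog = true ∧
    chainOK ([cT, cN] ++ prog.map Prod.fst) [] [] levels forcedL = true ∧
    (levels.map fun p => p.2.length) = [24, 23, 22, 21, 20, 16, 3] := by
  decide +kernel

theorem closure_eq {gN : Equiv.Perm GolayPt} (hN : Repr cN gN) :
    Subgroup.closure {permT, gN} = M24 := by
  have hle : Subgroup.closure {permT, gN} ≤ M24 := by
    rw [Subgroup.closure_le]
    rintro x (rfl | rfl)
    · exact mem_M24_of_gensKept repr_T gensKept_all.1
    · exact mem_M24_of_gensKept hN gens_checked.2.1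
  obtain ⟨hs, hc, hl⟩ := chain_checked
  have hcard := chain_card (H := Subgroup.closure {permT, gN}) hle
    (fun c hc => slp_sound _ _ _ hs (by
      intro c hc
      simp only [List.mem_cons, List.not_mem_nil, or_false] at hc
      rcases hc with rfl | rfl
      · exact ⟨_, Subgroup.subset_closure (Or.inl rfl), repr_T⟩
      · exact ⟨_, Subgroup.subset_closure (Or.inr rfl), hN⟩) c hc)
    (fun g _ o ho => absurd ho List.not_mem_nil) _ [] hc
  refine Subgroup.eq_of_le_of_card_ge hle ?_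
  rw [card_M24, hl, fixL_nil, inf_top_eq] at *
  rw [hcard]
  norm_num

theorem repr_mk {g gB : Equiv.Perm GolayPt} (hB : Repr cB gB) (h : g * gB = gB ^ 2 * g) :
    ∃ w < 2, Repr (mk (23 * w) (idx (g (pt 1))) (idx (g (pt 5)))) g := by
  have hsemi : ∀ t : ℕ, g * gB ^ t = gB ^ (2 * t) * g := fun t => by
    rw [pow_mul]; exact (SemiconjBy.pow_right (show SemiconjBy g gB (gB ^ 2) from h) t)
  have hfix : ∀ i < 24, papp (ppow cB 2) i = i → i = 0 ∨ i = 23 := by decide +kernel
  have hfx : ∀ i, i = 0 ∨ i = 23 → idx (g (pt i)) = 0 ∨ idx (g (pt i)) = 23 := by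
    intro i hi
    refine hfix _ (idx_lt _) ?_
    have hbi : gB (pt i) = pt i := by
      rcases hi with rfl | rfl <;>
        rw [hB.apply_pt (by norm_num)] <;> congr 1
    rw [← (hB.pow 2) (g (pt i)), ← Equiv.Perm.mul_apply, ← h, Equiv.Perm.mul_apply, hbi]
  have hne : idx (g (pt 0)) ≠ idx (g (pt 23)) := fun e => absurd (g.injective (idx_injective e)) (by decide)
  obtain ⟨w, hw, h0, h23⟩ : ∃ w < 2, idx (g (pt 0)) = 23 * w ∧ idx (g (pt 23)) = 23 - 23 * w := by
    rcases hfx 0 (Or.inl rfl) with e0 | e0 <;> rcases hfx 23 (Or.inr rfl) with e23 | e23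
    · omega
    · exact ⟨0, by omega⟩
    · exact ⟨1, by omega⟩
    · omega
  refine ⟨w, hw, fun p => ?_⟩
  have hi := idx_lt p
  rw [mk, ((pack_spec _ (fun i => Nat.mod_lt _ (by norm_num))) 24).2 _ hi]
  rcases posL_spec (idx p) hi with e | e | e
  · have hp : p = pt 0 := by rw [← pt_idx p, e]
    rw [hp, idx_pt (by norm_num : (0 : ℕ) < 24), h0, if_pos (Nat.beq_refl 0), Nat.mod_eq_of_lt (by omega)]
  · have hp : p = pt 23 := by rw [← pt_idx p, e]
    rw [hp, idx_pt (by norm_num : (23 : ℕ) < 24), h23, if_neg (by simp), if_pos (Nat.beq_refl 23),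
      Nat.mod_eq_of_lt (by omega)]
  · by_cases h0' : idx p = 0 ∨ idx p = 23
    · exfalso
      revert e h0'
      generalize idx p = i at hi ⊢
      revert i
      decide +kernel
    push Not at h0'
    rw [if_neg (by simpa using h0'.1), if_neg (by simpa using h0'.2)]
    set s := posL.getD (idx p) (true, 0) with hs
    have hst : (if s.1 then 1 else 5 : ℕ) < 24 := by split <;> norm_num
    have e' : papp (ppow Out23.cB s.2) (if s.1 then 1 else 5) = idx p := e
    have hp : p = (gB ^ s.2) (pt (if s.1 then 1 else 5)) := by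
      rw [(hB.pow _).apply_pt hst]
      show p = pt (papp (ppow Out23.cB s.2) (if s.1 then 1 else 5))
      rw [e', pt_idx]
    conv_lhs => rw [hp, ← Equiv.Perm.mul_apply, hsemi, Equiv.Perm.mul_apply, (hB.pow _) _]
    have hlt := idx_lt ((gB ^ (2 * s.2)) (g (pt (if s.1 then 1 else 5))))
    rw [(hB.pow _) _] at hlt
    have e2 : (if s.1 then idx (g (pt 1)) else idx (g (pt 5))) = idx (g (pt (if s.1 then 1 else 5))) := by
      split <;> rfl
    rw [e2, Nat.mod_eq_of_lt (by omega)]

/-- Every automorphism of M24 is conjugation by an element. -/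
theorem aut_inner (θ : MulAut M24) : θ ∈ (MulAut.conj : M24 →* MulAut M24).range := by
  classical
  obtain ⟨hbB, hdB, hdN⟩ := bij_checked
  simp only [List.all_eq_true, List.mem_range, Bool.and_eq_true, Nat.blt_eq] at hbB
  obtain ⟨gB, hB⟩ := exists_perm (fun i hi => (hbB i hi).1) hdB
  obtain ⟨gN, hN⟩ := exists_perm (fun i hi => (hbB i hi).2) hdN
  obtain ⟨hkB, hkN, -, -, hBT, hNB, hT, hb00⟩ := gens_checked
  let A : M24 := ⟨permT, mem_M24_of_gensKept repr_T gensKept_all.1⟩
  let B : M24 := ⟨gB, mem_M24_of_gensKept hB hkB⟩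
  let C : M24 := ⟨gN, mem_M24_of_gensKept hN hkN⟩
  have hA23 : A ^ 23 = 1 := Subtype.ext ((eqCode_iff (repr_T.pow 23) repr_pid).mp hT)
  have hA1 : A ≠ 1 := fun e => by
    have h : permT (pt 0) = pt 0 := congrArg (fun g : M24 => (g : Equiv.Perm GolayPt) (pt 0)) e
    exact absurd h (by decide +kernel)
  haveI : Fact (Nat.Prime 23) := ⟨by norm_num⟩
  have hAord : orderOf A = 23 := orderOf_eq_prime hA23 hA1
  have hBA : B * A = A ^ 2 * B := Subtype.ext ((eqCode_iff (hB.comp repr_T) ((repr_T.pow 2).comp hB)).mp hBT)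
  have hCB : C * B = B ^ 2 * C := Subtype.ext ((eqCode_iff (hN.comp hB) ((hB.pow 2).comp hN)).mp hNB)
  have hgen : Subgroup.closure ({A, C} : Set M24) = ⊤ := by
    refine Subgroup.map_injective M24.subtype_injective ?_
    rw [MonoidHom.map_closure, ← MonoidHom.range_eq_map, Subgroup.range_subtype, Set.image_pair]
    exact closure_eq hN
  -- Sylow
  have hfac : (Nat.card M24).factorization 23 = 1 := by
    rw [card_M24, show (244823040 : ℕ) = 23 * 10644480 by norm_num,
      Nat.factorization_mul (by norm_num) (by norm_num), Finsupp.add_apply,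
      Nat.Prime.factorization_self (by norm_num), Nat.factorization_eq_zero_of_not_dvd (by norm_num)]
  have hsyl : ∀ x : M24, orderOf x = 23 → ∃ P : Sylow 23 M24, (P : Subgroup M24) = Subgroup.zpowers x :=
    fun x hx => ⟨Sylow.ofCard (Subgroup.zpowers x) (by rw [Nat.card_zpowers, hx, hfac, pow_one]), by rfl⟩
  obtain ⟨P, hP⟩ := hsyl A hAord
  obtain ⟨Q, hQ⟩ := hsyl (θ A) (by rw [MulEquiv.orderOf_eq, hAord])
  obtain ⟨g, hg⟩ := MulAction.exists_smul_eq M24 Q P
  have hmem : g * θ A * g⁻¹ ∈ Subgroup.zpowers A := by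
    rw [← hP, ← hg, Sylow.coe_subgroup_smul, hQ]
    exact ⟨θ A, Subgroup.mem_zpowers _, rfl⟩
  obtain ⟨k₀, hk₀, hAk⟩ : ∃ k < 23, A ^ k = g * θ A * g⁻¹ := by
    obtain ⟨n, hn⟩ := ((isOfFinOrder_of_finite A).mem_powers_iff_mem_zpowers).mpr hmem
    exact ⟨n % 23, Nat.mod_lt _ (by norm_num), by rw [← hn, ← hAord, pow_mod_orderOf]⟩
  have hk0 : k₀ ≠ 0 := by
    rintro rfl
    rw [pow_zero] at hAk
    exact hA1 (θ.injective (by rw [map_one]; exact (conj_eq_one_iff.mp hAk.symm)))
  let θ₁ : MulAut M24 := MulAut.conj g * θ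
  have h1A : θ₁ A = A ^ k₀ := hAk.symm
  -- the image of the doubling map
  obtain ⟨j, -, hj⟩ := exists_inv k₀ hk₀ hk0
  have hAkj : (A ^ k₀) ^ j = A := by rw [← pow_mul, ← pow_mod_orderOf, hAord, hj, pow_one]
  let X := θ₁ B
  have hXA : X * A = A ^ 2 * X := by
    have h := congrArg θ₁ hBA
    rw [map_mul, map_mul, map_pow, h1A] at h
    have h' := (show SemiconjBy X (A ^ k₀) ((A ^ k₀) ^ 2) from h).pow_right j
    rw [hAkj, ← pow_mul (A ^ k₀) 2 j, Nat.mul_comm 2 j, pow_mul, hAkj] at h'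
    exact h'
  have hbn : (X : Equiv.Perm GolayPt) none = none := by
    have h2 : ∀ i < 24, papp (ppow cT 2) i = i → i = 23 := by decide +kernel
    have h3 := h2 _ (idx_lt ((X : Equiv.Perm GolayPt) none)) (by
      rw [← (repr_T.pow 2) ((X : Equiv.Perm GolayPt) none)]
      refine congrArg idx ?_
      show ((permT ^ 2) * (X : Equiv.Perm GolayPt)) none = (X : Equiv.Perm GolayPt) none
      rw [show (permT ^ 2) * (X : Equiv.Perm GolayPt) = (X : Equiv.Perm GolayPt) * permT from (congrArg Subtype.val hXA).symm]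
      rfl)
    rw [← pt_idx ((X : Equiv.Perm GolayPt) none), h3]; rfl
  set c := idx ((X : Equiv.Perm GolayPt) (pt 0)) with hc
  have hc23 : c < 23 := by
    rcases Nat.lt_or_ge c 23 with h | h
    · exact h
    · exfalso
      have : c = 23 := by have := idx_lt ((X : Equiv.Perm GolayPt) (pt 0)); omega
      have h1 : (X : Equiv.Perm GolayPt) (pt 0) = (X : Equiv.Perm GolayPt) none := by
        rw [hbn, ← pt_idx ((X : Equiv.Perm GolayPt) (pt 0)), ← hc, this]; rfl
      exact absurd ((X : Equiv.Perm GolayPt).injective h1) (by decide)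
  have hXeq : X = A ^ c * B := by
    refine Subtype.ext (eq_of_twist (congrArg Subtype.val hXA) (congrArg Subtype.val (show A ^ c * B * A = A ^ 2 * (A ^ c * B) by
      rw [mul_assoc, hBA, ← mul_assoc, ← mul_assoc, ← pow_add, ← pow_add, add_comm])) ?_ ?_)
    · have hA0 : ∀ n < 23, papp (ppow cT n) 0 = n := by decide +kernel
      rw [← pt_idx ((X : Equiv.Perm GolayPt) (pt 0)), ← hc]
      show pt c = ((permT ^ c) * gB) (pt 0)
      rw [Equiv.Perm.mul_apply, hB.apply_pt (by norm_num), show papp cB 0 = 0 from hb00,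
        (repr_T.pow c).apply_pt (by norm_num), hA0 c hc23]
    · rw [hbn]
      show none = (permT ^ c) (gB none)
      have hT0 : ∀ n < 23, papp (ppow cT n) (papp cB 23) = 23 := by decide +kernel
      rw [← pt_idx ((permT ^ c) (gB none)), (repr_T.pow c), hB, show idx (none : GolayPt) = 23 from rfl, hT0 c hc23]
      rfl
  let θ₂ : MulAut M24 := MulAut.conj (A ^ c) * θ₁
  have h2A : θ₂ A = A ^ k₀ := by
    show A ^ c * θ₁ A * (A ^ c)⁻¹ = A ^ k₀
    rw [h1A, mul_inv_eq_iff_eq_mul, ← pow_add, ← pow_add, add_comm]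
  have h2B : θ₂ B = B := by
    show A ^ c * X * (A ^ c)⁻¹ = B
    have h := (show SemiconjBy B A (A ^ 2) from hBA).pow_right c
    rw [hXeq, mul_inv_eq_iff_eq_mul, h.eq, ← pow_mul, ← mul_assoc, ← pow_add, two_mul]
  -- normalise the exponent
  obtain ⟨i, -, hi⟩ := exists_exp k₀ hk₀ hk0
  let θ₃ : MulAut M24 := MulAut.conj (B ^ i) * θ₂
  obtain ⟨k, hk, h3A⟩ : ∃ k, (k = 1 ∨ k = 22) ∧ θ₃ A = A ^ k := by
    refine ⟨2 ^ i * k₀ % 23, hi, ?_⟩
    show B ^ i * θ₂ A * (B ^ i)⁻¹ = _
    rw [h2A, mul_inv_eq_iff_eq_mul]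
    have hsc : ∀ n : ℕ, SemiconjBy (B ^ n) A (A ^ 2 ^ n) := by
      intro n
      induction n with
      | zero => simp
      | succ n ih =>
        rw [pow_succ', pow_succ' 2 n, pow_mul]
        exact SemiconjBy.mul_left ((show SemiconjBy B A (A ^ 2) from hBA).pow_right _) ih
    rw [((hsc i).pow_right k₀).eq, ← pow_mul, ← hAord, pow_mod_orderOf]
  have h3B : θ₃ B = B := by
    show B ^ i * θ₂ B * (B ^ i)⁻¹ = B
    rw [h2B, mul_inv_eq_iff_eq_mul, (Commute.self_pow B i).eq]
  -- the third generator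
  let Z := θ₃ C
  have hZB : Z * B = B ^ 2 * Z := by
    have h := congrArg θ₃ hCB
    rwa [map_mul, map_mul, map_pow, h3B] at h
  obtain ⟨w, hw, hZr⟩ := repr_mk (g := (Z : Equiv.Perm GolayPt)) hB (congrArg Subtype.val hZB)
  have hkept := gensKept_of_mem hZr Z.2
  have hrel : relOK k (mk (23 * w) (idx ((Z : Equiv.Perm GolayPt) (pt 1))) (idx ((Z : Equiv.Perm GolayPt) (pt 5)))) = true := by
    have h0 := rel_checked
    simp only [relOK, List.all_eq_true] at h0 ⊢
    intro p hp
    have e := (eqCode_iff (((repr_T.pow _).comp hN).pow p.2) repr_pid).mp (h0 p hp)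
    rw [eqCode_iff (((repr_T.pow _).comp hZr).pow p.2) repr_pid]
    have e1 : (A ^ (1 * p.1 % 23) * C) ^ p.2 = 1 := Subtype.ext e
    have e2 := congrArg θ₃ e1
    rw [map_pow, map_mul, map_pow, h3A, map_one, ← pow_mul] at e2
    have e3 : A ^ (k * p.1 % 23) = A ^ (k * (1 * p.1 % 23)) := by
      rw [one_mul, ← pow_mod_orderOf A (k * (p.1 % 23)), hAord, Nat.mul_mod_mod]
    rw [← e3] at e2
    exact congrArg Subtype.val e2
  have hkey : θ₃ A = A ∧ θ₃ C = C := by
    rcases cand_checked w hw _ (idx_lt _) _ (idx_lt _) with h | ⟨h22, h1⟩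
    · rw [h] at hkept; exact absurd hkept (by simp)
    rcases hk with rfl | rfl
    · rcases h1 with h | h
      · rw [h] at hrel; exact absurd hrel (by simp)
      · exact ⟨by rw [h3A, pow_one], Subtype.ext ((eqCode_iff hZr hN).mp h)⟩
    · rw [h22] at hrel; exact absurd hrel (by simp)
  have h3 : θ₃ = 1 := by
    refine MulEquiv.toMonoidHom_injective (MonoidHom.eq_of_eqOn_dense hgen ?_)
    rintro x (rfl | rfl)
    · exact hkey.1
    · exact hkey.2
  refine ⟨(B ^ i * A ^ c * g)⁻¹, ?_⟩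
  rw [map_inv, map_mul, map_mul, inv_eq_iff_mul_eq_one]
  show MulAut.conj (B ^ i) * MulAut.conj (A ^ c) * MulAut.conj g * θ = 1
  rw [← h3]
  simp only [θ₃, θ₂, θ₁, mul_assoc]

end Out24

end CfsgGolay
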