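/-
Stabilisers of codewords fix no nonzero class modulo the code.
-/
import Cfsg.Agent.Lib.Golay.ClassC

set_option autoImplicit false

namespace CfsgGolay

open Cfsg
open scoped Pointwise

attribute [local irreducible] codeL octadL dodecadL slpCodes

/-- Some generator moves the class of `h` shifted to the high positions. -/
def movedB (L : List GenT) (h : ℕ) : Bool :=
  L.any fun e => !inCode (Nat.xor (pmT e (Nat.shiftLeft h 12)) (Nat.shiftLeft h 12))

theorem moved_gO : (List.range 4095).all (fun h => movedB gO (h + 1)) = true := by decide +kernel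

theorem moved_gD : (List.range 4095).all (fun h => movedB gD (h + 1)) = true := by decide +kernel

theorem comp_symm_mem {g : Equiv.Perm GolayPt} (hg : g ∈ M24) {w : GolayPt → ZMod 2}
    (hw : w ∈ golayCode) : w ∘ g.symm ∈ golayCode := by
  have h1 : support₂ (w ∘ g.symm) = (support₂ w).image g := by
    ext p
    simp only [support₂, Finset.mem_filter, Finset.mem_univ, true_and, Finset.mem_image, Function.comp_apply]
    exact ⟨fun hp => ⟨_, hp, Equiv.apply_symm_apply g p⟩,
      fun ⟨q, hq, he⟩ => by rw [← he, Equiv.symm_apply_apply]; exact hq⟩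
  rw [mem_golayCode_iff, h1, ← mem_supports]
  exact image_mem_supports hg ⟨w, hw, rfl⟩

theorem moved_class {L : List GenT} (hL : gensOK L = true)
    (h : (List.range 4095).all (fun h => movedB L (h + 1)) = true) {w : GolayPt → ZMod 2}
    (hw : w ∉ golayCode) : ∃ σ ∈ Gr L, w ∘ σ.symm - w ∉ golayCode := by
  set m := toMask (support₂ w) with hm
  have hwm : w = wordOf m := (wordOf_toMask_support w).symm
  have hmlt : m < 2 ^ 24 := toMask_lt _
  set l := m % 4096 with hl
  set c := l ||| (xorCols decCols (syn genMasks l) <<< 12) with hc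
  have hcmem : c ∈ codeL := by
    rw [beq_iff_eq.mp codeL_checks.2.2.1, List.mem_map]
    exact ⟨l, List.mem_range.mpr (Nat.mod_lt _ (by norm_num)), rfl⟩
  have hclt := codeL_lt c hcmem
  have hlow : (m ^^^ c) % 4096 = 0 := by
    have hc' : c % 2 ^ 12 = l := by
      rw [hc, Nat.or_mod_two_pow, Nat.shiftLeft_eq, Nat.mul_mod_left, Nat.or_zero]
      exact Nat.mod_eq_of_lt (Nat.mod_lt _ (by norm_num))
    rw [show (4096 : ℕ) = 2 ^ 12 by norm_num, Nat.xor_mod_two_pow, hc', hl]
    exact Nat.xor_self _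
  set k := (m ^^^ c) / 4096 with hk
  have hdec : m ^^^ c = k <<< 12 := by rw [Nat.shiftLeft_eq]; norm_num; omega
  have hxlt : m ^^^ c < 2 ^ 24 := Nat.xor_lt_two_pow hmlt hclt
  have hklt : k < 4096 := by omega
  have hk0 : k ≠ 0 := by
    intro h0
    rw [h0, Nat.zero_shiftLeft] at hdec
    have hmc : m = c := by rw [← Nat.xor_zero m, ← Nat.xor_self c, ← Nat.xor_assoc, hdec, Nat.zero_xor]
    exact hw (hwm ▸ hmc ▸ codeL_mem hcmem)
  have hkey := List.all_eq_true.mp h (k - 1) (List.mem_range.mpr (by omega))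
  rw [show k - 1 + 1 = k by omega] at hkey
  simp only [movedB, List.any_eq_true, Bool.not_eq_true'] at hkey
  obtain ⟨e, he, hne⟩ := hkey
  obtain ⟨g, hgM, hg⟩ := exists_good hL he
  refine ⟨g, mem_Gr he hg, fun hbad => ?_⟩
  have hcc := codeL_mem hcmem
  set u := wordOf (m ^^^ c) with hu
  have hu' : u ∘ g.symm - u ∈ golayCode := by
    have e1 : u ∘ g.symm - u = (w ∘ g.symm - w) + (wordOf c ∘ g.symm - wordOf c) := by
      rw [hu, wordOf_xor, ← hwm]
      funext p
      simp only [Pi.add_apply, Pi.sub_apply, Function.comp_apply]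
      ring
    rw [e1]
    exact add_mem hbad (sub_mem (comp_symm_mem hgM hcc) hcc)
  have hlt2 : m ^^^ c < 2 ^ 24 := hxlt
  have hpm : pmT e (k <<< 12) = pmask e.c (k <<< 12) := by
    obtain ⟨h1, h2⟩ := hg.toSet_pmT (hdec ▸ hlt2)
    exact eq_of_toSet_eq h2 (hg.1.pmask_lt _) (h1.trans (hg.1.toSet_pmask _).symm)
  rw [hu, wordOf_comp_symm hg.1, hdec, ← hpm] at hu'
  have e2 : wordOf (pmT e (k <<< 12)) - wordOf (k <<< 12) = wordOf (pmT e (k <<< 12) ^^^ (k <<< 12)) := by
    rw [wordOf_xor, ZModModule.sub_eq_add]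
  rw [e2] at hu'
  have hin := inCode_of_mem hu'
  rw [support_wordOf, toMask_toSet] at hin
  · exact absurd (hne.symm.trans hin) (by simp)
  · exact Nat.xor_lt_two_pow (hg.toSet_pmT (hdec ▸ hlt2)).2 (hdec ▸ hlt2)

theorem stab_code_moves {u w : GolayPt → ZMod 2} (hu : u ∈ golayCode) (hw : w ∉ golayCode) :
    ∃ σ ∈ M24, (fun p => u (σ.symm p)) = u ∧ (fun p => w (σ.symm p)) - w ∉ golayCode := by
  classical
  -- a standard group fixing a translate of the support
  have hbool : ∀ x : ZMod 2, x = if x ≠ 0 then 1 else 0 := by decide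
  have hinv : ∀ σ : Equiv.Perm GolayPt, σ • support₂ u = support₂ u → (fun p => u (σ.symm p)) = u := by
    intro σ hσ
    funext p
    have h : p ∈ support₂ u ↔ σ.symm p ∈ support₂ u := by
      conv_lhs => rw [← hσ, show p = σ (σ.symm p) from (Equiv.apply_symm_apply σ p).symm, pt_mem_smul]
    simp only [support₂, Finset.mem_filter, Finset.mem_univ, true_and] at h
    rw [hbool (u (σ.symm p)), hbool (u p)]
    by_cases hp : u p = 0
    · simp [hp, show u (σ.symm p) = 0 by by_contra hc; exact (h.mpr hc) hp]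
    · simp [hp, h.mp hp]
  have hmain : ∀ (g : Equiv.Perm GolayPt), g ∈ M24 → ∀ L : List GenT, gensOK L = true →
      (List.range 4095).all (fun h => movedB L (h + 1)) = true →
      (∀ k ∈ Gr L, (g * k * g⁻¹) • support₂ u = support₂ u) →
      ∃ σ ∈ M24, (fun p => u (σ.symm p)) = u ∧ (fun p => w (σ.symm p)) - w ∉ golayCode := by
    intro g hg L hL hmv hfix
    have hw' : w ∘ g ∉ golayCode := fun hc => hw (by
      have := comp_symm_mem hg hc
      convert this using 1
      funext p; simp)
    obtain ⟨k, hk, hne⟩ := moved_class hL hmv hw'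
    refine ⟨g * k * g⁻¹, mul_mem (mul_mem hg (Gr_le_M24 hL hk)) (inv_mem hg), hinv _ (hfix k hk),
      fun hbad => hne ?_⟩
    have := comp_symm_mem (inv_mem hg) hbad
    convert this using 1
    funext p
    simp [Equiv.Perm.mul_def, Equiv.Perm.inv_def]
  set s := support₂ u with hs
  have hsm : s ∈ supports (golayCode : Set (GolayPt → ZMod 2)) := ⟨u, hu, rfl⟩
  have hOfix : ∀ k ∈ Gr gO, k • O0 = O0 := fun k hk => gO_fix hk
  rcases code_weight_cases hsm with h | h | h | h | h
  · exact hmain 1 (one_mem _) gO gO_ok moved_gO fun k _ => by simp [Finset.card_eq_zero.mp h]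
  · obtain ⟨g, hg, he⟩ := exists_smul_O0 (o := s) ⟨hsm, h⟩
    exact hmain g hg gO gO_ok moved_gO fun k hk => by
      rw [← he, mul_smul, inv_smul_smul, mul_smul, hOfix k hk]
  · obtain ⟨g, hg, he⟩ := exists_smul_D0 (o := s) ⟨hsm, h⟩
    exact hmain g hg gD gD_ok moved_gD fun k hk => by
      rw [← he, mul_smul, inv_smul_smul, mul_smul, gD_fix hk]
  · have hc : sᶜ ∈ octads := by
      refine ⟨⟨u + 1, add_mem hu (Submodule.subset_span (Or.inr rfl)), ?_⟩, ?_⟩
      · ext p
        simp only [hs, support₂, Finset.mem_filter, Finset.mem_univ, true_and, Finset.mem_compl, Pi.add_apply,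
          Pi.one_apply]
        rw [hbool (u p)]
        by_cases hp : u p = 0 <;> simp [hp] <;> decide
      · rw [Finset.card_compl, h]; simp [Fintype.card_option, ZMod.card]
    obtain ⟨g, hg, he⟩ := exists_smul_O0 hc
    exact hmain g hg gO gO_ok moved_gO fun k hk => by
      have h2 : (g * k * g⁻¹) • sᶜ = sᶜ := by
        rw [← he, mul_smul, inv_smul_smul, mul_smul, hOfix k hk]
      ext q
      have h3 := congrArg (fun t : Finset GolayPt => q ∈ t) h2
      obtain ⟨p, rfl⟩ := (g * k * g⁻¹).surjective q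
      simp only [pt_mem_smul, Finset.mem_compl, eq_iff_iff, not_iff_not] at h3 ⊢
      exact h3
  · refine hmain 1 (one_mem _) gO gO_ok moved_gO fun k _ => ?_
    have : s = Finset.univ := Finset.eq_univ_of_card _ (by rw [h]; simp [Fintype.card_option, ZMod.card])
    rw [this]; exact Finset.smul_finset_univ

end CfsgGolay
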