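/-
Normal elementary abelian subgroups given by six coded involutions and a conjugation table.
-/
import Cfsg.Agent.Lib.Golay.Transfer

set_option autoImplicit false

namespace CfsgGolay

open Cfsg
open scoped Pointwise

/-- The product of the listed codes selected by the bits of `n`. -/
def elW : List ℕ → ℕ → ℕ
  | [], _ => pid
  | c :: cs, n => cond (Nat.beq (n % 2) 1) (pcomp c (elW cs (n / 2))) (elW cs (n / 2))

/-- The checks: closure, distinctness and membership in the code's group. -/
def elOK (B : List ℕ) : Bool :=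
  Nat.beq B.length 6 && (B.all fun c => permOK c && gensKept c) &&
    ((List.range 6).all fun j => (List.range 64).all fun n =>
      Nat.beq (pcomp (B.getD j 0) (elW B n)) (elW B (Nat.xor n (2 ^ j)))) &&
    decide (((List.range 64).map (elW B)).Nodup)

/-- The checks: the table describes conjugation by the generators. -/
def normOK (L : List GenT) (B : List ℕ) (T : List (List ℕ)) : Bool :=
  (List.range L.length).all fun i => (List.range 6).all fun j =>
    Nat.blt ((T.getD i []).getD j 64) 64 &&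
      Nat.beq (pcomp (L.getD i ⟨0, 0, 0, 0⟩).c (B.getD j 0))
        (pcomp (elW B ((T.getD i []).getD j 64)) (L.getD i ⟨0, 0, 0, 0⟩).c)

/-- The generated subgroup. -/
def elGr (B : List ℕ) : Subgroup (Equiv.Perm GolayPt) := Subgroup.closure {g | ∃ c ∈ B, Repr c g}

theorem elW_repr : ∀ (B : List ℕ) (_ : ∀ c ∈ B, permOK c = true) (n : ℕ),
    ∃ g ∈ elGr B, Repr (elW B n) g
  | [], _, _ => ⟨1, one_mem _, by rw [elW]; exact repr_pid⟩
  | c :: cs, h, n => by
    obtain ⟨g, hg, hr⟩ := elW_repr cs (fun x hx => h x (List.mem_cons_of_mem _ hx)) (n / 2)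
    have hmono : elGr cs ≤ elGr (c :: cs) :=
      Subgroup.closure_mono fun y ⟨d, hd, hy⟩ => ⟨d, List.mem_cons_of_mem _ hd, hy⟩
    rw [elW]
    cases Nat.beq (n % 2) 1
    · rw [cond_false]; exact ⟨g, hmono hg, hr⟩
    · obtain ⟨a, ha⟩ := exists_repr_of_permOK (h c (by simp))
      rw [cond_true]
      exact ⟨a * g, mul_mem (Subgroup.subset_closure ⟨c, by simp, ha⟩) (hmono hg), ha.comp hr⟩

section

variable {B : List ℕ}

theorem elOK_data (h : elOK B = true) : B.length = 6 ∧ (∀ c ∈ B, permOK c = true ∧ gensKept c = true) ∧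
    (∀ j < 6, ∀ n < 64, pcomp (B.getD j 0) (elW B n) = elW B (Nat.xor n (2 ^ j))) ∧
    ((List.range 64).map (elW B)).Nodup := by
  simp only [elOK, Bool.and_eq_true, List.all_eq_true, List.mem_range, decide_eq_true_eq] at h
  obtain ⟨⟨⟨h1, h2⟩, h3⟩, h4⟩ := h
  exact ⟨Nat.eq_of_beq_eq_true h1, h2, fun j hj n hn => Nat.eq_of_beq_eq_true (h3 j hj n hn), h4⟩

theorem elW_zero : ∀ B : List ℕ, elW B 0 = pid
  | [] => by rw [elW]
  | c :: cs => by
    rw [elW, show Nat.beq (0 % 2) 1 = false from rfl, cond_false]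
    exact elW_zero cs

theorem elGr_le (h : elOK B = true) : elGr B ≤ M24 := by
  rw [elGr, Subgroup.closure_le]
  rintro g ⟨c, hc, hg⟩
  exact mem_M24_of_gensKept hg ((elOK_data h).2.1 c hc).2

theorem elGr_mem (h : elOK B = true) {g : Equiv.Perm GolayPt} (hg : g ∈ elGr B) :
    ∃ n < 64, Repr (elW B n) g := by
  obtain ⟨hlen, hperm, hstep, -⟩ := elOK_data h
  have hgen : ∀ (a : Equiv.Perm GolayPt) (c : ℕ), c ∈ B → Repr c a → a * a = 1 ∧
      ∀ y : Equiv.Perm GolayPt, (∃ n < 64, Repr (elW B n) y) → ∃ n < 64, Repr (elW B n) (a * y) := by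
    intro a c hc ha
    obtain ⟨j, hj, rfl⟩ := List.getElem_of_mem hc
    have hget : B.getD j 0 = B[j] := List.getD_eq_getElem _ _ hj
    have hy : ∀ y, (∃ n < 64, Repr (elW B n) y) → ∃ n < 64, Repr (elW B n) (a * y) := by
      rintro y ⟨n, hn, hr⟩
      refine ⟨Nat.xor n (2 ^ j), Nat.xor_lt_two_pow (n := 6) hn
        (Nat.pow_lt_pow_right (by norm_num) (by omega)), ?_⟩
      have := ha.comp hr
      rw [← hget, hstep j (by omega) n hn] at this
      exact this
    have e1 := hstep j (by omega) 0 (by norm_num)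
    have e2 := hstep j (by omega) (2 ^ j) (Nat.pow_lt_pow_right (a := 2) (n := 6) (by norm_num) (by omega))
    rw [elW_zero, show Nat.xor 0 (2 ^ j) = 2 ^ j from Nat.zero_xor _] at e1
    rw [show Nat.xor (2 ^ j) (2 ^ j) = 0 from Nat.xor_self _, elW_zero, ← e1, hget] at e2
    refine ⟨?_, hy⟩
    have := ha.comp (ha.comp repr_pid)
    rw [e2] at this
    simpa using this.unique repr_pid
  refine Subgroup.closure_induction_left (p := fun g _ => ∃ n < 64, Repr (elW B n) g) ?_ ?_ ?_ hg
  · exact ⟨0, by norm_num, by rw [elW_zero]; exact repr_pid⟩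
  · rintro a ⟨c, hc, ha⟩ y _ hy
    exact (hgen a c hc ha).2 y hy
  · rintro a ⟨c, hc, ha⟩ y _ hy
    rw [inv_eq_of_mul_eq_one_right (hgen a c hc ha).1]
    exact (hgen a c hc ha).2 y hy

theorem card_elGr (h : elOK B = true) : Nat.card ↥(elGr B) = 64 := by
  obtain ⟨-, hperm, -, hnd⟩ := elOK_data h
  choose f hf hr using fun n : ℕ => elW_repr B (fun c hc => (hperm c hc).1) n
  let F : Fin 64 → ↥(elGr B) := fun n => ⟨f n, hf n⟩
  have hF : Function.Bijective F := by
    refine ⟨fun a b he => ?_, fun g => ?_⟩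
    · have h1 := hr a
      have he' : f a = f b := congrArg Subtype.val he
      rw [he'] at h1
      have hc : ∀ i < 24, papp (elW B a) i = papp (elW B b) i := fun i hi => by
        rw [← idx_pt hi, ← h1 (pt i), hr b (pt i)]
      have hlist : elW B a = elW B b := by
        have hp : ∀ n : ℕ, ∃ f : ℕ → ℕ, (∀ i, f i < 32) ∧ elW B n = pack f 24 := by
          intro n
          clear hr hf h1 hc hnd F he he' h hperm
          induction B generalizing n with
          | nil => exact ⟨fun i => i % 32, fun i => Nat.mod_lt _ (by norm_num), by rw [elW, pid]⟩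
          | cons c cs ih =>
            rw [elW]
            cases Nat.beq (n % 2) 1
            · rw [cond_false]; exact ih _
            · exact ⟨fun i => papp c (papp (elW cs (n / 2)) i), fun i => Nat.mod_lt _ (by norm_num),
                by rw [cond_true, pcomp]⟩
        obtain ⟨fa, hfa, ea⟩ := hp a
        obtain ⟨fb, hfb, eb⟩ := hp b
        rw [ea, eb] at hc ⊢
        have key : ∀ k, k ≤ 24 → (∀ i < k, fa i = fb i) → pack fa k = pack fb k := by
          intro k
          induction k with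
          | zero => exact fun _ _ => rfl
          | succ k ih => exact fun hk he => by rw [pack, pack, ih (by omega) (fun i hi => he i (by omega)), he k (by omega)]
        refine key 24 le_rfl fun i hi => ?_
        have := hc i hi
        rwa [(pack_spec fa hfa 24).2 i hi, (pack_spec fb hfb 24).2 i hi] at this
      exact Fin.ext (List.inj_on_of_nodup_map hnd (List.mem_range.mpr a.2) (List.mem_range.mpr b.2) hlist)
    · obtain ⟨n, hn, hg⟩ := elGr_mem h g.2
      exact ⟨⟨n, hn⟩, Subtype.ext ((hr n).unique hg)⟩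
  rw [← Nat.card_congr (Equiv.ofBijective F hF), Nat.card_eq_fintype_card, Fintype.card_fin]

theorem elGr_invol (h : elOK B = true) {g : Equiv.Perm GolayPt} (hg : g ∈ elGr B) : g * g = 1 := by
  obtain ⟨hlen, hperm, hstep, -⟩ := elOK_data h
  have hsq : ∀ a : Equiv.Perm GolayPt, ∀ j < 6, Repr (B.getD j 0) a → a * a = 1 := by
    intro a j hj ha
    have e1 := hstep j hj 0 (by norm_num)
    have e2 := hstep j hj (2 ^ j) (Nat.pow_lt_pow_right (a := 2) (n := 6) (by norm_num) hj)
    rw [elW_zero, show Nat.xor 0 (2 ^ j) = 2 ^ j from Nat.zero_xor _] at e1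
    rw [show Nat.xor (2 ^ j) (2 ^ j) = 0 from Nat.xor_self _, elW_zero, ← e1] at e2
    have := ha.comp (ha.comp repr_pid)
    rw [e2] at this
    simpa using this.unique repr_pid
  have hcomm : ∀ a ∈ {g : Equiv.Perm GolayPt | ∃ c ∈ B, Repr c g},
      ∀ b ∈ {g : Equiv.Perm GolayPt | ∃ c ∈ B, Repr c g}, a * b = b * a := by
    rintro a ⟨c, hc, ha⟩ b ⟨d, hd, hb⟩
    obtain ⟨i, hi, rfl⟩ := List.getElem_of_mem hc
    obtain ⟨j, hj, rfl⟩ := List.getElem_of_mem hd
    rw [← List.getD_eq_getElem _ 0 hi] at ha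
    rw [← List.getD_eq_getElem _ 0 hj] at hb
    have key : ∀ {a b : Equiv.Perm GolayPt} {i j : ℕ}, i < 6 → j < 6 → Repr (B.getD i 0) a → Repr (B.getD j 0) b →
        Repr (elW B (Nat.xor (2 ^ j) (2 ^ i))) (a * b) := by
      intro a b i j hi hj ha hb
      have e1 := hstep j hj 0 (by norm_num)
      have e2 := hstep i hi (2 ^ j) (Nat.pow_lt_pow_right (a := 2) (n := 6) (by norm_num) hj)
      rw [elW_zero, show Nat.xor 0 (2 ^ j) = 2 ^ j from Nat.zero_xor _] at e1
      have h2 := hb.comp repr_pid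
      rw [e1, mul_one] at h2
      have := ha.comp h2
      rwa [e2] at this
    have h1 := key (by omega) (by omega) ha hb
    have h2 := key (by omega) (by omega) hb ha
    rw [show Nat.xor (2 ^ j) (2 ^ i) = Nat.xor (2 ^ i) (2 ^ j) from Nat.xor_comm _ _] at h1
    exact h1.unique h2
  refine Subgroup.closure_induction (p := fun x _ => x * x = 1) ?_ (mul_one _) ?_ ?_ hg
  · rintro a ⟨c, hc, ha⟩
    obtain ⟨i, hi, rfl⟩ := List.getElem_of_mem hc
    rw [← List.getD_eq_getElem _ 0 hi] at ha
    exact hsq a i (by omega) ha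
  · intro a b ha hb h1 h2
    have hc : Commute a b := by
      haveI := Subgroup.isMulCommutative_closure hcomm
      exact congrArg Subtype.val (mul_comm' (⟨a, ha⟩ : Subgroup.closure _) ⟨b, hb⟩)
    rw [← sq, hc.mul_pow, sq, sq, h1, h2, mul_one]
  · intro a _ h1
    rw [← mul_inv_rev, h1, inv_one]

theorem elGr_normal {L : List GenT} (hL : gensOK L = true) {T : List (List ℕ)} (h : elOK B = true)
    (hn : normOK L B T = true) {g : Equiv.Perm GolayPt} (hg : g ∈ Gr L) {x : Equiv.Perm GolayPt}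
    (hx : x ∈ elGr B) : g * x * g⁻¹ ∈ elGr B := by
  obtain ⟨hlen, hperm, -, -⟩ := elOK_data h
  simp only [normOK, List.all_eq_true, List.mem_range, Bool.and_eq_true, Nat.blt_eq] at hn
  have hstep : ∀ e ∈ L, ∀ a, e.Good a → ∀ y ∈ elGr B, a * y * a⁻¹ ∈ elGr B := by
    intro e he a ha y hy
    have : (elGr B).map (MulAut.conj a).toMonoidHom ≤ elGr B := by
      rw [elGr, MonoidHom.map_closure, Subgroup.closure_le]
      rintro _ ⟨b, ⟨c, hc, hb⟩, rfl⟩
      obtain ⟨i, hi, rfl⟩ := List.getElem_of_mem he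
      obtain ⟨j, hj, rfl⟩ := List.getElem_of_mem hc
      obtain ⟨hw, heq⟩ := hn i hi j (by omega)
      rw [List.getD_eq_getElem _ _ hi, List.getD_eq_getElem _ _ hj] at heq
      obtain ⟨v, hv, hvr⟩ := elW_repr B (fun c hc => (hperm c hc).1) ((T.getD i []).getD j 64)
      have h1 := ha.1.comp hb
      rw [Nat.eq_of_beq_eq_true heq] at h1
      rw [SetLike.mem_coe, MulEquiv.coe_toMonoidHom, MulAut.conj_apply]
      rw [show a * b * a⁻¹ = v by rw [mul_inv_eq_iff_eq_mul]; exact h1.unique (hvr.comp ha.1)]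
      exact hv
    exact this ⟨y, hy, rfl⟩
  revert x
  refine Subgroup.closure_induction (p := fun g _ => ∀ {x}, x ∈ elGr B → g * x * g⁻¹ ∈ elGr B) ?_ ?_ ?_ ?_ hg
  · rintro a ⟨e, he, ha⟩ x hx; exact hstep e he a ha x hx
  · intro x hx; simpa using hx
  · intro a b _ _ h1 h2 x hx
    rw [show a * b * x * (a * b)⁻¹ = a * (b * x * b⁻¹) * a⁻¹ by group]
    exact h1 (h2 hx)
  · intro a _ h1 x hx
    have hmap : (elGr B).map (MulAut.conj a).toMonoidHom = elGr B := by
      refine Subgroup.eq_of_le_of_card_ge ?_ ?_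
      · rintro _ ⟨y, hy, rfl⟩; exact h1 hy
      · rw [← Nat.card_congr ((elGr B).equivMapOfInjective _ (MulAut.conj a).injective).toEquiv]
    obtain ⟨y, hy, he⟩ : x ∈ (elGr B).map (MulAut.conj a).toMonoidHom := hmap.symm ▸ hx
    rw [← he]
    simpa [mul_assoc] using hy

end

end CfsgGolay
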