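/-
Centralisers and normalisers of elements of order two, three and seven.
-/
import Cfsg.Agent.Lib.Golay.ElemClasses

set_option autoImplicit false

namespace CfsgGolay

open Cfsg
open scoped Pointwise

attribute [local irreducible] codeL octadL dodecadL slpCodes

theorem cent_2A_le : centM r2A ≤ stabM O0 := by
  intro g hg
  obtain ⟨hg, hc⟩ := mem_centM.mp hg
  refine mem_stabM.mpr ⟨hg, ?_⟩
  rw [← fix_2A, smul_set_pts, ← fixF_conj, hc, mul_inv_cancel_right]

/-- The members of a coded family are fixed by a coded element. -/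
def membersFixed (e : GenT) (n : ℕ) : Bool := (unpackF 6 n).all fun m => Nat.beq (pmT e m) m

theorem membersFixed_iff {e : GenT} {g : Equiv.Perm GolayPt} (he : e.Good g) (n : ℕ) :
    membersFixed e n = true ↔ ∀ s ∈ famSet 6 n, g • s = s := by
  simp only [membersFixed, List.all_eq_true, famSet, Finset.mem_image, List.mem_toFinset]
  constructor
  · rintro h _ ⟨m, hm, rfl⟩
    rw [smul_set_pts, ← (he.toSet_pmT (unpackF_lt _ _ m hm)).1, Nat.eq_of_beq_eq_true (h m hm)]
  · intro h m hm
    have hlt := unpackF_lt _ _ m hm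
    have := h _ ⟨m, hm, rfl⟩
    rw [smul_set_pts, ← (he.toSet_pmT hlt).1] at this
    rw [eq_of_toSet_eq (he.toSet_pmT hlt).2 hlt this]; exact Nat.beq_refl _

theorem members_count : (cMS.count fun n => membersFixed f2B n) = 1 ∧
    membersFixed f2B 11150382242010895008167239022564679587348520 = true := by decide +kernel

theorem canonical_sextet {S : Finset (Finset GolayPt)} (hS : S ∈ sextets) (h : ∀ s ∈ S, r2B • s = s) :
    S = S0 := by
  have hv : (famK 6).Valid 11150382242010895008167239022564679587348520 := famValidB_sound (by decide +kernel)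
  have h1 := ncard_sub_orbit hv cMS_ok (fun T => ∀ s ∈ T, r2B • s = s) (membersFixed f2B)
    fun n _ => membersFixed_iff good_2B n
  rw [members_count.1, show (famK 6).dec 11150382242010895008167239022564679587348520 = S0 from rfl,
    ← sextets_eq_orbit] at h1
  have h0 : ∀ s ∈ S0, r2B • s = s := (membersFixed_iff good_2B _).mp members_count.2
  exact (Set.ncard_le_one (Set.toFinite _)).mp h1.le S ⟨hS, h⟩ S0 ⟨S0_mem, h0⟩

theorem cent_2B_le : centM r2B ≤ stabM S0 := by
  intro g hg
  obtain ⟨hg, hc⟩ := mem_centM.mp hg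
  refine mem_stabM.mpr ⟨hg, canonical_sextet (smul_mem_sextets hg S0_mem) ?_⟩
  intro s hs
  rw [smul_finset_eq_image, Finset.mem_image] at hs
  obtain ⟨t, ht, rfl⟩ := hs
  rw [← mul_smul, ← hc, mul_smul, (membersFixed_iff good_2B _).mp members_count.2 t ht]

theorem rep_lt : e2A < 2 ^ 120 ∧ e2B < 2 ^ 120 ∧ e7 < 2 ^ 120 := by decide +kernel

theorem card_cent_2A : Nat.card ↥(centM r2A) = 21504 := by
  have h := cent_card stabO.1 inf_le_left gO_ok good_2A.1 rep_lt.1 kC2A_ok cent_2A_le
  rw [stabO.2, show kC2A.n = 15 from rfl] at h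
  omega

theorem card_cent_2B : Nat.card ↥(centM r2B) = 7680 := by
  have h := cent_card stabS.1 inf_le_left gS_ok good_2B.1 rep_lt.2.1 kC2B_ok cent_2B_le
  rw [stabS.2, show kC2B.n = 18 from rfl] at h
  omega

/-- The codes commute with the given one. -/
def commB (c : ℕ) (L : List GenT) : Bool := L.all fun e => Nat.beq (pcomp e.c c) (pcomp c e.c)

theorem Gr_le_centM {L : List GenT} (hL : gensOK L = true) {c : ℕ} {z : Equiv.Perm GolayPt} (hz : Repr c z)
    (h : commB c L = true) : Gr L ≤ centM z := by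
  refine Gr_le _ fun e he g hg => mem_centM.mpr ⟨?_, ?_⟩
  · exact Gr_le_M24 hL (mem_Gr he hg)
  · have := Nat.eq_of_beq_eq_true (List.all_eq_true.mp h e he)
    exact (permDec_eq (hg.1.comp hz)).symm.trans ((congrArg permDec this).trans (permDec_eq (hz.comp hg.1)))

theorem comm_checked : commB e2A gC2AP3 = true ∧ commB e2B gC2BP3 = true ∧ commB e2B gC2B = true ∧
    commB e7 gC7 = true ∧ orbMask gC2B 0 = 16777215 := by decide +kernel

theorem threes_checked :
    ((List.range 3).all fun i => Nat.beq (cC2AP3.obj i) pid || Nat.beq (pc (fixedMask (cC2AP3.obj i))) 6) = true ∧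
    ((List.range 3).all fun i => Nat.beq (cC2BP3.obj i) pid || Nat.beq (pc (fixedMask (cC2BP3.obj i))) 0) = true := by
  decide +kernel

theorem three_in_cent {r : Equiv.Perm GolayPt} {L : List GenT} {C : Cert} {N q k : ℕ}
    (hL : gensOK L = true) (hle : Gr L ≤ centM r) (hC : orbOK (fun e n => pcomp e.c n) L pid C = true)
    (hcard : Nat.card ↥(centM r) = N) (hN : N = 3 ^ 1 * q) (hq : ¬ 3 ∣ q) (hn : C.n = 3)
    (hchk : ((List.range 3).all fun i => Nat.beq (C.obj i) pid || Nat.beq (pc (fixedMask (C.obj i))) k) = true)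
    {x : Equiv.Perm GolayPt} (hx : x ∈ centM r) (ho : orderOf x = 3) : (fixF x).card = k := by
  have : Fact (Nat.Prime 3) := ⟨by norm_num⟩
  obtain ⟨g, -, i, hi, hr⟩ := prime_cert (H := centM r) 3 hle hL hC
    (by rw [hcard, factorization_eq (by norm_num) hN hq, hn]; rfl) hx ho
  rw [hn] at hi
  have h := List.all_eq_true.mp hchk i (List.mem_range.mpr hi)
  rw [Bool.or_eq_true] at h
  rcases h with h | h
  · exfalso
    rw [Nat.eq_of_beq_eq_true h] at hr
    have h1 : g * x * g⁻¹ = 1 := hr.unique repr_pid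
    rw [conj_eq_one_iff] at h1
    rw [h1, orderOf_one] at ho
    omega
  · rw [← card_fixF_conj g, fixF_repr hr, card_toSet]
    exact Nat.eq_of_beq_eq_true h

theorem three_in_cent_2A {x : Equiv.Perm GolayPt} (hx : x ∈ centM r2A) (ho : orderOf x = 3) :
    (fixF x).card = 6 :=
  three_in_cent gC2AP3_ok (Gr_le_centM gC2AP3_ok good_2A.1 comm_checked.1) cC2AP3_ok card_cent_2A
    (q := 7168) (by norm_num) (by norm_num) rfl threes_checked.1 hx ho

theorem three_in_cent_2B {x : Equiv.Perm GolayPt} (hx : x ∈ centM r2B) (ho : orderOf x = 3) :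
    (fixF x).card = 0 :=
  three_in_cent gC2BP3_ok (Gr_le_centM gC2BP3_ok good_2B.1 comm_checked.2.1) cC2BP3_ok card_cent_2B
    (q := 2560) (by norm_num) (by norm_num) rfl threes_checked.2 hx ho

theorem cent_2B_transitive (p q : GolayPt) : ∃ c ∈ centM r2B, c p = q := by
  have h : ∀ x : GolayPt, ∃ c ∈ centM r2B, c (pt 0) = x := by
    intro x
    obtain ⟨c, hc, he⟩ := reach_of_orbMask gC2B_ok (show 0 < 24 by norm_num)
      (show 16777215 &&& orbMask gC2B 0 = 16777215 by rw [comm_checked.2.2.2.2]; rfl) x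
      (by rw [mem_toSet]; revert x; decide +kernel)
    exact ⟨c, Gr_le_centM gC2B_ok good_2B.1 comm_checked.2.2.1 hc, he⟩
  obtain ⟨a, ha, hap⟩ := h p
  obtain ⟨b, hb, hbq⟩ := h q
  refine ⟨b * a⁻¹, mul_mem hb (inv_mem ha), ?_⟩
  rw [Equiv.Perm.mul_apply, ← hap, Equiv.Perm.coe_inv, Equiv.symm_apply_apply, hbq]

theorem centM_conj {g k r : Equiv.Perm GolayPt} (hk : k ∈ M24) (h : k * g * k⁻¹ = r) {c : Equiv.Perm GolayPt} :
    c ∈ M24 ∧ c * g = g * c ↔ k * c * k⁻¹ ∈ centM r := by
  subst h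
  rw [mem_centM]
  refine and_congr ⟨fun hc => mul_mem (mul_mem hk hc) (inv_mem hk), fun hc => ?_⟩ ?_
  · simpa [mul_assoc] using mul_mem (mul_mem (inv_mem hk) hc) hk
  · constructor
    · intro hc
      rw [show k * c * k⁻¹ * (k * g * k⁻¹) = k * (c * g) * k⁻¹ by group, hc]; group
    · intro hc
      have := congrArg (fun y => k⁻¹ * y * k) hc
      simpa [mul_assoc] using this

theorem card_centralizer_conj {g k r : Equiv.Perm GolayPt} (hk : k ∈ M24) (h : k * g * k⁻¹ = r) :
    Nat.card {c : Equiv.Perm GolayPt // c ∈ M24 ∧ c * g = g * c} = Nat.card ↥(centM r) :=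
  Nat.card_congr (Equiv.subtypeEquiv (MulAut.conj k).toEquiv fun _ => centM_conj hk h)

theorem fix_T0 : {T : Finset (Finset GolayPt) | T ∈ trios ∧ r7 • T = T}.ncard = 1 := by
  rw [fixed_trios good_7]; exact counts_trios3.2.2

theorem smul_T0_r7 : r7 • T0 = T0 := by
  have h : Nat.beq ((famK 3).act f7 2402701777519073634240) 2402701777519073634240 = true := by decide +kernel
  rw [show T0 = (famK 3).dec 2402701777519073634240 from rfl,
    ((famK 3).spec good_7 (famValidB_sound (by decide +kernel))).2, Nat.eq_of_beq_eq_true h]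

theorem norm_7_le {g : Equiv.Perm GolayPt} (hg : g ∈ M24) (h : g * r7 * g⁻¹ ∈ Subgroup.zpowers r7) :
    g ∈ stabM T0 := by
  refine mem_stabM.mpr ⟨hg, ?_⟩
  refine (Set.ncard_le_one (Set.toFinite _)).mp fix_T0.le _ ⟨smul_mem_trios hg T0_mem, ?_⟩ _ ⟨T0_mem, smul_T0_r7⟩
  obtain ⟨n, hn⟩ := Subgroup.mem_zpowers_iff.mp h
  -- `g r g⁻¹` is a power of `r`, hence fixes `T0`, so `r` fixes `g • T0` after inverting the power
  have h7 : (g * r7 * g⁻¹) • T0 = T0 := by
    rw [← hn]
    exact (MulAction.stabilizer (Equiv.Perm GolayPt) T0).zpow_mem (MulAction.mem_stabilizer_iff.mpr smul_T0_r7) n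
  have hfix : (g * r7 * g⁻¹) • (g • T0) = g • T0 := by
    rw [← mul_smul, show g * r7 * g⁻¹ * g = g * r7 by group, mul_smul, smul_T0_r7]
  have hgen : Subgroup.zpowers (g * r7 * g⁻¹) = Subgroup.zpowers r7 := by
    refine Subgroup.eq_of_le_of_card_ge (Subgroup.zpowers_le.mpr h) (le_of_eq ?_)
    rw [Nat.card_zpowers, Nat.card_zpowers, ← MulAut.conj_apply, (MulAut.conj g).orderOf_eq]
  have hr : r7 ∈ Subgroup.zpowers (g * r7 * g⁻¹) := by rw [hgen]; exact Subgroup.mem_zpowers r7
  obtain ⟨m, hm⟩ := Subgroup.mem_zpowers_iff.mp hr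
  rw [← hm]
  exact (MulAction.stabilizer (Equiv.Perm GolayPt) (g • T0)).zpow_mem (MulAction.mem_stabilizer_iff.mpr hfix) m

theorem cent_7_le : centM r7 ≤ stabM T0 := fun g hg => by
  obtain ⟨hg, hc⟩ := mem_centM.mp hg
  exact norm_7_le hg (by rw [hc, mul_inv_cancel_right]; exact Subgroup.mem_zpowers r7)

theorem card_cent_7 : Nat.card ↥(centM r7) = 42 := by
  have h := cent_card stabT.1 inf_le_left gT_ok good_7.1 rep_lt.2.2 kC7_ok cent_7_le
  have hn : kC7.n = 1536 := by simp only [kC7]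
  rw [hn] at h
  have key : ∀ a b : ℕ, a * 1536 = b → b = 64512 → a = 42 := by intros; omega
  exact key _ _ h stabT.2

end CfsgGolay
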