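/-
The two-point stabiliser of the code's group has no subgroups of index 56 or 210.
-/
import Cfsg.Agent.Lib.Golay.ElemClasses
import Cfsg.Agent.Lib.Golay.Mathieu

set_option autoImplicit false
set_option linter.style.haveILetI false

namespace CfsgM22Sub

open Cfsg CfsgGolay

section abstract

variable {G : Type*} [Group G] [Finite G]

theorem conj_zpowers {G : Type*} [Group G] {x g : G} :
    (Subgroup.zpowers x).map (MulAut.conj g).toMonoidHom = Subgroup.zpowers (g * x * g⁻¹) :=
  (MulAut.conj g).toMonoidHom.map_zpowers x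

theorem norm_card_le {x : G} {p : ℕ} (hp : p.Prime) (hx : orderOf x = p)
    (hc : Subgroup.centralizer ({x} : Set G) ≤ Subgroup.zpowers x) :
    Nat.card ↥(Subgroup.normalizer (Subgroup.zpowers x : Set G)) ≤ p * (p - 1) := by
  classical
  set Z := Subgroup.zpowers x with hZ
  set φ := Z.normalizerMonoidHom with hφ
  rw [← φ.ker.card_mul_index, Subgroup.index_ker]
  refine Nat.mul_le_mul ?_ ?_
  · rw [Subgroup.normalizerMonoidHom_ker]
    calc _ ≤ Nat.card ↥(Subgroup.centralizer (Z : Set G)) :=
          Nat.card_le_card_of_injective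
          (fun k : ↥((Subgroup.centralizer (Z : Set G)).subgroupOf (Subgroup.normalizer (Z : Set G))) => (⟨(k.1 : G), k.2⟩ : ↥(Subgroup.centralizer (Z : Set G))))
            (fun a b e => Subtype.ext (Subtype.ext (congrArg (fun z : ↥(Subgroup.centralizer (Z : Set G)) => (z : G)) e)))
      _ ≤ Nat.card Z := by
          refine Subgroup.card_le_of_le ((Subgroup.centralizer_le ?_).trans hc)
          intro y hy
          rw [Set.mem_singleton_iff] at hy
          exact hy ▸ Subgroup.mem_zpowers x
      _ = p := by rw [hZ, Nat.card_zpowers, hx]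
  · calc _ ≤ Nat.card (MulAut Z) := Nat.card_le_card_of_injective _ Subtype.val_injective
      _ = p - 1 := by rw [IsCyclic.card_mulAut, hZ, Nat.card_zpowers, hx, Nat.totient_prime hp]

theorem sylow_ratio {H : Subgroup G} {x : G} (hx : x ∈ H) {p : ℕ} (hp : p.Prime) (ho : orderOf x = p)
    (h2 : ¬ p ^ 2 ∣ Nat.card H) :
    ∃ k, Nat.card H = Nat.card ↥(H ⊓ Subgroup.normalizer (Subgroup.zpowers x : Set G)) * k ∧ k % p = 1 := by
  haveI : Fact p.Prime := ⟨hp⟩
  have hle : Subgroup.zpowers x ≤ H := Subgroup.zpowers_le.mpr hx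
  set Z := (Subgroup.zpowers x).subgroupOf H with hZ
  have hcard : Nat.card Z = p ^ (Nat.card H).factorization p := by
    rw [Nat.card_congr (Subgroup.subgroupOfEquivOfLe hle).toEquiv, Nat.card_zpowers, ho]
    have h1 : p ^ 1 ∣ Nat.card H := by
      rw [pow_one, ← ho, ← Nat.card_zpowers]; exact Subgroup.card_dvd_of_le hle
    have a1 := (hp.pow_dvd_iff_le_factorization Nat.card_pos.ne').mp h1
    have a2 : ¬ 2 ≤ (Nat.card H).factorization p := fun h => h2 ((hp.pow_dvd_iff_le_factorization Nat.card_pos.ne').mpr h)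
    rw [show (Nat.card H).factorization p = 1 by omega, pow_one]
  set P := Sylow.ofCard Z hcard with hP
  refine ⟨Nat.card (Sylow p H), ?_, ?_⟩
  · rw [Sylow.card_eq_index_normalizer P, ← (Subgroup.normalizer ((P : Subgroup H) : Set H)).card_mul_index]
    congr 1
    rw [hP, Sylow.coe_ofCard, hZ, ← Subgroup.subgroupOf_normalizer_eq hle, ← Subgroup.inf_subgroupOf_left,
      Nat.card_congr (Subgroup.subgroupOfEquivOfLe inf_le_left).toEquiv]
  · have := card_sylow_modEq_one p H
    rw [this, Nat.one_mod_eq_one]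
    exact hp.one_lt.ne'

/-- The group theory behind the two missing indices. -/
theorem no_subgroup (hG : Nat.card G = 443520) {a b c : G} (ha : orderOf a = 11) (hb : orderOf b = 5)
    (hca : Subgroup.centralizer ({a} : Set G) ≤ Subgroup.zpowers a)
    (hcb : Subgroup.centralizer ({b} : Set G) ≤ Subgroup.zpowers b)
    (hba : b ∈ Subgroup.normalizer (Subgroup.zpowers a : Set G))
    (hcN : c ∈ Subgroup.normalizer (Subgroup.zpowers b : Set G))
    (hw : orderOf (a * b * c) = 7) (H₀ : Subgroup G) : H₀.index ≠ 56 ∧ H₀.index ≠ 210 := by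
  haveI : Fact (Nat.Prime 11) := ⟨by norm_num⟩
  have key : Nat.card H₀ = 7920 ∨ Nat.card H₀ = 2112 → False := by
    intro hH₀
    obtain ⟨x, hx⟩ := exists_prime_orderOf_dvd_card' (G := H₀) 11 (by rcases hH₀ with h | h <;> rw [h] <;> norm_num)
    have hf : (Nat.card G).factorization 11 = 1 := by
      have h11 : Nat.Prime 11 := by norm_num
      have a1 : 1 ≤ (Nat.card G).factorization 11 :=
        (h11.pow_dvd_iff_le_factorization Nat.card_pos.ne').mp (by rw [hG]; norm_num)
      have a2 : ¬ 2 ≤ (Nat.card G).factorization 11 := fun h => by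
        have := (h11.pow_dvd_iff_le_factorization Nat.card_pos.ne').mpr h
        rw [hG] at this
        norm_num at this
      omega
    let P : Sylow 11 G := Sylow.ofCard (Subgroup.zpowers (x : G))
      (by rw [Nat.card_zpowers, Subgroup.orderOf_coe, hx, hf, pow_one])
    let Q : Sylow 11 G := Sylow.ofCard (Subgroup.zpowers a) (by rw [Nat.card_zpowers, ha, hf, pow_one])
    obtain ⟨g, hg⟩ := MulAction.exists_smul_eq G P Q
    set H := H₀.map (MulAut.conj g).toMonoidHom with hH
    have hcard : Nat.card H = Nat.card H₀ :=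
      (Nat.card_congr (H₀.equivMapOfInjective _ (MulAut.conj g).injective).toEquiv).symm
    have haH : a ∈ H := by
      have hmap : (Subgroup.zpowers (x : G)).map (MulAut.conj g).toMonoidHom = Subgroup.zpowers a :=
        congrArg Sylow.toSubgroup hg
      have : Subgroup.zpowers a ≤ H := hmap ▸ Subgroup.map_mono (Subgroup.zpowers_le.mpr x.2)
      exact this (Subgroup.mem_zpowers a)
    obtain ⟨k, hk, hk1⟩ := sylow_ratio haH (p := 11) (by norm_num) ha
      (by rw [hcard]; rcases hH₀ with h | h <;> rw [h] <;> norm_num)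
    set N := H ⊓ Subgroup.normalizer (Subgroup.zpowers a : Set G) with hN
    have hNle : Nat.card N ≤ 110 :=
      (Subgroup.card_le_of_le inf_le_right).trans ((norm_card_le (by norm_num) ha hca).trans (by norm_num))
    have h11 : 11 ∣ Nat.card N := by
      rw [← ha, ← Nat.card_zpowers]
      exact Subgroup.card_dvd_of_le (le_inf (Subgroup.zpowers_le.mpr haH) Subgroup.le_normalizer)
    rw [hcard] at hk
    rcases hH₀ with h | h <;> rw [h] at hk
    swap
    · exact (by decide +kernel : ∀ d < 111, 11 ∣ d → d ∣ 2112 → 2112 / d % 11 ≠ 1) _ (by omega) h11 ⟨k, hk⟩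
        (by rw [hk, Nat.mul_div_cancel_left _ Nat.card_pos]; exact hk1)
    have hN55 : Nat.card N = 55 :=
      (by decide +kernel : ∀ d < 111, 11 ∣ d → d ∣ 7920 → 7920 / d % 11 = 1 → d = 55) _ (by omega) h11 ⟨k, hk⟩
        (by rw [hk, Nat.mul_div_cancel_left _ Nat.card_pos]; exact hk1)
    have hbH : b ∈ H := by
      set M := Subgroup.normalizer (Subgroup.zpowers a : Set G) with hM
      set N' := N.subgroupOf M with hN'
      have hNM : N ≤ M := inf_le_right
      have hc' : Nat.card N' = 55 := by
        rw [hN', Nat.card_congr (Subgroup.subgroupOfEquivOfLe hNM).toEquiv, hN55]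
      have hi := N'.card_mul_index
      rw [hc'] at hi
      have hM110 : Nat.card M ≤ 110 := (norm_card_le (by norm_num) ha hca).trans (by norm_num)
      have hpos : 0 < Nat.card M := Nat.card_pos
      have : N'.index = 1 ∨ N'.index = 2 := by omega
      have h5 : b = (b * b) ^ 3 := by
        have h1 : b ^ 5 = 1 := hb ▸ pow_orderOf_eq_one b
        rw [← pow_two, ← pow_mul, show 2 * 3 = 5 + 1 from rfl, pow_succ, h1, one_mul]
      rcases this with h1 | h1
      · have : (⟨b, hba⟩ : M) ∈ N' := by rw [Subgroup.index_eq_one.mp h1]; exact Subgroup.mem_top _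
        exact (Subgroup.mem_inf.mp (Subgroup.mem_subgroupOf.mp this)).1
      · have := (Subgroup.mem_inf.mp (Subgroup.mem_subgroupOf.mp
          (Subgroup.mul_self_mem_of_index_two h1 (⟨b, hba⟩ : M)))).1
        rw [h5]
        exact pow_mem this 3
    obtain ⟨l, hl, hl1⟩ := sylow_ratio hbH (p := 5) (by norm_num) hb (by rw [hcard, h]; norm_num)
    set L := H ⊓ Subgroup.normalizer (Subgroup.zpowers b : Set G) with hL
    have hM20 : Nat.card ↥(Subgroup.normalizer (Subgroup.zpowers b : Set G)) ≤ 20 :=
      (norm_card_le (by norm_num) hb hcb).trans (by norm_num)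
    have hLle : Nat.card L ≤ 20 := (Subgroup.card_le_of_le inf_le_right).trans hM20
    have h5 : 5 ∣ Nat.card L := by
      rw [← hb, ← Nat.card_zpowers]
      exact Subgroup.card_dvd_of_le (le_inf (Subgroup.zpowers_le.mpr hbH) Subgroup.le_normalizer)
    rw [hcard, h] at hl
    have hL20 : Nat.card L = 20 :=
      (by decide +kernel : ∀ d < 21, 5 ∣ d → d ∣ 7920 → 7920 / d % 5 = 1 → d = 20) _ (by omega) h5 ⟨l, hl⟩
        (by rw [hl, Nat.mul_div_cancel_left _ Nat.card_pos]; exact hl1)
    have hcH : c ∈ H := by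
      have : L = Subgroup.normalizer (Subgroup.zpowers b : Set G) :=
        Subgroup.eq_of_le_of_card_ge inf_le_right (hM20.trans hL20.ge)
      rw [← this] at hcN
      exact hcN.1
    have h7 := Subgroup.orderOf_dvd_natCard H (mul_mem (mul_mem haH hbH) hcH)
    rw [hw, hcard, h] at h7
    norm_num at h7
  have hmul := H₀.card_mul_index
  rw [hG] at hmul
  constructor <;> intro h <;> rw [h] at hmul <;> exact key (by omega)

theorem mem_norm_zpowers {a b : G} {k : ℕ} (h : b * a * b⁻¹ = a ^ k) :
    b ∈ Subgroup.normalizer (Subgroup.zpowers a : Set G) := by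
  have hle : (Subgroup.zpowers a).map (MulAut.conj b).toMonoidHom ≤ Subgroup.zpowers a := by
    rw [conj_zpowers, Subgroup.zpowers_le, h]
    exact Subgroup.npow_mem_zpowers a k
  have heq : (Subgroup.zpowers a).map (MulAut.conj b).toMonoidHom = Subgroup.zpowers a :=
    Subgroup.eq_of_le_of_card_ge hle
      (Nat.card_congr ((Subgroup.zpowers a).equivMapOfInjective _ (MulAut.conj b).injective).toEquiv).le
  refine Subgroup.mem_normalizer_iff.mpr fun y => ?_
  constructor
  · exact fun hy => hle ⟨y, hy, rfl⟩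
  · intro hy
    rw [← heq] at hy
    obtain ⟨z, hz, e⟩ := hy
    exact (MulAut.conj b).injective e ▸ hz

end abstract

/-! ### The elements -/

/-- The multiplication by two. -/
def eA : ℕ := 983435072843990828779021698901151808

/-- An element normalising the cube twist's group. -/
def eC : ℕ := 984447756380300809835322717071984672

/-- The product of the three. -/
def eW : ℕ := pcomp (pcomp eA cC) eC

/-- The orbit of an index under a code. -/
def cyc (e n y : ℕ) : List ℕ := (List.range n).map fun i => papp (ppow e i) y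

/-- An octad whose trace cannot be mapped as prescribed. -/
def obstructB (src img : List ℕ) (o : ℕ) : Bool :=
  let m := orBits ((src.zip img).filterMap fun p => if o.testBit p.1 then some p.2 else none)
  !(octadL.any fun q => Nat.beq (q &&& m) m)

/-- The certificate for a small centraliser. -/
def centB (e n : ℕ) (fs : List ℕ) (ims : List (List ℕ)) (o : ℕ) : Bool :=
  !(Nat.beq (papp e 1) 1) &&
  (List.range 24).all fun y => (cyc e n 1).contains y || Nat.beq (papp e y) y ||
    ims.all fun im => obstructB (fs ++ cyc e n 1) (im ++ cyc e n y) o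

theorem checked :
    ([eA, cC, eC].all fun c => permOK c && gensKept c && inSub [0, 23] [] c) = true ∧
    Nat.beq (ppow eA 11) pid = true ∧ Nat.beq (ppow cC 5) pid = true ∧ Nat.beq (ppow eW 7) pid = true ∧
    Nat.beq eA pid = false ∧ Nat.beq cC pid = false ∧ Nat.beq eW pid = false ∧
    Nat.beq (pcomp cC eA) (pcomp (ppow eA 3) cC) = true ∧
    Nat.beq (pcomp eC cC) (pcomp (ppow cC 2) eC) = true ∧
    centB eA 11 [0, 23] [[0, 23]] 3416079 = true ∧
    centB cC 5 [0, 23, 3, 15] [[0, 23, 3, 15], [0, 23, 15, 3]] 8683614 = true ∧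
    (3416079 : ℕ) ∈ octadL ∧ (8683614 : ℕ) ∈ octadL ∧
    forcedOK [] ([0, 23] ++ cyc eA 11 1) [5, 7, 10, 11, 14, 15, 17, 19, 20, 21, 22] = true ∧
    forcedOK [] ([0, 23] ++ cyc cC 5 1) [5, 3, 7, 8, 9, 10, 11, 12, 13, 14, 15, 16, 17, 19, 20, 21, 22] = true ∧
    (∀ i < 24, papp cC i = i → i ∈ ([0, 3, 15, 23] : List ℕ)) ∧ papp cC 3 = 3 ∧ papp cC 15 = 15 ∧
    eA < 2 ^ 120 ∧ cC < 2 ^ 120 := by
  decide +kernel

attribute [local irreducible] eA eC eW cC pcomp ppow permDec obstructB

theorem no_image {g : Equiv.Perm GolayPt} (hg : g ∈ M24) {src img : List ℕ} {o : ℕ} (ho : o ∈ octadL)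
    (h : src.map (fun i => idx (g (pt i))) = img) (hs : ∀ i ∈ src, i < 24)
    (hb : obstructB src img o = true) : False := by
  unfold obstructB at hb
  simp only [Bool.not_eq_true', List.any_eq_false] at hb
  obtain hq := mem_octads.mp (image_mem_octads hg (toSet_mem_octads ho))
  refine hb _ hq ?_
  apply Nat.beq_eq.mpr
  apply Nat.eq_of_testBit_eq
  intro j
  rw [Nat.testBit_and]
  by_cases hj : (orBits ((src.zip img).filterMap fun p => if o.testBit p.1 then some p.2 else none)).testBit j = true
  · rw [hj, Bool.and_true]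
    rw [testBit_orBits, List.mem_filterMap] at hj
    obtain ⟨⟨i, j'⟩, hmem, hij⟩ := hj
    have hj' : j' = idx (g (pt i)) ∧ i < 24 := by
      rw [← h, List.zip_map_right, List.mem_map] at hmem
      obtain ⟨⟨u, v⟩, huv, e⟩ := hmem
      obtain ⟨rfl, rfl⟩ : u = i ∧ idx (g (pt v)) = j' := by simpa using e
      rw [List.zip_eq_zipWith] at huv
      obtain ⟨w, hw, hw'⟩ : ∃ w ∈ src, (u, v) = (w, w) := by simpa [eq_comm] using huv
      obtain ⟨rfl, rfl⟩ : u = w ∧ v = w := by simpa using hw'
      exact ⟨rfl, hs _ hw⟩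
    simp only at hij
    split_ifs at hij with hbit
    obtain rfl : j' = j := by simpa using hij
    rw [hj'.1]
    refine mem_toSet.mp ?_
    rw [toSet_toMask]
    exact Finset.mem_image.mpr ⟨pt i, by rw [mem_toSet, idx_pt hj'.2]; exact hbit, rfl⟩
  · simp only [Bool.not_eq_true] at hj
    rw [hj, Bool.and_false]

theorem elem {c : ℕ} (h : (permOK c && gensKept c && inSub [0, 23] [] c) = true) :
    Repr c (permDec c) ∧ permDec c ∈ subG [0, 23] [] := by
  simp only [Bool.and_eq_true] at h
  exact ⟨(rep_spec h.1).1, mem_subG_of_inSub (rep_spec h.1).2 (rep_spec h.1).1 h.2⟩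

theorem cent_le {e n : ℕ} {fs : List ℕ} {ims : List (List ℕ)} {o : ℕ} {rest : List ℕ}
    (he : (permOK e && gensKept e && inSub [0, 23] [] e) = true) (hn : 0 < n)
    (hfor : forcedOK [] ([0, 23] ++ cyc e n 1) rest = true) (ho : o ∈ octadL) (hfs : ∀ i ∈ fs, i < 24)
    (hc : centB e n fs ims o = true)
    (hims : ∀ g ∈ subG [0, 23] [], g * permDec e = permDec e * g → fs.map (fun i => idx (g (pt i))) ∈ ims)
    {g : Equiv.Perm GolayPt} (hg : g ∈ subG [0, 23] []) (hcomm : g * permDec e = permDec e * g) :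
    g ∈ Subgroup.zpowers (permDec e) := by
  obtain ⟨hr, hA⟩ := elem he
  set A := permDec e with hAdef
  simp only [centB, Bool.and_eq_true, Bool.not_eq_true', List.all_eq_true, List.mem_range,
    Bool.or_eq_true, List.contains_iff_mem] at hc
  obtain ⟨hne, hall⟩ := hc
  have hpow : ∀ i : ℕ, ∀ x, g ((A ^ i) x) = (A ^ i) (g x) := fun i x => by
    have h' : g * A ^ i = A ^ i * g := (Commute.pow_right (show Commute g A from hcomm) i).eq
    exact congrArg (fun k : Equiv.Perm GolayPt => k x) h'
  have hcyc : ∀ i y, y < 24 → idx ((A ^ i) (pt y)) = papp (ppow e i) y := fun i y hy => by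
    rw [hr.pow i, idx_pt hy]
  set y := idx (g (pt 1)) with hy
  have hy24 : y < 24 := idx_lt _
  rcases hall y hy24 with (h | h) | h
  · simp only [cyc, List.mem_map, List.mem_range] at h
    obtain ⟨i, -, hi⟩ := h
    have hgi : g (pt 1) = (A ^ i) (pt 1) := idx_injective (by rw [hcyc i 1 (by norm_num), hi])
    have hk : (A ^ i)⁻¹ * g ∈ subG [0, 23] [] := mul_mem (inv_mem (pow_mem hA i)) hg
    have hone : (A ^ i)⁻¹ * g = 1 := by
      refine eq_one_of_forced (mem_subG.mp hk).1 (by simp) _ _ hfor (mem_fixL.mpr fun p hp => ?_)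
      rw [List.mem_append] at hp
      rcases hp with hp | hp
      · exact mem_fixL.mp (mem_subG.mp hk).2.1 p hp
      · simp only [cyc, List.mem_map, List.mem_range] at hp
        obtain ⟨j, -, hj⟩ := hp
        have hpj : p = (A ^ j) (pt 1) := idx_injective (by rw [hcyc j 1 (by norm_num), hj])
        rw [hpj, Equiv.Perm.mul_apply, hpow j, hgi, ← Equiv.Perm.mul_apply (A ^ j), ← pow_add,
          Equiv.Perm.inv_eq_iff_eq, ← Equiv.Perm.mul_apply, ← pow_add, add_comm]
    rw [(inv_mul_eq_one.mp hone).symm]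
    exact Subgroup.npow_mem_zpowers A i
  · exfalso
    have hfix : A (g (pt 1)) = g (pt 1) := idx_injective (by
      rw [hr, ← hy]; exact Nat.eq_of_beq_eq_true h)
    have h1 : g (A (pt 1)) = g (pt 1) :=
      (congrArg (fun k : Equiv.Perm GolayPt => k (pt 1)) hcomm).trans hfix
    have := congrArg idx (g.injective h1)
    rw [hr, idx_pt (show (1 : ℕ) < 24 by norm_num)] at this
    rw [this] at hne
    simp at hne
  · exfalso
    refine no_image (mem_subG.mp hg).1 ho ?_ ?_ (h _ (hims g hg hcomm))
    · rw [List.map_append]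
      congr 1
      rw [cyc, cyc, List.map_map]
      refine List.map_congr_left fun i _ => ?_
      simp only [Function.comp_apply]
      rw [← hcyc i 1 (by norm_num), pt_idx, hpow i, ← hcyc i y hy24, hy, pt_idx]
    · intro i hi
      rw [List.mem_append] at hi
      rcases hi with hi | hi
      · exact hfs i hi
      · simp only [cyc, List.mem_map, List.mem_range] at hi
        obtain ⟨j, -, rfl⟩ := hi
        rw [← hcyc j 1 (by norm_num)]
        exact idx_lt _

theorem centA {g : Equiv.Perm GolayPt} (hg : g ∈ subG [0, 23] []) (h : g * permDec eA = permDec eA * g) :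
    g ∈ Subgroup.zpowers (permDec eA) := by
  obtain ⟨hall, -, -, -, -, -, -, -, -, hc, -, ho, -, hf, -⟩ := checked
  refine cent_le (List.all_eq_true.mp hall _ (by simp)) (by norm_num) hf ho (by simp) hc (fun k hk _ => ?_) hg h
  have h2 := mem_fixL.mp (mem_subG.mp hk).2.1
  simp [h2 (pt 0) (by simp [idx_pt]), h2 (pt 23) (by simp [idx_pt]), idx_pt]

theorem comm_fix {A k : Equiv.Perm GolayPt} (h : k * A = A * k) {x : GolayPt} (hx : A x = x) : A (k x) = k x := by
  rw [← Equiv.Perm.mul_apply, ← h, Equiv.Perm.mul_apply, hx]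

theorem idx_fix {e : ℕ} {A : Equiv.Perm GolayPt} (h : Repr e A) {x : GolayPt} (hx : A x = x) :
    papp e (idx x) = idx x := by rw [← h, hx]

theorem centB5 {g : Equiv.Perm GolayPt} (hg : g ∈ subG [0, 23] []) (h : g * permDec cC = permDec cC * g) :
    g ∈ Subgroup.zpowers (permDec cC) := by
  obtain ⟨hall, -, -, -, -, -, -, -, -, -, hc, -, ho, -, hf, hfix, f3, f15, -⟩ := checked
  refine cent_le (List.all_eq_true.mp hall _ (by simp)) (by norm_num) hf ho (by simp) hc (fun k hk hkc => ?_) hg h
  have h2 := mem_fixL.mp (mem_subG.mp hk).2.1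
  have h0 := h2 (pt 0) (by simp [idx_pt])
  have h23 := h2 (pt 23) (by simp [idx_pt])
  have hr := (elem (List.all_eq_true.mp hall cC (by simp))).1
  have him : ∀ i ∈ [3, 15], idx (k (pt i)) ∈ [3, 15] := by
    intro i hi
    have hi' : i < 24 ∧ i ≠ 0 ∧ i ≠ 23 ∧ papp cC i = i := by
      simp only [List.mem_cons, List.not_mem_nil, or_false] at hi
      rcases hi with rfl | rfl
      · exact ⟨by norm_num, by norm_num, by norm_num, f3⟩
      · exact ⟨by norm_num, by norm_num, by norm_num, f15⟩
    have hfi : permDec cC (pt i) = pt i := idx_injective (by rw [hr, idx_pt hi'.1, hi'.2.2.2])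
    have hmem : idx (k (pt i)) ∈ ([0, 3, 15, 23] : List ℕ) := hfix _ (idx_lt _) (idx_fix hr (comm_fix hkc hfi))
    have hne : ∀ j < 24, k (pt j) = pt j → i ≠ j → idx (k (pt i)) ≠ j := by
      intro j hj hkj hij e
      apply hij
      have : k (pt i) = k (pt j) := idx_injective (by rw [e, hkj, idx_pt hj])
      rw [← idx_pt hi'.1, k.injective this, idx_pt hj]
    have a0 := hne 0 (by norm_num) h0 hi'.2.1
    have a23 := hne 23 (by norm_num) h23 hi'.2.2.1
    simp only [List.mem_cons, List.not_mem_nil, or_false] at hmem ⊢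
    omega
  have a := him 3 (by simp)
  have b := him 15 (by simp)
  have hab : idx (k (pt 3)) ≠ idx (k (pt 15)) := fun e => by
    have := congrArg idx (k.injective (idx_injective e))
    simp [idx_pt] at this
  simp only [List.mem_cons, List.not_mem_nil, or_false] at a b
  rcases a with a | a <;> rcases b with b | b
  · exact absurd (a.trans b.symm) hab
  · simp [h0, h23, a, b, idx_pt]
  · simp [h0, h23, a, b, idx_pt]
  · exact absurd (a.trans b.symm) hab

theorem conj_rel {a b : ℕ} {k : ℕ} (ha : Repr a (permDec a)) (hb : Repr b (permDec b))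
    (h : Nat.beq (pcomp b a) (pcomp (ppow a k) b) = true) :
    permDec b * permDec a * (permDec b)⁻¹ = permDec a ^ k := by
  rw [mul_inv_eq_iff_eq_mul]
  have h' := Nat.eq_of_beq_eq_true h
  exact (h' ▸ hb.comp ha).unique ((ha.pow k).comp hb)

theorem order_of {c p : ℕ} (hp : p.Prime) (h : Repr c (permDec c)) (h1 : Nat.beq (ppow c p) pid = true)
    (h2 : Nat.beq c pid = false) (hlt : c < 2 ^ 120) : orderOf (permDec c) = p :=
  haveI : Fact p.Prime := ⟨hp⟩
  orderOf_rep h (Nat.eq_of_beq_eq_true h1) (fun e => by rw [e] at h2; simp at h2) hlt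

theorem std (H : Subgroup ↥(subG [0, 23] [])) : H.index ≠ 56 ∧ H.index ≠ 210 := by
  obtain ⟨hall, pA, pB, pW, nA, nB, nW, rBA, rCB, -, -, -, -, -, -, -, -, -, ltA, ltB⟩ := checked
  obtain ⟨ra, ma⟩ := elem (List.all_eq_true.mp hall eA (by simp))
  obtain ⟨rb, mb⟩ := elem (List.all_eq_true.mp hall cC (by simp))
  obtain ⟨rc, mc⟩ := elem (List.all_eq_true.mp hall eC (by simp))
  have rw' : Repr eW (permDec eA * permDec cC * permDec eC) := by unfold eW; exact (ra.comp rb).comp rc
  have hG : Nat.card ↥(subG [0, 23] []) = 443520 := by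
    rw [show ([0, 23] : List ℕ) = (baseL.take 2).reverse from rfl, subG_card_base]
    norm_num
  refine no_subgroup hG (a := ⟨_, ma⟩) (b := ⟨_, mb⟩) (c := ⟨_, mc⟩) ?_ ?_ ?_ ?_ ?_ ?_ ?_ H
  · exact (Subgroup.orderOf_coe _).symm.trans (order_of (by norm_num) ra pA nA ltA)
  · exact (Subgroup.orderOf_coe _).symm.trans (order_of (by norm_num) rb pB nB ltB)
  · intro g hg
    obtain ⟨i, hi⟩ := centA g.2 (congrArg Subtype.val (Subgroup.mem_centralizer_singleton_iff.mp hg))
    exact ⟨i, Subtype.ext (by simpa using hi)⟩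
  · intro g hg
    obtain ⟨i, hi⟩ := centB5 g.2 (congrArg Subtype.val (Subgroup.mem_centralizer_singleton_iff.mp hg))
    exact ⟨i, Subtype.ext (by simpa using hi)⟩
  · exact mem_norm_zpowers (k := 3) (Subtype.ext (by simpa using conj_rel ra rb rBA))
  · exact mem_norm_zpowers (k := 2) (Subtype.ext (by simpa using conj_rel rb rc rCB))
  · refine (Subgroup.orderOf_coe _).symm.trans ?_
    simp only [Subgroup.coe_mul]
    rw [← permDec_eq rw']
    exact order_of (by norm_num) (by rw [permDec_eq rw']; exact rw') pW nW (by unfold eW; exact pcomp_lt _ _)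

theorem s1606 (p q : GolayPt) (hpq : p ≠ q)
    (H : Subgroup ↥(MulAction.stabilizer M24 p ⊓ MulAction.stabilizer M24 q)) :
    H.index ≠ 56 ∧ H.index ≠ 210 := by
  obtain ⟨e⟩ := pairStab_equiv hpq
  have h := std (H.comap e.toMonoidHom)
  rwa [Subgroup.index_comap_of_surjective H (f := e.toMonoidHom) e.surjective] at h

end CfsgM22Sub
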