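/-
Subgroups of index 253 in a point stabiliser of the code's group.
-/
import Cfsg.Agent.Lib.Golay.Index56
import Cfsg.Agent.Lib.Golay.ClassC

set_option autoImplicit false
set_option linter.style.haveILetI false
set_option linter.unusedSectionVars false

namespace CfsgM23Sub

open Cfsg CfsgGolay
open scoped Pointwise

theorem mem_fix_pow {a : Equiv.Perm GolayPt} {q : GolayPt} (ha : a ^ 7 = 1) {l : ℕ} (hl : l % 7 ≠ 0)
    (h : (a ^ l) q = q) : a q = q := by
  obtain ⟨m, -, hm⟩ := (by decide : ∀ r < 7, r ≠ 0 → ∃ m < 7, r * m % 7 = 1) _ (Nat.mod_lt l (by norm_num)) hl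
  have h1 : ∀ m : ℕ, ((a ^ l) ^ m) q = q := fun m => by
    induction m with
    | zero => simp
    | succ m ih => rw [pow_succ, Equiv.Perm.mul_apply, h, ih]
  have h2 := h1 m
  rw [← pow_mul, pow_eq_pow_mod (l * m) ha, ← Nat.mod_mul_mod, hm, pow_one] at h2
  exact h2

/-- An invariant set has as many points as its fixed ones, modulo the prime. -/
theorem card_mod {b : Equiv.Perm GolayPt} {p : ℕ} [Fact p.Prime] (hb : b ^ p = 1) {S : Finset GolayPt}
    (hS : ∀ q, q ∈ S ↔ b q ∈ S) : S.card % p = (S ∩ fixF b).card % p := by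
  classical
  let σ : Equiv.Perm S := b.subtypePerm fun q => (hS q).symm
  have hpow : ∀ n : ℕ, ∀ q : S, ((σ ^ n) q : GolayPt) = (b ^ n) (q : GolayPt) := by
    intro n
    induction n with
    | zero => intro q; simp
    | succ n ih =>
      intro q
      rw [pow_succ', Equiv.Perm.mul_apply, pow_succ', Equiv.Perm.mul_apply]
      show b ((σ ^ n) q : GolayPt) = _
      rw [ih]
  have hσ : σ ^ p ^ 1 = 1 := by
    refine Equiv.ext fun q => Subtype.ext ?_
    rw [hpow, pow_one, hb]
    rfl
  have := Equiv.Perm.card_compl_support_modEq hσ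
  rw [Fintype.card_coe] at this
  rw [← this]
  congr 1
  refine Finset.card_bij (fun q _ => (q : GolayPt)) (fun q hq => ?_) (fun a _ c _ e => Subtype.ext e) ?_
  · rw [Finset.mem_compl, Equiv.Perm.notMem_support] at hq
    exact Finset.mem_inter.mpr ⟨q.2, mem_fixF.mpr (congrArg Subtype.val hq)⟩
  · intro q hq
    obtain ⟨h1, h2⟩ := Finset.mem_inter.mp hq
    exact ⟨⟨q, h1⟩, by rw [Finset.mem_compl, Equiv.Perm.notMem_support]; exact Subtype.ext (mem_fixF.mp h2), rfl⟩

/-- All elements of a prime order dividing the group's order once fix equally many points. -/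
theorem prime_fix {p : ℕ} [hp : Fact p.Prime] (hf : (244823040 : ℕ).factorization p = 1)
    {r g : Equiv.Perm GolayPt} (hr : r ∈ M24) (hro : orderOf r = p) (hg : g ∈ M24) (hgo : orderOf g = p) :
    (fixF g).card = (fixF r).card := by
  classical
  have hc : ∀ {y : Equiv.Perm GolayPt} (hy : y ∈ M24), orderOf y = p →
      Nat.card (Subgroup.zpowers (⟨y, hy⟩ : M24)) = p ^ (Nat.card M24).factorization p := by
    intro y hy ho
    rw [Nat.card_zpowers, Subgroup.orderOf_mk, ho, card_M24, hf, pow_one]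
  let P : Sylow p M24 := Sylow.ofCard _ (hc hg hgo)
  let Q : Sylow p M24 := Sylow.ofCard _ (hc hr hro)
  obtain ⟨k, hk⟩ := MulAction.exists_smul_eq M24 P Q
  have hmap : (Subgroup.zpowers (⟨g, hg⟩ : M24)).map (MulAut.conj k).toMonoidHom = Subgroup.zpowers (⟨r, hr⟩ : M24) :=
    congrArg Sylow.toSubgroup hk
  rw [CfsgM22Sub.conj_zpowers] at hmap
  have h1 : k * (⟨g, hg⟩ : M24) * k⁻¹ ∈ Subgroup.zpowers (⟨r, hr⟩ : M24) := hmap ▸ Subgroup.mem_zpowers _
  have h2 : (⟨r, hr⟩ : M24) ∈ Subgroup.zpowers (k * (⟨g, hg⟩ : M24) * k⁻¹) := hmap.symm ▸ Subgroup.mem_zpowers _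
  have key : ∀ {u v : M24}, u ∈ Subgroup.zpowers v → ∀ q, (v : Equiv.Perm GolayPt) q = q →
      (u : Equiv.Perm GolayPt) q = q := by
    rintro u v ⟨j, rfl⟩ q hq
    have : (v : Equiv.Perm GolayPt) ^ j ∈ MulAction.stabilizer (Equiv.Perm GolayPt) q := zpow_mem hq j
    simp only [Subgroup.coe_zpow]
    exact this
  rw [← card_fixF_conj (k : Equiv.Perm GolayPt) g]
  congr 1
  ext q
  simp only [mem_fixF]
  exact ⟨key h2 q, key h1 q⟩

theorem fix_seven {g : Equiv.Perm GolayPt} (hg : g ∈ M24) (ho : orderOf g = 7) : (fixF g).card = 3 := by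
  haveI : Fact (Nat.Prime 7) := ⟨by norm_num⟩
  have h : (244823040 : ℕ).factorization 7 = 1 := card_M24 ▸ factorization_eq (by norm_num)
    (show Nat.card M24 = 7 ^ 1 * 34974720 by rw [card_M24]; norm_num) (by norm_num)
  rw [prime_fix h mem_r7 order_7 hg ho, fixF_repr good_7.1, card_toSet]
  decide +kernel

theorem fix_five {g : Equiv.Perm GolayPt} (hg : g ∈ M24) (ho : orderOf g = 5) : (fixF g).card = 4 := by
  haveI : Fact (Nat.Prime 5) := ⟨by norm_num⟩
  have h : (244823040 : ℕ).factorization 5 = 1 := card_M24 ▸ factorization_eq (by norm_num)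
    (show Nat.card M24 = 5 ^ 1 * 48964608 by rw [card_M24]; norm_num) (by norm_num)
  obtain ⟨hr, hm⟩ := rep_spec (c := cC) (by decide +kernel)
  have ho' : orderOf (permDec cC) = 5 :=
    orderOf_rep hr (Nat.eq_of_beq_eq_true (by decide +kernel : Nat.beq (ppow cC 5) pid = true))
      (by decide +kernel) (by decide +kernel)
  rw [prime_fix h hm ho' hg ho, fixF_repr hr, card_toSet]
  decide +kernel

theorem fix_two {t : Equiv.Perm GolayPt} (ht : t ∈ M24) (ho : orderOf t = 2) {x : GolayPt} (hx : t x = x) :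
    fixF t ∈ octads ∧ (fixF t).card = 8 := by
  classical
  obtain ⟨k, hk, h | h⟩ := class_two ht ho
  · have h2 : (fixF t).image k = O0 := by rw [← fixF_conj, h, fix_2A]
    refine ⟨?_, by rw [← card_fixF_conj k t, h, card_fix_2A]⟩
    have h3 : fixF t = O0.image (k⁻¹ : Equiv.Perm GolayPt) := by
      rw [← h2, Finset.image_image]
      conv_lhs => rw [← Finset.image_id (s := fixF t)]
      exact Finset.image_congr fun q _ => by simp
    rw [h3]
    exact image_mem_octads (inv_mem hk) O0_mem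
  · exfalso
    have := card_fixF_conj k t
    rw [h, card_fix_2B] at this
    have hmem : x ∈ fixF t := mem_fixF.mpr hx
    rw [Finset.card_eq_zero.mp this.symm] at hmem
    simp at hmem

/-- A subgroup of order 40320 fixing a point stabilises a pair or an octad through the point. -/
theorem orbit_shape {K : Subgroup (Equiv.Perm GolayPt)} (hK : K ≤ M24) {x : GolayPt}
    (hx : ∀ k ∈ K, k x = x) (hcard : Nat.card K = 40320) :
    (∃ s : Finset GolayPt, s.card = 2 ∧ x ∉ s ∧ ∀ k ∈ K, k • s = s) ∨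
      ∃ o ∈ octads, x ∈ o ∧ ∀ k ∈ K, k • o = o := by
  classical
  haveI : Fact (Nat.Prime 7) := ⟨by norm_num⟩
  haveI : Fact (Nat.Prime 5) := ⟨by norm_num⟩
  haveI : Fact (Nat.Prime 2) := ⟨by norm_num⟩
  obtain ⟨⟨a, haK⟩, ha⟩ := exists_prime_orderOf_dvd_card' (G := K) 7 (by rw [hcard]; norm_num)
  rw [Subgroup.orderOf_mk] at ha
  obtain ⟨⟨b, hbK⟩, hb⟩ := exists_prime_orderOf_dvd_card' (G := K) 5 (by rw [hcard]; norm_num)
  rw [Subgroup.orderOf_mk] at hb
  obtain ⟨n, hn, hn1⟩ := CfsgM22Sub.sylow_ratio haK (p := 7) (by norm_num) ha (by rw [hcard]; norm_num)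
  set N := K ⊓ Subgroup.normalizer (Subgroup.zpowers a : Set (Equiv.Perm GolayPt)) with hN
  have h2N : 2 ∣ Nat.card N := by
    by_contra hodd
    rw [hcard] at hn
    have hd : Nat.card N ∣ 128 * 315 := ⟨n, hn⟩
    have hd' : Nat.card N ∣ 315 := by
      refine (Nat.Coprime.dvd_of_dvd_mul_left ?_ hd)
      rw [show (128 : ℕ) = 2 ^ 7 from rfl]
      exact Nat.Coprime.pow_right 7 ((Nat.prime_two.coprime_iff_not_dvd.mpr hodd).symm)
    exact (by decide +kernel : ∀ d < 316, d ∣ 315 → 40320 / d % 7 ≠ 1) _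
      (Nat.lt_succ_of_le (Nat.le_of_dvd (by norm_num) hd')) hd'
      (by rw [hn, Nat.mul_div_cancel_left _ Nat.card_pos]; exact hn1)
  obtain ⟨⟨t, htN⟩, ht⟩ := exists_prime_orderOf_dvd_card' (G := N) 2 h2N
  rw [Subgroup.orderOf_mk] at ht
  have htK : t ∈ K := htN.1
  obtain ⟨hoct, h8⟩ := fix_two (hK htK) ht (hx t htK)
  set O := fixF t with hO
  set F7 := fixF a with hF7
  have h3 : F7.card = 3 := fix_seven (hK haK) ha
  have ha7 : a ^ 7 = 1 := ha ▸ pow_orderOf_eq_one a
  have htt : t ^ 2 = 1 := ht ▸ pow_orderOf_eq_one t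
  have hxO : x ∈ O := mem_fixF.mpr (hx t htK)
  have hx7 : x ∈ F7 := mem_fixF.mpr (hx a haK)
  obtain ⟨j, hj7, hj⟩ : ∃ j < 7, t * a * t⁻¹ = a ^ j := by
    have hmem : t * a * t⁻¹ ∈ Subgroup.zpowers a :=
      (Subgroup.mem_normalizer_iff.mp htN.2 a).mp (Subgroup.mem_zpowers a)
    rw [mem_zpowers_iff_mem_range_orderOf, Finset.mem_image] at hmem
    obtain ⟨j, hj, e⟩ := hmem
    exact ⟨j, ha ▸ Finset.mem_range.mp hj, e.symm⟩
  have hjj : j * j % 7 = 1 := by
    have e1 : t * (t * a * t⁻¹) * t⁻¹ = a := by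
      have : t * t = 1 := by rw [← pow_two, htt]
      calc _ = (t * t) * a * (t * t)⁻¹ := by group
        _ = a := by rw [this]; group
    rw [hj, ← conj_pow, hj, ← pow_mul] at e1
    have := pow_inj_mod.mp (e1.trans (pow_one a).symm)
    rwa [ha] at this
  have hcomm : t * a = a * t := by
    rcases (by decide : ∀ j < 7, j * j % 7 = 1 → j = 1 ∨ j = 6) j hj7 hjj with rfl | rfl
    · rw [pow_one] at hj; exact mul_inv_eq_iff_eq_mul.mp hj
    · exfalso
      set S1 := O \ F7 with hS1
      have hmove : ∀ q ∈ S1, ∀ l : ℕ, (a ^ l) q ∈ S1 → l % 7 = 0 := by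
        intro q hq l hl
        by_contra hne
        obtain ⟨hq1, hq2⟩ := Finset.mem_sdiff.mp hq
        have e1 : t ((a ^ l) q) = (a ^ (6 * l)) (t q) := by
          have : t * a ^ l = a ^ (6 * l) * t := by
            rw [← mul_inv_eq_iff_eq_mul, ← conj_pow, hj, ← pow_mul]
          exact congrArg (fun k : Equiv.Perm GolayPt => k q) this
        rw [mem_fixF.mp (Finset.mem_sdiff.mp hl).1, mem_fixF.mp hq1] at e1
        have e2 : (a ^ (5 * l)) q = q := by
          have : (a ^ l) ((a ^ (5 * l)) q) = (a ^ l) q := by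
            rw [← Equiv.Perm.mul_apply, ← pow_add, show l + 5 * l = 6 * l by ring, ← e1]
          exact (a ^ l).injective this
        exact hq2 (mem_fixF.mpr (mem_fix_pow ha7 (by omega) e2))
      have hinj : (S1 ×ˢ (Finset.univ : Finset (Fin 7))).card ≤ F7ᶜ.card := by
        refine Finset.card_le_card_of_injOn (fun qi => (a ^ qi.2.val) qi.1) ?_ ?_
        · rintro ⟨q, i⟩ hqi
          simp only [Finset.coe_product, Set.mem_prod, Finset.mem_coe] at hqi
          simp only [Finset.coe_compl, Set.mem_compl_iff, Finset.mem_coe]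
          intro h7
          have hq2 := (Finset.mem_sdiff.mp hqi.1).2
          apply hq2
          have e : a ((a ^ i.val) q) = (a ^ i.val) q := mem_fixF.mp h7
          refine mem_fixF.mpr ((a ^ i.val).injective ?_)
          rw [← Equiv.Perm.mul_apply, (Commute.refl a).pow_left i.val |>.eq, Equiv.Perm.mul_apply, e]
        · rintro ⟨q, i⟩ hqi ⟨q', i'⟩ hqi' e
          simp only [Finset.coe_product, Set.mem_prod, Finset.mem_coe] at hqi hqi'
          simp only at e
          have e' : (a ^ (i.val + (7 - i'.val))) q = q' := by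
            rw [add_comm, pow_add, Equiv.Perm.mul_apply, e, ← Equiv.Perm.mul_apply, ← pow_add,
              Nat.sub_add_cancel i'.isLt.le, ha7, Equiv.Perm.one_apply]
          have h0 := hmove q hqi.1 _ (e'.symm ▸ hqi'.1)
          have hii : i = i' := Fin.ext (by omega)
          subst hii
          rw [(a ^ i.val).injective e]
      rw [Finset.card_product, Finset.card_univ, Fintype.card_fin, Finset.card_compl, h3,
        show Fintype.card GolayPt = 24 from rfl] at hinj
      have hI : (O ∩ F7).card ≤ 3 := h3 ▸ Finset.card_le_card Finset.inter_subset_right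
      have := Finset.card_sdiff_add_card_inter O F7
      rw [← hS1, h8] at this
      omega
  have hainv : ∀ q, q ∈ O ↔ a q ∈ O := fun q => by
    simp only [hO, mem_fixF, ← Equiv.Perm.mul_apply, hcomm]
    simp
  have htinv : ∀ q, q ∈ F7 ↔ t q ∈ F7 := fun q => by
    simp only [hF7, mem_fixF, ← Equiv.Perm.mul_apply, ← hcomm]
    simp
  have hOF : O ∩ F7 = {x} := by
    have hmod := card_mod ha7 hainv
    rw [h8] at hmod
    have hI : (O ∩ F7).card ≤ 3 := h3 ▸ Finset.card_le_card Finset.inter_subset_right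
    have hxI : x ∈ O ∩ F7 := Finset.mem_inter.mpr ⟨hxO, hx7⟩
    obtain ⟨y, hy⟩ := Finset.card_eq_one.mp (show (O ∩ F7).card = 1 by rw [hF7] at hI ⊢; omega)
    rw [hy, Finset.mem_singleton] at hxI
    rw [hy, hxI]
  set R := F7.erase x with hR
  set A := O.erase x with hA
  set BC := (O ∪ F7)ᶜ with hBC
  have hR2 : R.card = 2 := by rw [hR, Finset.card_erase_of_mem hx7, h3]
  have hA7 : A.card = 7 := by rw [hA, Finset.card_erase_of_mem hxO, h8]
  have hBC14 : BC.card = 14 := by
    have h := Finset.card_union_add_card_inter O F7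
    rw [hOF, Finset.card_singleton] at h
    rw [hBC, Finset.card_compl, show Fintype.card GolayPt = 24 from rfl]
    omega
  have hRO : ∀ q ∈ R, q ∉ O := fun q hq hqO => (Finset.mem_erase.mp hq).1
    (Finset.mem_singleton.mp (hOF ▸ Finset.mem_inter.mpr ⟨hqO, (Finset.mem_erase.mp hq).2⟩))
  have hA7' : ∀ q ∈ A, q ∉ F7 := fun q hq hqO => (Finset.mem_erase.mp hq).1
    (Finset.mem_singleton.mp (hOF ▸ Finset.mem_inter.mpr ⟨(Finset.mem_erase.mp hq).2, hqO⟩))
  obtain ⟨p, hp⟩ := Finset.card_pos.mp (show 0 < BC.card by omega)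
  set S := Finset.univ.filter fun q => q ∈ MulAction.orbit K p with hS
  have hSinv : ∀ k ∈ K, ∀ q, q ∈ S ↔ k q ∈ S := fun k hk q => by
    simp only [hS, Finset.mem_filter, Finset.mem_univ, true_and]
    constructor
    · rintro ⟨g, rfl⟩; exact ⟨⟨k, hk⟩ * g, mul_smul (⟨k, hk⟩ : K) g p⟩
    · rintro ⟨g, hg⟩
      refine ⟨(⟨k, hk⟩ : K)⁻¹ * g, ?_⟩
      show ((⟨k, hk⟩ : K)⁻¹ * g) • p = q
      rw [mul_smul, inv_smul_eq_iff]
      exact hg
  have hxS : x ∉ S := by
    intro hxS
    simp only [hS, Finset.mem_filter, Finset.mem_univ, true_and] at hxS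
    obtain ⟨k, hk⟩ := MulAction.mem_orbit_symm.mp hxS
    have hpx : p = x := (show (k : Equiv.Perm GolayPt) x = p from hk).symm.trans (hx k k.2)
    rw [hBC, Finset.mem_compl, Finset.mem_union] at hp
    exact hp (Or.inl (hpx ▸ hxO))
  have hOt : ∀ q, q ∈ O ↔ t q ∈ O := fun q => by
    simp only [hO, mem_fixF]
    exact ⟨fun h => by rw [h, h], fun h => t.injective h⟩
  have hFa : ∀ q, q ∈ F7 ↔ a q ∈ F7 := fun q => by
    simp only [hF7, mem_fixF]
    exact ⟨fun h => by rw [h, h], fun h => a.injective h⟩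
  have hBCa : ∀ q, q ∈ S ∩ BC ↔ a q ∈ S ∩ BC := fun q => by
    simp only [hBC, Finset.mem_inter, Finset.mem_compl, Finset.mem_union, ← hainv q, ← hFa q, ← hSinv a haK q]
  have hBCt : ∀ q, q ∈ S ∩ BC ↔ t q ∈ S ∩ BC := fun q => by
    simp only [hBC, Finset.mem_inter, Finset.mem_compl, Finset.mem_union, ← hOt q, ← htinv q, ← hSinv t htK q]
  have hsBC : (S ∩ BC).card = 14 := by
    have m1 := card_mod ha7 hBCa
    have m2 := card_mod htt hBCt
    have z1 : (S ∩ BC) ∩ fixF a = ∅ := by
      refine Finset.eq_empty_of_forall_notMem fun q hq => ?_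
      simp only [hBC, Finset.mem_inter, Finset.mem_compl, Finset.mem_union] at hq
      exact hq.1.2 (Or.inr hq.2)
    have z2 : (S ∩ BC) ∩ fixF t = ∅ := by
      refine Finset.eq_empty_of_forall_notMem fun q hq => ?_
      simp only [hBC, Finset.mem_inter, Finset.mem_compl, Finset.mem_union] at hq
      exact hq.1.2 (Or.inl hq.2)
    rw [z1, Finset.card_empty] at m1
    rw [z2, Finset.card_empty] at m2
    have hpos : 0 < (S ∩ BC).card := Finset.card_pos.mpr
      ⟨p, Finset.mem_inter.mpr ⟨by simp [hS], hp⟩⟩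
    have := Finset.card_le_card (Finset.inter_subset_right (s₁ := S) (s₂ := BC))
    omega
  have hBCS : BC ⊆ S := fun q hq =>
    (Finset.mem_inter.mp ((Finset.eq_of_subset_of_card_le Finset.inter_subset_right (by omega) :
      S ∩ BC = BC).symm ▸ hq)).1
  have hRt : ∀ q, q ∈ S ∩ R ↔ t q ∈ S ∩ R := fun q => by
    simp only [hR, Finset.mem_inter, Finset.mem_erase, ← hSinv t htK q, ← htinv q]
    refine and_congr_right fun _ => and_congr_left fun _ => not_congr ⟨fun h => h ▸ hx t htK, fun h => ?_⟩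
    exact t.injective (h.trans (hx t htK).symm)
  have hAa : ∀ q, q ∈ S ∩ A ↔ a q ∈ S ∩ A := fun q => by
    simp only [hA, Finset.mem_inter, Finset.mem_erase, ← hSinv a haK q, ← hainv q]
    refine and_congr_right fun _ => and_congr_left fun _ => not_congr ⟨fun h => h ▸ hx a haK, fun h => ?_⟩
    exact a.injective (h.trans (hx a haK).symm)
  have hsR : (S ∩ R).card = 0 ∨ (S ∩ R).card = 2 := by
    have m := card_mod htt hRt
    have z : (S ∩ R) ∩ fixF t = ∅ := by
      refine Finset.eq_empty_of_forall_notMem fun q hq => ?_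
      simp only [Finset.mem_inter] at hq
      exact hRO q hq.1.2 hq.2
    rw [z, Finset.card_empty] at m
    have := Finset.card_le_card (Finset.inter_subset_right (s₁ := S) (s₂ := R))
    omega
  have hsA : (S ∩ A).card = 0 ∨ (S ∩ A).card = 7 := by
    have m := card_mod ha7 hAa
    have z : (S ∩ A) ∩ fixF a = ∅ := by
      refine Finset.eq_empty_of_forall_notMem fun q hq => ?_
      simp only [Finset.mem_inter] at hq
      exact hA7' q hq.1.2 hq.2
    rw [z, Finset.card_empty] at m
    have := Finset.card_le_card (Finset.inter_subset_right (s₁ := S) (s₂ := A))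
    omega
  have hsplit : S.card = 14 + (S ∩ R).card + (S ∩ A).card := by
    have e : S = BC ∪ (S ∩ R) ∪ (S ∩ A) := by
      ext q
      simp only [Finset.mem_union, Finset.mem_inter]
      refine ⟨fun h => ?_, ?_⟩
      · by_cases hO' : q ∈ O
        · exact Or.inr ⟨h, Finset.mem_erase.mpr ⟨fun e => hxS (e ▸ h), hO'⟩⟩
        by_cases h7 : q ∈ F7
        · exact Or.inl (Or.inr ⟨h, Finset.mem_erase.mpr ⟨fun e => hxS (e ▸ h), h7⟩⟩)
        · exact Or.inl (Or.inl (by simp [hBC, hO', h7]))
      · rintro ((h | h) | h)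
        exacts [hBCS h, h.1, h.1]
    conv_lhs => rw [e]
    rw [Finset.card_union_of_disjoint, Finset.card_union_of_disjoint, hBC14]
    · refine Finset.disjoint_left.mpr fun q h1 h2 => ?_
      simp only [hBC, Finset.mem_compl, Finset.mem_union] at h1
      exact h1 (Or.inr (Finset.mem_erase.mp (Finset.mem_inter.mp h2).2).2)
    · refine Finset.disjoint_left.mpr fun q h1 h2 => ?_
      have hqA := (Finset.mem_inter.mp h2).2
      rcases Finset.mem_union.mp h1 with h1 | h1
      · simp only [hBC, Finset.mem_compl, Finset.mem_union] at h1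
        exact h1 (Or.inl (Finset.mem_erase.mp hqA).2)
      · exact hA7' q hqA (Finset.mem_erase.mp (Finset.mem_inter.mp h1).2).2
  have hdvd : S.card ∣ 40320 := by
    have h1 : (MulAction.orbit K p).ncard ∣ 40320 := by
      rw [← MulAction.index_stabilizer, ← hcard]; exact Subgroup.index_dvd_card _
    rwa [show MulAction.orbit K p = (S : Set GolayPt) by ext q; simp [hS], Set.ncard_coe_finset] at h1
  have hb5 : b ^ 5 = 1 := hb ▸ pow_orderOf_eq_one b
  have hmb := card_mod hb5 (hSinv b hbK)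
  have hSb : (S ∩ fixF b).card ≤ 3 := by
    have h4 : (fixF b).card = 4 := fix_five (hK hbK) hb
    have hlt : (S ∩ fixF b).card < (fixF b).card := Finset.card_lt_card
      ⟨Finset.inter_subset_right, fun h => hxS (Finset.mem_inter.mp (h (mem_fixF.mpr (hx b hbK)))).1⟩
    omega
  rcases hsR with r0 | r2 <;> rcases hsA with a0 | a7
  · exfalso; omega
  · left
    refine ⟨R, hR2, Finset.notMem_erase x F7, fun k hk => ?_⟩
    refine Finset.eq_of_subset_of_card_le (fun y hy => ?_) (by rw [Finset.card_smul_finset])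
    obtain ⟨q, hq, rfl⟩ := Finset.mem_smul_finset.mp hy
    have hqS : q ∉ S := fun h => by
      have : q ∈ S ∩ R := Finset.mem_inter.mpr ⟨h, hq⟩
      rw [Finset.card_eq_zero.mp r0] at this
      simp at this
    have hkS : k q ∉ S := fun h => hqS ((hSinv k hk q).mpr h)
    have hkx : k q ≠ x := fun h => (Finset.mem_erase.mp hq).1 (k.injective (h.trans (hx k hk).symm))
    have hAS : A ⊆ S := fun y hy => (Finset.mem_inter.mp
      ((Finset.eq_of_subset_of_card_le Finset.inter_subset_right (by omega) : S ∩ A = A).symm ▸ hy)).1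
    show k q ∈ R
    by_contra hn
    by_cases hO' : k q ∈ O
    · exact hkS (hAS (Finset.mem_erase.mpr ⟨hkx, hO'⟩))
    · exact hkS (hBCS (by
        simp only [hBC, Finset.mem_compl, Finset.mem_union]
        exact fun h => h.elim hO' fun h7 => hn (Finset.mem_erase.mpr ⟨hkx, h7⟩)))
  · right
    refine ⟨O, hoct, hxO, fun k hk => ?_⟩
    refine Finset.eq_of_subset_of_card_le (fun y hy => ?_) (by rw [Finset.card_smul_finset])
    obtain ⟨q, hq, rfl⟩ := Finset.mem_smul_finset.mp hy
    show k q ∈ O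
    by_cases hqx : q = x
    · rw [hqx, hx k hk]; exact hxO
    have hqS : q ∉ S := fun h => by
      have : q ∈ S ∩ A := Finset.mem_inter.mpr ⟨h, Finset.mem_erase.mpr ⟨hqx, hq⟩⟩
      rw [Finset.card_eq_zero.mp a0] at this
      simp at this
    have hkS : k q ∉ S := fun h => hqS ((hSinv k hk q).mpr h)
    have hkx : k q ≠ x := fun h => hqx (k.injective (h.trans (hx k hk).symm))
    have hRS : R ⊆ S := fun y hy => (Finset.mem_inter.mp
      ((Finset.eq_of_subset_of_card_le Finset.inter_subset_right (by omega) : S ∩ R = R).symm ▸ hy)).1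
    by_contra hn
    by_cases h7 : k q ∈ F7
    · exact hkS (hRS (Finset.mem_erase.mpr ⟨hkx, h7⟩))
    · exact hkS (hBCS (by
        simp only [hBC, Finset.mem_compl, Finset.mem_union]
        exact fun h => h.elim hn h7))
  · exfalso
    rw [hsplit, r2, a7] at hdvd
    norm_num at hdvd

theorem eq_stab {x : GolayPt} (H : Subgroup ↥(MulAction.stabilizer M24 x)) (hH : H.index = 253)
    {s : Finset GolayPt} {F : Set (Finset GolayPt)} (hF : F.ncard = 253)
    (horb : MulAction.orbit (↥(MulAction.stabilizer M24 x)) s = F)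
    (hs : ∀ k ∈ H, (k : M24) • s = s) :
    H = (MulAction.stabilizer M24 s).subgroupOf (MulAction.stabilizer M24 x) := by
  set T := (MulAction.stabilizer M24 s).subgroupOf (MulAction.stabilizer M24 x) with hT
  have hTs : T = MulAction.stabilizer (↥(MulAction.stabilizer M24 x)) s := rfl
  have hle : H ≤ T := fun k hk => hs k hk
  have hidx : T.index = 253 := by rw [hTs, MulAction.index_stabilizer, horb, hF]
  refine Subgroup.eq_of_le_of_card_ge hle ?_
  have h1 := H.card_mul_index
  have h2 := T.card_mul_index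
  rw [hH] at h1
  rw [hidx] at h2
  omega

theorem s1609 (x : GolayPt) (H : Subgroup ↥(MulAction.stabilizer M24 x)) (hH : H.index = 253) :
    (∃ s : Finset GolayPt, s.card = 2 ∧ x ∉ s ∧
      H = (MulAction.stabilizer M24 s).subgroupOf (MulAction.stabilizer M24 x)) ∨
    ∃ o ∈ octads, x ∈ o ∧ H = (MulAction.stabilizer M24 o).subgroupOf (MulAction.stabilizer M24 x) := by
  classical
  set K := (H.map (MulAction.stabilizer M24 x).subtype).map M24.subtype with hKdef
  have hK : K ≤ M24 := Subgroup.map_subtype_le _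
  have hmem : ∀ k ∈ H, ((k : M24) : Equiv.Perm GolayPt) ∈ K := fun k hk => ⟨_, ⟨k, hk, rfl⟩, rfl⟩
  have hfix : ∀ k ∈ K, k x = x := by
    rintro _ ⟨_, ⟨k, _, rfl⟩, rfl⟩
    exact k.2
  have hcard : Nat.card K = 40320 := by
    rw [hKdef, Subgroup.card_subtype, Subgroup.card_subtype]
    have h1 := H.card_mul_index
    rw [hH, card_pointStab] at h1
    omega
  rcases orbit_shape hK hfix hcard with ⟨s, hs2, hxs, hst⟩ | ⟨o, ho, hxo, hst⟩
  · refine Or.inl ⟨s, hs2, hxs, eq_stab H hH (F := ↑((Finset.univ.erase x).powersetCard 2)) ?_ ?_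
      fun k hk => hst _ (hmem k hk)⟩
    · rw [Set.ncard_coe_finset, Finset.card_powersetCard, Finset.card_erase_of_mem (Finset.mem_univ x),
        Finset.card_univ, show Fintype.card GolayPt = 24 from rfl]
      decide
    · obtain ⟨u, v, huv, rfl⟩ := Finset.card_eq_two.mp hs2
      simp only [Finset.mem_insert, Finset.mem_singleton, not_or] at hxs
      ext y
      rw [Finset.mem_coe, Finset.mem_powersetCard]
      constructor
      · rintro ⟨⟨g, hg⟩, rfl⟩
        have hgx : (g : Equiv.Perm GolayPt) x = x := hg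
        constructor
        · intro z hz
          rw [Finset.mem_erase]
          refine ⟨fun h => ?_, Finset.mem_univ _⟩
          obtain ⟨w, hw, hwz⟩ := Finset.mem_smul_finset.mp hz
          have : w = x := (g : Equiv.Perm GolayPt).injective ((hwz.trans h).trans hgx.symm)
          simp only [Finset.mem_insert, Finset.mem_singleton] at hw
          rcases hw with rfl | rfl
          · exact hxs.1 this.symm
          · exact hxs.2 this.symm
        · exact (Finset.card_smul_finset (g : M24) ({u, v} : Finset GolayPt)).trans (Finset.card_pair huv)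
      · rintro ⟨hy, hy2⟩
        obtain ⟨u', v', huv', rfl⟩ := Finset.card_eq_two.mp hy2
        have hu' : x ≠ u' := fun h => (Finset.mem_erase.mp (hy (show u' ∈ _ by simp))).1 h.symm
        have hv' : x ≠ v' := fun h => (Finset.mem_erase.mp (hy (show v' ∈ _ by simp))).1 h.symm
        obtain ⟨g, hg, he⟩ := exists_M24_map (k := 3) (by norm_num)
          ⟨![x, u, v], by intro i j; fin_cases i <;> fin_cases j <;> simp [hxs.1, hxs.2, huv, Ne.symm huv, Ne.symm hxs.1, Ne.symm hxs.2]⟩
          ⟨![x, u', v'], by intro i j; fin_cases i <;> fin_cases j <;> simp [hu', hv', huv', huv'.symm, hu'.symm, hv'.symm]⟩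
        refine ⟨⟨⟨g, hg⟩, he 0⟩, ?_⟩
        show g • ({u, v} : Finset GolayPt) = {u', v'}
        rw [Finset.smul_finset_insert, Finset.smul_finset_singleton,
          show g • u = u' from he 1, show g • v = v' from he 2]
  · refine Or.inr ⟨o, ho, hxo, eq_stab H hH (F := {y | y ∈ octads ∧ x ∈ y}) ?_ ?_ fun k hk => hst _ (hmem k hk)⟩
    · obtain ⟨g, hg, -, hgx⟩ := cfgA ho hxo
      refine (ncard_translate g fun y => ?_).trans clsA.total
      simp only [Set.mem_ofPred_eq, smul_mem_octads_iff hg, ← hgx, pt_mem_smul]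
    · ext y
      constructor
      · rintro ⟨⟨g, hg⟩, rfl⟩
        have hgx : (g : Equiv.Perm GolayPt) x = x := hg
        exact ⟨image_mem_octads g.2 ho, Finset.mem_smul_finset.mpr ⟨x, hxo, hgx⟩⟩
      · rintro ⟨hy, hxy⟩
        obtain ⟨g, hg, hgo, hgx⟩ := cfgA ho hxo
        obtain ⟨g', hg', hgo', hgx'⟩ := cfgA hy hxy
        have hfixx : (g' * g⁻¹) x = x := by
          rw [Equiv.Perm.mul_apply, ← hgx, Equiv.Perm.inv_def, Equiv.symm_apply_apply, hgx', hgx]
        refine ⟨⟨⟨g' * g⁻¹, mul_mem hg' (inv_mem hg)⟩, hfixx⟩, ?_⟩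
        show (g' * g⁻¹) • o = y
        rw [mul_smul, ← hgo, inv_smul_smul, hgo']

end CfsgM23Sub
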