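/-
Orbit bookkeeping for subgroups of the code's group given only by their order.
-/
import Cfsg.Agent.Lib.Golay.Index253
import Cfsg.Agent.Lib.Golay.M12More
import Cfsg.Agent.Lib.Golay.OctStab

set_option autoImplicit false
set_option linter.style.haveILetI false
set_option linter.unusedSectionVars false

namespace CfsgM24Sub

open Cfsg CfsgGolay CfsgM23Sub
open scoped Pointwise

variable {K : Subgroup (Equiv.Perm GolayPt)}

/-- The orbit of a point as a finite set. -/
noncomputable def orb (K : Subgroup (Equiv.Perm GolayPt)) (p : GolayPt) : Finset GolayPt := by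
  classical exact Finset.univ.filter fun q => q ∈ MulAction.orbit K p

theorem mem_orb {p q : GolayPt} : q ∈ orb K p ↔ ∃ k ∈ K, k p = q := by
  classical
  simp only [orb, Finset.mem_filter, Finset.mem_univ, true_and]
  exact ⟨fun ⟨k, hk⟩ => ⟨k.1, k.2, hk⟩, fun ⟨k, hk, e⟩ => ⟨⟨k, hk⟩, e⟩⟩

theorem self_mem_orb (p : GolayPt) : p ∈ orb K p := mem_orb.mpr ⟨1, one_mem _, rfl⟩

/-- A set kept by all members. -/
def Inv (K : Subgroup (Equiv.Perm GolayPt)) (W : Finset GolayPt) : Prop := ∀ k ∈ K, ∀ q, q ∈ W ↔ k q ∈ W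

theorem orb_inv (p : GolayPt) : Inv K (orb K p) := fun k hk q => by
  simp only [mem_orb]
  constructor
  · rintro ⟨m, hm, rfl⟩; exact ⟨k * m, mul_mem hk hm, rfl⟩
  · rintro ⟨m, hm, e⟩
    exact ⟨k⁻¹ * m, mul_mem (inv_mem hk) hm, by rw [Equiv.Perm.mul_apply, e]; simp⟩

theorem Inv.smul_eq {W : Finset GolayPt} (h : Inv K W) {k : Equiv.Perm GolayPt} (hk : k ∈ K) : k • W = W := by
  refine Finset.eq_of_subset_of_card_le (fun y hy => ?_) (by rw [Finset.card_smul_finset])
  obtain ⟨q, hq, rfl⟩ := Finset.mem_smul_finset.mp hy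
  exact (h k hk q).mp hq

theorem inv_of_smul {W : Finset GolayPt} (h : ∀ k ∈ K, k • W = W) : Inv K W := fun k hk q => by
  conv_rhs => rw [← h k hk]
  exact (Finset.smul_mem_smul_finset_iff (a := k) (b := q) (s := W)).symm

theorem Inv.compl {W : Finset GolayPt} (h : Inv K W) : Inv K Wᶜ := fun k hk q => by
  simp only [Finset.mem_compl]
  exact not_congr (h k hk q)

theorem inv_single {x : GolayPt} (h : ∀ k ∈ K, k x = x) : Inv K {x} := fun k hk q => by
  simp only [Finset.mem_singleton]
  exact ⟨fun e => e ▸ h k hk, fun e => k.injective (e.trans (h k hk).symm)⟩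

theorem Inv.union {V W : Finset GolayPt} (hV : Inv K V) (hW : Inv K W) : Inv K (V ∪ W) := fun k hk q => by
  simp only [Finset.mem_union, ← hV k hk q, ← hW k hk q]

theorem orb_subset {W : Finset GolayPt} (hW : Inv K W) {p : GolayPt} (hp : p ∈ W) : orb K p ⊆ W := fun q hq => by
  obtain ⟨k, hk, rfl⟩ := mem_orb.mp hq
  exact (hW k hk p).mp hp

theorem orb_symm {p q : GolayPt} (h : q ∈ orb K p) : p ∈ orb K q := by
  obtain ⟨k, hk, rfl⟩ := mem_orb.mp h
  exact mem_orb.mpr ⟨k⁻¹, inv_mem hk, by simp⟩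

/-- The stabiliser of a point inside the subgroup. -/
def fixPt (K : Subgroup (Equiv.Perm GolayPt)) (p : GolayPt) : Subgroup (Equiv.Perm GolayPt) :=
  K ⊓ MulAction.stabilizer (Equiv.Perm GolayPt) p

theorem mem_fixPt {p : GolayPt} {k : Equiv.Perm GolayPt} : k ∈ fixPt K p ↔ k ∈ K ∧ k p = p := Iff.rfl

theorem card_fixPt (p : GolayPt) : Nat.card ↥(fixPt K p) * (orb K p).card = Nat.card K := by
  classical
  have h := card_inf_stab (H := K) p
  rwa [show MulAction.orbit K p = (orb K p : Set GolayPt) by ext q; simp [orb], Set.ncard_coe_finset] at h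

theorem orb_dvd (p : GolayPt) : (orb K p).card ∣ Nat.card K :=
  ⟨_, by rw [← card_fixPt p, mul_comm]⟩

theorem orb_le (p : GolayPt) : (orb K p).card ≤ 24 := Finset.card_le_univ _

theorem exists_order {p : ℕ} (hp : p.Prime) (h : p ∣ Nat.card K) : ∃ a ∈ K, orderOf a = p := by
  haveI : Fact p.Prime := ⟨hp⟩
  obtain ⟨⟨a, ha⟩, ho⟩ := exists_prime_orderOf_dvd_card' (G := K) p h
  exact ⟨a, ha, by rwa [Subgroup.orderOf_mk] at ho⟩

theorem mod_fix {p : ℕ} (hp : p.Prime) {a : Equiv.Perm GolayPt} (ha : a ∈ K) (ho : orderOf a = p)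
    {W : Finset GolayPt} (hW : Inv K W) : W.card % p = (W ∩ fixF a).card % p := by
  haveI : Fact p.Prime := ⟨hp⟩
  exact card_mod (ho ▸ pow_orderOf_eq_one a) (hW a ha)

theorem inter_fix_five (hK : K ≤ M24) {b : Equiv.Perm GolayPt} (hb : b ∈ K) (ho : orderOf b = 5)
    (W : Finset GolayPt) : (W ∩ fixF b).card ≤ 4 :=
  (fix_five (hK hb) ho) ▸ Finset.card_le_card Finset.inter_subset_right

/-- An element of a small prime order keeping a small set fixes it pointwise. -/
theorem small_fixed {p : ℕ} (hp : p.Prime) {a : Equiv.Perm GolayPt} (ho : orderOf a = p)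
    {W : Finset GolayPt} (hW : ∀ q, q ∈ W ↔ a q ∈ W) (hlt : W.card < p) : W ⊆ fixF a := by
  haveI : Fact p.Prime := ⟨hp⟩
  have h := card_mod (ho ▸ pow_orderOf_eq_one a) hW
  have hle := Finset.card_le_card (Finset.inter_subset_left (s₁ := W) (s₂ := fixF a))
  rw [Nat.mod_eq_of_lt hlt, Nat.mod_eq_of_lt (hle.trans_lt hlt)] at h
  intro q hq
  have := Finset.eq_of_subset_of_card_le (Finset.inter_subset_left (s₁ := W) (s₂ := fixF a)) h.le
  exact (Finset.mem_inter.mp (this.symm ▸ hq : q ∈ W ∩ fixF a)).2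

/-- An element of order seven with an involution normalising it: the shape of the invariant sets. -/
structure Seven (K : Subgroup (Equiv.Perm GolayPt)) (a : Equiv.Perm GolayPt) where
  x : GolayPt
  O : Finset GolayPt
  oct : O ∈ octads
  inter : O ∩ fixF a = {x}
  hR : ((fixF a).erase x).card = 2
  hA : (O.erase x).card = 7
  hBC : ((O ∪ fixF a)ᶜ : Finset GolayPt).card = 14
  invBC : ∀ W, Inv K W → (W ∩ (O ∪ fixF a)ᶜ).card = 0 ∨ (W ∩ (O ∪ fixF a)ᶜ).card = 14
  invR : ∀ W, Inv K W → (W ∩ (fixF a).erase x).card = 0 ∨ (W ∩ (fixF a).erase x).card = 2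
  invA : ∀ W, Inv K W → (W ∩ O.erase x).card = 0 ∨ (W ∩ O.erase x).card = 7

theorem seven (hK : K ≤ M24) {a : Equiv.Perm GolayPt} (haK : a ∈ K) (ha : orderOf a = 7)
    (h49 : ¬ 7 ^ 2 ∣ Nat.card K) (hodd : ∀ d k, Nat.card K = d * k → k % 7 = 1 → 2 ∣ d) :
    Nonempty (Seven K a) := by
  classical
  haveI : Fact (Nat.Prime 7) := ⟨by norm_num⟩
  haveI : Fact (Nat.Prime 2) := ⟨by norm_num⟩
  obtain ⟨n, hn, hn1⟩ := CfsgM22Sub.sylow_ratio haK (p := 7) (by norm_num) ha h49
  obtain ⟨t, htN, ht⟩ := exists_order (K := K ⊓ Subgroup.normalizer (Subgroup.zpowers a : Set (Equiv.Perm GolayPt)))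
    Nat.prime_two (hodd _ _ hn hn1)
  have htK : t ∈ K := htN.1
  have ha7 : a ^ 7 = 1 := ha ▸ pow_orderOf_eq_one a
  have htt : t ^ 2 = 1 := ht ▸ pow_orderOf_eq_one t
  have h3 : (fixF a).card = 3 := fix_seven (hK haK) ha
  have htinv : ∀ q, q ∈ fixF a ↔ t q ∈ fixF a := by
    intro q
    have hmem : t * a * t⁻¹ ∈ Subgroup.zpowers a :=
      (Subgroup.mem_normalizer_iff.mp htN.2 a).mp (Subgroup.mem_zpowers a)
    obtain ⟨j, hj⟩ := hmem
    simp only at hj
    have fwd : ∀ r, a r = r → (t * a * t⁻¹) (t r) = t r := fun r hr => by simp [Equiv.Perm.mul_apply, hr]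
    have hpow : ∀ r, a r = r → (a ^ j) r = r := fun r hr =>
      (zpow_mem (show a ∈ MulAction.stabilizer (Equiv.Perm GolayPt) r from hr) j : _)
    simp only [mem_fixF]
    constructor
    · intro hq
      have h1 : t * a = (t * a * t⁻¹) * t := by group
      by_contra hne
      have hj0 : ∀ r, (t * a * t⁻¹) r = r → a r = r := by
        intro r hr
        rw [← hj] at hr
        by_cases h7 : (7 : ℤ) ∣ j
        · exfalso
          obtain ⟨c, rfl⟩ := h7
          have e0 : a ^ (7 * c) = 1 := by rw [zpow_mul, zpow_ofNat, ha7, one_zpow]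
          rw [e0] at hj
          have : a = 1 := conj_eq_one_iff.mp hj.symm
          rw [this, orderOf_one] at ha
          norm_num at ha
        · have hl : ((j % 7).toNat : ℤ) = j % 7 := Int.toNat_of_nonneg (Int.emod_nonneg j (by norm_num))
          have e : a ^ j = a ^ ((j % 7).toNat) := by
            rw [← zpow_natCast, hl]
            conv_lhs => rw [← Int.emod_add_mul_ediv j 7, zpow_add, zpow_mul, zpow_ofNat, ha7, one_zpow, mul_one]
          have hr' : (a ^ ((j % 7).toNat)) r = r := e ▸ hr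
          refine mem_fix_pow ha7 ?_ hr'
          have := Int.emod_lt_of_pos j (show (0 : ℤ) < 7 by norm_num)
          omega
      exact hne (hj0 _ (fwd q hq))
    · intro hq
      have := hpow _ hq
      have h2 : (t * a * t⁻¹) (t q) = t q := by rw [← hj]; exact this
      simp only [Equiv.Perm.mul_apply, Equiv.Perm.inv_def, Equiv.symm_apply_apply] at h2
      exact t.injective h2
  obtain ⟨x, hx⟩ : ∃ x, x ∈ fixF a ∩ fixF t := by
    have h := card_mod htt htinv
    rw [h3] at h
    exact Finset.card_pos.mp (by omega)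
  obtain ⟨hx7, hxt⟩ := Finset.mem_inter.mp hx
  obtain ⟨hoct, h8⟩ := fix_two (hK htK) ht (mem_fixF.mp hxt)
  set O := fixF t with hO
  set F7 := fixF a with hF7
  obtain ⟨j, hj7, hj⟩ : ∃ j < 7, t * a * t⁻¹ = a ^ j := by
    have hmem : t * a * t⁻¹ ∈ Subgroup.zpowers a :=
      (Subgroup.mem_normalizer_iff.mp htN.2 a).mp (Subgroup.mem_zpowers a)
    rw [mem_zpowers_iff_mem_range_orderOf, Finset.mem_image] at hmem
    obtain ⟨j, hj, e⟩ := hmem
    exact ⟨j, ha ▸ Finset.mem_range.mp hj, e.symm⟩
  have hjj : j * j % 7 = 1 := by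
    have e1 : t * (t * a * t⁻¹) * t⁻¹ = a := by
      have : t * t = 1 := by rw [← pow_two, htt]
      calc _ = (t * t) * a * (t * t)⁻¹ := by group
        _ = a := by rw [this]; group
    rw [hj, ← conj_pow, hj, ← pow_mul] at e1
    have := pow_inj_mod.mp (e1.trans (pow_one a).symm)
    rwa [ha] at this
  have hcomm : t * a = a * t := by
    rcases (by decide : ∀ j < 7, j * j % 7 = 1 → j = 1 ∨ j = 6) j hj7 hjj with rfl | rfl
    · rw [pow_one] at hj; exact mul_inv_eq_iff_eq_mul.mp hj
    · exfalso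
      set S1 := O \ F7 with hS1
      have hinj : (S1 ×ˢ (Finset.univ : Finset (Fin 7))).card ≤ F7ᶜ.card := by
        refine Finset.card_le_card_of_injOn (fun qi => (a ^ qi.2.val) qi.1) ?_ ?_
        · rintro ⟨q, i⟩ hqi
          simp only [Finset.coe_product, Set.mem_prod, Finset.mem_coe] at hqi
          simp only [Finset.coe_compl, Set.mem_compl_iff, Finset.mem_coe]
          intro h7
          apply (Finset.mem_sdiff.mp hqi.1).2
          refine mem_fixF.mpr ((a ^ i.val).injective ?_)
          rw [← Equiv.Perm.mul_apply, (Commute.refl a).pow_left i.val |>.eq, Equiv.Perm.mul_apply, mem_fixF.mp h7]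
        · rintro ⟨q, i⟩ hqi ⟨q', i'⟩ hqi' e
          simp only [Finset.coe_product, Set.mem_prod, Finset.mem_coe] at hqi hqi'
          simp only at e
          obtain ⟨hq1, hq2⟩ := Finset.mem_sdiff.mp hqi.1
          set l := i.val + (7 - i'.val) with hl
          have e' : (a ^ l) q = q' := by
            rw [hl, add_comm, pow_add, Equiv.Perm.mul_apply, e, ← Equiv.Perm.mul_apply, ← pow_add,
              Nat.sub_add_cancel i'.isLt.le, ha7, Equiv.Perm.one_apply]
          have e1 : t ((a ^ l) q) = (a ^ (6 * l)) (t q) := by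
            have : t * a ^ l = a ^ (6 * l) * t := by rw [← mul_inv_eq_iff_eq_mul, ← conj_pow, hj, ← pow_mul]
            exact congrArg (fun k : Equiv.Perm GolayPt => k q) this
          rw [e', mem_fixF.mp (Finset.mem_sdiff.mp hqi'.1).1, mem_fixF.mp hq1, ← e'] at e1
          have e2 : (a ^ (5 * l)) q = q := by
            refine (a ^ l).injective ?_
            rw [← Equiv.Perm.mul_apply, ← pow_add, show l + 5 * l = 6 * l by ring]
            exact e1.symm
          have h0 : l % 7 = 0 := by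
            by_contra hne
            exact hq2 (mem_fixF.mpr (mem_fix_pow ha7 (by omega) e2))
          have hii : i = i' := Fin.ext (by omega)
          subst hii
          rw [(a ^ i.val).injective e]
      rw [Finset.card_product, Finset.card_univ, Fintype.card_fin, Finset.card_compl, h3,
        show Fintype.card GolayPt = 24 from rfl] at hinj
      have hI : (O ∩ F7).card ≤ 3 := h3 ▸ Finset.card_le_card Finset.inter_subset_right
      have := Finset.card_sdiff_add_card_inter O F7
      rw [← hS1, h8] at this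
      omega
  have hainv : ∀ q, q ∈ O ↔ a q ∈ O := fun q => by
    simp only [hO, mem_fixF, ← Equiv.Perm.mul_apply, hcomm]
    simp
  have hOF : O ∩ F7 = {x} := by
    have hmod := card_mod ha7 hainv
    rw [h8] at hmod
    have hI : (O ∩ F7).card ≤ 3 := h3 ▸ Finset.card_le_card Finset.inter_subset_right
    have hxI : x ∈ O ∩ F7 := Finset.mem_inter.mpr ⟨hxt, hx7⟩
    obtain ⟨y, hy⟩ := Finset.card_eq_one.mp (show (O ∩ F7).card = 1 by rw [hF7] at hI ⊢; omega)
    rw [hy, Finset.mem_singleton] at hxI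
    rw [hy, hxI]
  have hR2 : (F7.erase x).card = 2 := by rw [Finset.card_erase_of_mem hx7, h3]
  have hA7 : (O.erase x).card = 7 := by rw [Finset.card_erase_of_mem hxt, h8]
  have hBC14 : ((O ∪ F7)ᶜ : Finset GolayPt).card = 14 := by
    have h := Finset.card_union_add_card_inter O F7
    rw [hOF, Finset.card_singleton] at h
    rw [Finset.card_compl, show Fintype.card GolayPt = 24 from rfl]
    omega
  refine ⟨⟨x, O, hoct, hOF, hR2, hA7, hBC14, fun W hW => ?_, fun W hW => ?_, fun W hW => ?_⟩⟩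
  · have ia : ∀ q, q ∈ W ∩ (O ∪ F7)ᶜ ↔ a q ∈ W ∩ (O ∪ F7)ᶜ := fun q => by
      simp only [Finset.mem_inter, Finset.mem_compl, Finset.mem_union, ← hW a haK q, ← hainv q]
      simp [hF7, mem_fixF]
    have it : ∀ q, q ∈ W ∩ (O ∪ F7)ᶜ ↔ t q ∈ W ∩ (O ∪ F7)ᶜ := fun q => by
      simp only [Finset.mem_inter, Finset.mem_compl, Finset.mem_union, ← hW t htK q, ← htinv q]
      simp [hO, mem_fixF]
    have m1 := card_mod ha7 ia
    have m2 := card_mod htt it
    have z1 : (W ∩ (O ∪ F7)ᶜ) ∩ fixF a = ∅ := by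
      refine Finset.eq_empty_of_forall_notMem fun q hq => ?_
      simp only [Finset.mem_inter, Finset.mem_compl, Finset.mem_union] at hq
      exact hq.1.2 (Or.inr hq.2)
    have z2 : (W ∩ (O ∪ F7)ᶜ) ∩ fixF t = ∅ := by
      refine Finset.eq_empty_of_forall_notMem fun q hq => ?_
      simp only [Finset.mem_inter, Finset.mem_compl, Finset.mem_union] at hq
      exact hq.1.2 (Or.inl hq.2)
    rw [z1, Finset.card_empty] at m1
    rw [z2, Finset.card_empty] at m2
    exact (by decide : ∀ n < 15, n % 7 = 0 % 7 → n % 2 = 0 % 2 → n = 0 ∨ n = 14) _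
      (Nat.lt_succ_of_le ((Finset.card_le_card Finset.inter_subset_right).trans hBC14.le)) m1 m2
  · have it : ∀ q, q ∈ W ∩ F7.erase x ↔ t q ∈ W ∩ F7.erase x := fun q => by
      simp only [Finset.mem_inter, Finset.mem_erase, ← hW t htK q, ← htinv q]
      refine and_congr_right fun _ => and_congr_left fun _ => not_congr ⟨fun h => by rw [h]; exact mem_fixF.mp hxt, fun h => ?_⟩
      exact t.injective (h.trans (mem_fixF.mp hxt).symm)
    have m := card_mod htt it
    have z : (W ∩ F7.erase x) ∩ fixF t = ∅ := by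
      refine Finset.eq_empty_of_forall_notMem fun q hq => ?_
      simp only [Finset.mem_inter, Finset.mem_erase] at hq
      have hmem : q ∈ O ∩ F7 := Finset.mem_inter.mpr ⟨hq.2, hq.1.2.2⟩
      rw [hOF, Finset.mem_singleton] at hmem
      exact hq.1.2.1 hmem
    rw [z, Finset.card_empty] at m
    exact (by decide : ∀ n < 3, n % 2 = 0 % 2 → n = 0 ∨ n = 2) _
      (Nat.lt_succ_of_le ((Finset.card_le_card Finset.inter_subset_right).trans hR2.le)) m
  · have ia : ∀ q, q ∈ W ∩ O.erase x ↔ a q ∈ W ∩ O.erase x := fun q => by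
      simp only [Finset.mem_inter, Finset.mem_erase, ← hW a haK q, ← hainv q]
      refine and_congr_right fun _ => and_congr_left fun _ => not_congr ⟨fun h => by rw [h]; exact mem_fixF.mp hx7, fun h => ?_⟩
      exact a.injective (h.trans (mem_fixF.mp hx7).symm)
    have m := card_mod ha7 ia
    have z : (W ∩ O.erase x) ∩ fixF a = ∅ := by
      refine Finset.eq_empty_of_forall_notMem fun q hq => ?_
      simp only [Finset.mem_inter, Finset.mem_erase] at hq
      have hmem : q ∈ O ∩ F7 := Finset.mem_inter.mpr ⟨hq.1.2.2, hq.2⟩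
      rw [hOF, Finset.mem_singleton] at hmem
      exact hq.1.2.1 hmem
    rw [z, Finset.card_empty] at m
    exact (by decide : ∀ n < 8, n % 7 = 0 % 7 → n = 0 ∨ n = 7) _
      (Nat.lt_succ_of_le ((Finset.card_le_card Finset.inter_subset_right).trans hA7.le)) m

namespace Seven

variable {a : Equiv.Perm GolayPt} (D : Seven K a)

theorem x_mem : D.x ∈ D.O ∧ D.x ∈ fixF a := Finset.mem_inter.mp (D.inter.symm ▸ Finset.mem_singleton_self D.x)

theorem card_split (W : Finset GolayPt) :
    W.card = (W ∩ (D.O ∪ fixF a)ᶜ).card + (W ∩ {D.x}).card + (W ∩ (fixF a).erase D.x).card +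
      (W ∩ D.O.erase D.x).card := by
  classical
  obtain ⟨hxO, hx7⟩ := D.x_mem
  have h1 := Finset.card_sdiff_add_card_inter W (D.O ∪ fixF a)
  rw [show W \ (D.O ∪ fixF a) = W ∩ (D.O ∪ fixF a)ᶜ from sdiff_eq] at h1
  have e : W ∩ (D.O ∪ fixF a) = ((W ∩ {D.x}) ∪ (W ∩ (fixF a).erase D.x)) ∪ (W ∩ D.O.erase D.x) := by
    ext q
    simp only [Finset.mem_inter, Finset.mem_union, Finset.mem_singleton, Finset.mem_erase]
    by_cases h : q = D.x
    · subst h; simp [hxO]
    · simp only [h, not_false_eq_true, true_and, and_false, false_or, ne_eq]; tauto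
  rw [← h1, e, Finset.card_union_of_disjoint, Finset.card_union_of_disjoint]
  · omega
  · refine Finset.disjoint_left.mpr fun q h1 h2 => ?_
    simp only [Finset.mem_inter, Finset.mem_singleton, Finset.mem_erase] at h1 h2
    exact h2.2.1 h1.2
  · refine Finset.disjoint_left.mpr fun q h1 h2 => ?_
    simp only [Finset.mem_inter, Finset.mem_union, Finset.mem_singleton, Finset.mem_erase] at h1 h2
    rcases h1 with h1 | h1
    · exact h2.2.1 h1.2
    · have hmem : q ∈ D.O ∩ fixF a := Finset.mem_inter.mpr ⟨h2.2.2, h1.2.2⟩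
      rw [D.inter, Finset.mem_singleton] at hmem
      exact h2.2.1 hmem

theorem full_subset {W P : Finset GolayPt} {n : ℕ} (hP : P.card = n) (h : (W ∩ P).card = n) : P ⊆ W :=
  fun q hq => (Finset.mem_inter.mp ((Finset.eq_of_subset_of_card_le Finset.inter_subset_right
    (le_of_eq (hP.trans h.symm)) : W ∩ P = P).symm ▸ hq)).1

theorem none_disjoint {W P : Finset GolayPt} (h : (W ∩ P).card = 0) {q : GolayPt} (hq : q ∈ P) : q ∉ W :=
  fun hW => by
    have := Finset.mem_inter.mpr ⟨hW, hq⟩
    rw [Finset.card_eq_zero.mp h] at this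
    simp at this

end Seven

/-- An octad mostly inside a small invariant set is invariant. -/
theorem octad_of_small (hK : K ≤ M24) {O U : Finset GolayPt} (hO : O ∈ octads) (hU : Inv K U)
    (h : U.card + 5 ≤ 2 * (O ∩ U).card) : ∀ k ∈ K, k • O = O := by
  intro k hk
  refine octad_unique (smul_mem_octads (hK hk) hO) hO (s := (O ∩ U) ∩ (k • O ∩ U)) ?_
    (fun q hq => (Finset.mem_inter.mp (Finset.mem_inter.mp hq).2).1)
    (fun q hq => (Finset.mem_inter.mp (Finset.mem_inter.mp hq).1).1)
  have h1 : (k • O ∩ U).card = (O ∩ U).card := by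
    conv_lhs => rw [← hU.smul_eq hk, ← Finset.smul_finset_inter, Finset.card_smul_finset]
  have h2 := Finset.card_union_add_card_inter (O ∩ U) (k • O ∩ U)
  have h3 : ((O ∩ U) ∪ (k • O ∩ U)).card ≤ U.card :=
    Finset.card_le_card (Finset.union_subset Finset.inter_subset_right Finset.inter_subset_right)
  omega

end CfsgM24Sub
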