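/-
No transitive subgroup with these point stabilisers: block systems of triples and of octads.
-/
import Cfsg.Agent.Lib.Golay.IndexOrbits

set_option autoImplicit false
set_option linter.style.haveILetI false
set_option linter.unusedSectionVars false

namespace CfsgM24Sub

open Cfsg CfsgGolay CfsgM23Sub
open scoped Pointwise

variable {K : Subgroup (Equiv.Perm GolayPt)}

theorem normal_le_of_sylow {G : Type*} [Group G] [Finite G] {p : ℕ} [Fact p.Prime] (F H : Subgroup G) [hF : F.Normal]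
    (hp : IsPGroup p F) (h : (Nat.card H).factorization p = (Nat.card G).factorization p) : F ≤ H := by
  obtain ⟨P⟩ := (inferInstance : Nonempty (Sylow p H))
  let P' : Sylow p G := Sylow.ofCard ((P : Subgroup H).map H.subtype)
    (by rw [Subgroup.card_subtype, P.card_eq_multiplicity, h])
  obtain ⟨Q, hQ⟩ := hp.exists_le_sylow
  obtain ⟨g, hg⟩ := MulAction.exists_smul_eq G Q P'
  intro x hx
  have h1 : g⁻¹ * x * g ∈ F := by simpa using hF.conj_mem x hx g⁻¹
  have h2 : x ∈ (P' : Subgroup G) := by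
    rw [← hg]
    exact ⟨g⁻¹ * x * g, hQ h1, by simp [MulAut.conj_apply, mul_assoc]⟩
  exact Subgroup.map_subtype_le _ h2

/-- The orbit of a point under the pointwise stabiliser of an octad is the whole outside. -/
theorem fixOct_outside {o : Finset GolayPt} (ho : o ∈ octads) {p q : GolayPt} (hp : p ∉ o) (hq : q ∉ o) :
    ∃ f ∈ fixOct o, f p = q := by
  classical
  have h16 := (card_fixOct ho).1
  have hfo : ∀ f ∈ fixOct o, ∀ r ∈ o, f r = r := fun f hf r hr =>
    (mem_fixingSubgroup_iff _).mp hf.2 r (Finset.mem_coe.mpr hr)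
  have hsub : orb (fixOct o) p ⊆ oᶜ := fun r hr => by
    obtain ⟨f, hf, rfl⟩ := mem_orb.mp hr
    rw [Finset.mem_compl]
    intro hro
    exact hp (by rw [← f.injective (hfo f hf _ hro)] ; exact hro)
  have hc : (oᶜ : Finset GolayPt).card = 16 := by
    rw [Finset.card_compl, card_of_mem_octads ho, show Fintype.card GolayPt = 24 from rfl]
  have hbot : fixPt (fixOct o) p = ⊥ := by
    rw [← le_bot_iff, ← (card_octPt ho hp).2.1]
    intro f hf
    refine Subgroup.mem_inf.mpr ⟨hf.1, Subgroup.mem_inf.mpr ⟨?_, hf.2⟩⟩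
    refine mem_stabM.mpr ⟨hf.1.1, ?_⟩
    refine Finset.eq_of_subset_of_card_le (fun r hr => ?_) (by rw [Finset.card_smul_finset])
    obtain ⟨u, hu, rfl⟩ := Finset.mem_smul_finset.mp hr
    rw [Equiv.Perm.smul_def, hfo f hf.1 u hu]; exact hu
  have h := card_fixPt (K := fixOct o) p
  rw [hbot, Subgroup.card_bot, one_mul, h16] at h
  have := Finset.eq_of_subset_of_card_le hsub (by rw [hc, h])
  have hqm : q ∈ orb (fixOct o) p := this ▸ Finset.mem_compl.mpr hq
  exact mem_orb.mp hqm

theorem card_octIn {x : GolayPt} {o : Finset GolayPt} (ho : o ∈ octads) (hx : x ∈ o) :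
    Nat.card ↥((M24 ⊓ MulAction.stabilizer (Equiv.Perm GolayPt) x) ⊓
      MulAction.stabilizer (Equiv.Perm GolayPt) o) = 40320 := by
  have hG : Nat.card ↥(M24 ⊓ MulAction.stabilizer (Equiv.Perm GolayPt) x) = 10200960 := by
    have h := card_inf_stab (H := M24) x
    rw [show MulAction.orbit M24 x = Set.univ from Set.eq_univ_of_forall fun y => ?_, Set.ncard_univ,
      Nat.card_eq_fintype_card (α := GolayPt), show Fintype.card GolayPt = 24 from rfl, card_M24] at h
    · omega
    · obtain ⟨g, hg, he⟩ := exists_M24_map (k := 1) (by norm_num)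
        ⟨fun _ : Fin 1 => x, fun a b _ => Subsingleton.elim a b⟩ ⟨fun _ : Fin 1 => y, fun a b _ => Subsingleton.elim a b⟩
      exact ⟨⟨g, hg⟩, he 0⟩
  have h := card_inf_stab (H := M24 ⊓ MulAction.stabilizer (Equiv.Perm GolayPt) x) o
  rw [hG] at h
  have hn : (MulAction.orbit ↥(M24 ⊓ MulAction.stabilizer (Equiv.Perm GolayPt) x) o).ncard = 253 := by
    have horb : MulAction.orbit ↥(M24 ⊓ MulAction.stabilizer (Equiv.Perm GolayPt) x) o =
        {y | y ∈ octads ∧ x ∈ y} := by
      ext y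
      constructor
      · rintro ⟨⟨g, hg, hgx⟩, rfl⟩
        exact ⟨smul_mem_octads hg ho, Finset.mem_smul_finset.mpr ⟨x, hx, hgx⟩⟩
      · rintro ⟨hy, hxy⟩
        obtain ⟨g, hg, hgo, hgx⟩ := cfgA ho hx
        obtain ⟨g', hg', hgo', hgx'⟩ := cfgA hy hxy
        have hfixx : (g' * g⁻¹) x = x := by
          rw [Equiv.Perm.mul_apply, ← hgx, Equiv.Perm.inv_def, Equiv.symm_apply_apply, hgx', hgx]
        refine ⟨⟨g' * g⁻¹, (mul_mem hg' (inv_mem hg) : g' * g⁻¹ ∈ M24), hfixx⟩, ?_⟩
        show (g' * g⁻¹) • o = y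
        rw [mul_smul, ← hgo, inv_smul_smul, hgo']
    rw [horb]
    obtain ⟨g, hg, -, hgx⟩ := cfgA ho hx
    refine (ncard_translate g fun y => ?_).trans clsA.total
    simp only [Set.mem_ofPred_eq, smul_mem_octads_iff hg, ← hgx, pt_mem_smul]
  rw [hn] at h
  omega

theorem fixOct_le {x : GolayPt} {o : Finset GolayPt} (ho : o ∈ octads) (hx : x ∈ o) {H : Subgroup (Equiv.Perm GolayPt)}
    (hle : H ≤ (M24 ⊓ MulAction.stabilizer (Equiv.Perm GolayPt) x) ⊓ MulAction.stabilizer (Equiv.Perm GolayPt) o)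
    (h2 : 128 ∣ Nat.card H) : fixOct o ≤ H := by
  haveI : Fact (Nat.Prime 2) := ⟨Nat.prime_two⟩
  set S := (M24 ⊓ MulAction.stabilizer (Equiv.Perm GolayPt) x) ⊓ MulAction.stabilizer (Equiv.Perm GolayPt) o with hS
  have hF : fixOct o ≤ S := fun f hf => by
    have hfo : ∀ r ∈ o, f r = r := fun r hr => (mem_fixingSubgroup_iff _).mp hf.2 r (Finset.mem_coe.mpr hr)
    refine ⟨⟨hf.1, hfo x hx⟩, ?_⟩
    refine Finset.eq_of_subset_of_card_le (fun r hr => ?_) (by rw [Finset.card_smul_finset])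
    obtain ⟨u, hu, rfl⟩ := Finset.mem_smul_finset.mp hr
    rw [Equiv.Perm.smul_def, hfo u hu]; exact hu
  haveI : ((fixOct o).subgroupOf S).Normal := ⟨fun f hf s => by
    rw [Subgroup.mem_subgroupOf] at hf ⊢
    obtain ⟨hf1, hf2⟩ := Subgroup.mem_inf.mp hf
    have hs : (s : Equiv.Perm GolayPt) ∈ M24 := s.2.1.1
    refine Subgroup.mem_inf.mpr ⟨mul_mem (mul_mem hs hf1) (inv_mem hs), (mem_fixingSubgroup_iff _).mpr fun r hr => ?_⟩
    have hso : (s : Equiv.Perm GolayPt)⁻¹ r ∈ o := by
      have : r ∈ (s : Equiv.Perm GolayPt) • o := (show (s : Equiv.Perm GolayPt) • o = o from s.2.2).symm ▸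
        Finset.mem_coe.mp hr
      obtain ⟨u, hu, rfl⟩ := Finset.mem_smul_finset.mp this
      simpa using hu
    show ((s : Equiv.Perm GolayPt) * f.1 * (s : Equiv.Perm GolayPt)⁻¹) r = r
    rw [Equiv.Perm.mul_apply, Equiv.Perm.mul_apply,
      show f.1 ((s : Equiv.Perm GolayPt)⁻¹ r) = (s : Equiv.Perm GolayPt)⁻¹ r from
        (mem_fixingSubgroup_iff _).mp hf2 _ (Finset.mem_coe.mpr hso)]
    simp⟩
  have hp : IsPGroup 2 ((fixOct o).subgroupOf S) :=
    IsPGroup.of_card (n := 4) (by rw [Nat.card_congr (Subgroup.subgroupOfEquivOfLe hF).toEquiv, (card_fixOct ho).1]; norm_num)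
  have hcS : Nat.card S = 2 ^ 7 * 315 := by rw [hS, card_octIn ho hx]; norm_num
  have h := normal_le_of_sylow (p := 2) ((fixOct o).subgroupOf S) (H.subgroupOf S) hp (by
    rw [Nat.card_congr (Subgroup.subgroupOfEquivOfLe hle).toEquiv]
    have e : (Nat.card S).factorization 2 = 7 := factorization_eq Nat.prime_two hcS (by norm_num)
    rw [e]
    have h1 := (Nat.Prime.pow_dvd_iff_le_factorization Nat.prime_two Nat.card_pos.ne').mp
      (show 2 ^ 7 ∣ Nat.card H by norm_num; exact h2)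
    have h2' := (Nat.factorization_le_iff_dvd Nat.card_pos.ne' Nat.card_pos.ne').mpr (Subgroup.card_dvd_of_le hle) 2
    rw [e] at h2'
    omega)
  intro f hf
  exact h (x := ⟨f, hF hf⟩) hf

/-- Blocks meeting the fixed points of an element of order five in three points cannot exist. -/
theorem block_false (hK : K ≤ M24) {b : Equiv.Perm GolayPt} (hb : b ∈ K) (ho : orderOf b = 5)
    (f : GolayPt → Finset GolayPt) (hself : ∀ z, z ∈ f z) (hblock : ∀ z, ∀ w ∈ f z, f w = f z)
    (h3 : ∀ z, b z = z → 3 ≤ (f z ∩ fixF b).card) (hnot4 : ∀ z, b z = z → (f z ∩ fixF b).card ≠ 4) : False := by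
  classical
  have h4 : (fixF b).card = 4 := fix_five (hK hb) ho
  obtain ⟨z, hz⟩ := Finset.card_pos.mp (show 0 < (fixF b).card by omega)
  obtain ⟨w, hw, hwz⟩ : ∃ w ∈ fixF b, w ∉ f z := by
    by_contra h
    push_neg at h
    refine hnot4 z (mem_fixF.mp hz) ?_
    rw [Finset.inter_eq_right.mpr h, h4]
  have hdisj : Disjoint (f z ∩ fixF b) (f w ∩ fixF b) := by
    refine Finset.disjoint_left.mpr fun q h1 h2 => hwz ?_
    rw [← hblock z q (Finset.mem_inter.mp h1).1, hblock w q (Finset.mem_inter.mp h2).1]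
    exact hself w
  have := Finset.card_le_card (Finset.union_subset (Finset.inter_subset_right (s₁ := f z) (s₂ := fixF b))
    (Finset.inter_subset_right (s₁ := f w) (s₂ := fixF b)))
  rw [Finset.card_union_of_disjoint hdisj, h4] at this
  have := h3 z (mem_fixF.mp hz)
  have := h3 w (mem_fixF.mp hw)
  omega

theorem octad_blocks_false (hK : K ≤ M24) (h5 : 5 ∣ Nat.card K)
    (h128 : ∀ z, 128 ∣ Nat.card ↥(fixPt K z))
    (hoct : ∀ z, ∃ o ∈ octads, z ∈ o ∧ ∀ k ∈ fixPt K z, k • o = o) : False := by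
  classical
  choose f hfo hfz hfk using hoct
  have hF : ∀ z, fixOct (f z) ≤ fixPt K z := fun z =>
    fixOct_le (hfo z) (hfz z) (fun k hk => ⟨⟨hK hk.1, hk.2⟩, hfk z k hk⟩) (h128 z)
  obtain ⟨b, hb, hbo⟩ := exists_order (K := K) (by norm_num : Nat.Prime 5) h5
  have hblock : ∀ z, ∀ w ∈ f z, f w = f z := by
    intro z w hw
    refine Finset.eq_of_subset_of_card_le (fun p hp => ?_)
      (by rw [card_of_mem_octads (hfo z), card_of_mem_octads (hfo w)])
    by_contra hpz
    have hsub : (f z)ᶜ ⊆ f w := by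
      intro q hq
      obtain ⟨g, hg, rfl⟩ := fixOct_outside (hfo z) hpz (Finset.mem_compl.mp hq)
      have hgw : g w = w := (mem_fixingSubgroup_iff _).mp hg.2 w (Finset.mem_coe.mpr hw)
      have hgK : g ∈ fixPt K w := ⟨(hF z hg).1, hgw⟩
      rw [← hfk w g hgK]
      exact Finset.smul_mem_smul_finset hp
    have := Finset.card_le_card hsub
    rw [Finset.card_compl, card_of_mem_octads (hfo z), card_of_mem_octads (hfo w),
      show Fintype.card GolayPt = 24 from rfl] at this
    omega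
  have hb' : ∀ z, b z = z → 3 ≤ (f z ∩ fixF b).card ∧ (f z ∩ fixF b).card ≠ 4 := fun z hz => by
    haveI : Fact (Nat.Prime 5) := ⟨by norm_num⟩
    have hinv : ∀ q, q ∈ f z ↔ b q ∈ f z := fun q => by
      conv_rhs => rw [← hfk z b ⟨hb, hz⟩]
      exact (Finset.smul_mem_smul_finset_iff (a := b) (b := q) (s := f z)).symm
    have := card_mod (hbo ▸ pow_orderOf_eq_one b) hinv
    rw [card_of_mem_octads (hfo z)] at this
    omega
  exact block_false hK hb hbo f hfz hblock (fun z hz => (hb' z hz).1) (fun z hz => (hb' z hz).2)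

theorem triple_blocks_false (hK : K ≤ M24) (h5 : 5 ∣ Nat.card K)
    (h : ∀ z, ∃ a ∈ fixPt K z, orderOf a = 7 ∧ Inv (fixPt K z) (fixF a)) : False := by
  classical
  choose a haK hao hinv using h
  obtain ⟨b, hb, hbo⟩ := exists_order (K := K) (by norm_num : Nat.Prime 5) h5
  have h3 : ∀ z, (fixF (a z)).card = 3 := fun z => fix_seven (hK (haK z).1) (hao z)
  have hblock : ∀ z, ∀ w ∈ fixF (a z), fixF (a w) = fixF (a z) := by
    intro z w hw
    have hmem : a z ∈ fixPt K w := ⟨(haK z).1, mem_fixF.mp hw⟩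
    have hsub := small_fixed (by norm_num : Nat.Prime 7) (hao z) (W := fixF (a w)) (fun q => hinv w _ hmem q)
      (by rw [h3]; norm_num)
    exact Finset.eq_of_subset_of_card_le hsub (by rw [h3, h3])
  have hfull : ∀ z, b z = z → (fixF (a z) ∩ fixF b).card = 3 := fun z hz => by
    have hsub := small_fixed (by norm_num : Nat.Prime 5) hbo (W := fixF (a z)) (fun q => hinv z b ⟨hb, hz⟩ q)
      (by rw [h3]; norm_num)
    rw [Finset.inter_eq_left.mpr hsub, h3]
  exact block_false hK hb hbo (fun z => fixF (a z)) (fun z => mem_fixF.mpr (haK z).2) hblock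
    (fun z hz => (hfull z hz).ge) (fun z hz => by rw [hfull z hz]; norm_num)

end CfsgM24Sub
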