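/-
The arithmetic excluding intermediate orders above the group of order 253.
-/
import Mathlib

set_option autoImplicit false

namespace CfsgL223

theorem list_of_mod {m : ℕ} (h : m ∣ 128 * 315) (h1 : m % 23 = 1) : m ∈ [1, 24, 70, 576, 1680, 40320] := by
  obtain ⟨u, v, hu, hv, rfl⟩ := Nat.dvd_mul.mp h
  have key : ((List.range 129).all fun u => !decide (u ∣ 128) || (List.range 316).all fun v => !decide (v ∣ 315) ||
      !decide (u * v % 23 = 1) || ([1, 24, 70, 576, 1680, 40320] : List ℕ).contains (u * v)) = true := by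
    decide +kernel
  simp only [List.all_eq_true, List.mem_range, Bool.or_eq_true, Bool.not_eq_true', decide_eq_false_iff_not,
    List.contains_iff_mem] at key
  have hu' := Nat.lt_succ_of_le (Nat.le_of_dvd (show 0 < 128 by norm_num) hu)
  have hv' := Nat.lt_succ_of_le (Nat.le_of_dvd (show 0 < 315 by norm_num) hv)
  rcases key u hu' with h | h
  · exact absurd hu h
  · rcases h v hv' with (h | h) | h
    · exact absurd hv h
    · exact absurd h1 h
    · exact h

theorem two_part {a o d k : ℕ} (hd : ¬ 2 ∣ d) (h : d * k = 253 * (2 ^ a * o)) (hk : k % 11 = 1)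
    (hcert : ∀ v < o + 1, v ∣ o → 2 ^ a * v % 11 ≠ 1 ∧ 2 ^ a * (23 * v) % 11 ≠ 1) : False := by
  have h2 : 2 ^ a ∣ d * k := h ▸ Dvd.dvd.mul_left (dvd_mul_right _ _) _
  have hcop : Nat.Coprime (2 ^ a) d := Nat.Coprime.pow_left a (Nat.prime_two.coprime_iff_not_dvd.mpr hd)
  obtain ⟨k', rfl⟩ := hcop.dvd_of_dvd_mul_left h2
  have h3 : d * k' = 253 * o := by
    refine Nat.eq_of_mul_eq_mul_left (show 0 < 2 ^ a by positivity) ?_
    linarith
  have hco : Nat.Coprime k' 11 := by
    refine (Nat.coprime_comm.mp ((show Nat.Prime 11 by norm_num).coprime_iff_not_dvd.mpr fun h11 => ?_))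
    rw [Nat.mod_eq_zero_of_dvd (Dvd.dvd.mul_left h11 (2 ^ a))] at hk
    omega
  have h4 : k' ∣ 23 * o := by
    refine hco.dvd_of_dvd_mul_left ⟨d, ?_⟩
    linarith
  obtain ⟨u, v, hu, hv, rfl⟩ := Nat.dvd_mul.mp h4
  rcases Nat.eq_zero_or_pos o with ho | ho
  · subst ho
    rcases (show d = 0 ∨ u * v = 0 by simpa using h3) with h0 | h0
    · exact hd (h0 ▸ dvd_zero 2)
    · rw [h0] at hk; simp at hk
  obtain ⟨c1, c2⟩ := hcert v (Nat.lt_succ_of_le (Nat.le_of_dvd ho hv)) hv
  rcases (Nat.dvd_prime (show Nat.Prime 23 by norm_num)).mp hu with rfl | rfl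
  · rw [one_mul] at hk; exact c1 hk
  · exact c2 hk

theorem no_intermediate {d k m : ℕ} (hd : ¬ 2 ∣ d) (h : d * k = 253 * m) (hk : k % 11 = 1)
    (hm : m ∣ 128 * 315) (h1 : m % 23 = 1) : m = 1 ∨ m = 40320 := by
  have := list_of_mod hm h1
  simp only [List.mem_cons, List.not_mem_nil, or_false] at this
  rcases this with rfl | rfl | rfl | rfl | rfl | rfl
  · exact Or.inl rfl
  · exact (two_part (a := 3) (o := 3) hd (by rw [h]; norm_num) hk (by decide +kernel)).elim
  · exact (two_part (a := 1) (o := 35) hd (by rw [h]; norm_num) hk (by decide +kernel)).elim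
  · exact (two_part (a := 6) (o := 9) hd (by rw [h]; norm_num) hk (by decide +kernel)).elim
  · exact (two_part (a := 4) (o := 105) hd (by rw [h]; norm_num) hk (by decide +kernel)).elim
  · exact Or.inr rfl

end CfsgL223
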