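/-
The projective group mod 23 inside the code's group: orders and maximality.
-/
import Cfsg.Agent.Lib.Golay.Index253
import Cfsg.Agent.Lib.Golay.L223Arith
import Cfsg.Agent.Lib.Golay.L223Data

set_option autoImplicit false
set_option linter.style.haveILetI false

namespace CfsgL223

open Cfsg CfsgGolay
open scoped Pointwise

/-- The translation. -/
abbrev tT : Equiv.Perm GolayPt := Equiv.optionCongr (Equiv.addRight (1 : ZMod 23))

/-- The doubling. -/
def tU : Equiv.Perm GolayPt := Equiv.optionCongr (Units.mulLeft (ZMod.unitOfCoprime 2 (by decide) : (ZMod 23)ˣ))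

/-- The multiplications by squares. -/
abbrev sq : Set (Equiv.Perm GolayPt) :=
  {g | ∃ u : (ZMod 23)ˣ, IsSquare u ∧ g = Equiv.optionCongr (Units.mulLeft u)}

theorem repr_U : Repr CfsgM22Sub.eA tU := by
  have h : ∀ p : GolayPt, idx (tU p) = papp CfsgM22Sub.eA (idx p) := by decide +kernel
  exact h

theorem mem_T : tT ∈ M24 := mem_M24_of_gensKept repr_T gensKept_all.1

theorem mem_I : projInv ∈ M24 := mem_M24_of_gensKept repr_I gensKept_all.2.1

theorem mem_U : tU ∈ M24 := mem_M24_of_gensKept repr_U (by decide +kernel)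

theorem order_T : orderOf tT = 23 := by
  haveI : Fact (Nat.Prime 23) := ⟨by norm_num⟩
  refine orderOf_eq_prime ?_ fun h => ?_
  · exact Equiv.ext ((by decide +kernel : ∀ p : GolayPt, (tT ^ 23) p = p))
  · have := congrArg (fun g : Equiv.Perm GolayPt => g (some 0)) h
    simp [tT] at this

theorem order_U : orderOf tU = 11 := by
  haveI : Fact (Nat.Prime 11) := ⟨by norm_num⟩
  refine orderOf_eq_prime ?_ fun h => ?_
  · exact Equiv.ext ((by decide +kernel : ∀ p : GolayPt, (tU ^ 11) p = p))
  · exact absurd (congrArg (fun g : Equiv.Perm GolayPt => g (some 1)) h)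
      (by decide +kernel : tU (some 1) ≠ (1 : Equiv.Perm GolayPt) (some 1))

theorem sq_aux : ∀ w : ZMod 23, w ≠ 0 → ∃ i < 11, w * w = 2 ^ i := by decide +kernel

theorem sq_eq_pow {g : Equiv.Perm GolayPt} (hg : g ∈ sq) : ∃ i : ℕ, g = tU ^ i := by
  haveI : Fact (Nat.Prime 23) := ⟨by norm_num⟩
  obtain ⟨u, ⟨w, rfl⟩, rfl⟩ := hg
  obtain ⟨i, -, hi⟩ := sq_aux w w.ne_zero
  refine ⟨i, ?_⟩
  have hpow : ∀ n : ℕ, ∀ p : GolayPt, (tU ^ n) p = p.map fun t => (2 : ZMod 23) ^ n * t := by
    intro n
    induction n with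
    | zero => intro p; cases p <;> simp
    | succ n ih =>
      intro p
      rw [pow_succ', Equiv.Perm.mul_apply, ih]
      cases p <;> simp [tU, pow_succ', mul_assoc]
  ext p
  rw [hpow]
  cases p <;> simp [← hi]

theorem U_mem_sq : tU ∈ sq := by
  refine ⟨_, ⟨ZMod.unitOfCoprime 5 (by decide), ?_⟩, rfl⟩
  ext
  decide +kernel

/-- The point stabiliser. -/
def G23 : Subgroup (Equiv.Perm GolayPt) := M24 ⊓ MulAction.stabilizer (Equiv.Perm GolayPt) (none : GolayPt)

theorem card_G23 : Nat.card G23 = 10200960 := by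
  have : (MulAction.stabilizer M24 (none : GolayPt)).map M24.subtype = G23 := by
    ext g
    simp only [Subgroup.mem_map, G23, Subgroup.mem_inf, MulAction.mem_stabilizer_iff]
    exact ⟨fun ⟨k, hk, e⟩ => e ▸ ⟨k.2, hk⟩, fun ⟨h1, h2⟩ => ⟨⟨g, h1⟩, h2, rfl⟩⟩
  rw [← this, Subgroup.card_subtype, card_pointStab]

/-- An element fixing a point and normalising a large cyclic subgroup has odd order. -/
theorem no_invol {p f : ℕ} (hp : p.Prime) (hp8 : 8 < p) {a t : Equiv.Perm GolayPt} (ha : orderOf a = p)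
    (hf : (fixF a).card = f) (hlt : f + (24 - f) / p < 8)
    (hsq : ∀ j < p, j * j % p = 1 → j = 1 ∨ j = p - 1) (ht : t ∈ M24) (ho : orderOf t = 2) {x : GolayPt}
    (hx : t x = x) (hn : t ∈ Subgroup.normalizer (Subgroup.zpowers a : Set (Equiv.Perm GolayPt))) : False := by
  classical
  haveI : Fact p.Prime := ⟨hp⟩
  obtain ⟨-, h8⟩ := CfsgM23Sub.fix_two ht ho hx
  set O := fixF t with hO
  have hap : a ^ p = 1 := ha ▸ pow_orderOf_eq_one a
  have htt : t * t = 1 := by rw [← pow_two, ← ho]; exact pow_orderOf_eq_one t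
  obtain ⟨j, hjp, hj⟩ : ∃ j < p, t * a * t⁻¹ = a ^ j := by
    have hmem : t * a * t⁻¹ ∈ Subgroup.zpowers a :=
      (Subgroup.mem_normalizer_iff.mp hn a).mp (Subgroup.mem_zpowers a)
    rw [mem_zpowers_iff_mem_range_orderOf, Finset.mem_image] at hmem
    obtain ⟨j, hj, e⟩ := hmem
    exact ⟨j, ha ▸ Finset.mem_range.mp hj, e.symm⟩
  have hjj : j * j % p = 1 := by
    have e1 : t * (t * a * t⁻¹) * t⁻¹ = a := by
      calc _ = (t * t) * a * (t * t)⁻¹ := by group
        _ = a := by rw [htt]; group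
    rw [hj, ← conj_pow, hj, ← pow_mul] at e1
    have := pow_inj_mod.mp (e1.trans (pow_one a).symm)
    rwa [ha, Nat.one_mod_eq_one.mpr hp.one_lt.ne'] at this
  have hf8 : f < 8 := lt_of_le_of_lt (Nat.le_add_right f _) hlt
  have hI : (O ∩ fixF a).card ≤ f := hf ▸ Finset.card_le_card Finset.inter_subset_right
  rcases hsq j hjp hjj with hj1 | hj1
  · rw [hj1, pow_one] at hj
    have hcomm : t * a = a * t := mul_inv_eq_iff_eq_mul.mp hj
    have hinv : ∀ q, q ∈ O ↔ a q ∈ O := fun q => by
      simp only [hO, mem_fixF, ← Equiv.Perm.mul_apply, hcomm]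
      simp
    have := CfsgM23Sub.card_mod hap hinv
    rw [h8, Nat.mod_eq_of_lt hp8, Nat.mod_eq_of_lt (show (O ∩ fixF a).card < p by omega)] at this
    omega
  · set S1 := O \ fixF a with hS1
    have hinj : (S1 ×ˢ (Finset.univ : Finset (Fin p))).card ≤ (fixF a)ᶜ.card := by
      refine Finset.card_le_card_of_injOn (fun qi => (a ^ qi.2.val) qi.1) ?_ ?_
      · rintro ⟨q, i⟩ hqi
        simp only [Finset.coe_product, Set.mem_prod, Finset.mem_coe] at hqi
        simp only [Finset.coe_compl, Set.mem_compl_iff, Finset.mem_coe]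
        intro h7
        refine (Finset.mem_sdiff.mp hqi.1).2 (mem_fixF.mpr ((a ^ i.val).injective ?_))
        rw [← Equiv.Perm.mul_apply, (Commute.refl a).pow_left i.val |>.eq, Equiv.Perm.mul_apply, mem_fixF.mp h7]
      · rintro ⟨q, i⟩ hqi ⟨q', i'⟩ hqi' e
        simp only [Finset.coe_product, Set.mem_prod, Finset.mem_coe] at hqi hqi'
        simp only at e
        obtain ⟨hq1, hq2⟩ := Finset.mem_sdiff.mp hqi.1
        set l := i.val + (p - i'.val) with hl
        have e' : (a ^ l) q = q' := by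
          rw [hl, add_comm, pow_add, Equiv.Perm.mul_apply, e, ← Equiv.Perm.mul_apply, ← pow_add,
            Nat.sub_add_cancel i'.isLt.le, hap, Equiv.Perm.one_apply]
        have e1 : t * a ^ l = a ^ (j * l) * t := by
          rw [← mul_inv_eq_iff_eq_mul, ← conj_pow, hj, ← pow_mul]
        have e2 : q' = (a ^ (j * l)) q := by
          have := congrArg (fun k : Equiv.Perm GolayPt => k q) e1
          simp only [Equiv.Perm.mul_apply] at this
          rwa [mem_fixF.mp hq1, e', mem_fixF.mp (Finset.mem_sdiff.mp hqi'.1).1] at this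
        have e3 : (a ^ (2 * l)) q = q := by
          have h0 : a ^ (l + j * l) = 1 := by
            rw [hj1, show l + (p - 1) * l = p * l by
              nlinarith [Nat.sub_add_cancel hp.one_lt.le], pow_mul, hap, one_pow]
          calc (a ^ (2 * l)) q = (a ^ l) q' := by rw [two_mul, pow_add, Equiv.Perm.mul_apply, e']
            _ = (a ^ l) ((a ^ (j * l)) q) := by rw [← e2]
            _ = q := by rw [← Equiv.Perm.mul_apply, ← pow_add, h0, Equiv.Perm.one_apply]
        have hii : i = i' := by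
          by_contra hne
          have hdvd : ¬ p ∣ 2 * l := fun hd => by
            rcases hp.dvd_mul.mp hd with h2 | h2
            · have := Nat.le_of_dvd (by norm_num) h2; omega
            · obtain ⟨c, hc⟩ := h2
              have hi := i.isLt
              have hi' := i'.isLt
              have hne' : i.val ≠ i'.val := fun h => hne (Fin.ext h)
              have hc2 : c < 2 := by
                by_contra h
                have : p * 2 ≤ p * c := Nat.mul_le_mul_left p (by omega)
                omega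
              interval_cases c <;> omega
          have hcop : Nat.Coprime (2 * l) (orderOf a) := by
            rw [ha]; exact Nat.coprime_comm.mp (hp.coprime_iff_not_dvd.mpr hdvd)
          obtain ⟨n, hn'⟩ := exists_pow_eq_self_of_coprime hcop
          refine hq2 (mem_fixF.mpr ?_)
          rw [← hn']
          exact (by exact pow_mem (show a ^ (2 * l) ∈ MulAction.stabilizer (Equiv.Perm GolayPt) q from e3) n)
        subst hii
        rw [(a ^ i.val).injective e]
    rw [Finset.card_product, Finset.card_univ, Fintype.card_fin, Finset.card_compl, hf,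
      show Fintype.card GolayPt = 24 from rfl] at hinj
    have h5 := Finset.card_sdiff_add_card_inter O (fixF a)
    rw [← hS1, h8] at h5
    have h6 : S1.card ≤ (24 - f) / p := (Nat.le_div_iff_mul_le hp.pos).mpr hinj
    omega

theorem fix_T : (fixF tT).card = 1 := by
  rw [show fixF tT = fixF permT from rfl, fixF_repr (c := cT) repr_T, card_toSet]
  decide +kernel

theorem fix_eleven {g : Equiv.Perm GolayPt} (hg : g ∈ M24) (ho : orderOf g = 11) : (fixF g).card = 2 := by
  haveI : Fact (Nat.Prime 11) := ⟨by norm_num⟩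
  have h : (244823040 : ℕ).factorization 11 = 1 := card_M24 ▸ factorization_eq (by norm_num)
    (show Nat.card M24 = 11 ^ 1 * 22256640 by rw [card_M24]; norm_num) (by norm_num)
  rw [CfsgM23Sub.prime_fix h mem_U order_U hg ho, fixF_repr repr_U, card_toSet]
  decide +kernel

/-- The group of order 253. -/
def B : Subgroup (Equiv.Perm GolayPt) := Subgroup.closure ({tT} ∪ sq)

/-- The group of order 6072. -/
def Lg : Subgroup (Equiv.Perm GolayPt) := Subgroup.closure ({tT, projInv} ∪ sq)

theorem sq_le_M24 : sq ⊆ M24 := fun g hg => by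
  obtain ⟨i, rfl⟩ := sq_eq_pow hg
  exact pow_mem mem_U i

theorem B_le : B ≤ G23 := by
  rw [B, Subgroup.closure_le]
  rintro g (rfl | hg)
  · exact ⟨mem_T, rfl⟩
  · exact ⟨sq_le_M24 hg, by obtain ⟨u, -, rfl⟩ := hg; rfl⟩

theorem Lg_le : Lg ≤ M24 := by
  rw [Lg, Subgroup.closure_le]
  rintro g ((rfl | rfl) | hg)
  exacts [mem_T, mem_I, sq_le_M24 hg]

theorem odd_norm_T {t : Equiv.Perm GolayPt} (ht : t ∈ G23) (ho : orderOf t = 2)
    (hn : t ∈ Subgroup.normalizer (Subgroup.zpowers tT : Set (Equiv.Perm GolayPt))) : False :=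
  no_invol (by norm_num) (by norm_num) order_T fix_T (by norm_num) (by decide +kernel) ht.1 ho ht.2 hn

theorem odd_norm_U {t : Equiv.Perm GolayPt} (ht : t ∈ G23) (ho : orderOf t = 2)
    (hn : t ∈ Subgroup.normalizer (Subgroup.zpowers tU : Set (Equiv.Perm GolayPt))) : False :=
  no_invol (by norm_num) (by norm_num) order_U (fix_eleven mem_U order_U) (by norm_num) (by decide +kernel)
    ht.1 ho ht.2 hn

theorem cent_T {g : G23} (hg : (g : Equiv.Perm GolayPt) * tT = tT * g) :
    (g : Equiv.Perm GolayPt) ∈ Subgroup.zpowers tT := by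
  obtain ⟨c, hc⟩ : ∃ c : ZMod 23, (g : Equiv.Perm GolayPt) (some 0) = some c := by
    rcases h : (g : Equiv.Perm GolayPt) (some 0) with _ | c
    · exact absurd ((g : Equiv.Perm GolayPt).injective (h.trans g.2.2.symm)) (by simp)
    · exact ⟨c, rfl⟩
  have hpow : ∀ n : ℕ, ∀ t : ZMod 23, (tT ^ n) (some t) = some (t + n) := by
    intro n
    induction n with
    | zero => intro t; simp
    | succ n ih =>
      intro t
      rw [pow_succ', Equiv.Perm.mul_apply, ih]
      simp [tT, add_assoc]
  have hnone : ∀ n : ℕ, (tT ^ n) none = none := fun n =>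
    (pow_mem (show tT ∈ MulAction.stabilizer (Equiv.Perm GolayPt) (none : GolayPt) from rfl) n : _)
  refine ⟨(c.val : ℤ), ?_⟩
  simp only [zpow_natCast]
  refine Equiv.ext fun p => ?_
  rcases p with _ | t
  · rw [hnone]; exact g.2.2.symm
  · have h1 := congrArg (fun k : Equiv.Perm GolayPt => k (some 0)) ((show Commute (g : Equiv.Perm GolayPt) tT from hg).pow_right t.val).eq
    simp only [Equiv.Perm.mul_apply, hpow, hc, zero_add, ZMod.natCast_val, ZMod.cast_id', id_eq] at h1
    rw [h1, hpow, ZMod.natCast_val, ZMod.cast_id', id_eq, add_comm]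

/-- The normaliser of the translations in the point stabiliser. -/
def N253 : Subgroup (Equiv.Perm GolayPt) :=
  G23 ⊓ Subgroup.normalizer (Subgroup.zpowers tT : Set (Equiv.Perm GolayPt))

theorem B_le_N : B ≤ N253 := by
  refine le_inf B_le ?_
  rw [B, Subgroup.closure_le]
  rintro g (rfl | hg)
  · exact Subgroup.le_normalizer (Subgroup.mem_zpowers _)
  · obtain ⟨i, rfl⟩ := sq_eq_pow hg
    refine pow_mem (CfsgM22Sub.mem_norm_zpowers (k := 2) ?_) i
    exact Equiv.ext ((by decide +kernel : ∀ p : GolayPt, (tU * tT * tU⁻¹) p = (tT ^ 2) p))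

theorem card_B : Nat.card B = 253 ∧ Nat.card N253 = 253 := by
  classical
  haveI : Fact (Nat.Prime 23) := ⟨by norm_num⟩
  have hT : tT ∈ B := Subgroup.subset_closure (Or.inl rfl)
  have hU : tU ∈ B := Subgroup.subset_closure (Or.inr U_mem_sq)
  have h23 : 23 ∣ Nat.card B := order_T ▸ Subgroup.orderOf_dvd_natCard B hT
  have h11 : 11 ∣ Nat.card B := order_U ▸ Subgroup.orderOf_dvd_natCard B hU
  have hdvd : 253 ∣ Nat.card B := Nat.Coprime.mul_dvd_of_dvd_of_dvd (show Nat.Coprime 23 11 by norm_num) h23 h11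
  have hTG : tT ∈ G23 := B_le hT
  let a : G23 := ⟨tT, hTG⟩
  have hle : Nat.card N253 ≤ 506 := by
    have h1 : N253.subgroupOf G23 ≤ Subgroup.normalizer (Subgroup.zpowers a : Set G23) := by
      intro g hg
      have hz : (Subgroup.zpowers tT).subgroupOf G23 = Subgroup.zpowers a := by
        apply Subgroup.map_injective G23.subtype_injective
        rw [Subgroup.subgroupOf_map_subtype, MonoidHom.map_zpowers, inf_eq_left.mpr (Subgroup.zpowers_le.mpr hTG)]
        rfl
      rw [← hz, ← Subgroup.subgroupOf_normalizer_eq (Subgroup.zpowers_le.mpr hTG)]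
      exact (Subgroup.mem_inf.mp hg).2
    rw [← Nat.card_congr (Subgroup.subgroupOfEquivOfLe (show N253 ≤ G23 from inf_le_left)).toEquiv]
    refine (Subgroup.card_le_of_le h1).trans ((CfsgM22Sub.norm_card_le (p := 23) (by norm_num)
      ((Subgroup.orderOf_coe a).symm.trans order_T) fun g hg => ?_).trans (by norm_num))
    obtain ⟨i, hi⟩ := cent_T (congrArg Subtype.val (Subgroup.mem_centralizer_singleton_iff.mp hg))
    exact ⟨i, Subtype.ext (by simpa using hi)⟩
  have hodd : ¬ 2 ∣ Nat.card N253 := fun h2 => by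
    haveI : Fact (Nat.Prime 2) := ⟨by norm_num⟩
    obtain ⟨⟨t, ht⟩, ho⟩ := exists_prime_orderOf_dvd_card' (G := N253) 2 h2
    rw [Subgroup.orderOf_mk] at ho
    exact odd_norm_T ht.1 ho ht.2
  have hBN := Subgroup.card_dvd_of_le B_le_N
  have hN := hdvd.trans hBN
  have hNpos : 0 < Nat.card N253 := Nat.card_pos
  have hN253 : Nat.card N253 = 253 := by
    obtain ⟨c, hc⟩ := hN
    have : c < 3 := by omega
    interval_cases c
    · omega
    · omega
    · exact absurd ⟨253, hc.trans (by norm_num)⟩ hodd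
  refine ⟨le_antisymm (hN253 ▸ Subgroup.card_le_of_le B_le_N) (Nat.le_of_dvd Nat.card_pos hdvd), hN253⟩

theorem B_max {K : Subgroup (Equiv.Perm GolayPt)} (hB : B ≤ K) (hK : K ≤ G23) : K = B ∨ K = G23 := by
  classical
  obtain ⟨hB253, hN⟩ := card_B
  have hT : tT ∈ K := hB (Subgroup.subset_closure (Or.inl rfl))
  have hU : tU ∈ K := hB (Subgroup.subset_closure (Or.inr U_mem_sq))
  obtain ⟨m, hm⟩ : 253 ∣ Nat.card K := hB253 ▸ Subgroup.card_dvd_of_le hB
  have hKd : Nat.card K ∣ 10200960 := card_G23 ▸ Subgroup.card_dvd_of_le hK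
  have hm' : m ∣ 128 * 315 := by
    have : 253 * m ∣ 253 * (128 * 315) := by rw [← hm]; exact hKd
    exact Nat.dvd_of_mul_dvd_mul_left (by norm_num) this
  obtain ⟨k, hk, hk1⟩ := CfsgM22Sub.sylow_ratio hT (p := 23) (by norm_num) order_T
    (fun h => absurd (h.trans hKd) (by norm_num))
  have hKN : K ⊓ Subgroup.normalizer (Subgroup.zpowers tT : Set (Equiv.Perm GolayPt)) = B := by
    refine le_antisymm ?_ (le_inf hB (B_le_N.trans inf_le_right))
    intro g hg
    have : B = N253 := Subgroup.eq_of_le_of_card_ge B_le_N (by rw [hB253, hN])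
    rw [this]
    exact ⟨hK hg.1, hg.2⟩
  rw [hKN, hB253, hm] at hk
  have hkm : k = m := Nat.eq_of_mul_eq_mul_left (show 0 < 253 by norm_num) hk.symm
  subst hkm
  obtain ⟨l, hl, hl1⟩ := CfsgM22Sub.sylow_ratio hU (p := 11) (by norm_num) order_U
    (fun h => absurd (h.trans hKd) (by norm_num))
  rw [hm] at hl
  have hodd : ¬ 2 ∣ Nat.card ↥(K ⊓ Subgroup.normalizer (Subgroup.zpowers tU : Set (Equiv.Perm GolayPt))) := fun h2 => by
    haveI : Fact (Nat.Prime 2) := ⟨by norm_num⟩
    obtain ⟨⟨t, ht⟩, ho⟩ := exists_prime_orderOf_dvd_card'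
      (G := ↥(K ⊓ Subgroup.normalizer (Subgroup.zpowers tU : Set (Equiv.Perm GolayPt)))) 2 h2
    rw [Subgroup.orderOf_mk] at ho
    exact odd_norm_U (hK ht.1) ho ht.2
  rcases no_intermediate hodd hl.symm hl1 hm' hk1 with h | h
  · exact Or.inl (Subgroup.eq_of_le_of_card_ge hB (by rw [hm, h, hB253])).symm
  · exact Or.inr (Subgroup.eq_of_le_of_card_ge hK (by rw [hm, h, card_G23]))

theorem orbit_checked : (dodOrbit.all fun m => [cT, cI, CfsgM22Sub.eA].all fun c => dodOrbit.contains (pmask c m)) = true ∧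
    dodOrbit.contains 340831 = true ∧ dodOrbit.length = 552 := by
  decide +kernel

theorem Lg_ne : Lg ≠ M24 := by
  classical
  intro h
  set S : Finset (Finset GolayPt) := dodOrbit.toFinset.image toSet with hS
  have hgen : ∀ g ∈ Lg, ∀ d ∈ S, g • d ∈ S := by
    intro g hg
    have hstep : ∀ c ∈ [cT, cI, CfsgM22Sub.eA], ∀ k : Equiv.Perm GolayPt, Repr c k → ∀ d ∈ S, k • d ∈ S := by
      intro c hc k hr d hd
      obtain ⟨m, hm, rfl⟩ := Finset.mem_image.mp hd
      have := List.all_eq_true.mp (List.all_eq_true.mp orbit_checked.1 m (List.mem_toFinset.mp hm)) c hc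
      refine Finset.mem_image.mpr ⟨pmask c m, List.mem_toFinset.mpr (List.contains_iff_mem.mp this), ?_⟩
      rw [hr.toSet_pmask]; rfl
    have hle : Lg ≤ MulAction.stabilizer (Equiv.Perm GolayPt) (S : Set (Finset GolayPt)) := by
      have key : ∀ k : Equiv.Perm GolayPt, (∀ d ∈ S, k • d ∈ S) →
          k ∈ MulAction.stabilizer (Equiv.Perm GolayPt) (S : Set (Finset GolayPt)) := by
        intro k hk
        rw [MulAction.mem_stabilizer_iff]
        refine Set.eq_of_subset_of_ncard_le ?_ ?_ S.finite_toSet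
        · rintro _ ⟨d, hd, rfl⟩; exact hk d hd
        · rw [Set.ncard_smul_set]
      rw [Lg, Subgroup.closure_le]
      rintro k ((rfl | rfl) | hk)
      · exact key _ (hstep cT (by simp) _ repr_T)
      · exact key _ (hstep cI (by simp) _ repr_I)
      · obtain ⟨i, rfl⟩ := sq_eq_pow hk
        exact pow_mem (key _ (hstep _ (by simp) _ repr_U)) i
    intro d hd
    have := hle hg
    rw [MulAction.mem_stabilizer_iff] at this
    have h2 := Set.smul_mem_smul_set (a := g) (Finset.mem_coe.mpr hd)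
    rw [this] at h2
    exact h2
  have hsub : dodecads ⊆ (S : Set (Finset GolayPt)) := by
    intro d hd
    obtain ⟨g, hg, rfl⟩ := dodecads_transitive CfsgGolay.square_mem_dodecads hd
    refine hgen g (h.symm ▸ hg) _ (Finset.mem_image.mpr ⟨340831, ?_, rfl⟩)
    exact List.mem_toFinset.mpr (List.contains_iff_mem.mp orbit_checked.2.1)
  have h1 := Set.ncard_le_ncard hsub S.finite_toSet
  rw [dodecads_ncard, Set.ncard_coe_finset] at h1
  have h2 : S.card ≤ 552 := Finset.card_image_le.trans ((List.toFinset_card_le _).trans_eq orbit_checked.2.2)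
  omega

theorem trans24 (p : GolayPt) : ∃ g ∈ Lg, g none = p := by
  have hT : tT ∈ Lg := Subgroup.subset_closure (Or.inl (Or.inl rfl))
  rcases p with _ | t
  · exact ⟨1, one_mem _, rfl⟩
  · refine ⟨tT ^ t.val * projInv, mul_mem (pow_mem hT _) (Subgroup.subset_closure (Or.inl (Or.inr rfl))), ?_⟩
    have h0 : projInv none = some (0 : ZMod 23) := by decide +kernel
    have hpow : ∀ n : ℕ, (tT ^ n) (some (0 : ZMod 23)) = some (n : ZMod 23) := by
      intro n
      induction n with
      | zero => simp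
      | succ n ih => rw [pow_succ', Equiv.Perm.mul_apply, ih]; simp [tT]
    rw [Equiv.Perm.mul_apply, h0, hpow, ZMod.natCast_zmod_val]

theorem over_Lg {K : Subgroup (Equiv.Perm GolayPt)} (hL : Lg ≤ K) (hK : K ≤ M24) :
    Nat.card K = 6072 ∨ K = M24 := by
  have hB : B ≤ K ⊓ MulAction.stabilizer (Equiv.Perm GolayPt) (none : GolayPt) := by
    refine le_inf ((Subgroup.closure_mono ?_).trans hL) (B_le.trans inf_le_right)
    rintro g (rfl | hg)
    exacts [Or.inl (Or.inl rfl), Or.inr hg]
  have hcard : Nat.card K = Nat.card ↥(K ⊓ MulAction.stabilizer (Equiv.Perm GolayPt) (none : GolayPt)) * 24 := by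
    have horb : MulAction.orbit K (none : GolayPt) = Set.univ := by
      ext p
      simp only [Set.mem_univ, iff_true]
      obtain ⟨g, hg, rfl⟩ := trans24 p
      exact ⟨⟨g, hL hg⟩, rfl⟩
    have h := (MulAction.stabilizer K (none : GolayPt)).card_mul_index
    rw [MulAction.index_stabilizer, horb, Set.ncard_univ, Nat.card_eq_fintype_card (α := GolayPt), show Fintype.card GolayPt = 24 from rfl] at h
    rw [← h]
    congr 1
    exact Nat.card_congr ⟨fun k => ⟨k.1.1, k.1.2, k.2⟩, fun k => ⟨⟨k.1, k.2.1⟩, k.2.2⟩, fun _ => rfl, fun _ => rfl⟩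
  rcases B_max hB (le_inf (inf_le_left.trans hK) inf_le_right) with h | h
  · exact Or.inl (by rw [hcard, h, card_B.1])
  · exact Or.inr (Subgroup.eq_of_le_of_card_ge hK (by rw [hcard, h, card_G23, card_M24]))

theorem card_Lg : Nat.card Lg = 6072 := (over_Lg le_rfl Lg_le).resolve_right Lg_ne

theorem s1643 : (Lg ≤ M24 ∧ Nat.card Lg = 6072 ∧ IsCoatom (Lg.subgroupOf M24)) ∧
    (B ≤ M24 ⊓ MulAction.stabilizer (Equiv.Perm GolayPt) (none : GolayPt) ∧ Nat.card B = 253 ∧
      IsCoatom ((B.subgroupOf M24).subgroupOf (MulAction.stabilizer M24 (none : GolayPt)))) := by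
  classical
  refine ⟨⟨Lg_le, card_Lg, ?_⟩, B_le, card_B.1, ?_⟩
  · refine ⟨fun h => Lg_ne (le_antisymm Lg_le fun g hg => ?_), fun K hK => ?_⟩
    · exact Subgroup.mem_subgroupOf.mp (h ▸ Subgroup.mem_top (⟨g, hg⟩ : M24))
    · have hmap : Lg ≤ K.map M24.subtype := fun g hg => ⟨⟨g, Lg_le hg⟩, hK.le (Subgroup.mem_subgroupOf.mpr hg), rfl⟩
      rcases over_Lg hmap (Subgroup.map_subtype_le _) with h | h
      · exfalso
        refine hK.ne (Subgroup.eq_of_le_of_card_ge hK.le ?_)
        rw [Nat.card_congr (Subgroup.subgroupOfEquivOfLe Lg_le).toEquiv, card_Lg, ← h, Subgroup.card_subtype]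
      · refine Subgroup.eq_top_of_le_card K (le_of_eq ?_)
        rw [← Subgroup.card_subtype M24 K, h]
  · set G := MulAction.stabilizer M24 (none : GolayPt) with hG
    have hBG : (B.subgroupOf M24) ≤ G := fun g hg => (B_le hg).2
    have hcardB : Nat.card ↥((B.subgroupOf M24).subgroupOf G) = 253 := by
      rw [Nat.card_congr (Subgroup.subgroupOfEquivOfLe hBG).toEquiv,
        Nat.card_congr (Subgroup.subgroupOfEquivOfLe (B_le.trans inf_le_left)).toEquiv, card_B.1]
    refine ⟨fun h => ?_, fun K hK => ?_⟩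
    · rw [h, Subgroup.card_top, card_pointStab] at hcardB
      norm_num at hcardB
    · have hmap : B ≤ (K.map G.subtype).map M24.subtype := fun g hg =>
        ⟨⟨g, (B_le hg).1⟩, ⟨⟨⟨g, (B_le hg).1⟩, (B_le hg).2⟩, hK.le hg, rfl⟩, rfl⟩
      have hle : (K.map G.subtype).map M24.subtype ≤ G23 := by
        rintro _ ⟨_, ⟨k, _, rfl⟩, rfl⟩
        exact ⟨k.1.2, k.2⟩
      have hc : Nat.card ↥((K.map G.subtype).map M24.subtype) = Nat.card K := by
        rw [Subgroup.card_subtype, Subgroup.card_subtype]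
      rcases B_max hmap hle with h | h
      · exfalso
        refine hK.ne (Subgroup.eq_of_le_of_card_ge hK.le ?_)
        rw [hcardB, ← card_B.1, ← h, hc]
      · refine Subgroup.eq_top_of_le_card K (le_of_eq ?_)
        rw [card_pointStab, ← card_G23, ← h, hc]

end CfsgL223
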