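/-
Subgroups of indices 253, 276 and 759 in the code's group.
-/
import Cfsg.Agent.Lib.Golay.IndexBlocks
import Cfsg.Agent.Lib.Golay.L223

set_option autoImplicit false
set_option linter.style.haveILetI false
set_option linter.unusedSectionVars false

namespace CfsgM24Sub

open Cfsg CfsgGolay CfsgM23Sub
open scoped Pointwise

variable {K : Subgroup (Equiv.Perm GolayPt)}

theorem classify (hK : K ≤ M24) {a : Equiv.Perm GolayPt} (D : Seven K a) (h11 : ¬ 11 ∣ Nat.card K)
    (h23 : ¬ 23 ∣ Nat.card K) :
    (∃ o ∈ octads, ∀ k ∈ K, k • o = o) ∨ (∃ s : Finset GolayPt, s.card = 3 ∧ Inv K s) ∨ ∀ p q, q ∈ orb K p := by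
  classical
  obtain ⟨p, hp⟩ := Finset.card_pos.mp (show 0 < ((D.O ∪ fixF a)ᶜ : Finset GolayPt).card by rw [D.hBC]; norm_num)
  set S := orb K p with hS
  have hSi : Inv K S := orb_inv p
  have hbc : (S ∩ (D.O ∪ fixF a)ᶜ).card = 14 := by
    rcases D.invBC S hSi with h | h
    · exact absurd (self_mem_orb p) (Seven.none_disjoint h hp)
    · exact h
  have hsplit := D.card_split S
  have hx1 : (S ∩ {D.x}).card = if D.x ∈ S then 1 else 0 := by
    by_cases h : D.x ∈ S <;> simp [h]
  have hUc : Sᶜ.card = 24 - S.card := by rw [Finset.card_compl, show Fintype.card GolayPt = 24 from rfl]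
  rcases D.invA S hSi with hA | hA
  · refine Or.inl ⟨D.O, D.oct, octad_of_small hK D.oct hSi.compl ?_⟩
    have hAU : D.O.erase D.x ⊆ D.O ∩ Sᶜ := fun q hq => Finset.mem_inter.mpr
      ⟨(Finset.mem_erase.mp hq).2, Finset.mem_compl.mpr (Seven.none_disjoint hA hq)⟩
    by_cases hx : D.x ∈ S
    · rw [if_pos hx] at hx1
      have := Finset.card_le_card hAU
      rw [D.hA] at this
      omega
    · rw [if_neg hx] at hx1
      have hOU : D.O ⊆ Sᶜ := fun q hq => by
        by_cases hq' : q = D.x
        · exact Finset.mem_compl.mpr (hq' ▸ hx)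
        · exact (Finset.mem_inter.mp (hAU (Finset.mem_erase.mpr ⟨hq', hq⟩))).2
      rw [Finset.inter_eq_left.mpr hOU, card_of_mem_octads D.oct]
      omega
  · rcases D.invR S hSi with hR | hR
    · by_cases hx : D.x ∈ S
      · rw [if_pos hx] at hx1
        exfalso
        refine h11 (dvd_trans ⟨2, ?_⟩ (orb_dvd (K := K) p))
        rw [← hS]; omega
      · rw [if_neg hx] at hx1
        exact Or.inr (Or.inl ⟨Sᶜ, by omega, hSi.compl⟩)
    · by_cases hx : D.x ∈ S
      · rw [if_pos hx] at hx1
        refine Or.inr (Or.inr ?_)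
        have hu : S = Finset.univ := Finset.eq_univ_of_card S (by
          rw [show Fintype.card GolayPt = 24 from rfl]; omega)
        intro q r
        obtain ⟨k, hk, rfl⟩ := mem_orb.mp (by rw [← hS, hu]; exact Finset.mem_univ q : q ∈ orb K p)
        obtain ⟨m, hm, rfl⟩ := mem_orb.mp (by rw [← hS, hu]; exact Finset.mem_univ r : r ∈ orb K p)
        exact mem_orb.mpr ⟨m * k⁻¹, mul_mem hm (inv_mem hk), by simp⟩
      · rw [if_neg hx] at hx1
        exfalso
        refine h23 (dvd_trans ⟨1, ?_⟩ (orb_dvd (K := K) p))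
        rw [← hS]; omega

theorem not_transitive (hK : K ≤ M24) {c : ℕ} (hc : Nat.card K = 24 * c) (h128 : 128 ∣ c) (h35 : 35 ∣ c)
    (h49 : ¬ 7 ^ 2 ∣ c) (h23 : ¬ 23 ∣ c) (hodd : ∀ d k, c = d * k → k % 7 = 1 → 2 ∣ d)
    (htr : ∀ p q, q ∈ orb K p) : False := by
  classical
  have hcz : ∀ z, Nat.card ↥(fixPt K z) = c := fun z => by
    have h := card_fixPt (K := K) z
    rw [show (orb K z) = Finset.univ from Finset.eq_univ_iff_forall.mpr (htr z), Finset.card_univ,
      show Fintype.card GolayPt = 24 from rfl, hc] at h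
    omega
  have h5 : 5 ∣ Nat.card K := hc ▸ Dvd.dvd.mul_left (dvd_trans (by norm_num) h35) 24
  have hloc : ∀ z, (∃ o ∈ octads, z ∈ o ∧ ∀ k ∈ fixPt K z, k • o = o) ∨
      ∃ a ∈ fixPt K z, orderOf a = 7 ∧ Inv (fixPt K z) (fixF a) := by
    intro z
    obtain ⟨a, ha, hao⟩ := exists_order (K := fixPt K z) (p := 7) (by norm_num)
      ((hcz z).symm ▸ dvd_trans (by norm_num) h35)
    obtain ⟨b, hb, hbo⟩ := exists_order (K := fixPt K z) (p := 5) (by norm_num)
      ((hcz z).symm ▸ dvd_trans (by norm_num) h35)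
    have hle : fixPt K z ≤ M24 := fun k hk => hK hk.1
    obtain ⟨D⟩ := seven hle ha hao ((hcz z).symm ▸ h49) (fun d k => (hcz z).symm ▸ hodd d k)
    have hz : Inv (fixPt K z) {z} := inv_single fun k hk => hk.2
    have hzx : z = D.x := by
      by_contra hne
      have hmem : z ∈ (fixF a).erase D.x := Finset.mem_erase.mpr ⟨hne, mem_fixF.mpr ha.2⟩
      rcases D.invR _ hz with h | h
      · exact Seven.none_disjoint h hmem (Finset.mem_singleton_self z)
      · have := Finset.card_le_card (Finset.inter_subset_left (s₁ := ({z} : Finset GolayPt)) (s₂ := (fixF a).erase D.x))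
        rw [h, Finset.card_singleton] at this
        omega
    obtain ⟨p, hp⟩ := Finset.card_pos.mp (show 0 < ((D.O ∪ fixF a)ᶜ : Finset GolayPt).card by rw [D.hBC]; norm_num)
    set S := orb (fixPt K z) p with hS
    have hSi : Inv (fixPt K z) S := orb_inv p
    have hzS : z ∉ S := fun h => by
      have hsub := orb_subset hz (Finset.mem_singleton_self z) (orb_symm h)
      rw [Finset.mem_singleton] at hsub
      rw [Finset.mem_compl, Finset.mem_union] at hp
      exact hp (Or.inl ((congrArg (fun u => u ∈ D.O) (hsub.trans hzx)).mpr D.x_mem.1))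
    have hbc : (S ∩ (D.O ∪ fixF a)ᶜ).card = 14 := by
      rcases D.invBC S hSi with h | h
      · exact absurd (self_mem_orb p) (Seven.none_disjoint h hp)
      · exact h
    have hsplit := D.card_split S
    have hx0 : (S ∩ {D.x}).card = 0 := by rw [← hzx]; simp [hzS]
    rcases D.invA S hSi with hA | hA <;> rcases D.invR S hSi with hR | hR
    · exfalso
      have hm := mod_fix (by norm_num : Nat.Prime 5) hb hbo hSi
      have hlt : (S ∩ fixF b).card < (fixF b).card := Finset.card_lt_card
        ⟨Finset.inter_subset_right, fun h => hzS (Finset.mem_inter.mp (h (mem_fixF.mpr hb.2))).1⟩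
      rw [fix_five (hle hb) hbo] at hlt
      omega
    · left
      refine ⟨D.O, D.oct, (congrArg (fun u => u ∈ D.O) hzx).mpr D.x_mem.1, octad_of_small hle D.oct hSi.compl ?_⟩
      have hOU : D.O ⊆ Sᶜ := fun q hq => by
        rw [Finset.mem_compl]
        by_cases hq' : q = D.x
        · rw [hq', ← hzx]; exact hzS
        · exact Seven.none_disjoint hA (Finset.mem_erase.mpr ⟨hq', hq⟩)
      rw [Finset.inter_eq_left.mpr hOU, card_of_mem_octads D.oct, Finset.card_compl,
        show Fintype.card GolayPt = 24 from rfl]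
      omega
    · right
      refine ⟨a, ha, hao, ?_⟩
      have h3 : (fixF a).card = 3 := fix_seven (hle ha) hao
      have : fixF a = Sᶜ := by
        refine Finset.eq_of_subset_of_card_le (fun q hq => ?_) ?_
        · rw [Finset.mem_compl]
          by_cases hq' : q = D.x
          · rw [hq', ← hzx]; exact hzS
          · exact Seven.none_disjoint hR (Finset.mem_erase.mpr ⟨hq', hq⟩)
        · rw [Finset.card_compl, show Fintype.card GolayPt = 24 from rfl, h3]; omega
      rw [this]
      exact hSi.compl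
    · exfalso
      refine h23 (dvd_trans ⟨1, ?_⟩ ((hcz z) ▸ orb_dvd (K := fixPt K z) p))
      rw [← hS]; omega
  by_cases hex : ∃ z, ∃ o ∈ octads, z ∈ o ∧ ∀ k ∈ fixPt K z, k • o = o
  · obtain ⟨z, o, ho, hzo, hko⟩ := hex
    refine octad_blocks_false hK h5 (fun w => (hcz w).symm ▸ h128) fun w => ?_
    obtain ⟨g, hg, rfl⟩ := mem_orb.mp (htr z w)
    refine ⟨g • o, smul_mem_octads (hK hg) ho, Finset.smul_mem_smul_finset hzo, fun k hk => ?_⟩
    have hm : g⁻¹ * k * g ∈ fixPt K z := by
      refine mem_fixPt.mpr ⟨mul_mem (mul_mem (inv_mem hg) (mem_fixPt.mp hk).1) hg, ?_⟩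
      show (g⁻¹ * k * g) z = z
      rw [Equiv.Perm.mul_apply, Equiv.Perm.mul_apply, show k (g z) = g z from hk.2]
      simp
    have h := hko _ hm
    rw [mul_smul, mul_smul, inv_smul_eq_iff] at h
    exact h
  · exact triple_blocks_false hK h5 fun z => (hloc z).resolve_left fun h => hex ⟨z, h⟩

theorem triple_bound (hK : K ≤ M24) {s : Finset GolayPt} (hs : s.card = 3) (hinv : Inv K s) :
    Nat.card K ≤ 120960 := by
  classical
  have h := card_inf_stab (H := M24) s
  have horb : MulAction.orbit M24 s = ↑(Finset.univ.powersetCard 3 : Finset (Finset GolayPt)) := by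
    ext y
    rw [Finset.mem_coe, Finset.mem_powersetCard]
    constructor
    · rintro ⟨g, rfl⟩
      exact ⟨Finset.subset_univ _, (Finset.card_smul_finset _ _).trans hs⟩
    · rintro ⟨-, hy⟩
      obtain ⟨u, v, w, huv, huw, hvw, rfl⟩ := Finset.card_eq_three.mp hs
      obtain ⟨u', v', w', huv', huw', hvw', rfl⟩ := Finset.card_eq_three.mp hy
      obtain ⟨g, hg, he⟩ := exists_M24_map (k := 3) (by norm_num)
        ⟨![u, v, w], by intro i j; fin_cases i <;> fin_cases j <;> simp [huv, huw, hvw, huv.symm, huw.symm, hvw.symm]⟩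
        ⟨![u', v', w'], by intro i j; fin_cases i <;> fin_cases j <;>
          simp [huv', huw', hvw', huv'.symm, huw'.symm, hvw'.symm]⟩
      refine ⟨⟨g, hg⟩, ?_⟩
      show g • ({u, v, w} : Finset GolayPt) = {u', v', w'}
      rw [Finset.smul_finset_insert, Finset.smul_finset_insert, Finset.smul_finset_singleton,
        show g • u = u' from he 0, show g • v = v' from he 1, show g • w = w' from he 2]
  rw [horb, Set.ncard_coe_finset, Finset.card_powersetCard, Finset.card_univ,
    show Fintype.card GolayPt = 24 from rfl, show Nat.choose 24 3 = 2024 from by decide, card_M24] at h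
  have := Subgroup.card_le_of_le (show K ≤ M24 ⊓ MulAction.stabilizer (Equiv.Perm GolayPt) s from
    fun k hk => ⟨hK hk, hinv.smul_eq hk⟩)
  omega

theorem octad_bound {o : Finset GolayPt} (ho : o ∈ octads) (hK : K ≤ M24) (h : ∀ k ∈ K, k • o = o) :
    Nat.card K ≤ 322560 := by
  obtain ⟨g, hg, rfl⟩ := exists_smul_O0 ho
  refine (Subgroup.card_le_of_le (show K ≤ stabM (g • O0) from fun k hk => mem_stabM.mpr ⟨hK hk, h k hk⟩)).trans ?_
  rw [(isConjOf_stabM hg O0).card_eq, stabO.2]

/-- An order determined by seven odd-part divisibility. -/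
theorem odd_cond {m o : ℕ} (hm : m = 2 ^ 10 * o ∨ m = 2 ^ 7 * o)
    (hcert : ∀ d < o + 1, d ∣ o → m / d % 7 ≠ 1) (ho : 0 < o) : ∀ d k, m = d * k → k % 7 = 1 → 2 ∣ d := by
  intro d k h hk
  by_contra hd
  have hdo : d ∣ o := by
    have hcop : ∀ e : ℕ, Nat.Coprime d (2 ^ e) := fun e =>
      Nat.Coprime.pow_right e (Nat.prime_two.coprime_iff_not_dvd.mpr hd).symm
    rcases hm with hm | hm
    · exact (hcop 10).dvd_of_dvd_mul_left (hm ▸ ⟨k, h⟩)
    · exact (hcop 7).dvd_of_dvd_mul_left (hm ▸ ⟨k, h⟩)
  refine hcert d (Nat.lt_succ_of_le (Nat.le_of_dvd ho hdo)) hdo ?_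
  rw [h, Nat.mul_div_cancel_left _ (Nat.pos_of_ne_zero fun e => hd (by rw [e]; exact dvd_zero 2))]
  exact hk

theorem case759 (hK : K ≤ M24) (hc : Nat.card K = 322560) : ∃ o ∈ octads, ∀ k ∈ K, k • o = o := by
  obtain ⟨a, ha, hao⟩ := exists_order (K := K) (p := 7) (by norm_num) (by rw [hc]; norm_num)
  obtain ⟨D⟩ := seven hK ha hao (by rw [hc]; norm_num)
    (hc ▸ odd_cond (m := 322560) (o := 315) (Or.inl (by norm_num)) (by decide +kernel) (by norm_num))
  rcases classify hK D (by rw [hc]; norm_num) (by rw [hc]; norm_num) with h | ⟨s, hs, hi⟩ | h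
  · exact h
  · have := triple_bound hK hs hi; omega
  · exact (not_transitive hK (c := 13440) (by rw [hc]) (by norm_num) (by norm_num) (by norm_num) (by norm_num)
      (odd_cond (o := 105) (Or.inr (by norm_num)) (by decide +kernel) (by norm_num)) h).elim

theorem case253 (hK : K ≤ M24) (hc : Nat.card K = 967680) : False := by
  obtain ⟨a, ha, hao⟩ := exists_order (K := K) (p := 7) (by norm_num) (by rw [hc]; norm_num)
  obtain ⟨D⟩ := seven hK ha hao (by rw [hc]; norm_num)
    (hc ▸ odd_cond (m := 967680) (o := 945) (Or.inl (by norm_num)) (by decide +kernel) (by norm_num))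
  rcases classify hK D (by rw [hc]; norm_num) (by rw [hc]; norm_num) with ⟨o, ho, h⟩ | ⟨s, hs, hi⟩ | h
  · have := octad_bound ho hK h; omega
  · have := triple_bound hK hs hi; omega
  · exact not_transitive hK (c := 40320) (by rw [hc]) (by norm_num) (by norm_num) (by norm_num) (by norm_num)
      (odd_cond (o := 315) (Or.inr (by norm_num)) (by decide +kernel) (by norm_num)) h

theorem inv_eleven_seven (hK : K ≤ M24) (h11 : 11 ∣ Nat.card K) (h7 : 7 ∣ Nat.card K) {W : Finset GolayPt}
    (hW : Inv K W) : W.card ∈ [0, 1, 2, 22, 23, 24] := by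
  obtain ⟨a, ha, hao⟩ := exists_order (K := K) (p := 11) (by norm_num) h11
  obtain ⟨c, hc, hco⟩ := exists_order (K := K) (p := 7) (by norm_num) h7
  have ma := mod_fix (by norm_num : Nat.Prime 11) ha hao hW
  have mc := mod_fix (by norm_num : Nat.Prime 7) hc hco hW
  have la := Finset.card_le_card (Finset.inter_subset_right (s₁ := W) (s₂ := fixF a))
  have lc := Finset.card_le_card (Finset.inter_subset_right (s₁ := W) (s₂ := fixF c))
  rw [show (fixF a).card = 2 from by
    haveI : Fact (Nat.Prime 11) := ⟨by norm_num⟩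
    have h : (244823040 : ℕ).factorization 11 = 1 := card_M24 ▸ factorization_eq (by norm_num)
      (show Nat.card M24 = 11 ^ 1 * 22256640 by rw [card_M24]; norm_num) (by norm_num)
    obtain ⟨hr, hm⟩ := rep_spec (c := CfsgM22Sub.eA) (by decide +kernel)
    have ho' : orderOf (permDec CfsgM22Sub.eA) = 11 :=
      orderOf_rep hr (Nat.eq_of_beq_eq_true (by decide +kernel : Nat.beq (ppow CfsgM22Sub.eA 11) pid = true))
        (by decide +kernel) (by decide +kernel)
    rw [prime_fix h hm ho' (hK ha) hao, fixF_repr hr, card_toSet]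
    decide +kernel] at la
  rw [fix_seven (hK hc) hco] at lc
  exact (by decide +kernel : ∀ n < 25, n % 11 < 3 → n % 7 < 4 → n ∈ [0, 1, 2, 22, 23, 24]) _
    (Nat.lt_succ_of_le (Finset.card_le_univ W)) (by omega) (by omega)

theorem case276 (hK : K ≤ M24) (hc : Nat.card K = 887040) : ∃ s : Finset GolayPt, s.card = 2 ∧ ∀ k ∈ K, k • s = s := by
  classical
  have h11 : 11 ∣ Nat.card K := by rw [hc]; norm_num
  have h7 : 7 ∣ Nat.card K := by rw [hc]; norm_num
  have hno23 : ∀ p, (orb K p).card ≠ 23 := fun p h => by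
    have := orb_dvd (K := K) p
    rw [h, hc] at this
    norm_num at this
  have sizes : ∀ p, (orb K p).card = 1 ∨ (orb K p).card = 2 ∨ (orb K p).card = 22 ∨ (orb K p).card = 24 := fun p => by
    have := inv_eleven_seven hK h11 h7 (orb_inv (K := K) p)
    have hpos := Finset.card_pos.mpr ⟨p, self_mem_orb (K := K) p⟩
    have := hno23 p
    simp only [List.mem_cons, List.not_mem_nil, or_false] at *
    omega
  have pair : ∀ p, (orb K p).card = 2 ∨ (orb K p).card = 22 → ∃ s : Finset GolayPt, s.card = 2 ∧ ∀ k ∈ K, k • s = s := by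
    rintro p (h | h)
    · exact ⟨_, h, fun k hk => (orb_inv p).smul_eq hk⟩
    · exact ⟨(orb K p)ᶜ, by rw [Finset.card_compl, h]; rfl, fun k hk => (orb_inv p).compl.smul_eq hk⟩
  rcases sizes none with h | h | h | h
  · obtain ⟨q, hq⟩ : ∃ q, q ∉ orb K none := by
      by_contra hh
      have := Finset.eq_univ_iff_forall.mpr (fun q => by_contra fun hq => hh ⟨q, hq⟩ : ∀ q, q ∈ orb K none)
      rw [this, Finset.card_univ, show Fintype.card GolayPt = 24 from rfl] at h
      omega
    rcases sizes q with h' | h' | h' | h'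
    · refine ⟨orb K none ∪ orb K q, ?_, fun k hk => ((orb_inv none).union (orb_inv q)).smul_eq hk⟩
      rw [Finset.card_union_of_disjoint, h, h']
      refine Finset.disjoint_left.mpr fun r h1 h2 => hq ?_
      exact orb_subset (orb_inv none) h1 (orb_symm h2)
    · exact pair q (Or.inl h')
    · exact pair q (Or.inr h')
    · exfalso
      have hu := Finset.eq_univ_of_card (orb K q) h'
      exact hq (orb_symm (hu.symm ▸ Finset.mem_univ (none : GolayPt)))
  · exact pair none (Or.inl h)
  · exact pair none (Or.inr h)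
  · exfalso
    have hu0 := Finset.eq_univ_of_card (orb K none) h
    have hall : ∀ z, orb K z = Finset.univ := fun z => Finset.eq_univ_of_forall fun w => by
      obtain ⟨k, hk, rfl⟩ := mem_orb.mp (hu0.symm ▸ Finset.mem_univ z : z ∈ orb K none)
      obtain ⟨m, hm, rfl⟩ := mem_orb.mp (hu0.symm ▸ Finset.mem_univ w : w ∈ orb K none)
      exact mem_orb.mpr ⟨m * k⁻¹, mul_mem hm (inv_mem hk), by simp⟩
    have hcz : ∀ z, Nat.card ↥(fixPt K z) = 36960 := fun z => by
      have h := card_fixPt (K := K) z
      rw [hall z, Finset.card_univ, show Fintype.card GolayPt = 24 from rfl, hc] at h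
      omega
    have hle : ∀ z, fixPt K z ≤ M24 := fun z k hk => hK hk.1
    -- every point stabiliser fixes a second point
    have second : ∀ z, ∀ a ∈ fixPt K z, orderOf a = 11 → ∀ y ∈ fixF a, fixPt K z = fixPt K y := by
      intro z a ha hao y hy
      refine Subgroup.eq_of_le_of_card_ge (fun k hk => ⟨hk.1, ?_⟩) (by rw [hcz, hcz])
      by_cases hyz : y = z
      · rw [hyz]; exact hk.2
      have hW := orb_inv (K := fixPt K z) y
      have hm := inv_eleven_seven (hle z) ((hcz z).symm ▸ by norm_num) ((hcz z).symm ▸ by norm_num) hW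
      have hm2 := mod_fix (by norm_num : Nat.Prime 11) ha hao hW
      have hzW : z ∉ orb (fixPt K z) y := fun hz => hyz (by
        have := orb_subset (inv_single (K := fixPt K z) fun k hk => hk.2) (Finset.mem_singleton_self z) (orb_symm hz)
        rwa [Finset.mem_singleton] at this)
      have hin : 1 ≤ (orb (fixPt K z) y ∩ fixF a).card :=
        Finset.card_pos.mpr ⟨y, Finset.mem_inter.mpr ⟨self_mem_orb y, hy⟩⟩
      have hlt : (orb (fixPt K z) y ∩ fixF a).card < (fixF a).card := Finset.card_lt_card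
        ⟨Finset.inter_subset_right, fun h => hzW (Finset.mem_inter.mp (h (mem_fixF.mpr ha.2))).1⟩
      rw [CfsgL223.fix_eleven (hle z ha) hao] at hlt
      have hd := orb_dvd (K := fixPt K z) y
      rw [hcz] at hd
      simp only [List.mem_cons, List.not_mem_nil, or_false] at hm
      have h1 : (orb (fixPt K z) y).card = 1 := by
        rcases hm with h | h | h | h | h | h <;> rw [h] at hm2 hd <;> first | omega | (norm_num at hd)
      obtain ⟨w, hw⟩ := Finset.card_eq_one.mp h1
      have hyw : y = w := Finset.mem_singleton.mp (hw ▸ self_mem_orb (K := fixPt K z) y)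
      have hkw : k y ∈ ({w} : Finset GolayPt) := hw ▸ mem_orb.mpr ⟨k, hk, rfl⟩
      exact (Finset.mem_singleton.mp hkw).trans hyw.symm
    obtain ⟨a, ha, hao⟩ := exists_order (K := fixPt K none) (p := 11) (by norm_num) ((hcz none).symm ▸ by norm_num)
    obtain ⟨c, hc7, hco⟩ := exists_order (K := fixPt K none) (p := 7) (by norm_num) ((hcz none).symm ▸ by norm_num)
    obtain ⟨y, hy, hyn⟩ := Finset.exists_mem_ne (show 1 < (fixF a).card by
      rw [CfsgL223.fix_eleven (hle _ ha) hao]; norm_num) none
    have hy7 : c y = y := ((second none a ha hao y hy) ▸ hc7 : c ∈ fixPt K y).2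
    obtain ⟨w, hw, hwn⟩ := Finset.exists_mem_notMem_of_card_lt_card (s := ({none, y} : Finset GolayPt)) (t := fixF c)
      (by rw [Finset.card_pair (Ne.symm hyn), fix_seven (hle _ hc7) hco]; norm_num)
    simp only [Finset.mem_insert, Finset.mem_singleton, not_or] at hwn
    obtain ⟨a', ha', hao'⟩ := exists_order (K := fixPt K w) (p := 11) (by norm_num) ((hcz w).symm ▸ by norm_num)
    obtain ⟨v, hv, hvw⟩ := Finset.exists_mem_ne (show 1 < (fixF a').card by
      rw [CfsgL223.fix_eleven (hle _ ha') hao']; norm_num) w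
    have hcw : c ∈ fixPt K w := ⟨hc7.1, mem_fixF.mp hw⟩
    have hcv : c v = v := ((second w a' ha' hao' v hv) ▸ hcw : c ∈ fixPt K v).2
    have hv3 : v = none ∨ v = y := by
      have hsub : ({none, y, w} : Finset GolayPt) = fixF c := by
        refine Finset.eq_of_subset_of_card_le (fun r hr => ?_) ?_
        · simp only [Finset.mem_insert, Finset.mem_singleton] at hr
          rcases hr with rfl | rfl | rfl
          exacts [mem_fixF.mpr hc7.2, mem_fixF.mpr hy7, hw]
        · rw [fix_seven (hle _ hc7) hco, Finset.card_insert_of_notMem (by simp [Ne.symm hyn, Ne.symm hwn.1]),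
            Finset.card_pair (Ne.symm hwn.2)]
      have : v ∈ fixF c := mem_fixF.mpr hcv
      rw [← hsub] at this
      simp only [Finset.mem_insert, Finset.mem_singleton] at this
      tauto
    have hww : fixPt K none = fixPt K w := by
      rcases hv3 with e | e
      · exact e ▸ (second w a' ha' hao' v hv).symm
      · exact (second none a ha hao y hy).trans (e ▸ (second w a' ha' hao' v hv).symm)
    have h3 : 3 ≤ (fixF a).card := by

      refine le_trans (b := ({none, y, w} : Finset GolayPt).card) ?_ (Finset.card_le_card fun r hr => ?_)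
      · rw [Finset.card_insert_of_notMem (by simp [Ne.symm hyn, Ne.symm hwn.1]), Finset.card_pair (Ne.symm hwn.2)]
      · simp only [Finset.mem_insert, Finset.mem_singleton] at hr
        rcases hr with rfl | rfl | rfl
        exacts [mem_fixF.mpr ha.2, hy, mem_fixF.mpr (hww ▸ ha : a ∈ fixPt K r).2]
    rw [CfsgL223.fix_eleven (hle _ ha) hao] at h3
    omega

end CfsgM24Sub
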