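/-
A subgroup of index 1771 in the code's group keeps a sextet.
-/
import Cfsg.Agent.Lib.Golay.IndexMain
import Cfsg.Agent.Lib.Golay.Sextets

set_option autoImplicit false
set_option linter.style.haveILetI false

namespace CfsgM24Sub

open Cfsg CfsgGolay CfsgM23Sub
open scoped Pointwise

/-- The mask of the short orbit of the Sylow subgroup. -/
def mask8 : ℕ := 64 + 128 + 256 + 512 + 1024 + 8192 + 65536 + 262144

/-- The long orbit of the Sylow subgroup. -/
def long16 : List ℕ := [0, 1, 2, 3, 4, 5, 11, 12, 14, 15, 17, 19, 20, 21, 22, 23]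

/-- Some member of the Sylow subgroup fixes the listed indices and sends one index to another. -/
def moveB (fx : List ℕ) (u v : ℕ) : Bool :=
  (List.range 1024).any fun i => Nat.beq (papp (cP2.obj i) u) v && fx.all fun r => Nat.beq (papp (cP2.obj i) r) r

theorem moves_checked :
    (([6, 7, 8, 9, 10, 13, 16, 18] : List ℕ).all fun v => moveB [] 6 v) = true ∧
    (long16.all fun v => moveB [] 0 v) = true ∧
    moveB [6] 7 8 = true ∧ (([9, 10, 13, 16] : List ℕ).all fun v => moveB [6] 9 v) = true ∧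
    (long16.all fun v => moveB [6] 0 v) = true ∧
    cP2.n = 1024 ∧ (inCode mask8 = true ∧ pc mask8 = 8) ∧
    (gP2.all fun e => Nat.beq (pmask e.c mask8) mask8) = true := by
  decide +kernel

/-- The short orbit. -/
def O8 : Finset GolayPt := toSet mask8

theorem O8_mem : O8 ∈ octads := toSet_mem_octads' (by decide) moves_checked.2.2.2.2.2.2.1

theorem card_P2 : Nat.card ↥(Gr gP2) = 1024 := (group_cert gP2_ok cP2_ok).2.trans moves_checked.2.2.2.2.2.1

theorem code_mem {i : ℕ} (hi : i < 1024) : permDec (cP2.obj i) ∈ Gr gP2 ∧ Repr (cP2.obj i) (permDec (cP2.obj i)) := by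
  have h := orbit_cert (K := leftK) pvalid_pid gP2_ok cP2_ok
  have hmem : permDec (cP2.obj i) ∈ MulAction.orbit (Gr gP2) (leftK.dec pid) := by
    rw [h]
    refine ⟨cP2.obj i, Finset.mem_coe.mpr (Finset.mem_image.mpr ⟨i, Finset.mem_range.mpr ?_, rfl⟩), rfl⟩
    rw [moves_checked.2.2.2.2.2.1]; exact hi
  obtain ⟨⟨g, hg⟩, hgd⟩ := hmem
  have hd : leftK.dec pid = (1 : Equiv.Perm GolayPt) := permDec_pid
  have hgg : g = permDec (cP2.obj i) := by
    have : g * leftK.dec pid = permDec (cP2.obj i) := hgd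
    rwa [hd, mul_one] at this
  have hv := orb_valid (K := leftK) pvalid_pid gP2_ok cP2_ok
  refine ⟨hgg ▸ hg, ?_⟩
  obtain ⟨k, hk⟩ := (hv i (by rw [moves_checked.2.2.2.2.2.1]; exact hi)).1.2
  rw [permDec_eq hk]
  exact hk

theorem move_spec {fx : List ℕ} {u v : ℕ} (hu : u < 24) (hfx : ∀ r ∈ fx, r < 24) (h : moveB fx u v = true) :
    ∃ g ∈ Gr gP2, g (pt u) = pt v ∧ ∀ r ∈ fx, g (pt r) = pt r := by
  simp only [moveB, List.any_eq_true, List.mem_range, Bool.and_eq_true, List.all_eq_true] at h
  obtain ⟨i, hi, huv, hr⟩ := h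
  obtain ⟨hg, hrep⟩ := code_mem hi
  refine ⟨_, hg, ?_, fun r hr' => ?_⟩
  · rw [hrep.apply_pt hu, Nat.eq_of_beq_eq_true huv]
  · rw [hrep.apply_pt (hfx r hr'), Nat.eq_of_beq_eq_true (hr r hr')]

theorem P2_fix_O8 {g : Equiv.Perm GolayPt} (hg : g ∈ Gr gP2) : g • O8 = O8 := by
  have hle : Gr gP2 ≤ MulAction.stabilizer (Equiv.Perm GolayPt) O8 := by
    refine Gr_le _ fun e he g hgood => ?_
    have h := List.all_eq_true.mp moves_checked.2.2.2.2.2.2.2 e he
    rw [MulAction.mem_stabilizer_iff]
    show (toSet mask8).image g = toSet mask8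
    rw [← hgood.1.toSet_pmask, Nat.eq_of_beq_eq_true h]
  exact hle hg

theorem inO8 : ∀ p : GolayPt, p ∈ O8 ↔ idx p ∈ ([6, 7, 8, 9, 10, 13, 16, 18] : List ℕ) := by decide +kernel

theorem notO8 : ∀ p : GolayPt, p ∉ O8 → idx p ∈ long16 := by decide +kernel

theorem short_mem : ∀ u ∈ ([7, 8, 9, 10, 13, 16, 18] : List ℕ), pt u ∈ O8 := by decide +kernel

theorem case1771_std {K : Subgroup (Equiv.Perm GolayPt)} (hK : K ≤ M24) (hc : Nat.card K = 138240)
    (hP : Gr gP2 ≤ K) : ∃ S ∈ sextets, ∀ k ∈ K, k • S = S := by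
  classical
  obtain ⟨m8, m16, m78, m49, m616, -, -, -⟩ := moves_checked
  set x := pt 6 with hx
  have hxO : x ∈ O8 := by decide +kernel
  have move0 : ∀ {v : ℕ}, v ∈ long16 → ∃ g ∈ K, g (pt 0) = pt v := fun hv => by
    obtain ⟨g, hg, h, -⟩ := move_spec (by norm_num) (by simp) (List.all_eq_true.mp m16 _ hv)
    exact ⟨g, hP hg, h⟩
  have horbO : O8 ⊆ orb K x := fun p hp => by
    obtain ⟨g, hg, h, -⟩ := move_spec (by norm_num) (by simp) (List.all_eq_true.mp m8 _ ((inO8 p).mp hp))
    exact mem_orb.mpr ⟨g, hP hg, by rw [h, pt_idx]⟩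
  have hfull : orb K x = Finset.univ := by
    by_contra hne
    have hout : ∀ p, p ∉ O8 → p ∉ orb K x := by
      intro p hp hpS
      apply hne
      refine Finset.eq_univ_of_forall fun q => ?_
      by_cases hq : q ∈ O8
      · exact horbO hq
      obtain ⟨g, hg, h⟩ := move0 (notO8 p hp)
      obtain ⟨g', hg', h'⟩ := move0 (notO8 q hq)
      rw [pt_idx] at h h'
      have h0 : pt 0 ∈ orb K x := (orb_inv x g hg (pt 0)).mpr (h.symm ▸ hpS)
      exact h' ▸ (orb_inv x g' hg' (pt 0)).mp h0
    have hS : orb K x = O8 := Finset.Subset.antisymm (fun p hp => by_contra fun h => hout p h hp) horbO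
    obtain ⟨g, hg, hgo⟩ := exists_smul_O0 O8_mem
    have hle : K ≤ stabM (g • O0) := fun k hk => mem_stabM.mpr ⟨hK hk, hgo.symm ▸ hS ▸ (orb_inv x).smul_eq hk⟩
    have hd := Subgroup.card_dvd_of_le hle
    rw [(isConjOf_stabM hg O0).card_eq, stabO.2, hc] at hd
    norm_num at hd
  have hall : ∀ z w, w ∈ orb K z := fun z w => by
    obtain ⟨k, hk, rfl⟩ := mem_orb.mp (hfull.symm ▸ Finset.mem_univ z : z ∈ orb K x)
    obtain ⟨m, hm, rfl⟩ := mem_orb.mp (hfull.symm ▸ Finset.mem_univ w : w ∈ orb K x)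
    exact mem_orb.mpr ⟨m * k⁻¹, mul_mem hm (inv_mem hk), by simp⟩
  have hcz : ∀ z, Nat.card ↥(fixPt K z) = 5760 := fun z => by
    have h := card_fixPt (K := K) z
    rw [show orb K z = Finset.univ from Finset.eq_univ_of_forall (hall z), Finset.card_univ,
      show Fintype.card GolayPt = 24 from rfl, hc] at h
    omega
  have hle : ∀ z, fixPt K z ≤ M24 := fun z k hk => hK hk.1
  -- the octad is not kept by the point stabiliser
  have hnoO : ¬ ∀ k ∈ fixPt K x, k • O8 = O8 := by
    intro h
    refine octad_blocks_false hK (by rw [hc]; norm_num) (fun z => (hcz z).symm ▸ by norm_num) fun z => ?_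
    obtain ⟨g, hg, rfl⟩ := mem_orb.mp (hall x z)
    refine ⟨g • O8, smul_mem_octads (hK hg) O8_mem, Finset.smul_mem_smul_finset hxO, fun k hk => ?_⟩
    have hm : g⁻¹ * k * g ∈ fixPt K x := by
      refine mem_fixPt.mpr ⟨mul_mem (mul_mem (inv_mem hg) (mem_fixPt.mp hk).1) hg, ?_⟩
      rw [Equiv.Perm.mul_apply, Equiv.Perm.mul_apply, show k (g x) = g x from hk.2]
      simp
    have h' := h _ hm
    rw [mul_smul, mul_smul, inv_smul_eq_iff] at h'
    exact h'
  set R : Finset GolayPt := {pt 7, pt 8, pt 18} with hR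
  have hRinv : Inv (fixPt K x) R := by
    set W := orb (fixPt K x) (pt 7) with hW
    have hWi : Inv (fixPt K x) W := orb_inv _
    have h7 : pt 7 ∈ W := self_mem_orb _
    have move6 : ∀ {u v : ℕ}, u < 24 → moveB [6] u v = true → ∃ g ∈ fixPt K x, g (pt u) = pt v := fun hu h => by
      obtain ⟨g, hg, h1, h2⟩ := move_spec hu (by simp) h
      exact ⟨g, ⟨hP hg, h2 6 (by simp)⟩, h1⟩
    have h8 : pt 8 ∈ W := by
      obtain ⟨g, hg, h⟩ := move6 (by norm_num) m78
      exact h ▸ (hWi g hg _).mp h7
    have hxW : x ∉ W := fun h => by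
      have := orb_subset (inv_single (K := fixPt K x) fun k hk => hk.2) (Finset.mem_singleton_self x) (orb_symm h)
      rw [Finset.mem_singleton] at this
      exact absurd this (by decide +kernel)
    have saturate : ∀ (V : Finset GolayPt), Inv (fixPt K x) V → ∀ v ∈ ([9, 10, 13, 16] : List ℕ), (pt 9 ∈ V ↔ pt v ∈ V) := by
      intro V hV v hv
      obtain ⟨g, hg, h⟩ := move6 (by norm_num) (List.all_eq_true.mp m49 v hv)
      exact h ▸ hV g hg _
    have saturate16 : ∀ (V : Finset GolayPt), Inv (fixPt K x) V → ∀ v ∈ long16, (pt 0 ∈ V ↔ pt v ∈ V) := by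
      intro V hV v hv
      obtain ⟨g, hg, h⟩ := move6 (by norm_num) (List.all_eq_true.mp m616 v hv)
      exact h ▸ hV g hg _
    -- an invariant set is determined by four memberships
    have shape : ∀ V : Finset GolayPt, Inv (fixPt K x) V → x ∉ V → (pt 7 ∈ V ↔ pt 8 ∈ V) → ∀ (a b c d : Bool),
        (pt 18 ∈ V ↔ a = true) → (pt 7 ∈ V ↔ b = true) → (pt 9 ∈ V ↔ c = true) → (pt 0 ∈ V ↔ d = true) →
        V = (if a then {pt 18} else ∅) ∪ (if b then {pt 7, pt 8} else ∅) ∪
          (if c then {pt 9, pt 10, pt 13, pt 16} else ∅) ∪ (if d then O8ᶜ else ∅) := by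
      intro V hV hxV h78 a b c d ha hb hc' hd
      ext p
      have hp := idx_lt p
      by_cases hpO : p ∈ O8
      · have hidx := (inO8 p).mp hpO
        rw [← pt_idx p]
        simp only [List.mem_cons, List.not_mem_nil, or_false] at hidx
        have hn : ∀ u : ℕ, pt u ∈ O8 → pt u ∉ (O8ᶜ : Finset GolayPt) := fun u h h' => Finset.mem_compl.mp h' h
        rcases hidx with e | e | e | e | e | e | e | e <;> rw [e]
        · rw [← hx]
          simp only [hxV, false_iff]
          cases a <;> cases b <;> cases c <;> cases d <;> decide +kernel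
        all_goals
          first
            | (rw [ha]; cases a <;> cases b <;> cases c <;> cases d <;> decide +kernel)
            | (rw [hb]; cases a <;> cases b <;> cases c <;> cases d <;> decide +kernel)
            | (rw [← h78, hb]; cases a <;> cases b <;> cases c <;> cases d <;> decide +kernel)
            | (rw [hc']; cases a <;> cases b <;> cases c <;> cases d <;> decide +kernel)
            | (rw [← saturate V hV _ (by decide), hc']; cases a <;> cases b <;> cases c <;> cases d <;> decide +kernel)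
      · have h16 := notO8 p hpO
        have : (pt 0 ∈ V ↔ p ∈ V) := pt_idx p ▸ saturate16 V hV _ h16
        rw [← this, hd]
        have out : ∀ u ∈ ([7, 8, 9, 10, 13, 16, 18] : List ℕ), p ≠ pt u := fun u hu e => hpO (e ▸ short_mem u hu)
        cases a <;> cases b <;> cases c <;> cases d <;>
          simp [hpO, out 7 (by simp), out 8 (by simp), out 9 (by simp), out 10 (by simp), out 13 (by simp),
            out 16 (by simp), out 18 (by simp)]
    have hd5760 : ∀ p, (orb (fixPt K x) p).card ∣ 5760 := fun p => hcz x ▸ orb_dvd p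
    have octcase : ∀ U : Finset GolayPt, Inv (fixPt K x) U → U.card + 5 ≤ 2 * (O8 ∩ U).card → False := fun U hU h =>
      hnoO (octad_of_small (hle x) O8_mem hU h)
    have hsW := shape W hWi hxW (iff_of_true h7 h8) (decide (pt 18 ∈ W)) true (decide (pt 9 ∈ W)) (decide (pt 0 ∈ W))
      (by simp) (by simp [h7]) (by simp) (by simp)
    have hdW := hd5760 (pt 7)
    rw [← hW] at hdW
    generalize decide (pt 18 ∈ W) = a at hsW
    generalize decide (pt 9 ∈ W) = c at hsW
    generalize decide (pt 0 ∈ W) = d at hsW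
    cases a <;> cases c <;> cases d <;>
      simp only [if_true, if_false, Bool.false_eq_true] at hsW <;> rw [hsW] at hdW
    all_goals first
      | (exfalso; revert hdW; decide +kernel)
      | skip
    · -- the pair alone
      set V := orb (fixPt K x) (pt 18) with hV
      have h18W : pt 18 ∉ W := by rw [hsW]; decide +kernel
      have h7V : pt 7 ∉ V := fun h => h18W (orb_symm h)
      have h8V : pt 8 ∉ V := fun h => h7V (by
        obtain ⟨g, hg, e⟩ := move6 (by norm_num) m78
        exact ((orb_inv (K := fixPt K x) (pt 18)) g hg _).mpr (e.symm ▸ h))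
      have hxV : x ∉ V := fun h => by
        have := orb_subset (inv_single (K := fixPt K x) fun k hk => hk.2) (Finset.mem_singleton_self x) (orb_symm h)
        rw [Finset.mem_singleton] at this
        exact absurd this (by decide +kernel)
      have hsV := shape V (orb_inv _) hxV (iff_of_false h7V h8V) true false (decide (pt 9 ∈ V)) (decide (pt 0 ∈ V))
        (by simp [hV, self_mem_orb]) (by simp [h7V]) (by simp) (by simp)
      have hdV := hd5760 (pt 18)
      rw [← hV] at hdV
      generalize decide (pt 9 ∈ V) = c' at hsV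
      generalize decide (pt 0 ∈ V) = d' at hsV
      cases c' <;> cases d' <;> simp only [if_true, if_false, Bool.false_eq_true] at hsV <;> rw [hsV] at hdV
      all_goals first
        | (exfalso; revert hdV; decide +kernel)
        | skip
      · have hu : R = W ∪ V := by rw [hsW, hsV, hR]; decide +kernel
        rw [hu]; exact hWi.union (orb_inv _)
      · exfalso
        refine octcase (W ∪ V) (hWi.union (orb_inv _)) ?_
        rw [hsW, hsV]; decide +kernel
    all_goals first
      | (have hu : R = W := by rw [hsW, hR]; decide +kernel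
         rw [hu]; exact hWi)
      | (exfalso
         refine octcase W hWi ?_
         rw [hsW]; decide +kernel)
      | (exfalso
         refine octcase Wᶜ hWi.compl ?_
         rw [hsW]; decide +kernel)
  -- every element of order five in a point stabiliser
  set T : Finset GolayPt := insert x R with hT
  have hT4 : T.card = 4 := by rw [hT, hR, hx]; decide +kernel
  have hfixT : ∀ b ∈ fixPt K x, orderOf b = 5 → fixF b = T := by
    intro b hb hbo
    refine (Finset.eq_of_subset_of_card_le ?_ (by rw [hT4, fix_five (hle x hb) hbo])).symm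
    refine Finset.insert_subset (mem_fixF.mpr hb.2) (small_fixed (by norm_num : Nat.Prime 5) hbo (hRinv b hb) ?_)
    rw [hR]; decide +kernel
  have key : ∀ k ∈ K, ∀ b ∈ fixPt K (k x), orderOf b = 5 → fixF b = k • T := by
    intro k hk b hb hbo
    have hm : k⁻¹ * b * k ∈ fixPt K x := by
      refine mem_fixPt.mpr ⟨mul_mem (mul_mem (inv_mem hk) (mem_fixPt.mp hb).1) hk, ?_⟩
      rw [Equiv.Perm.mul_apply, Equiv.Perm.mul_apply, show b (k x) = k x from hb.2]
      simp
    have ho : orderOf (k⁻¹ * b * k) = 5 := by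
      rw [← hbo]; simpa using (MulAut.conj k⁻¹).orderOf_eq b
    have h := fixF_conj k (k⁻¹ * b * k)
    rw [show k * (k⁻¹ * b * k) * k⁻¹ = b by group, hfixT _ hm ho] at h
    exact h
  have hex : ∀ z, ∃ b ∈ fixPt K z, orderOf b = 5 := fun z =>
    exists_order (by norm_num) (by rw [hcz]; norm_num)
  choose bz hbz hbzo using hex
  set f : GolayPt → Finset GolayPt := fun z => fixF (bz z) with hf
  have hfk : ∀ k ∈ K, f (k x) = k • T := fun k hk => key k hk _ (hbz _) (hbzo _)
  have hblock : ∀ z, ∀ w ∈ f z, f w = f z := fun z w hw => by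
    obtain ⟨k, hk, hkw⟩ := mem_orb.mp (hall x w)
    have hzw : bz z ∈ fixPt K (k x) := ⟨(hbz z).1, hkw.symm ▸ mem_fixF.mp hw⟩
    rw [← hkw, hfk k hk]
    exact (key k hk _ hzw (hbzo z)).symm
  have hfx : f x = T := hfixT _ (hbz x) (hbzo x)
  -- a second tetrad in the octad
  obtain ⟨g, hgP, hgz, -⟩ := move_spec (u := 6) (v := 9) (by norm_num) (fx := []) (by simp)
    (List.all_eq_true.mp m8 9 (by simp))
  have hz9 : f (pt 9) = O8 \ T := by
    have h1 : f (pt 9) = g • T := by rw [← hgz]; exact hfk g (hP hgP)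
    refine Finset.eq_of_subset_of_card_le (fun q hq => Finset.mem_sdiff.mpr ⟨?_, fun hqT => ?_⟩) ?_
    · rw [← P2_fix_O8 hgP]
      rw [h1] at hq
      exact Finset.smul_finset_subset_smul_finset (by rw [hT, hR, hx]; decide +kernel) hq
    · have e : f (pt 9) = T := by rw [← hblock (pt 9) q hq, hblock x q (hfx.symm ▸ hqT), hfx]
      have : pt 9 ∈ T := e ▸ mem_fixF.mpr (hbz (pt 9)).2
      revert this
      rw [hT, hR, hx]; decide +kernel
    · rw [h1, Finset.card_smul_finset, hT4, hT, hR, hx]; decide +kernel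
  obtain ⟨S, ⟨hS, hTS⟩, huniq⟩ := existsUnique_sextet hT4
  have hsecond : O8 \ T ∈ S := by
    have hcov : S.biUnion id = Finset.univ := Finset.eq_univ_of_card _ (by
      rw [Finset.card_biUnion (t := id) fun t ht u hu hne => sextet_disjoint hS ht hu hne, Finset.sum_congr rfl (g := fun _ => 4) (fun u hu => (hS.2.1 u hu : (id u).card = 4)),
        Finset.sum_const, hS.1]
      rfl)
    obtain ⟨u, hu, h9u⟩ := Finset.mem_biUnion.mp (hcov.symm ▸ Finset.mem_univ (pt 9))
    have hne : T ≠ u := fun e => by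
      have : pt 9 ∈ T := e.symm ▸ h9u
      revert this
      rw [hT, hR, hx]; decide +kernel
    have hTu : T ∪ u = O8 := octad_unique (hS.2.2 T hTS u hu hne) O8_mem (s := insert (pt 9) T)
      (by rw [hT, hR, hx]; decide +kernel)
      (Finset.insert_subset (Finset.mem_union_right _ h9u) Finset.subset_union_left)
      (by rw [hT, hR, hx]; decide +kernel)
    rw [← hTu, Finset.union_sdiff_cancel_left (sextet_disjoint hS hTS hu hne)]
    exact hu
  obtain ⟨b, hb, hbo⟩ := exists_order (K := fixPt K x) (p := 5) (by norm_num) ((hcz x).symm ▸ by norm_num)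
  have hbT : b • T = T := by
    refine Finset.eq_of_subset_of_card_le (fun y hy => ?_) (by rw [Finset.card_smul_finset])
    obtain ⟨q, hq, rfl⟩ := Finset.mem_smul_finset.mp hy
    rw [Equiv.Perm.smul_def, show b q = q from mem_fixF.mp ((hfixT b hb hbo).symm ▸ hq)]
    exact hq
  have hbS : b • S = S := huniq _ ⟨smul_mem_sextets (hle x hb) hS, by
    rw [← hbT]; exact Finset.smul_mem_smul_finset hTS⟩
  have hfb : ∀ z, f (b z) = b • f z := fun z => by
    obtain ⟨k, hk, rfl⟩ := mem_orb.mp (hall x z)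
    rw [hfk k hk, show b (k x) = (b * k) x from rfl, hfk _ (mul_mem hb.1 hk), mul_smul]
  set C := Finset.univ.filter fun z => f z ∈ S with hC
  have hCb : ∀ q, q ∈ C ↔ b q ∈ C := fun q => by
    simp only [hC, Finset.mem_filter, Finset.mem_univ, true_and, hfb]
    conv_rhs => rw [← hbS]
    exact (Finset.smul_mem_smul_finset_iff (a := b) (b := f q) (s := S)).symm
  set S' := S.filter fun u => ∀ w ∈ u, f w = u with hS'
  have hCU : C = S'.biUnion id := by
    ext z
    simp only [hC, hS', Finset.mem_filter, Finset.mem_univ, true_and, Finset.mem_biUnion, id_eq]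
    constructor
    · exact fun hz => ⟨f z, ⟨hz, fun w hw => hblock z w hw⟩, mem_fixF.mpr (hbz z).2⟩
    · rintro ⟨u, ⟨hu, hu'⟩, hzu⟩
      rw [hu' z hzu]; exact hu
  have hCcard : C.card = 4 * S'.card := by
    rw [hCU, Finset.card_biUnion (t := id) fun t ht u hu hne =>
      sextet_disjoint hS (Finset.mem_filter.mp ht).1 (Finset.mem_filter.mp hu).1 hne,
      Finset.sum_congr rfl (g := fun _ => 4) fun u hu => (hS.2.1 u (Finset.mem_filter.mp hu).1 : (id u).card = 4), Finset.sum_const, smul_eq_mul, mul_comm]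
  have h2 : 2 ≤ S'.card := by
    have e1 : T ∈ S' := Finset.mem_filter.mpr ⟨hTS, fun w hw => by rw [hblock x w (hfx.symm ▸ hw), hfx]⟩
    have e2 : O8 \ T ∈ S' := Finset.mem_filter.mpr ⟨hsecond, fun w hw => by rw [hblock (pt 9) w (hz9.symm ▸ hw), hz9]⟩
    have hne : T ≠ O8 \ T := by rw [hT, hR, hx]; decide +kernel
    exact (Finset.card_pair hne).ge.trans (Finset.card_le_card (Finset.insert_subset e1 (Finset.singleton_subset_iff.mpr e2)))
  have h6 : S'.card ≤ 6 := hS.1 ▸ Finset.card_filter_le _ _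
  haveI : Fact (Nat.Prime 5) := ⟨by norm_num⟩
  have hmod := card_mod (hbo ▸ pow_orderOf_eq_one b) hCb
  have hCfix : C ∩ fixF b = T := by
    rw [hfixT b hb hbo, Finset.inter_eq_right]
    intro q hq
    simp only [hC, Finset.mem_filter, Finset.mem_univ, true_and]
    rw [hblock x q (hfx.symm ▸ hq), hfx]
    exact hTS
  rw [hCfix, hT4, hCcard] at hmod
  have hCuniv : C = Finset.univ := Finset.eq_univ_of_card _ (by
    rw [hCcard, show Fintype.card GolayPt = 24 from rfl]; omega)
  refine ⟨S, hS, fun k hk => huniq _ ⟨smul_mem_sextets (hK hk) hS, ?_⟩⟩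
  -- T is the image of another member
  have hmem : k⁻¹ • T ∈ S := by
    have : k⁻¹ x ∈ C := hCuniv.symm ▸ Finset.mem_univ _
    simp only [hC, Finset.mem_filter, Finset.mem_univ, true_and] at this
    rwa [hfk _ (inv_mem hk)] at this
  have h := Finset.smul_mem_smul_finset (a := k) hmem
  rwa [smul_inv_smul] at h

theorem case1771 {K : Subgroup (Equiv.Perm GolayPt)} (hK : K ≤ M24) (hc : Nat.card K = 138240) :
    ∃ S ∈ sextets, ∀ k ∈ K, k • S = S := by
  classical
  haveI : Fact (Nat.Prime 2) := ⟨Nat.prime_two⟩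
  obtain ⟨P⟩ := (inferInstance : Nonempty (Sylow 2 K))
  have hf : (Nat.card M24).factorization 2 = 10 := card_M24_facts.1
  have hPc : Nat.card ↥(((P : Subgroup K).map K.subtype).subgroupOf M24) = 2 ^ (Nat.card M24).factorization 2 := by
    rw [Nat.card_congr (Subgroup.subgroupOfEquivOfLe ((Subgroup.map_subtype_le _).trans hK)).toEquiv,
      Subgroup.card_subtype, P.card_eq_multiplicity, hf, hc,
      factorization_eq Nat.prime_two (show (138240 : ℕ) = 2 ^ 10 * 135 by norm_num) (by norm_num)]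
  have hle2 : Gr gP2 ≤ M24 := Gr_le_M24 gP2_ok
  have hQc : Nat.card ↥((Gr gP2).subgroupOf M24) = 2 ^ (Nat.card M24).factorization 2 := by
    rw [Nat.card_congr (Subgroup.subgroupOfEquivOfLe hle2).toEquiv, card_P2, hf]
    norm_num
  obtain ⟨g, hg⟩ := MulAction.exists_smul_eq M24 (Sylow.ofCard _ hPc) (Sylow.ofCard _ hQc)
  set K' := K.map (MulAut.conj (g : Equiv.Perm GolayPt)).toMonoidHom with hK'
  have hK'M : K' ≤ M24 := by
    rintro _ ⟨k, hk, rfl⟩
    exact mul_mem (mul_mem g.2 (hK hk)) (inv_mem g.2)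
  have hc' : Nat.card K' = 138240 := by
    rw [← hc]
    exact (Nat.card_congr (K.equivMapOfInjective _ (MulAut.conj (g : Equiv.Perm GolayPt)).injective).toEquiv).symm
  have hP2 : Gr gP2 ≤ K' := by
    intro q hq
    have hmap : (((P : Subgroup K).map K.subtype).subgroupOf M24).map (MulAut.conj g).toMonoidHom =
        (Gr gP2).subgroupOf M24 := congrArg Sylow.toSubgroup hg
    obtain ⟨p, hp, e⟩ := hmap.symm ▸ (show (⟨q, hle2 hq⟩ : M24) ∈ (Gr gP2).subgroupOf M24 from hq)
    exact ⟨p.1, Subgroup.map_subtype_le _ hp, congrArg Subtype.val e⟩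
  obtain ⟨S, hS, hinv⟩ := case1771_std hK'M hc' hP2
  refine ⟨(g : Equiv.Perm GolayPt)⁻¹ • S, smul_mem_sextets (inv_mem g.2) hS, fun k hk => ?_⟩
  have h := hinv _ ⟨k, hk, rfl⟩
  simp only [MulEquiv.coe_toMonoidHom, MulAut.conj_apply, mul_smul] at h
  rw [smul_eq_iff_eq_inv_smul] at h
  exact h

theorem eq_of_index {H : Subgroup ↥M24} {n : ℕ} (hn : n ≠ 0) (hH : H.index = n) {α : Type*} [MulAction ↥M24 α] (s : α)
    (horb : (MulAction.orbit ↥M24 s).ncard = n) (hs : ∀ k ∈ H, k • s = s) : H = MulAction.stabilizer ↥M24 s := by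
  refine Subgroup.eq_of_le_of_card_ge (fun k hk => hs k hk) (le_of_eq ?_)
  have h1 := H.card_mul_index
  have h2 := (MulAction.stabilizer ↥M24 s).card_mul_index
  rw [MulAction.index_stabilizer, horb, ← h1, hH] at h2
  exact Nat.eq_of_mul_eq_mul_right (Nat.pos_of_ne_zero hn) h2

theorem card_of_index {H : Subgroup ↥M24} {n c : ℕ} (hn : c * n = 244823040) (hH : H.index = n) :
    Nat.card ↥(H.map M24.subtype) = c := by
  rw [Subgroup.card_subtype]
  have h1 := H.card_mul_index
  rw [hH, card_M24, ← hn] at h1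
  have : n ≠ 0 := fun e => by rw [e] at hn; simp at hn
  exact Nat.eq_of_mul_eq_mul_right (Nat.pos_of_ne_zero this) h1

theorem s1589 : (∀ H : Subgroup ↥M24, H.index = 759 → ∃ o ∈ octads, H = MulAction.stabilizer M24 o) ∧
    (∀ H : Subgroup ↥M24, H.index = 276 → ∃ s : Finset GolayPt, s.card = 2 ∧ H = MulAction.stabilizer M24 s) ∧
    (∀ H : Subgroup ↥M24, H.index = 1771 → ∃ S ∈ sextets, H = MulAction.stabilizer M24 S) ∧
    ∀ H : Subgroup ↥M24, H.index ≠ 253 := by
  have mem : ∀ {H : Subgroup ↥M24}, ∀ k ∈ H, (k : Equiv.Perm GolayPt) ∈ H.map M24.subtype := fun k hk => ⟨k, hk, rfl⟩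
  refine ⟨fun H hH => ?_, fun H hH => ?_, fun H hH => ?_, fun H hH => ?_⟩
  · obtain ⟨o, ho, hinv⟩ := case759 (Subgroup.map_subtype_le H) (card_of_index (by norm_num) hH)
    refine ⟨o, ho, eq_of_index (by norm_num) hH o ?_ fun k hk => hinv _ (mem k hk)⟩
    have : MulAction.orbit ↥M24 o = octads := by
      rw [octads_eq_orbit] at ho ⊢
      exact MulAction.orbit_eq_iff.mpr ho
    rw [this, octads_ncard]
  · obtain ⟨s, hs, hinv⟩ := case276 (Subgroup.map_subtype_le H) (card_of_index (by norm_num) hH)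
    refine ⟨s, hs, eq_of_index (by norm_num) hH s ?_ fun k hk => hinv _ (mem k hk)⟩
    obtain ⟨p, q, hpq, rfl⟩ := Finset.card_eq_two.mp hs
    have h := card_inf_stab (H := M24) ({p, q} : Finset GolayPt)
    rw [card_setPairStab hpq, card_M24] at h
    omega
  · obtain ⟨S, hS, hinv⟩ := case1771 (Subgroup.map_subtype_le H) (card_of_index (by norm_num) hH)
    refine ⟨S, hS, eq_of_index (by norm_num) hH S ?_ fun k hk => hinv _ (mem k hk)⟩
    have : MulAction.orbit ↥M24 S = sextets := by
      rw [sextets_eq_orbit] at hS ⊢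
      exact MulAction.orbit_eq_iff.mpr hS
    rw [this, sextets_ncard]
  · exact case253 (Subgroup.map_subtype_le H) (card_of_index (by norm_num) hH)

end CfsgM24Sub
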