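/-
Elements of prime order of the point stabiliser in a dodecad stabiliser fix a point outside the dodecad.
-/
import Cfsg.Agent.Lib.Golay.Data.ElemsM11
import Cfsg.Agent.Lib.Golay.Mathieu

set_option autoImplicit false

namespace CfsgGolay

open Cfsg

attribute [local irreducible] codeL octadL dodecadL slpCodes

theorem Gr_le_M11 {L : List GenT} (hL : gensOK L = true) (h : (L.all fun e => inSub [0] [340831] e.c) = true) :
    Gr L ≤ Spor.M11 := by
  rw [M11_eq]
  refine Gr_le _ fun e he g hg => ?_
  exact mem_subG_of_inSub (Gr_le_M24 hL (mem_Gr he hg)) hg.1 (List.all_eq_true.mp h e he)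

theorem outside_disjoint : ∀ y : GolayPt, y ∈ toSet 16436384 → y ∉ toSet 340831 := by decide +kernel

theorem fix_outside {p n : ℕ} [Fact p.Prime] {L : List GenT} {C : Cert} (hL : gensOK L = true)
    (hC : orbOK (fun e n => pcomp e.c n) L pid C = true) (hn : C.n = n)
    (hfac : n = p ^ (7920 : ℕ).factorization p)
    (hchk : ((List.range n).all fun i => Nat.beq (C.obj i) pid || !(Nat.beq (ppow (C.obj i) p) pid) ||
      !(Nat.beq (fixedMask (C.obj i) &&& 16436384) 0)) = true ∧ (L.all fun e => inSub [0] [340831] e.c) = true)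
    {g : Equiv.Perm GolayPt} (hg : g ∈ Spor.M11) (ho : orderOf g = p) :
    ∃ x : GolayPt, x ∉ Spor.squareDodecad ∧ g x = x := by
  obtain ⟨k, hk, i, hi, hr⟩ := prime_cert (H := Spor.M11) p (Gr_le_M11 hL hchk.2) hL hC
    (by rw [card_sporM11, hn, hfac]) hg ho
  rw [hn] at hi
  have hlt : C.obj i < 2 ^ 120 := (orb_valid (K := leftK) pvalid_pid hL hC i (by omega)).1.1
  have h := List.all_eq_true.mp hchk.1 i (List.mem_range.mpr hi)
  simp only [Bool.or_eq_true, Bool.not_eq_true'] at h
  rcases h with (h | h) | h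
  · exfalso
    rw [Nat.eq_of_beq_eq_true h] at hr
    have h1 : k * g * k⁻¹ = 1 := hr.unique repr_pid
    rw [conj_eq_one_iff] at h1
    rw [h1, orderOf_one] at ho
    exact (Fact.out : p.Prime).ne_one ho.symm
  · exfalso
    have hp := hr.pow p
    have h1 : (k * g * k⁻¹) ^ p = 1 := by rw [conj_pow, ← ho, pow_orderOf_eq_one]; group
    rw [h1] at hp
    have hppow : ppow (C.obj i) p < 2 ^ 120 := by
      cases p with
      | zero => exact pvalid_pid.1
      | succ n => exact pcomp_lt _ _
    rw [permDec_injOn ⟨hppow, _, hp⟩ pvalid_pid (by rw [permDec_eq hp, permDec_pid])] at h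
    simp at h
  · have hne : (toSet (fixedMask (C.obj i) &&& 16436384)).Nonempty := by
      by_contra hempty
      rw [Finset.not_nonempty_iff_eq_empty] at hempty
      have hlt24 : fixedMask (C.obj i) &&& 16436384 < 2 ^ 24 :=
        lt_of_le_of_lt Nat.and_le_right (by norm_num)
      have : fixedMask (C.obj i) &&& 16436384 = 0 :=
        eq_of_toSet_eq hlt24 (by norm_num) (by rw [hempty]; exact Finset.ext fun p => by simp)
      rw [this] at h
      simp at h
    obtain ⟨y, hy⟩ := hne
    rw [toSet_and, ← fixF_repr hr, Finset.mem_inter, mem_fixF] at hy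
    obtain ⟨hfix, hout⟩ := hy
    refine ⟨k⁻¹ y, fun hin => ?_, ?_⟩
    · have hk' := mem_subG.mp (by rw [← M11_eq]; exact hk : k ∈ subG [0] [340831])
      have himg := hk'.2.2 340831 (by simp)
      have hsq : Spor.squareDodecad = toSet 340831 := by simp only [Spor.squareDodecad]; exact squares_eq
      rw [hsq] at hin
      have : y ∈ toSet 340831 := by
        rw [← himg, Finset.mem_image]
        exact ⟨_, hin, by rw [Equiv.Perm.coe_inv, Equiv.apply_symm_apply]⟩
      exact outside_disjoint y hout this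
    · have h2 := congrArg (k⁻¹ : Equiv.Perm GolayPt) hfix
      simpa [Equiv.Perm.mul_apply] using h2

theorem elusive (g : Equiv.Perm GolayPt) (hg : g ∈ Spor.M11) (hord : (orderOf g).Prime) :
    ∃ x : GolayPt, x ∉ Spor.squareDodecad ∧ g x = x := by
  have hd : orderOf g ∣ 7920 := by
    rw [← card_sporM11, show g = ((⟨g, hg⟩ : Spor.M11) : Equiv.Perm GolayPt) from rfl, Subgroup.orderOf_coe]
    exact orderOf_dvd_natCard _
  have hfac : ∀ {p k q : ℕ}, p.Prime → 7920 = p ^ k * q → ¬ p ∣ q → p ^ k = p ^ (7920 : ℕ).factorization p :=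
    fun hp h hq => by rw [factorization_eq hp h hq]
  have h5 : orderOf g ∈ ({2, 3, 5, 11} : Finset ℕ) := by
    have h7920 : (7920 : ℕ).primeFactors ⊆ {2, 3, 5, 11} := by
      intro p hp
      rw [Nat.mem_primeFactors] at hp
      obtain ⟨hp, hdvd, -⟩ := hp
      rw [show (7920 : ℕ) = 2 ^ 4 * 3 ^ 2 * 5 * 11 by norm_num] at hdvd
      rcases hp.dvd_mul.mp hdvd with h | h
      · rcases hp.dvd_mul.mp h with h | h
        · rcases hp.dvd_mul.mp h with h | h
          · have := (Nat.prime_dvd_prime_iff_eq hp Nat.prime_two).mp (hp.dvd_of_dvd_pow h); simp [this]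
          · have := (Nat.prime_dvd_prime_iff_eq hp Nat.prime_three).mp (hp.dvd_of_dvd_pow h); simp [this]
        · have := (Nat.prime_dvd_prime_iff_eq hp Nat.prime_five).mp h; simp [this]
      · have := (Nat.prime_dvd_prime_iff_eq hp (by norm_num)).mp h; simp [this]
    exact h7920 (Nat.mem_primeFactors.mpr ⟨hord, hd, by norm_num⟩)
  simp only [Finset.mem_insert, Finset.mem_singleton] at h5
  have : Fact (orderOf g).Prime := ⟨hord⟩
  rcases h5 with h | h | h | h <;> rw [h] at this
  · exact fix_outside gM11S2_ok cM11S2_ok rfl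
      (show cM11S2.n = _ from hfac (k := 4) (q := 495) Nat.prime_two (by norm_num) (by norm_num)) gM11S2_fix hg h
  · exact fix_outside gM11S3_ok cM11S3_ok rfl
      (show cM11S3.n = _ from hfac (k := 2) (q := 880) Nat.prime_three (by norm_num) (by norm_num)) gM11S3_fix hg h
  · exact fix_outside gM11S5_ok cM11S5_ok rfl
      (show cM11S5.n = _ from hfac (k := 1) (q := 1584) Nat.prime_five (by norm_num) (by norm_num)) gM11S5_fix hg h
  · exact fix_outside gM11S11_ok cM11S11_ok rfl
      (show cM11S11.n = _ from hfac (p := 11) (k := 1) (q := 720) (by norm_num) (by norm_num) (by norm_num)) gM11S11_fix hg h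

end CfsgGolay
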