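/-
Distances in the graph of octads, adjacent when disjoint.
-/
import Cfsg.Agent.Lib.Golay.ClassC
import Mathlib.Combinatorics.SimpleGraph.Metric

set_option autoImplicit false

namespace CfsgGolay

open Cfsg
open scoped Pointwise

attribute [local irreducible] codeL octadL dodecadL slpCodes

theorem oct_witness4 : ∀ y ∈ octads, (O0 ∩ y).card = 4 → ∃ z ∈ octads, (O0 ∩ z).card = 0 ∧ (y ∩ z).card = 0 := by
  have hy : toSet 8683614 ∈ octads := toSet_mem_octads' (by norm_num) (by decide +kernel)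
  have hz : toSet 7409024 ∈ octads := toSet_mem_octads' (by norm_num) (by decide +kernel)
  intro y hyo hy4
  obtain ⟨g, hg, rfl⟩ := clsO.trans (toSet 8683614) ⟨hy, trivial⟩ y ⟨hyo, trivial⟩
    (by rw [hy4, O0, ← toSet_and, card_toSet]; decide +kernel)
  refine ⟨g • toSet 7409024, (smul_mem_octads_iff (Gr_le_M24 gO_ok hg)).mpr hz, ?_, ?_⟩
  · rw [card_inter_smul (gO_fix hg), O0, ← toSet_and, card_toSet]; decide +kernel
  · rw [← Finset.smul_finset_inter, Finset.card_smul_finset, ← toSet_and, card_toSet]; decide +kernel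

theorem oct_witness2 : ∀ y ∈ octads, (O0 ∩ y).card = 2 →
    (∃ z ∈ octads, (O0 ∩ z).card = 0 ∧ (y ∩ z).card = 4) ∧
      ∀ z ∈ octads, (O0 ∩ z).card = 0 → (y ∩ z).card ≠ 0 := by
  have hy : toSet 12880401 ∈ octads := toSet_mem_octads' (by norm_num) (by decide +kernel)
  have hz : toSet 4202192 ∈ octads := toSet_mem_octads' (by norm_num) (by decide +kernel)
  intro y hyo hy2
  obtain ⟨g, hg, rfl⟩ := clsO.trans (toSet 12880401) ⟨hy, trivial⟩ y ⟨hyo, trivial⟩
    (by rw [hy2, O0, ← toSet_and, card_toSet]; decide +kernel)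
  have hgM := Gr_le_M24 gO_ok hg
  refine ⟨⟨g • toSet 4202192, (smul_mem_octads_iff hgM).mpr hz, ?_, ?_⟩, fun z hzo h0 hzy => ?_⟩
  · rw [card_inter_smul (gO_fix hg), O0, ← toSet_and, card_toSet]; decide +kernel
  · rw [← Finset.smul_finset_inter, Finset.card_smul_finset, ← toSet_and, card_toSet]; decide +kernel
  · have hn := ncard_sub_orbit (K := maskK) (o := 8536111) (C := cMO) (by show _ < 2 ^ 24; norm_num) cMO_ok
      (fun z => (O0 ∩ z).card = 0 ∧ (toSet 12880401 ∩ z).card = 0)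
      (fun n => Nat.beq (pc (8536111 &&& n)) 0 && Nat.beq (pc (12880401 &&& n)) 0) (fun n hn => by
        change _ ↔ (toSet 8536111 ∩ toSet n).card = 0 ∧ (toSet 12880401 ∩ toSet n).card = 0
        rw [← toSet_and, ← toSet_and, card_toSet, card_toSet, Bool.and_eq_true]
        exact ⟨fun h => ⟨Nat.eq_of_beq_eq_true h.1, Nat.eq_of_beq_eq_true h.2⟩,
          fun h => ⟨by rw [h.1]; rfl, by rw [h.2]; rfl⟩⟩)
    rw [show (cMO.count fun n => Nat.beq (pc (8536111 &&& n)) 0 && Nat.beq (pc (12880401 &&& n)) 0) = 0 by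
      decide +kernel, Set.ncard_eq_zero] at hn
    have hmem : g⁻¹ • z ∈ ({x | x ∈ MulAction.orbit M24 (maskK.dec 8536111) ∧
        ((O0 ∩ x).card = 0 ∧ (toSet 12880401 ∩ x).card = 0)} : Set (Finset GolayPt)) := by
      refine ⟨?_, ?_, ?_⟩
      · rw [show maskK.dec 8536111 = O0 from rfl, ← octads_eq_orbit]
        exact (smul_mem_octads_iff (inv_mem hgM)).mpr hzo
      · rw [card_inter_smul (inv_smul_eq_iff.mpr (gO_fix hg).symm)]; exact h0
      · rw [← Finset.card_smul_finset g, Finset.smul_finset_inter, smul_inv_smul]; exact hzy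
    rw [hn] at hmem
    exact hmem.elim

theorem oct_pair_witness {o o' : Finset GolayPt} (ho : o ∈ octads) (ho' : o' ∈ octads) :
    ((o ∩ o').card ∈ [8, 0, 4, 2]) ∧
    ((o ∩ o').card = 4 → ∃ z ∈ octads, (o ∩ z).card = 0 ∧ (o' ∩ z).card = 0) ∧
    ((o ∩ o').card = 2 → (∃ z ∈ octads, (o ∩ z).card = 0 ∧ (o' ∩ z).card = 4) ∧
      ∀ z ∈ octads, (o ∩ z).card = 0 → (o' ∩ z).card ≠ 0) := by
  obtain ⟨g, hg, rfl⟩ := exists_smul_O0 ho
  obtain ⟨y, rfl⟩ : ∃ y, o' = g • y := ⟨g⁻¹ • o', (smul_inv_smul g o').symm⟩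
  have hy : y ∈ octads := (smul_mem_octads_iff hg).mp ho'
  rw [card_inter_smul']
  refine ⟨?_, fun h => ?_, fun h => ⟨?_, fun z hz h0 => ?_⟩⟩
  · obtain ⟨x, hx, he⟩ := clsO.values y ⟨hy, trivial⟩
    rw [show (O0 ∩ y).card = x.1 from he]
    simp only [List.mem_cons, List.not_mem_nil, or_false] at hx ⊢
    rcases hx with rfl | rfl | rfl | rfl <;> simp
  · obtain ⟨z, hz, h0, h1⟩ := oct_witness4 y hy h
    exact ⟨g • z, (smul_mem_octads_iff hg).mpr hz, by rw [card_inter_smul']; exact h0,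
      by rw [card_inter_smul']; exact h1⟩
  · obtain ⟨z, hz, h0, h1⟩ := (oct_witness2 y hy h).1
    exact ⟨g • z, (smul_mem_octads_iff hg).mpr hz, by rw [card_inter_smul']; exact h0,
      by rw [card_inter_smul']; exact h1⟩
  · obtain ⟨w, rfl⟩ : ∃ w, z = g • w := ⟨g⁻¹ • z, (smul_inv_smul g z).symm⟩
    rw [card_inter_smul'] at h0 ⊢
    exact (oct_witness2 y hy h).2 w ((smul_mem_octads_iff hg).mp hz) h0

theorem octGraph_adj {a b : octads} : (blockGraph octads).Adj a b ↔
    a ≠ b ∧ ((a : Finset GolayPt) ∩ b).card = 0 := by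
  simp only [blockGraph, SimpleGraph.fromRel_adj, Finset.card_eq_zero, ← Finset.disjoint_iff_inter_eq_empty]
  constructor
  · rintro ⟨hne, h | h⟩; exacts [⟨hne, h⟩, ⟨hne, h.symm⟩]
  · rintro ⟨hne, h⟩; exact ⟨hne, Or.inl h⟩

theorem octGraph_adj' {a b : octads} (h : ((a : Finset GolayPt) ∩ b).card = 0) :
    (blockGraph octads).Adj a b := by
  refine octGraph_adj.mpr ⟨fun hab => ?_, h⟩
  subst hab
  rw [Finset.inter_self, card_of_mem_octads a.2] at h
  exact absurd h (by norm_num)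

theorem octGraph_dist {o o' : Finset GolayPt} (ho : o ∈ octads) (ho' : o' ∈ octads) (hne : o ≠ o') :
    (blockGraph octads).Connected ∧
    ((o ∩ o').card = 0 ↔ (blockGraph octads).dist ⟨o, ho⟩ ⟨o', ho'⟩ = 1) ∧
    ((o ∩ o').card = 4 ↔ (blockGraph octads).dist ⟨o, ho⟩ ⟨o', ho'⟩ = 2) ∧
    ((o ∩ o').card = 2 ↔ (blockGraph octads).dist ⟨o, ho⟩ ⟨o', ho'⟩ = 3) := by
  have hwalk : ∀ a b : octads, a ≠ b → ∃ w : (blockGraph octads).Walk a b,
      (((a : Finset GolayPt) ∩ b).card = 0 → w.length = 1) ∧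
      (((a : Finset GolayPt) ∩ b).card = 4 → w.length = 2) ∧
      (((a : Finset GolayPt) ∩ b).card = 2 → w.length = 3) := by
    intro a b hab
    obtain ⟨hv, h4, h2⟩ := oct_pair_witness a.2 b.2
    simp only [List.mem_cons, List.not_mem_nil, or_false] at hv
    rcases hv with h | h | h | h
    · exfalso
      refine hab (Subtype.ext ((Finset.eq_of_subset_of_card_le Finset.inter_subset_left ?_).symm.trans
        (Finset.eq_of_subset_of_card_le Finset.inter_subset_right ?_)))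
      · rw [card_of_mem_octads a.2, h]
      · rw [card_of_mem_octads b.2, h]
    · exact ⟨(octGraph_adj' h).toWalk, fun _ => rfl, by omega, by omega⟩
    · obtain ⟨z, hz, ha, hb⟩ := h4 h
      exact ⟨.cons (octGraph_adj' (b := ⟨z, hz⟩) ha)
        (octGraph_adj' (a := ⟨z, hz⟩) (by rw [Finset.inter_comm]; exact hb)).toWalk,
        by omega, fun _ => rfl, by omega⟩
    · obtain ⟨z, hz, ha, hb⟩ := (h2 h).1
      obtain ⟨-, hz4, -⟩ := oct_pair_witness hz b.2
      obtain ⟨w, hw, hwz, hwb⟩ := hz4 (by rw [Finset.inter_comm]; exact hb)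
      exact ⟨.cons (octGraph_adj' (b := ⟨z, hz⟩) ha) (.cons (octGraph_adj' (b := ⟨w, hw⟩) hwz)
        (octGraph_adj' (a := ⟨w, hw⟩) (by rw [Finset.inter_comm]; exact hwb)).toWalk),
        by omega, by omega, fun _ => rfl⟩
  haveI : Nonempty octads := ⟨⟨o, ho⟩⟩
  have hconn : (blockGraph octads).Connected := SimpleGraph.Connected.mk fun a b => by
    rcases eq_or_ne a b with rfl | hab
    · exact SimpleGraph.Reachable.refl _
    · obtain ⟨w, -⟩ := hwalk a b hab; exact ⟨w⟩
  have hab : (⟨o, ho⟩ : octads) ≠ ⟨o', ho'⟩ := fun h => hne (congrArg Subtype.val h)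
  obtain ⟨w, w0, w4, w2⟩ := hwalk _ _ hab
  obtain ⟨hv, -, h2⟩ := oct_pair_witness ho ho'
  have hpos := hconn.pos_dist_of_ne hab
  have hle := SimpleGraph.dist_le w
  have hne1 : (o ∩ o').card ≠ 0 → (blockGraph octads).dist ⟨o, ho⟩ ⟨o', ho'⟩ ≠ 1 := fun h hd =>
    h (octGraph_adj.mp (SimpleGraph.dist_eq_one_iff_adj.mp hd)).2
  have hne2 : (o ∩ o').card = 2 → (blockGraph octads).dist ⟨o, ho⟩ ⟨o', ho'⟩ ≠ 2 := by
    intro h hd
    obtain ⟨p, hp⟩ := hconn.exists_walk_length_eq_dist ⟨o, ho⟩ ⟨o', ho'⟩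
    rw [hd] at hp
    have h1 : (blockGraph octads).Adj ⟨o, ho⟩ (p.getVert 1) := by
      simpa using p.adj_getVert_succ (i := 0) (by omega)
    have h3 : (blockGraph octads).Adj (p.getVert 1) ⟨o', ho'⟩ := by
      have := p.adj_getVert_succ (i := 1) (by omega)
      rwa [show (1 + 1) = p.length by omega, p.getVert_length] at this
    exact (h2 h).2 _ (p.getVert 1).2 (octGraph_adj.mp h1).2
      (by rw [Finset.inter_comm]; exact (octGraph_adj.mp h3).2)
  simp only [List.mem_cons, List.not_mem_nil, or_false] at hv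
  refine ⟨hconn, ?_⟩
  rcases hv with h | h | h | h
  · exfalso
    refine hne ((Finset.eq_of_subset_of_card_le Finset.inter_subset_left ?_).symm.trans
      (Finset.eq_of_subset_of_card_le Finset.inter_subset_right ?_))
    · rw [card_of_mem_octads ho, h]
    · rw [card_of_mem_octads ho', h]
  · have := w0 h; omega
  · have := w4 h; have := hne1 (by omega); omega
  · have := w2 h; have := hne1 (by omega); have := hne2 h; omega

end CfsgGolay
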