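/-
The centraliser of an involution fixing an octad.
-/
import Cfsg.Agent.Lib.Parab.AutCount
import Cfsg.Agent.Lib.Golay.OctStab
import Cfsg.Agent.Lib.Golay.ClassC

set_option autoImplicit false
set_option linter.style.haveILetI false

namespace CfsgGolay

open Cfsg
open scoped Pointwise

attribute [local irreducible] codeL octadL dodecadL slpCodes

/-- An element fixing the complement of an octad pointwise is trivial. -/
theorem eq_one_of_fix_compl {o : Finset GolayPt} (ho : o ∈ octads) {a : Equiv.Perm GolayPt} (ha : a ∈ M24)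
    (h : ∀ p, p ∉ o → a p = p) : a = 1 := by
  classical
  obtain ⟨g, hg, rfl⟩ := exists_smul_O0 ho
  set b := g⁻¹ * a * g with hb
  have hbM : b ∈ M24 := mul_mem (mul_mem (inv_mem hg) ha) hg
  have hfix : ∀ p, p ∉ O0 → b p = p := by
    intro p hp
    have : g p ∉ g • O0 := fun hc => hp (pt_mem_smul.mp hc)
    rw [hb]
    simp [h (g p) this]
  have hin : ∀ p ∈ O0, b p ∈ O0 := fun p hp => by
    by_contra hc
    exact hc ((b.injective (hfix _ hc)).symm ▸ hp)
  suffices hb1 : b = 1 by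
    have : a = g * b * g⁻¹ := by rw [hb]; group
    rw [this, hb1, mul_one, mul_inv_cancel]
  refine Equiv.ext fun q => ?_
  by_cases hq : q ∈ O0
  swap
  · exact hfix q hq
  by_contra hne
  obtain ⟨q1, hq1⟩ := Finset.card_pos.mp (show 0 < ((O0.erase q).erase (b q)).card by
    have := Finset.pred_card_le_card_erase (s := O0.erase q) (a := b q)
    rw [Finset.card_erase_of_mem hq, card_of_mem_octads O0_mem] at this
    omega)
  simp only [Finset.mem_erase] at hq1
  obtain ⟨hq1b, hq1q, hq1O⟩ := hq1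
  have hs : ({q, q1} : Finset GolayPt) ⊆ O0 := Finset.insert_subset hq (Finset.singleton_subset_iff.mpr hq1O)
  have hcard := (octads_meeting hs).1 (Finset.card_pair hq1q.symm)
  obtain ⟨B, hB, hBO⟩ := Set.nonempty_of_ncard_ne_zero (s := {o | o ∈ octads ∧ O0 ∩ o = {q, q1}}) (by rw [hcard]; norm_num)
  have hB8 := card_of_mem_octads hB
  have hsd : (B \ O0).card = 6 := by
    rw [Finset.card_sdiff, hBO, Finset.card_pair hq1q.symm, hB8]
  obtain ⟨t, ht, ht5⟩ := Finset.exists_subset_card_eq (n := 5) (s := B \ O0) (by omega)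
  have hbB : b • B = B := by
    refine octad_unique (s := t) (image_mem_octads hbM hB) hB ht5.ge (fun p hp => ?_) (fun p hp => (Finset.mem_sdiff.mp (ht hp)).1)
    have := Finset.mem_sdiff.mp (ht hp)
    exact Finset.mem_image.mpr ⟨p, this.1, hfix p this.2⟩
  have hqB : q ∈ B := (Finset.mem_inter.mp (hBO ▸ Finset.mem_insert_self q {q1} : q ∈ O0 ∩ B)).2
  have : b q ∈ O0 ∩ B := Finset.mem_inter.mpr ⟨hin q hq, hbB ▸ Finset.smul_mem_smul_finset hqB⟩
  rw [hBO, Finset.mem_insert, Finset.mem_singleton] at this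
  rcases this with e | e
  · exact hne e
  · exact hq1b e.symm

theorem oct_invol_result (z : ↥M24) (hz : orderOf z = 2)
    (hfix : (Finset.univ.filter fun p : GolayPt => (z : Equiv.Perm GolayPt) p = p) ∈ octads)
    {C : Subgroup ↥M24} (hC : C = Subgroup.centralizer ({z} : Set ↥M24)) (Q : Subgroup ↥M24)
    (hQ : Q = (pCore 2 ↥C).map C.subtype) :
    IsExtraspecial 2 ↥Q ∧ Nat.card ↥Q = 2 ^ 7 ∧
      (∃ E : Subgroup ↥M24, E ≤ Q ∧ IsElementaryAbelian 2 E ∧ Nat.card ↥E = 2 ^ 4) ∧ IsLargeExtraspecial Q ∧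
      ∃ K : Subgroup ↥M24, K ≤ C ∧ Q ⊓ K = ⊥ ∧ Q ⊔ K = C ∧ Nonempty (↥K ≃* Matrix.SpecialLinearGroup (Fin 3) (ZMod 2)) := by
  classical
  haveI : Fact (Nat.Prime 2) := ⟨Nat.prime_two⟩
  set o := Finset.univ.filter fun p : GolayPt => (z : Equiv.Perm GolayPt) p = p with ho
  obtain ⟨hcard16, hinv⟩ := card_fixOct hfix
  obtain ⟨p, hp⟩ := exists_notMem_octad hfix
  obtain ⟨hcardA, hbot, hfull⟩ := card_octPt hfix hp
  have hUle : fixOct o ≤ stabM o := hfull ▸ le_sup_left
  have hAle : octPt o p ≤ stabM o := hfull ▸ le_sup_right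
  let U : Subgroup (stabM o) := (fixOct o).subgroupOf (stabM o)
  let A : Subgroup (stabM o) := (octPt o p).subgroupOf (stabM o)
  haveI hUn : U.Normal := ⟨fun u hu g => by
    refine ⟨M24.mul_mem (M24.mul_mem g.2.1 hu.1) (M24.inv_mem g.2.1), (mem_fixingSubgroup_iff _).mpr fun q hq => ?_⟩
    have h1 : (g : Equiv.Perm GolayPt)⁻¹ q ∈ o := by
      have h := Finset.smul_mem_smul_finset (a := (g : Equiv.Perm GolayPt)⁻¹) (Finset.mem_coe.mp hq)
      rwa [inv_smul_eq_iff.mpr (mem_stabM.mp g.2).2.symm] at h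
    show ((g : Equiv.Perm GolayPt) * u * (g : Equiv.Perm GolayPt)⁻¹) q = q
    rw [Equiv.Perm.mul_apply, Equiv.Perm.mul_apply,
      show ((u : stabM o) : Equiv.Perm GolayPt) ((g : Equiv.Perm GolayPt)⁻¹ q) = (g : Equiv.Perm GolayPt)⁻¹ q from
        (mem_fixingSubgroup_iff _).mp hu.2 _ h1]
    simp⟩
  have hUsq : ∀ u ∈ U, u * u = 1 := fun u hu => Subtype.ext (hinv _ hu)
  have hU : IsElementaryAbelian 2 U := by
    refine ⟨⟨⟨fun a b => ?_⟩⟩, fun u hu => by rw [pow_two]; exact hUsq u hu⟩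
    have ha := hUsq _ a.2; have hb := hUsq _ b.2; have hab := hUsq _ (mul_mem a.2 b.2)
    refine Subtype.ext ?_
    rw [Subgroup.coe_mul, Subgroup.coe_mul, ← inv_eq_of_mul_eq_one_right hab, mul_inv_rev, inv_eq_of_mul_eq_one_right ha,
      inv_eq_of_mul_eq_one_right hb]
  have hUcard : Nat.card U = 2 ^ (3 + 1) := by
    rw [Nat.card_congr (Subgroup.subgroupOfEquivOfLe hUle).toEquiv, hcard16]; norm_num
  have hUA : U ⊓ A = ⊥ := by
    refine (Subgroup.eq_bot_iff_forall _).mpr fun x hx => Subtype.ext ?_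
    have h : (x : Equiv.Perm GolayPt) ∈ fixOct o ⊓ octPt o p := ⟨hx.1, hx.2⟩
    rw [hbot] at h
    exact h
  have hUA' : U ⊔ A = ⊤ := by
    rw [← Subgroup.subgroupOf_sup hUle hAle, hfull, Subgroup.subgroupOf_self]
  -- the action of the complement on the normal subgroup
  let cjA : A →* MulAut U := (MulAut.conjNormal : stabM o →* MulAut U).comp A.subtype
  have hzM : (z : Equiv.Perm GolayPt) ≠ 1 := fun e => by
    rw [show z = 1 from Subtype.ext e, orderOf_one] at hz
    exact absurd hz (by norm_num)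
  have hzo : (z : Equiv.Perm GolayPt) ∈ fixOct o := ⟨z.2, (mem_fixingSubgroup_iff _).mpr fun q hq => by
    rw [Finset.mem_coe, ho, Finset.mem_filter] at hq; exact hq.2⟩
  have hfaith' : Function.Injective cjA := by
    rw [← MonoidHom.ker_eq_bot_iff]
    obtain ⟨e⟩ := octPt_equiv hfix hp
    haveI : IsSimpleGroup (alternatingGroup (Fin 8)) :=
      alternatingGroup.isSimpleGroup (by simp [Nat.card_eq_fintype_card])
    haveI : IsSimpleGroup A := ((Subgroup.subgroupOfEquivOfLe hAle).trans e).isSimpleGroup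
    refine ((MonoidHom.normal_ker cjA).eq_bot_or_eq_top).resolve_right fun ht => ?_
    have hne : octPt o p ≠ ⊥ := fun e' => by rw [e'] at hcardA; simp at hcardA
    refine hne ((Subgroup.eq_bot_iff_forall _).mpr fun a ha => ?_)
    have hcomm : ∀ u ∈ fixOct o, a * u = u * a := fun u hu => by
      have h1 : cjA ⟨⟨a, hAle ha⟩, ha⟩ = 1 := by rw [← MonoidHom.mem_ker, ht]; trivial
      have h2 : a * u * a⁻¹ = u :=
        congrArg (fun t : MulAut U => (((t ⟨⟨u, hUle hu⟩, hu⟩ : U) : stabM o) : Equiv.Perm GolayPt)) h1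
      exact mul_inv_eq_iff_eq_mul.mp h2
    refine eq_one_of_fix_compl hfix ha.1.1 fun q hq => ?_
    -- transitivity outside the octad
    have h1 := card_inf_stab (H := fixOct o) p
    have hst : fixOct o ⊓ MulAction.stabilizer (Equiv.Perm GolayPt) p = ⊥ := by
      refine le_bot_iff.mp (le_trans (fun x hx => Subgroup.mem_inf.mpr ⟨hx.1, Subgroup.mem_inf.mpr ⟨hUle hx.1, hx.2⟩⟩) hbot.le)
    rw [hst, Subgroup.card_bot, hcard16] at h1
    have hsub : MulAction.orbit (fixOct o) p ⊆ ((oᶜ : Finset GolayPt) : Set GolayPt) := by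
      rintro _ ⟨⟨u, hu⟩, rfl⟩
      refine Finset.mem_coe.mpr (Finset.mem_compl.mpr fun hc => hp ?_)
      change u p ∈ o at hc
      have := (mem_fixingSubgroup_iff _).mp hu.2 _ (Finset.mem_coe.mpr hc)
      rwa [u.injective this] at hc
    have horb := Set.eq_of_subset_of_ncard_le hsub (by
      rw [Set.ncard_coe_finset, Finset.card_compl, card_of_mem_octads hfix, Fintype.card_option, ZMod.card]
      omega) (Set.toFinite _)
    obtain ⟨⟨u, hu⟩, rfl⟩ := horb.ge (Finset.mem_coe.mpr (Finset.mem_compl.mpr hq))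
    show a (u p) = u p
    rw [← Equiv.Perm.mul_apply, hcomm u hu, Equiv.Perm.mul_apply, show a p = p from ha.2]
  let zG : stabM o := ⟨z, hUle hzo⟩
  have hzU : zG ∈ U := hzo
  have hz1 : zG ≠ 1 := fun e => hzM (congrArg Subtype.val e)
  have hbij : Function.Bijective cjA := by
    haveI : Finite (MulAut U) := Finite.of_injective (fun e : MulAut U => (e : U → U)) DFunLike.coe_injective
    refine hfaith'.bijective_of_nat_card_le ?_
    rw [Nat.card_congr (Subgroup.subgroupOfEquivOfLe hAle).toEquiv, hcardA]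
    exact (CfsgParab.card_mulAut_le hU hUcard hzU hz1).trans CfsgParab.card_gl_four.le
  have hfaith : ∀ m ∈ A, (∀ u ∈ U, m * u * m⁻¹ = u) → m = 1 := fun m hm h =>
    congrArg Subtype.val (hfaith' (show cjA ⟨m, hm⟩ = cjA 1 by
      rw [map_one]; exact MulEquiv.ext fun u => Subtype.ext (h u u.2)))
  have hfullA : ∀ φ : ↥U ≃* ↥U, ∃ m ∈ A, ∀ u : ↥U, ((φ u : ↥U) : stabM o) = m * u * m⁻¹ := fun φ => by
    obtain ⟨m, hm⟩ := hbij.2 φ
    exact ⟨m, m.2, fun u => by rw [← hm]; rfl⟩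
  have hzC' : zG ∈ Subgroup.centralizer ({zG} : Set (stabM o)) := Subgroup.mem_centralizer_singleton_iff.mpr rfl
  have hD := CfsgParab.holo_data (n := 3) (by norm_num) U A hU hUcard hUA hUA' hfaith hfullA hzU hz1 hzC'
  -- the centraliser lies in the stabiliser
  have hCst : ∀ g : ↥M24, g * z = z * g → (g : Equiv.Perm GolayPt) ∈ stabM o := fun g hg => by
    refine mem_stabM.mpr ⟨g.2, ?_⟩
    have hcomm : (g : Equiv.Perm GolayPt) * z = z * g := congrArg Subtype.val hg
    refine Finset.eq_of_subset_of_card_le (fun x hx => ?_) (le_of_eq (Finset.card_smul_finset _ _).symm)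
    obtain ⟨y, hy, rfl⟩ := Finset.mem_smul_finset.mp hx
    rw [ho, Finset.mem_filter] at hy ⊢
    refine ⟨Finset.mem_univ _, ?_⟩
    show (z : Equiv.Perm GolayPt) ((g : Equiv.Perm GolayPt) y) = (g : Equiv.Perm GolayPt) y
    rw [← Equiv.Perm.mul_apply, ← hcomm, Equiv.Perm.mul_apply, hy.2]
  subst hC
  have hzC : z ∈ Subgroup.centralizer ({z} : Set ↥M24) := Subgroup.mem_centralizer_singleton_iff.mpr rfl
  let e : ↥(Subgroup.centralizer ({z} : Set ↥M24)) ≃* ↥(Subgroup.centralizer ({zG} : Set (stabM o))) :=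
    { toFun := fun g => ⟨⟨((g : ↥M24) : Equiv.Perm GolayPt), hCst g (Subgroup.mem_centralizer_singleton_iff.mp g.2)⟩,
        Subgroup.mem_centralizer_singleton_iff.mpr (Subtype.ext
          (congrArg (fun t : ↥M24 => (t : Equiv.Perm GolayPt)) (Subgroup.mem_centralizer_singleton_iff.mp g.2)))⟩
      invFun := fun g => ⟨⟨((g : stabM o) : Equiv.Perm GolayPt), (g : stabM o).2.1⟩,
        Subgroup.mem_centralizer_singleton_iff.mpr (Subtype.ext
          (congrArg (fun t : stabM o => (t : Equiv.Perm GolayPt)) (Subgroup.mem_centralizer_singleton_iff.mp g.2)))⟩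
      left_inv := fun g => rfl
      right_inv := fun g => rfl
      map_mul' := fun g h => rfl }
  obtain ⟨hES, hab, hE, hcard, hEl, K, hK1, hK2, hK3, ⟨eK⟩⟩ :=
    CfsgParab.conclude rfl hzC (hD.transport e (Subtype.ext (Subtype.ext rfl))) Q hQ
  obtain ⟨eS⟩ := CfsgParab.gl_equiv_sl (n := 3)
  refine ⟨hE, hcard, hEl, ?_, K, hK1, hK2, hK3, ⟨eK.trans eS⟩⟩
  -- a conjugate of `z` in the core
  have hUQ : ∀ u : Equiv.Perm GolayPt, (hu : u ∈ fixOct o) → (⟨u, hu.1⟩ : ↥M24) ∈ Q := by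
    intro u hu
    let N : Subgroup ↥(Subgroup.centralizer ({z} : Set ↥M24)) :=
      (fixOct o).comap (M24.subtype.comp (Subgroup.centralizer ({z} : Set ↥M24)).subtype)
    haveI : N.Normal := ⟨fun x hx g => hUn.conj_mem ⟨_, hUle hx⟩ hx
      ⟨_, hCst g (Subgroup.mem_centralizer_singleton_iff.mp g.2)⟩⟩
    have hcomm : (⟨u, hu.1⟩ : ↥M24) * z = z * ⟨u, hu.1⟩ := Subtype.ext
      (congrArg (fun t : U => ((t : stabM o) : Equiv.Perm GolayPt)) (hU.1.is_comm.comm ⟨⟨u, hUle hu⟩, hu⟩ ⟨zG, hzU⟩))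
    rw [hQ]
    exact ⟨⟨⟨u, hu.1⟩, Subgroup.mem_centralizer_singleton_iff.mpr hcomm⟩,
      CfsgLib.le_pCore (N := N) (fun x => ⟨1, Subtype.ext (Subtype.ext (Subtype.ext (by
        show (((x : ↥(Subgroup.centralizer ({z} : Set ↥M24))) : ↥M24) : Equiv.Perm GolayPt) ^ (2 ^ 1) = 1
        rw [pow_one, pow_two]
        exact hinv _ x.2)))⟩) hu, rfl⟩
  obtain ⟨u, hu, hu1, huz⟩ : ∃ u ∈ fixOct o, u ≠ 1 ∧ u ≠ (z : Equiv.Perm GolayPt) := by
    by_contra hc
    push Not at hc
    have hsub : (fixOct o : Set (Equiv.Perm GolayPt)) ⊆ {1, (z : Equiv.Perm GolayPt)} := fun u hu => by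
      by_cases h : u = 1
      · exact Or.inl h
      · exact Or.inr (hc u hu h)
    have := Set.ncard_le_ncard hsub
    rw [show (fixOct o : Set (Equiv.Perm GolayPt)).ncard = 16 by rw [← hcard16]; exact (Nat.card_coe_set_eq _).symm,
      Set.ncard_pair (Ne.symm hzM)] at this
    omega
  let u' : U := ⟨⟨u, hUle hu⟩, hu⟩
  let zu : U := ⟨zG, hzU⟩
  have h2U : ∀ v : U, v * v = 1 := fun v => Subtype.ext (hUsq v v.2)
  obtain ⟨φ, hφ⟩ := CfsgParab.swap_in U hU hUcard zu u' (fun e => hz1 (congrArg Subtype.val e))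
    (fun e => hu1 (congrArg (fun t : U => ((t : stabM o) : Equiv.Perm GolayPt)) e))
  obtain ⟨m, hm, hmu⟩ := hfullA φ
  refine CfsgLargeExtra.large_of_ES hES hab (by rw [hcard]; norm_num) ⟨_, (m : stabM o).2.1⟩ ?_ ?_
  · convert hUQ u hu using 1
    refine Subtype.ext ?_
    have := congrArg (fun t : stabM o => (t : Equiv.Perm GolayPt)) (hmu zu)
    rw [hφ] at this
    exact this.symm
  · intro e'
    refine huz ?_
    have := congrArg (fun t : stabM o => (t : Equiv.Perm GolayPt)) (hmu zu)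
    rw [hφ] at this
    exact this.trans (congrArg Subtype.val e')

end CfsgGolay
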