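/-
Orbit certificates: every listed object is reached from the first one.
-/
import Cfsg.Agent.Lib.Golay.Trans

set_option autoImplicit false

namespace CfsgGolay

open Cfsg
open scoped Pointwise

/-- Entry lookup in a list cut into chunks of 64. -/
def entryAt (arr : List (List (ℕ × ℕ × ℕ))) (i : ℕ) : ℕ × ℕ × ℕ :=
  (arr.getD (i / 64) []).getD (i % 64) (0, 0, 0)

/-- Check a Schreier tree: entry `i > 0` is (object, parent, generator number), with parent before `i`. -/
def treeOK (gens : List ℕ) (act : ℕ → ℕ → ℕ) (o₀ : ℕ) (arr : List (List (ℕ × ℕ × ℕ))) (n : ℕ) : Bool :=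
  Nat.beq (entryAt arr 0).1 o₀ &&
    (List.range n).all fun i => Nat.beq i 0 ||
      (Nat.blt (entryAt arr i).2.1 i && Nat.blt (entryAt arr i).2.2 gens.length &&
        Nat.beq (entryAt arr i).1 (act (gens.getD (entryAt arr i).2.2 0) (entryAt arr (entryAt arr i).2.1).1))

theorem tree_sound {gens : List ℕ} {act : ℕ → ℕ → ℕ} {o₀ : ℕ} {arr : List (List (ℕ × ℕ × ℕ))} {n : ℕ}
    (h : treeOK gens act o₀ arr n = true) (H : Subgroup (Equiv.Perm GolayPt))
    (hgens : ∀ c ∈ gens, ∃ g ∈ H, Repr c g) (P : Equiv.Perm GolayPt → ℕ → Prop) (h0 : P 1 o₀)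
    (hstep : ∀ c g k o, g ∈ H → Repr c g → P k o → P (g * k) (act c o)) :
    ∀ i < n, ∃ g ∈ H, P g (entryAt arr i).1 := by
  simp only [treeOK, Bool.and_eq_true, List.all_eq_true, List.mem_range, Bool.or_eq_true, Nat.blt_eq] at h
  intro i
  induction i using Nat.strong_induction_on with
  | _ i ih =>
    intro hi
    rcases h.2 i hi with he | ⟨⟨hp, hg⟩, he⟩
    · rw [Nat.eq_of_beq_eq_true he, Nat.eq_of_beq_eq_true h.1]; exact ⟨1, one_mem _, h0⟩
    · obtain ⟨k, hk, hP⟩ := ih _ hp (lt_trans hp hi)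
      obtain ⟨g, hgH, hgr⟩ := hgens _ (List.getElem_mem hg)
      rw [Nat.eq_of_beq_eq_true he, List.getD_eq_getElem _ _ hg]
      exact ⟨g * k, mul_mem hgH hk, hstep _ g k _ hgH hgr hP⟩

theorem orbit_masks {gens : List ℕ} {m₀ : ℕ} {arr : List (List (ℕ × ℕ × ℕ))} {n : ℕ}
    (h : treeOK gens pmask m₀ arr n = true) (H : Subgroup (Equiv.Perm GolayPt))
    (hgens : ∀ c ∈ gens, ∃ g ∈ H, Repr c g) :
    ∀ i < n, ∃ g ∈ H, (toSet m₀).image g = toSet (entryAt arr i).1 :=
  tree_sound h H hgens (fun g o => (toSet m₀).image g = toSet o) (by ext p; simp)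
    fun c g k o _ hr hk => by
      rw [hr.toSet_pmask, ← hk, Finset.image_image]; rfl

theorem repr_M24 : ∀ c ∈ [cT, cI, cC], ∃ g ∈ M24, Repr c g := fun c hc =>
  (repr_genGroup c hc).imp fun _ h => ⟨genGroup_le h.1, h.2⟩

end CfsgGolay
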