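/-
Automorphisms of the Mathieu groups M11, M12 and M22: at most one outer class, found by normalising the image of
an element of order 11 and checking finitely many candidates.
-/
import Cfsg.Agent.Lib.Golay.Out23

set_option autoImplicit false

namespace CfsgGolay.OutSmall

open Cfsg SubData
open Out23 (eqCode eqCode_iff posL posL_spec exists_perm bij_checked cB cN)

attribute [local irreducible] codeL octadL dodecadL

/-- Cycle number (4 for the fixed points) and position of each point for the element of order five. -/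
def tabL : List (ℕ × ℕ) := [(4, 0), (4, 1), (0, 0), (1, 0), (1, 1), (4, 2), (0, 2), (2, 0), (0, 1), (0, 3), (2, 3), (2, 2), (1, 4), (1, 3), (3, 0), (3, 1), (0, 4), (2, 4), (1, 2), (3, 4), (3, 2), (3, 3), (2, 1), (4, 3)]

def octsL : List (List (ℕ × ℕ)) := [[(8455014, 8455014)],
  [(45159, 12391), (8663097, 8663097), (99029, 66133), (307594, 274698)],
  [(1445088, 396512), (12717187, 12717187), (72588, 72588), (145176, 145176)]]

/-- Representatives of the cycles, and the fixed points. -/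
def repsL : List ℕ := [2, 3, 7, 14]

/-- The fixed points of the element of order five. -/
def fixedL : List ℕ := [0, 1, 5, 23]

/-- The candidate with images `w` of the fixed points and `us` of the representatives. -/
def cand (w us : List ℕ) : ℕ :=
  pack (fun i => (if Nat.beq (tabL.getD i (4, 0)).1 4 then w.getD (tabL.getD i (4, 0)).2 0 else
    papp (ppow cN (2 * (tabL.getD i (4, 0)).2)) (us.getD (tabL.getD i (4, 0)).1 0)) % 32) 24

theorem tab_spec : ∀ i < 24, ((tabL.getD i (4, 0)).1 = 4 ∧ (tabL.getD i (4, 0)).2 < 4 ∧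
      fixedL.getD (tabL.getD i (4, 0)).2 0 = i) ∨
    ((tabL.getD i (4, 0)).1 < 4 ∧
      papp (ppow cN (tabL.getD i (4, 0)).2) (repsL.getD (tabL.getD i (4, 0)).1 0) = i) := by decide +kernel

/-- The points whose images are determined by the first `k` representatives. -/
def domL (k : ℕ) : List ℕ :=
  (List.range 24).filter fun i => Nat.beq (tabL.getD i (4, 0)).1 4 || Nat.blt (tabL.getD i (4, 0)).1 k

/-- Conditions seen on the determined points. -/
def partOK (l invs : List ℕ) (k c : ℕ) : Bool :=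
  ((domL k).all fun i => (!l.contains i || Nat.beq (papp c i) i) &&
    invs.all fun o => o.testBit (papp c i) == o.testBit i) &&
  (Nat.beq (pc (pmask c (orBits (domL k)))) (domL k).length) &&
  ((octsL.getD (k - 1) []).all fun om => k == 0 ||
    octadL.any fun o => Nat.beq (pmask c om.2 &&& o) (pmask c om.2))

/-- Membership in `subG l invs` of a coded permutation. -/
def memOK (l invs : List ℕ) (c : ℕ) : Bool := inSub l invs c && gensKept c

theorem octs_checked : ∀ k < 4, ((octsL.getD (k - 1) []).all fun om => k == 0 ||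
    (octadL.any (fun o => Nat.beq o om.1) && Nat.beq (om.2 &&& om.1) om.2 && Nat.blt om.2 (2 ^ 24) &&
      (setBits om.2).all fun i => (domL k).contains i)) = true := by
  decide +kernel

theorem memOK_of_mem {l invs : List ℕ} (hl : ∀ x ∈ l, x < 24) (ho : ∀ o ∈ invs, o < 2 ^ 24)
    {c : ℕ} {g : Equiv.Perm GolayPt} (hg : Repr c g) (h : g ∈ subG l invs) : memOK l invs c = true := by
  obtain ⟨h1, h2, h3⟩ := mem_subG.mp h
  simp only [memOK, inSub, Bool.and_eq_true, List.all_eq_true, Nat.blt_eq]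
  refine ⟨⟨fun x hx => ⟨hl x hx, ?_⟩, fun o hox => ⟨ho o hox, ?_⟩⟩, gensKept_of_mem hg h1⟩
  · have e := congrArg idx (mem_fixL.mp h2 (pt x) (by rw [idx_pt (hl x hx)]; exact hx))
    rw [hg, idx_pt (hl x hx)] at e
    rw [e, Nat.beq_refl]
  · have e := h3 o hox
    rw [← hg.toSet_pmask] at e
    rw [eq_of_toSet_eq (hg.pmask_lt o) (ho o hox) e, Nat.beq_refl]

theorem mem_of_memOK {l invs : List ℕ} {c : ℕ} {g : Equiv.Perm GolayPt} (hg : Repr c g)
    (h : memOK l invs c = true) : g ∈ subG l invs := by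
  simp only [memOK, Bool.and_eq_true] at h
  exact mem_subG_of_inSub (mem_M24_of_gensKept hg h.2) hg h.1

theorem partOK_of_agree {l invs : List ℕ} {k c c' : ℕ} (hk : k < 4) {g : Equiv.Perm GolayPt}
    (hg : Repr c g) (h : g ∈ subG l invs) (hag : ∀ i ∈ domL k, papp c' i = papp c i) :
    partOK l invs k c' = true := by
  obtain ⟨h1, h2, h3⟩ := mem_subG.mp h
  have hlt : ∀ i ∈ domL k, i < 24 := fun i hi => List.mem_range.mp (List.mem_filter.mp hi).1
  have hpm : ∀ m, (∀ i ∈ setBits m, i ∈ domL k) → pmask c' m = pmask c m := fun m hm => by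
    rw [pmask, pmask, List.map_congr_left fun i hi => hag i (hm i hi)]
  simp only [partOK, Bool.and_eq_true, List.all_eq_true, Bool.or_eq_true]
  refine ⟨⟨fun i hi => ⟨?_, fun o ho => ?_⟩, ?_⟩, fun om hom => ?_⟩
  · by_cases hil : i ∈ l
    · right
      have e := congrArg idx (mem_fixL.mp h2 (pt i) (by rw [idx_pt (hlt i hi)]; exact hil))
      rw [hg, idx_pt (hlt i hi)] at e
      rw [hag i hi, e, Nat.beq_refl]
    · left
      simpa using hil
  · rw [beq_iff_eq, hag i hi]
    have e : pt i ∈ toSet o ↔ g (pt i) ∈ toSet o := by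
      constructor
      · intro hp; rw [← h3 o ho]; exact Finset.mem_image_of_mem _ hp
      · intro hp; rw [← h3 o ho] at hp
        obtain ⟨q, hq, hqe⟩ := Finset.mem_image.mp hp
        exact g.injective hqe ▸ hq
    rw [mem_toSet, mem_toSet, idx_pt (hlt i hi), hg, idx_pt (hlt i hi)] at e
    exact Bool.eq_iff_iff.mpr e.symm
  · have hset : ∀ i ∈ setBits (orBits (domL k)), i ∈ domL k := fun i hi =>
      testBit_orBits.mp (mem_setBits.mp hi).2
    rw [hpm _ hset, ← card_toSet, hg.toSet_pmask, Finset.card_image_of_injective _ g.injective, card_toSet]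
    have hd : ∀ k < 4, pc (orBits (domL k)) = (domL k).length := by decide +kernel
    rw [hd k hk, Nat.beq_refl]
  · have hc := octs_checked k hk
    simp only [List.all_eq_true, Bool.or_eq_true, Bool.and_eq_true, List.any_eq_true, Nat.blt_eq] at hc
    rcases hc om hom with h0 | ⟨⟨⟨⟨o, ho, hoe⟩, hsub⟩, hlt24⟩, hdom⟩
    · exact Or.inl h0
    right
    obtain rfl := Nat.eq_of_beq_eq_true hoe
    rw [List.any_eq_true]
    refine ⟨toMask ((toSet om.1).image g), mem_octads.mp (image_mem_octads h1 (toSet_mem_octads ho)), ?_⟩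
    rw [hpm _ fun i hi => List.contains_iff_mem.mp (hdom i hi)]
    have e : pmask c om.2 &&& toMask ((toSet om.1).image g) = pmask c om.2 := by
      refine eq_of_toSet_eq (lt_of_le_of_lt Nat.and_le_left (hg.pmask_lt _)) (hg.pmask_lt _) ?_
      rw [toSet_and, toSet_toMask, hg.toSet_pmask, Finset.inter_eq_left]
      refine Finset.image_subset_image fun p hp => ?_
      rw [← Nat.eq_of_beq_eq_true hsub, toSet_and] at hp
      exact (Finset.mem_inter.mp hp).2
    rw [e, Nat.beq_refl]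

/-- A relation `(A ^ i * D) ^ n = 1` with `A` raised to the power `k`. -/
def relOK (k : ℕ) (rs : List (ℕ × ℕ)) (c : ℕ) : Bool :=
  rs.all fun p => eqCode (ppow (pcomp (ppow cB (k * p.1 % 11)) c) p.2) pid

/-- The last test: a survivor is the expected one. -/
def good (outer : Bool) (d : ℕ × ℕ × List (ℕ × ℕ)) (c : ℕ) : Bool :=
  (!relOK 1 d.2.2 c || eqCode c d.1) && (!relOK 10 d.2.2 c || (outer && eqCode c d.2.1))

/-- All candidates for the image of `d` pass the test. -/
def searchOK (l invs : List ℕ) (outer : Bool) (d : ℕ × ℕ × List (ℕ × ℕ)) : Bool :=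
  fixedL.all fun a => fixedL.all fun b => fixedL.all fun e => fixedL.all fun f =>
    !partOK l invs 0 (cand [a, b, e, f] []) || (List.range 24).all fun u1 =>
    !partOK l invs 1 (cand [a, b, e, f] [u1]) || (List.range 24).all fun u2 =>
    !partOK l invs 2 (cand [a, b, e, f] [u1, u2]) || (List.range 24).all fun u3 =>
    !partOK l invs 3 (cand [a, b, e, f] [u1, u2, u3]) || (List.range 24).all fun u4 =>
    !memOK l invs (cand [a, b, e, f] [u1, u2, u3, u4]) || good outer d (cand [a, b, e, f] [u1, u2, u3, u4])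

theorem cand_agree {w : List ℕ} {us vs : List ℕ} {k : ℕ} (h : ∀ r < k, us.getD r 0 = vs.getD r 0)
    {i : ℕ} (hi : i ∈ domL k) : papp (cand w us) i = papp (cand w vs) i := by
  obtain ⟨hr, hb⟩ := List.mem_filter.mp hi
  have hi' := List.mem_range.mp hr
  rw [cand, cand, ((pack_spec _ (fun i => Nat.mod_lt _ (by norm_num))) 24).2 _ hi',
    ((pack_spec _ (fun i => Nat.mod_lt _ (by norm_num))) 24).2 _ hi']
  simp only [Bool.or_eq_true, Nat.blt_eq] at hb
  by_cases h4 : Nat.beq (tabL.getD i (4, 0)).1 4 = true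
  · rw [if_pos h4, if_pos h4]
  · rw [if_neg h4, if_neg h4, h _ (hb.resolve_left h4)]

theorem good_of_searchOK {l invs : List ℕ} (hl : ∀ x ∈ l, x < 24) (ho : ∀ o ∈ invs, o < 2 ^ 24)
    {outer : Bool} {d : ℕ × ℕ × List (ℕ × ℕ)} (hs : searchOK l invs outer d = true)
    {g gN : Equiv.Perm GolayPt} (hN : Repr cN gN) (hg : g ∈ subG l invs) (h : g * gN = gN ^ 2 * g) :
    ∃ c, Repr c g ∧ good outer d c = true := by
  have hsemi : ∀ t : ℕ, g * gN ^ t = gN ^ (2 * t) * g := fun t => by
    rw [pow_mul]; exact (SemiconjBy.pow_right (show SemiconjBy g gN (gN ^ 2) from h) t)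
  have hfix : ∀ j < 4, idx (g (pt (fixedL.getD j 0))) ∈ fixedL := by
    intro j hj
    have h1 : ∀ j < 4, fixedL.getD j 0 < 24 ∧ papp cN (fixedL.getD j 0) = fixedL.getD j 0 := by decide +kernel
    have h2 : ∀ i < 24, papp (ppow cN 2) i = i → i ∈ fixedL := by decide +kernel
    refine h2 _ (idx_lt _) ?_
    rw [← (hN.pow 2) (g (pt _)), ← Equiv.Perm.mul_apply, ← h, Equiv.Perm.mul_apply,
      hN.apply_pt (h1 j hj).1, (h1 j hj).2]
  let W : List ℕ := [idx (g (pt 0)), idx (g (pt 1)), idx (g (pt 5)), idx (g (pt 23))]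
  let U : List ℕ := [idx (g (pt 2)), idx (g (pt 3)), idx (g (pt 7)), idx (g (pt 14))]
  have hU : ∀ r < 4, U.getD r 0 = idx (g (pt (repsL.getD r 0))) := by
    intro r hr
    interval_cases r <;> rfl
  have hW : ∀ r < 4, W.getD r 0 = idx (g (pt (fixedL.getD r 0))) := by
    intro r hr
    interval_cases r <;> rfl
  have hrepr : Repr (cand W U) g := by
    intro p
    have hi := idx_lt p
    rw [cand, ((pack_spec _ (fun i => Nat.mod_lt _ (by norm_num))) 24).2 _ hi]
    rcases tab_spec (idx p) hi with ⟨e, e2, e3⟩ | ⟨e, e2⟩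
    · rw [e, if_pos (Nat.beq_refl 4), hW _ e2, e3, pt_idx, Nat.mod_eq_of_lt (by have := idx_lt (g p); omega)]
    · rw [if_neg (fun hb => by have := Nat.eq_of_beq_eq_true hb; omega), hU _ e]
      set s := tabL.getD (idx p) (4, 0)
      have hst : repsL.getD s.1 0 < 24 := by
        have : ∀ r < 4, repsL.getD r 0 < 24 := by decide
        exact this _ e
      have hp : p = (gN ^ s.2) (pt (repsL.getD s.1 0)) := by rw [(hN.pow _).apply_pt hst, e2, pt_idx]
      conv_lhs => rw [hp, ← Equiv.Perm.mul_apply, hsemi, Equiv.Perm.mul_apply, (hN.pow _) _]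
      have hlt := idx_lt ((gN ^ (2 * s.2)) (g (pt (repsL.getD s.1 0))))
      rw [(hN.pow _) _] at hlt
      rw [Nat.mod_eq_of_lt (by omega)]
  refine ⟨cand W U, hrepr, ?_⟩
  have hp : ∀ k < 4, partOK l invs k (cand W (U.take k)) = true := fun k hk =>
    partOK_of_agree hk hrepr hg fun i hi => cand_agree (fun r hr => by
      rw [List.getD_eq_getElem?_getD, List.getD_eq_getElem?_getD, List.getElem?_take, if_pos hr]) hi
  have hm := memOK_of_mem hl ho hrepr hg
  simp only [searchOK, List.all_eq_true, Bool.or_eq_true, Bool.not_eq_true', List.mem_range] at hs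
  have hf := fun j hj => hfix j hj
  rcases hs _ (hf 0 (by norm_num)) _ (hf 1 (by norm_num)) _ (hf 2 (by norm_num)) _ (hf 3 (by norm_num)) with h0 | h0
  · exact absurd ((hp 0 (by norm_num)).symm.trans h0) (by simp)
  rcases h0 _ (idx_lt (g (pt 2))) with h1 | h1
  · exact absurd ((hp 1 (by norm_num)).symm.trans h1) (by simp)
  rcases h1 _ (idx_lt (g (pt 3))) with h2 | h2
  · exact absurd ((hp 2 (by norm_num)).symm.trans h2) (by simp)
  rcases h2 _ (idx_lt (g (pt 7))) with h3 | h3
  · exact absurd ((hp 3 (by norm_num)).symm.trans h3) (by simp)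
  rcases h3 _ (idx_lt (g (pt 14))) with h4 | h4
  · exact absurd (hm.symm.trans h4) (by simp)
  · exact h4

/-- Permutations conjugating the element of order 11 to its `j`-th power, by the images of `0`, `1`, `5`. -/
def mkJ (j w u v : ℕ) : ℕ :=
  pack (fun i => (if Nat.beq i 0 then w else if Nat.beq i 23 then 23 - w else
    papp (ppow cB (j * (posL.getD i (true, 0)).2)) (if (posL.getD i (true, 0)).1 then u else v)) % 32) 24

theorem repr_mkJ {j : ℕ} (hj : j = 1 ∨ j = 3 ∨ j = 10) {g gB : Equiv.Perm GolayPt} (hB : Repr cB gB)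
    (h : g * gB = gB ^ j * g) : ∃ w < 2, Repr (mkJ j (23 * w) (idx (g (pt 1))) (idx (g (pt 5)))) g := by
  have hsemi : ∀ t : ℕ, g * gB ^ t = gB ^ (j * t) * g := fun t => by
    rw [pow_mul]; exact (SemiconjBy.pow_right (show SemiconjBy g gB (gB ^ j) from h) t)
  have hfix : ∀ i < 24, papp (ppow cB j) i = i → i = 0 ∨ i = 23 := by
    rcases hj with rfl | rfl | rfl <;> decide +kernel
  have hfx : ∀ i, i = 0 ∨ i = 23 → idx (g (pt i)) = 0 ∨ idx (g (pt i)) = 23 := by
    intro i hi
    refine hfix _ (idx_lt _) ?_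
    have hbi : gB (pt i) = pt i := by
      rcases hi with rfl | rfl <;> rw [hB.apply_pt (by norm_num)] <;> congr 1
    rw [← (hB.pow j) (g (pt i)), ← Equiv.Perm.mul_apply, ← h, Equiv.Perm.mul_apply, hbi]
  have hne : idx (g (pt 0)) ≠ idx (g (pt 23)) := fun e => absurd (g.injective (idx_injective e)) (by decide)
  obtain ⟨w, hw, h0, h23⟩ : ∃ w < 2, idx (g (pt 0)) = 23 * w ∧ idx (g (pt 23)) = 23 - 23 * w := by
    rcases hfx 0 (Or.inl rfl) with e0 | e0 <;> rcases hfx 23 (Or.inr rfl) with e23 | e23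
    · omega
    · exact ⟨0, by omega⟩
    · exact ⟨1, by omega⟩
    · omega
  refine ⟨w, hw, fun p => ?_⟩
  have hi := idx_lt p
  rw [mkJ, ((pack_spec _ (fun i => Nat.mod_lt _ (by norm_num))) 24).2 _ hi]
  by_cases h0' : idx p = 0 ∨ idx p = 23
  · rcases h0' with e | e
    · rw [show p = pt 0 by rw [← pt_idx p, e], idx_pt (by norm_num : (0 : ℕ) < 24), h0,
        if_pos (Nat.beq_refl 0), Nat.mod_eq_of_lt (by omega)]
    · rw [show p = pt 23 by rw [← pt_idx p, e], idx_pt (by norm_num : (23 : ℕ) < 24), h23, if_neg (by simp),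
        if_pos (Nat.beq_refl 23), Nat.mod_eq_of_lt (by omega)]
  · push Not at h0'
    have e := ((posL_spec (idx p) hi).resolve_left h0'.1).resolve_left h0'.2
    rw [if_neg (by simpa using h0'.1), if_neg (by simpa using h0'.2)]
    set s := posL.getD (idx p) (true, 0) with hs
    have hst : (if s.1 then 1 else 5 : ℕ) < 24 := by split <;> norm_num
    have hp : p = (gB ^ s.2) (pt (if s.1 then 1 else 5)) := by rw [(hB.pow _).apply_pt hst, e, pt_idx]
    conv_lhs => rw [hp, ← Equiv.Perm.mul_apply, hsemi, Equiv.Perm.mul_apply, (hB.pow _) _]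
    have hlt := idx_lt ((gB ^ (j * s.2)) (g (pt (if s.1 then 1 else 5))))
    rw [(hB.pow _) _] at hlt
    have e2 : (if s.1 then idx (g (pt 1)) else idx (g (pt 5))) = idx (g (pt (if s.1 then 1 else 5))) := by
      split <;> rfl
    rw [e2, Nat.mod_eq_of_lt (by omega)]

/-- The element of order five is the only twist by three, and there is none by ten. -/
def twistOK (l invs : List ℕ) : Bool :=
  [0, 23].all fun w => (List.range 24).all fun u => (List.range 24).all fun v =>
    (!memOK l invs (mkJ 3 w u v) || (List.range 11).any fun i => eqCode (mkJ 3 w u v) (pcomp (ppow cB i) cN)) &&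
    !memOK l invs (mkJ 10 w u v)

/-- Everything checked for one group. -/
def allOK (l invs : List ℕ) (outer : Bool) (gens : List (ℕ × ℕ × List (ℕ × ℕ))) : Bool :=
  (l.all fun x => Nat.blt x 24) && (invs.all fun o => Nat.blt o (2 ^ 24)) &&
  memOK l invs cB && memOK l invs cN &&
  eqCode (pcomp cN cB) (pcomp (ppow cB 3) cN) && eqCode (ppow cB 11) pid && !eqCode cB pid &&
  twistOK l invs && !gens.isEmpty &&
  gens.all fun d => (memOK l invs d.1 && eqCode (pcomp d.1 cN) (pcomp (ppow cN 2) d.1) &&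
    relOK 1 d.2.2 d.1 && searchOK l invs outer d) &&
    ((List.range 24).all (fun i => Nat.blt (papp d.1 i) 24) && decide ((List.range 24).map (papp d.1)).Nodup)

theorem exists_exp : ∀ k < 11, k ≠ 0 → ∃ i < 5, 3 ^ i * k % 11 = 1 ∨ 3 ^ i * k % 11 = 10 := by decide +kernel

theorem exists_inv : ∀ k < 11, k ≠ 0 → ∃ j < 11, k * j % 11 = 1 := by decide +kernel

/-- Two noninner automorphisms differ by an inner one, and there is none unless `outer`. -/
theorem aut_classes {l invs : List ℕ} {outer : Bool} {gens : List (ℕ × ℕ × List (ℕ × ℕ))}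
    (hok : allOK l invs outer gens = true) (hcard : (Nat.card (subG l invs)).factorization 11 = 1)
    (hgen : ∀ H : Subgroup (Equiv.Perm GolayPt), H ≤ subG l invs →
      (∀ c ∈ cB :: gens.map Prod.fst, ∀ g, Repr c g → g ∈ H) → H = subG l invs) :
    ∀ θ θ' : MulAut (subG l invs), θ ∈ (MulAut.conj : subG l invs →* MulAut (subG l invs)).range ∨
      (outer = true ∧ (θ' ∈ (MulAut.conj : subG l invs →* MulAut (subG l invs)).range ∨
        θ'⁻¹ * θ ∈ (MulAut.conj : subG l invs →* MulAut (subG l invs)).range)) := by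
  classical
  set G := subG l invs with hG
  simp only [allOK, Bool.and_eq_true, List.all_eq_true, Nat.blt_eq, Bool.not_eq_true'] at hok
  obtain ⟨⟨⟨⟨⟨⟨⟨⟨⟨hl, ho⟩, hkB⟩, hkN⟩, hNB⟩, hB11⟩, hB1⟩, htw⟩, hne⟩, hgens⟩ := hok
  obtain ⟨hb, hdB, hdN⟩ := bij_checked
  simp only [List.all_eq_true, List.mem_range, Bool.and_eq_true, Nat.blt_eq] at hb
  obtain ⟨gB, hB⟩ := exists_perm (fun i hi => (hb i hi).1) hdB
  obtain ⟨gN, hN⟩ := exists_perm (fun i hi => (hb i hi).2) hdN
  let A : G := ⟨gB, mem_of_memOK hB hkB⟩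
  let B : G := ⟨gN, mem_of_memOK hN hkN⟩
  have hA11 : A ^ 11 = 1 := Subtype.ext ((eqCode_iff (hB.pow 11) repr_pid).mp hB11)
  have hA1 : A ≠ 1 := fun e => by
    have := (eqCode_iff hB repr_pid).mpr (congrArg Subtype.val e)
    rw [this] at hB1; exact absurd hB1 (by simp)
  haveI : Fact (Nat.Prime 11) := ⟨by norm_num⟩
  have hAord : orderOf A = 11 := orderOf_eq_prime hA11 hA1
  have hBA : B * A = A ^ 3 * B := Subtype.ext ((eqCode_iff (hN.comp hB) ((hB.pow 3).comp hN)).mp hNB)
  have hsyl : ∀ x : G, orderOf x = 11 → ∃ P : Sylow 11 G, (P : Subgroup G) = Subgroup.zpowers x :=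
    fun x hx => ⟨Sylow.ofCard (Subgroup.zpowers x) (by rw [Nat.card_zpowers, hx, hcard, pow_one]), by rfl⟩
  -- normalisation
  have norm : ∀ θ : MulAut G, ∃ g : G, ∃ k, (k = 1 ∨ k = 10) ∧ (MulAut.conj g * θ) A = A ^ k ∧
      (MulAut.conj g * θ) B = B := by
    intro θ
    obtain ⟨P, hP⟩ := hsyl A hAord
    obtain ⟨Q, hQ⟩ := hsyl (θ A) (by rw [MulEquiv.orderOf_eq, hAord])
    obtain ⟨g, hg⟩ := MulAction.exists_smul_eq G Q P
    have hmem : g * θ A * g⁻¹ ∈ Subgroup.zpowers A := by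
      rw [← hP, ← hg, Sylow.coe_subgroup_smul, hQ]
      exact ⟨θ A, Subgroup.mem_zpowers _, rfl⟩
    obtain ⟨k₀, hk₀, hAk⟩ : ∃ k < 11, A ^ k = g * θ A * g⁻¹ := by
      obtain ⟨n, hn⟩ := ((isOfFinOrder_of_finite A).mem_powers_iff_mem_zpowers).mpr hmem
      exact ⟨n % 11, Nat.mod_lt _ (by norm_num), by rw [← hn, ← hAord, pow_mod_orderOf]⟩
    have hk0 : k₀ ≠ 0 := by
      rintro rfl
      rw [pow_zero] at hAk
      exact hA1 (θ.injective (by rw [map_one]; exact (conj_eq_one_iff.mp hAk.symm)))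
    let θ₁ : MulAut G := MulAut.conj g * θ
    have h1A : θ₁ A = A ^ k₀ := hAk.symm
    obtain ⟨j, -, hj⟩ := exists_inv k₀ hk₀ hk0
    have hAkj : (A ^ k₀) ^ j = A := by rw [← pow_mul, ← pow_mod_orderOf, hAord, hj, pow_one]
    let X := θ₁ B
    have hXA : X * A = A ^ 3 * X := by
      have h := congrArg θ₁ hBA
      rw [map_mul, map_mul, map_pow, h1A] at h
      have h' := (show SemiconjBy X (A ^ k₀) ((A ^ k₀) ^ 3) from h).pow_right j
      rw [hAkj, ← pow_mul (A ^ k₀) 3 j, Nat.mul_comm 3 j, pow_mul, hAkj] at h'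
      exact h'
    obtain ⟨w, hw, hXr⟩ := repr_mkJ (Or.inr (Or.inl rfl)) hB (congrArg Subtype.val hXA)
    obtain ⟨c, hc⟩ : ∃ c, X = A ^ c * B := by
      have h := htw
      simp only [twistOK, List.all_eq_true, Bool.and_eq_true, Bool.or_eq_true, Bool.not_eq_true',
        List.any_eq_true, List.mem_range] at h
      rcases (h (23 * w) (by interval_cases w <;> simp) _ (idx_lt _) _ (idx_lt _)).1 with h1 | ⟨c, -, h1⟩
      · exact absurd ((memOK_of_mem hl ho hXr X.2).symm.trans h1) (by simp)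
      · exact ⟨c, Subtype.ext ((eqCode_iff hXr ((hB.pow c).comp hN)).mp h1)⟩
    -- conjugate by a power of A
    let e := 6 * c
    have h2A : (MulAut.conj (A ^ e) * θ₁) A = A ^ k₀ := by
      show A ^ e * θ₁ A * (A ^ e)⁻¹ = A ^ k₀
      rw [h1A, mul_inv_eq_iff_eq_mul, ← pow_add, ← pow_add, add_comm]
    have h2B : (MulAut.conj (A ^ e) * θ₁) B = B := by
      show A ^ e * X * (A ^ e)⁻¹ = B
      have h := (show SemiconjBy B A (A ^ 3) from hBA).pow_right e
      rw [hc, mul_inv_eq_iff_eq_mul, h.eq, ← pow_mul, ← mul_assoc, ← pow_add]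
      refine congrArg (· * B) (pow_eq_pow_iff_modEq.mpr ?_)
      rw [hAord]
      show (6 * c + c) % 11 = 3 * (6 * c) % 11
      omega
    obtain ⟨i, -, hi⟩ := exists_exp k₀ hk₀ hk0
    refine ⟨B ^ i * A ^ e * g, 3 ^ i * k₀ % 11, hi, ?_, ?_⟩
    · rw [map_mul, map_mul, mul_assoc, mul_assoc, MulAut.mul_apply, h2A]
      show B ^ i * A ^ k₀ * (B ^ i)⁻¹ = _
      rw [mul_inv_eq_iff_eq_mul]
      have hsc : ∀ n : ℕ, SemiconjBy (B ^ n) A (A ^ 3 ^ n) := by
        intro n
        induction n with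
        | zero => simp
        | succ n ih =>
          rw [pow_succ', pow_succ' 3 n, pow_mul]
          exact SemiconjBy.mul_left ((show SemiconjBy B A (A ^ 3) from hBA).pow_right _) ih
      rw [((hsc i).pow_right k₀).eq, ← pow_mul, ← hAord, pow_mod_orderOf]
    · rw [map_mul, map_mul, mul_assoc, mul_assoc, MulAut.mul_apply, h2B]
      show B ^ i * B * (B ^ i)⁻¹ = B
      rw [mul_inv_eq_iff_eq_mul, (Commute.self_pow B i).eq]
  -- the images of the other generators
  have hD : ∀ d ∈ gens, ∀ g, Repr d.1 g → ∀ ψ : MulAut G, ψ B = B → ∀ k, (k = 1 ∨ k = 10) → ψ A = A ^ k →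
      ∀ hgG : g ∈ G, (k = 1 ∧ ψ ⟨g, hgG⟩ = ⟨g, hgG⟩) ∨
        (k = 10 ∧ outer = true ∧ Repr d.2.1 (ψ ⟨g, hgG⟩ : Equiv.Perm GolayPt)) := by
    intro d hd g hg ψ hψB k hk hψA hgG
    obtain ⟨⟨⟨⟨-, hdN'⟩, hrel⟩, hs⟩, -⟩ := hgens d hd
    let D : G := ⟨g, hgG⟩
    have hDB : D * B = B ^ 2 * D := Subtype.ext ((eqCode_iff (hg.comp hN) ((hN.pow 2).comp hg)).mp hdN')
    have hZB : ψ D * B = B ^ 2 * ψ D := by
      have h := congrArg ψ hDB
      rwa [map_mul, map_mul, map_pow, hψB] at h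
    obtain ⟨c, hcr, hgood⟩ := good_of_searchOK hl ho hs hN (ψ D).2 (congrArg Subtype.val hZB)
    have hk' : relOK k d.2.2 c = true := by
      simp only [relOK, List.all_eq_true] at hrel ⊢
      intro p hp
      have e := (eqCode_iff (((hB.pow _).comp hg).pow p.2) repr_pid).mp (hrel p hp)
      rw [eqCode_iff (((hB.pow _).comp hcr).pow p.2) repr_pid]
      have e1 : (A ^ (1 * p.1 % 11) * D) ^ p.2 = 1 := Subtype.ext e
      have e2 := congrArg ψ e1
      rw [map_pow, map_mul, map_pow, hψA, map_one, ← pow_mul] at e2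
      have e3 : A ^ (k * p.1 % 11) = A ^ (k * (1 * p.1 % 11)) := by
        rw [one_mul, ← pow_mod_orderOf A (k * (p.1 % 11)), hAord, Nat.mul_mod_mod]
      rw [← e3] at e2
      exact congrArg Subtype.val e2
    simp only [good, Bool.and_eq_true, Bool.or_eq_true, Bool.not_eq_true'] at hgood
    rcases hk with rfl | rfl
    · refine Or.inl ⟨rfl, ?_⟩
      rcases hgood.1 with h | h
      · exact absurd (hk'.symm.trans h) (by simp)
      · exact Subtype.ext ((eqCode_iff hcr hg).mp h)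
    · refine Or.inr ⟨rfl, ?_⟩
      rcases hgood.2 with h | ⟨h1, h2⟩
      · exact absurd (hk'.symm.trans h) (by simp)
      · refine ⟨h1, fun p => ?_⟩
        simp only [eqCode, List.all_eq_true, List.mem_range] at h2
        rw [hcr p, Nat.eq_of_beq_eq_true (h2 _ (idx_lt p))]
  have hext : ∀ ψ χ : MulAut G, ψ A = χ A → (∀ d ∈ gens, ∀ g, Repr d.1 g → ∀ hgG : g ∈ G,
      ψ ⟨g, hgG⟩ = χ ⟨g, hgG⟩) → ψ = χ := by
    intro ψ χ hA hD
    let E : Subgroup G := ψ.toMonoidHom.eqLocus χ.toMonoidHom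
    have hE := hgen (E.map G.subtype) (Subgroup.map_subtype_le _) (by
      intro c hc g hg
      rcases List.mem_cons.mp hc with rfl | hc
      · exact ⟨A, hA, hB.unique hg⟩
      · obtain ⟨d, hd, rfl⟩ := List.mem_map.mp hc
        have hgG : g ∈ G := mem_of_memOK hg (hgens d hd).1.1.1.1
        exact ⟨⟨g, hgG⟩, hD d hd g hg hgG, rfl⟩)
    refine MulEquiv.ext fun x => ?_
    obtain ⟨y, hy, hyx⟩ := hE.ge x.2
    rw [← Subtype.ext hyx]; exact hy
  have hinner : ∀ θ : MulAut G, ∀ g : G, (MulAut.conj g * θ) A = A ^ 1 → (MulAut.conj g * θ) B = B →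
      θ ∈ (MulAut.conj : G →* MulAut G).range := by
    intro θ g hA hB'
    have h : MulAut.conj g * θ = 1 := hext _ _ (by rw [hA, pow_one]; rfl) fun d hd x hx hxG => by
      rcases hD d hd x hx _ hB' 1 (Or.inl rfl) hA hxG with ⟨-, h⟩ | ⟨h, -⟩
      · exact h
      · exact absurd h (by norm_num)
    exact ⟨g⁻¹, by rw [map_inv]; exact (eq_inv_of_mul_eq_one_right h).symm⟩
  intro θ θ'
  obtain ⟨g, k, hk, hA, hB'⟩ := norm θ
  rcases hk with rfl | rfl
  · exact Or.inl (hinner θ g hA hB')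
  right
  obtain ⟨d₀, hd₀⟩ : ∃ d, d ∈ gens := List.exists_mem_of_ne_nil _ (by
    intro e; rw [e] at hne; simp at hne)
  obtain ⟨x₀, hx₀⟩ := exists_perm (fun i hi => ((hgens d₀ hd₀).2.1 i (List.mem_range.mpr hi)))
    (of_decide_eq_true (hgens d₀ hd₀).2.2)
  obtain ⟨-, ho', -⟩ := (hD d₀ hd₀ x₀ hx₀ _ hB' 10 (Or.inr rfl) hA
    (mem_of_memOK hx₀ (hgens d₀ hd₀).1.1.1.1)).resolve_left (fun h => absurd h.1 (by norm_num))
  refine ⟨ho', ?_⟩
  obtain ⟨g', k', hk', hA', hB''⟩ := norm θ'
  rcases hk' with rfl | rfl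
  · exact Or.inl (hinner θ' g' hA' hB'')
  right
  have heq : MulAut.conj g * θ = MulAut.conj g' * θ' := hext _ _ (hA.trans hA'.symm) fun d hd x hx hxG => by
    rcases hD d hd x hx _ hB' 10 (Or.inr rfl) hA hxG with ⟨h, -⟩ | ⟨-, -, h⟩
    · exact absurd h (by norm_num)
    rcases hD d hd x hx _ hB'' 10 (Or.inr rfl) hA' hxG with ⟨h', -⟩ | ⟨-, -, h'⟩
    · exact absurd h' (by norm_num)
    exact Subtype.ext (h.unique h')
  refine ⟨θ'⁻¹ (g⁻¹ * g'), ?_⟩
  have h1 : θ = MulAut.conj (g⁻¹ * g') * θ' := by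
    rw [map_mul, map_inv, mul_assoc, ← heq, inv_mul_cancel_left]
  refine MulEquiv.ext fun y => ?_
  rw [h1]
  show θ'⁻¹ (g⁻¹ * g') * y * (θ'⁻¹ (g⁻¹ * g'))⁻¹ = θ'⁻¹ ((g⁻¹ * g') * θ' y * (g⁻¹ * g')⁻¹)
  generalize g⁻¹ * g' = h
  rw [map_mul, map_mul, map_inv, MulAut.inv_apply_self]

end CfsgGolay.OutSmall
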