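/-
Finite checks for the automorphisms of M11, M12 and M22.
-/
import Cfsg.Agent.Lib.Golay.OutSmall
import Cfsg.Agent.Lib.Golay.OutM11Data
import Cfsg.Agent.Lib.Golay.OutM12Data
import Cfsg.Agent.Lib.Golay.OutM22Data

set_option autoImplicit false

namespace CfsgGolay.OutSmall

open Cfsg SubData
open Out23 (cB cN)

attribute [local irreducible] codeL octadL dodecadL

theorem ok22 : allOK [0, 23] [] true OutM22.gens = true := by decide +kernel

theorem ok12 : allOK [] [340831] true OutM12.gens = true := by decide +kernel

theorem ok11 : allOK [0] [340831] false OutM11.gens = true := by decide +kernel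

theorem chain22 : slpOK (cB :: OutM22.gens.map Prod.fst) OutM22.prog = true ∧
    chainOK ((cB :: OutM22.gens.map Prod.fst) ++ OutM22.prog.map Prod.fst) [8388608, 1] [] OutM22.levels
      [6, 7, 8, 9, 10, 11, 12, 13, 14, 15, 16, 17, 18, 19, 20, 21, 22] = true ∧
    (OutM22.levels.map fun p => p.2.length).prod = 443520 ∧
    toMask {(none : GolayPt)} = 8388608 ∧ toMask {pt 0} = 1 := by
  decide +kernel

theorem chain12 : slpOK (cB :: OutM12.gens.map Prod.fst) OutM12.prog = true ∧
    levelsOK ((cB :: OutM12.gens.map Prod.fst) ++ OutM12.prog.map Prod.fst) [340831] [] OutM12.levels = true ∧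
    (OutM12.levels.map fun p => p.2.length).prod = 95040 ∧ endList [] OutM12.levels = [4, 3, 2, 1, 0] := by
  decide +kernel

theorem chain11 : slpOK (cB :: OutM11.gens.map Prod.fst) OutM11.prog = true ∧
    levelsOK ((cB :: OutM11.gens.map Prod.fst) ++ OutM11.prog.map Prod.fst) [340831, 1] [] OutM11.levels = true ∧
    (OutM11.levels.map fun p => p.2.length).prod = 7920 ∧ endList [] OutM11.levels = [4, 3, 2, 1, 0] ∧
    toMask {pt 0} = 1 := by
  decide +kernel

/-- No element of the code's group commutes with the element of order 11 and sends `0` to `23`. -/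
theorem no_swap : ((List.range 24).all fun u => (List.range 24).all fun v =>
    !gensKept (mkJ 1 23 u v)) = true := by
  decide +kernel

theorem swap_checked : papp cI 0 = 23 ∧ papp cI 23 = 0 ∧
    pmask cI 340831 = 2 ^ 24 - 1 - 340831 ∧ pmask cI (2 ^ 24 - 1 - 340831) = 340831 ∧
    (340831 : ℕ).testBit 0 = true ∧ (340831 : ℕ).testBit 23 = false ∧
    (∀ i < 24, papp cB i = i → i = 0 ∨ i = 23) := by
  decide +kernel

end CfsgGolay.OutSmall
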