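/-
The outer automorphism groups of M11, M12 and M22.
-/
import Cfsg.Agent.Lib.Golay.OutSmallChecks
import Cfsg.Prelude.Def_KGroupFacts

set_option autoImplicit false

namespace CfsgGolay.OutSmall

open Cfsg SubData
open Out23 (eqCode eqCode_iff exists_perm bij_checked cB cN)

attribute [local irreducible] codeL octadL dodecadL

theorem cs_mem {l invs : List ℕ} {outer : Bool} {gens : List (ℕ × ℕ × List (ℕ × ℕ))}
    (hok : allOK l invs outer gens = true) {H : Subgroup (Equiv.Perm GolayPt)}
    (h : ∀ c ∈ cB :: gens.map Prod.fst, ∀ g, Repr c g → g ∈ H) :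
    ∀ c ∈ cB :: gens.map Prod.fst, ∃ g ∈ H, Repr c g := by
  intro c hc
  simp only [allOK, Bool.and_eq_true, List.all_eq_true, Nat.blt_eq] at hok
  obtain ⟨-, hgens⟩ := hok
  obtain ⟨hb, hdB, -⟩ := bij_checked
  simp only [List.all_eq_true, List.mem_range, Bool.and_eq_true, Nat.blt_eq] at hb
  rcases List.mem_cons.mp hc with rfl | hc
  · obtain ⟨g, hg⟩ := exists_perm (fun i hi => (hb i hi).1) hdB
    exact ⟨g, h _ List.mem_cons_self g hg, hg⟩
  · obtain ⟨d, hd, rfl⟩ := List.mem_map.mp hc
    obtain ⟨g, hg⟩ := exists_perm (fun i hi => ((hgens d hd).2.1 i (List.mem_range.mpr hi)))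
      (of_decide_eq_true (hgens d hd).2.2)
    exact ⟨g, h _ (List.mem_cons_of_mem _ (List.mem_map_of_mem hd)) g hg, hg⟩

theorem image_point {H : Subgroup (Equiv.Perm GolayPt)} {l invs : List ℕ} (hle : H ≤ subG l invs) {x : ℕ}
    (hx : x ∈ l) (hx24 : x < 24) {g : Equiv.Perm GolayPt} (hg : g ∈ H) :
    (toSet (toMask {pt x})).image g = toSet (toMask {pt x}) := by
  rw [toSet_toMask, Finset.image_singleton, mem_fixL.mp (mem_subG.mp (hle hg)).2.1 (pt x) (by rwa [idx_pt hx24])]

theorem gen22 (H : Subgroup (Equiv.Perm GolayPt)) (hle : H ≤ subG [0, 23] [])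
    (h : ∀ c ∈ cB :: OutM22.gens.map Prod.fst, ∀ g, Repr c g → g ∈ H) : H = subG [0, 23] [] := by
  obtain ⟨hs, hc, hl, h1, h0⟩ := chain22
  have hcard := chain_card (H := H) (fun g hg => (mem_subG.mp (hle hg)).1)
    (slp_sound _ _ _ hs (cs_mem ok22 h))
    (fun g hg o ho => by
      simp only [List.mem_cons, List.not_mem_nil, or_false] at ho
      rcases ho with rfl | rfl
      · rw [← h1]; exact image_point hle (x := 23) (by simp) (by norm_num) hg
      · rw [← h0]; exact image_point hle (x := 0) (by simp) (by norm_num) hg) _ [] hc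
  refine Subgroup.eq_of_le_of_card_ge hle ?_
  rw [fixL_nil, inf_top_eq, hl] at hcard
  rw [← M22_eq, card_sporM22, hcard]

theorem bottom {H : Subgroup (Equiv.Perm GolayPt)} {l : List ℕ} (hle : H ≤ subG l [340831]) :
    Nat.card ↥(H ⊓ fixL [4, 3, 2, 1, 0]) = 1 := by
  rw [Subgroup.card_eq_one, eq_bot_iff, ← dod_end_bot]
  exact fun g hg => mem_subG.mpr ⟨(mem_subG.mp (hle hg.1)).1, hg.2, (mem_subG.mp (hle hg.1)).2.2⟩

theorem gen12 (H : Subgroup (Equiv.Perm GolayPt)) (hle : H ≤ subG [] [340831])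
    (h : ∀ c ∈ cB :: OutM12.gens.map Prod.fst, ∀ g, Repr c g → g ∈ H) : H = subG [] [340831] := by
  obtain ⟨hs, hc, hl, he⟩ := chain12
  have hcard := levels_card (H := H) (fun g hg => (mem_subG.mp (hle hg)).1)
    (slp_sound _ _ _ hs (cs_mem ok12 h)) (fun g hg => (mem_subG.mp (hle hg)).2.2) _ [] hc
  refine Subgroup.eq_of_le_of_card_ge hle ?_
  rw [fixL_nil, inf_top_eq, hl, he, bottom hle, mul_one] at hcard
  rw [card_M12, hcard]

theorem gen11 (H : Subgroup (Equiv.Perm GolayPt)) (hle : H ≤ subG [0] [340831])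
    (h : ∀ c ∈ cB :: OutM11.gens.map Prod.fst, ∀ g, Repr c g → g ∈ H) : H = subG [0] [340831] := by
  obtain ⟨hs, hc, hl, he, h0⟩ := chain11
  have hcard := levels_card (H := H) (fun g hg => (mem_subG.mp (hle hg)).1)
    (slp_sound _ _ _ hs (cs_mem ok11 h))
    (fun g hg o ho => by
      simp only [List.mem_cons, List.not_mem_nil, or_false] at ho
      rcases ho with rfl | rfl
      · exact (mem_subG.mp (hle hg)).2.2 _ (by simp)
      · rw [← h0]; exact image_point hle (x := 0) (by simp) (by norm_num) hg) _ [] hc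
  refine Subgroup.eq_of_le_of_card_ge hle ?_
  rw [fixL_nil, inf_top_eq, hl, he, bottom hle, mul_one] at hcard
  rw [card_M11, hcard]

theorem eq_univ_diff {g : Equiv.Perm GolayPt} {o o' : ℕ} (ho : (toSet o).image g = toSet o)
    (h : toSet o' = Finset.univ \ toSet o) : (toSet o').image g = toSet o' := by
  rw [h, Finset.image_sdiff _ _ g.injective, ho, Finset.image_univ_equiv]

theorem index_two {l invs : List ℕ} {gens : List (ℕ × ℕ × List (ℕ × ℕ))}
    (hok : allOK l invs true gens = true) (hcard : (Nat.card (subG l invs)).factorization 11 = 1)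
    (hgen : ∀ H : Subgroup (Equiv.Perm GolayPt), H ≤ subG l invs →
      (∀ c ∈ cB :: gens.map Prod.fst, ∀ g, Repr c g → g ∈ H) → H = subG l invs)
    (hnorm : ∀ g ∈ subG l invs, projInv * g * projInv⁻¹ ∈ subG l invs)
    (hno : ∀ x ∈ subG l invs, x (pt 0) ≠ pt 23) :
    (Inn (subG l invs)).index = 2 := by
  classical
  set G := subG l invs
  have hI2 : projInv * projInv = 1 := by
    refine Equiv.ext fun p => idx_injective ?_
    rw [(repr_I.comp repr_I) p, Equiv.Perm.one_apply]
    have : ∀ i < 24, papp (pcomp cI cI) i = i := by decide +kernel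
    exact this _ (idx_lt p)
  have hinv : projInv⁻¹ = projInv := inv_eq_of_mul_eq_one_left hI2
  let τ : MulAut G :=
    { toFun := fun g => ⟨projInv * g * projInv⁻¹, hnorm g g.2⟩
      invFun := fun g => ⟨projInv * g * projInv⁻¹, hnorm g g.2⟩
      left_inv := fun g => Subtype.ext (by
        show projInv * (projInv * (g : Equiv.Perm GolayPt) * projInv⁻¹) * projInv⁻¹ = _
        rw [hinv, ← mul_assoc, ← mul_assoc, hI2, one_mul, mul_assoc, hI2, mul_one])
      right_inv := fun g => Subtype.ext (by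
        show projInv * (projInv * (g : Equiv.Perm GolayPt) * projInv⁻¹) * projInv⁻¹ = _
        rw [hinv, ← mul_assoc, ← mul_assoc, hI2, one_mul, mul_assoc, hI2, mul_one])
      map_mul' := fun g h => Subtype.ext (by
        show projInv * ((g : Equiv.Perm GolayPt) * h) * projInv⁻¹ =
          projInv * g * projInv⁻¹ * (projInv * h * projInv⁻¹)
        group) }
  have hτ : τ ∉ Inn G := by
    rintro ⟨x, hx⟩
    have hok' := hok
    simp only [allOK, Bool.and_eq_true] at hok'
    obtain ⟨⟨⟨⟨⟨⟨⟨⟨⟨-, -⟩, hkB⟩, -⟩, -⟩, -⟩, -⟩, -⟩, -⟩, -⟩ := hok'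
    obtain ⟨hb, hdB, -⟩ := bij_checked
    simp only [List.all_eq_true, List.mem_range, Bool.and_eq_true, Nat.blt_eq] at hb
    obtain ⟨gB, hB⟩ := exists_perm (fun i hi => (hb i hi).1) hdB
    have h := congrArg (fun φ : MulAut G => (φ ⟨gB, mem_of_memOK hB hkB⟩ : Equiv.Perm GolayPt)) hx
    simp only [MulAut.conj_apply, Subgroup.coe_mul, Subgroup.coe_inv] at h
    change (x : Equiv.Perm GolayPt) * gB * (x : Equiv.Perm GolayPt)⁻¹ = projInv * gB * projInv⁻¹ at h
    set u := projInv⁻¹ * (x : Equiv.Perm GolayPt) with hu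
    have hcomm : u * gB = gB ^ 1 * u := by
      rw [pow_one, hu, mul_assoc, mul_inv_eq_iff_eq_mul.mp h]
      group
    obtain ⟨w, hw, hr⟩ := repr_mkJ (Or.inl rfl) hB hcomm
    have hu24 : u ∈ M24 := mul_mem (inv_mem (mem_M24_of_gensKept repr_I gensKept_all.2.1)) (mem_subG.mp x.2).1
    have h0 : u (pt 0) = pt 23 := by
      have hfix : gB (u (pt 0)) = u (pt 0) := by
        have e := congrArg (fun φ : Equiv.Perm GolayPt => φ (pt 0)) hcomm
        simp only [pow_one, Equiv.Perm.mul_apply] at e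
        rw [← e]; congr 1
        rw [hB.apply_pt (by norm_num)]
        congr 1
      have e := congrArg idx hfix
      rw [hB] at e
      rcases swap_checked.2.2.2.2.2.2 _ (idx_lt _) e with h | h
      · exfalso
        refine hno x x.2 ?_
        have : (x : Equiv.Perm GolayPt) = projInv * u := by rw [hu, mul_inv_cancel_left]
        rw [this, Equiv.Perm.mul_apply, ← pt_idx (u (pt 0)), h, repr_I.apply_pt (by norm_num), swap_checked.1]
      · rw [← pt_idx (u (pt 0)), h]
    have hw1 : 23 * w = 23 := by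
      have e := hr (pt 0)
      rw [h0, idx_pt (by norm_num), idx_pt (by norm_num)] at e
      interval_cases w
      · exfalso
        rw [mkJ, ((pack_spec _ (fun i => Nat.mod_lt _ (by norm_num))) 24).2 _ (by norm_num)] at e
        simp at e
      · rfl
    have h2 := gensKept_of_mem hr hu24
    have h3 := no_swap
    simp only [List.all_eq_true, List.mem_range, Bool.not_eq_true'] at h3
    rw [hw1, h3 _ (idx_lt _) _ (idx_lt _)] at h2
    exact Bool.noConfusion h2
  rw [Subgroup.index_eq_two_iff]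
  refine ⟨τ, fun b => ?_⟩
  have key := fun θ θ' => aut_classes hok hcard hgen θ θ'
  have hnorm' : (Inn G).Normal := inferInstance
  by_cases hb' : b ∈ Inn G
  · exact Or.inr ⟨hb', fun h => hτ ((Subgroup.mul_mem_cancel_left _ hb').mp h)⟩
  · refine Or.inl ⟨?_, hb'⟩
    obtain ⟨-, h1⟩ := (key b τ⁻¹).resolve_left hb'
    rcases h1 with h1 | h1
    · exact absurd ((inv_mem_iff (H := Inn G)).mp h1) hτ
    · rw [inv_inv] at h1
      exact hnorm'.mem_comm h1

theorem inn_top {l invs : List ℕ} {gens : List (ℕ × ℕ × List (ℕ × ℕ))}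
    (hok : allOK l invs false gens = true) (hcard : (Nat.card (subG l invs)).factorization 11 = 1)
    (hgen : ∀ H : Subgroup (Equiv.Perm GolayPt), H ≤ subG l invs →
      (∀ c ∈ cB :: gens.map Prod.fst, ∀ g, Repr c g → g ∈ H) → H = subG l invs) :
    (Inn (subG l invs)).index = 1 := by
  rw [Subgroup.index_eq_one, Subgroup.eq_top_iff']
  intro θ
  rcases aut_classes hok hcard hgen θ θ with h | ⟨h, -⟩
  · exact h
  · exact Bool.noConfusion h

theorem factor_11 {n m : ℕ} (h : n = 11 * m) (hm : ¬ 11 ∣ m) : n.factorization 11 = 1 := by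
  have hm0 : m ≠ 0 := by rintro rfl; exact hm (dvd_zero _)
  subst h
  rw [Nat.factorization_mul (by norm_num) hm0, Finsupp.add_apply,
    Nat.Prime.factorization_self (by norm_num), Nat.factorization_eq_zero_of_not_dvd hm]

theorem out_M11 : Nat.card (Out ↥Spor.M11) = 1 := by
  show (Inn ↥Spor.M11).index = 1
  rw [M11_eq]
  exact inn_top ok11 (factor_11 (m := 720) (by rw [card_M11]) (by norm_num)) gen11

theorem out_M22 : Nat.card (Out ↥Spor.M22) = 2 := by
  show (Inn ↥Spor.M22).index = 2
  rw [M22_eq]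
  refine index_two ok22 (factor_11 (m := 40320) (by rw [← M22_eq, card_sporM22]) (by norm_num)) gen22 ?_ ?_
  · intro g hg
    obtain ⟨h1, h2, -⟩ := mem_subG.mp hg
    have hI := mem_M24_of_gensKept repr_I gensKept_all.2.1
    refine mem_subG.mpr ⟨mul_mem (mul_mem hI h1) (inv_mem hI), mem_fixL.mpr fun p hp => ?_, by simp⟩
    have hp' : idx p = 0 ∨ idx p = 23 := by simpa using hp
    have hq : projInv⁻¹ p = projInv p := by
      rw [Equiv.Perm.inv_eq_iff_eq]
      refine idx_injective ?_
      rw [(repr_I _), repr_I]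
      rcases hp' with e | e <;> rw [e] <;> simp [swap_checked.1, swap_checked.2.1]
    show projInv (g (projInv⁻¹ p)) = p
    rw [hq, mem_fixL.mp h2 (projInv p) ?_, ← hq, Equiv.Perm.coe_inv, Equiv.apply_symm_apply]
    rw [repr_I]
    rcases hp' with e | e <;> rw [e] <;> simp [swap_checked.1, swap_checked.2.1]
  · intro x hx e
    have := mem_fixL.mp (mem_subG.mp hx).2.1 (pt 0) (by rw [idx_pt (by norm_num)]; simp)
    rw [this] at e
    exact absurd e (by decide)

theorem out_M12 : Nat.card (Out ↥Spor.M12) = 2 := by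
  show (Inn ↥Spor.M12).index = 2
  rw [M12_eq]
  refine index_two ok12 (factor_11 (m := 8640) (by rw [card_M12]) (by norm_num)) gen12 ?_ ?_
  · intro g hg
    obtain ⟨h1, -, h3⟩ := mem_subG.mp hg
    have hI := mem_M24_of_gensKept repr_I gensKept_all.2.1
    refine mem_subG.mpr ⟨mul_mem (mul_mem hI h1) (inv_mem hI), by simp [fixL_nil], fun o ho => ?_⟩
    rw [List.mem_singleton] at ho; subst ho
    have eC : toSet (2 ^ 24 - 1 - 340831) = Finset.univ \ toSet 340831 := by decide +kernel
    have hgC := eq_univ_diff (h3 340831 (by simp)) eC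
    have eI1 : (toSet (2 ^ 24 - 1 - 340831)).image projInv = toSet 340831 := by
      rw [← repr_I.toSet_pmask, swap_checked.2.2.2.1]
    have eI2 : (toSet 340831).image ⇑projInv⁻¹ = toSet (2 ^ 24 - 1 - 340831) := by
      rw [← eI1, Finset.image_image, ← Equiv.Perm.coe_mul, inv_mul_cancel, Equiv.Perm.coe_one, Finset.image_id]
    rw [Equiv.Perm.coe_mul, ← Finset.image_image, eI2, Equiv.Perm.coe_mul, ← Finset.image_image, hgC, eI1]
  · intro x hx e
    have h := (mem_subG.mp hx).2.2 340831 (by simp)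
    have h1 : pt 23 ∈ toSet 340831 := by
      rw [← h, ← e]
      exact Finset.mem_image_of_mem _ (by decide)
    exact absurd h1 (by decide)

end CfsgGolay.OutSmall
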