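/-
A linear map of the code modulo the all-one word that preserves the octad classes is a permutation.
-/
import Cfsg.Agent.Lib.Golay.Modules
import Cfsg.Agent.Lib.Golay.Sextets
import Cfsg.Agent.Lib.Golay.ClassC

set_option autoImplicit false

namespace CfsgPairAut

open Cfsg CfsgGolay
open scoped Pointwise

/-- Number of octads meeting `s` in an odd number of points. -/
noncomputable def oddCount (s : Finset GolayPt) : ℕ := (octF.filter fun o => (o ∩ s).card % 2 = 1).card

theorem filter_count (l : List ℕ) (hnd : l.Nodup) (hlt : ∀ a ∈ l, a < 2 ^ 24) (m : ℕ) :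
    ((l.toFinset.image toSet).filter fun o => (o ∩ toSet m).card % 2 = 1).card =
      (l.filter fun o => pc (o &&& m) % 2 == 1).length := by
  classical
  rw [Finset.filter_image, Finset.card_image_of_injOn]
  · rw [← List.toFinset_card_of_nodup (l := l.filter (fun o => pc (o &&& m) % 2 == 1)) (hnd.filter _)]
    congr 1
    ext o
    simp only [Finset.mem_filter, List.mem_toFinset, List.mem_filter, beq_iff_eq, ← toSet_and, card_toSet]
  · intro a ha b hb e
    simp only [Finset.coe_filter, Set.mem_ofPred_eq, List.mem_toFinset] at ha hb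
    exact eq_of_toSet_eq (hlt a ha.1) (hlt b hb.1) e

theorem octadL_nodup : octadL.Nodup := codeL_nodup.filter _

attribute [local irreducible] codeL octadL

theorem oddCount_toSet (m : ℕ) : oddCount (toSet m) = (octadL.filter fun o => pc (o &&& m) % 2 == 1).length := by
  classical
  rw [← filter_count octadL octadL_nodup (fun a ha => octadL_lt ha) m]
  unfold oddCount octF
  congr 1

theorem counts : (octadL.filter fun o => pc (o &&& 8388624) % 2 == 1).length = 352 ∧
    (octadL.filter fun o => pc (o &&& 8388615) % 2 == 1).length = 384 := by decide +kernel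

theorem oddCount_smul {g : Equiv.Perm GolayPt} (hg : g ∈ M24) (s : Finset GolayPt) : oddCount (g • s) = oddCount s := by
  classical
  refine (Finset.card_bij (fun o _ => g • o) ?_ ?_ ?_).symm
  · intro o ho
    rw [Finset.mem_filter, mem_octF] at ho ⊢
    refine ⟨image_mem_octads hg ho.1, ?_⟩
    rw [← Finset.smul_finset_inter, Finset.card_smul_finset]
    exact ho.2
  · exact fun a _ b _ e => MulAction.injective g e
  · intro o ho
    rw [Finset.mem_filter, mem_octF] at ho
    refine ⟨g⁻¹ • o, ?_, smul_inv_smul g o⟩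
    rw [Finset.mem_filter, mem_octF]
    refine ⟨image_mem_octads (inv_mem hg) ho.1, ?_⟩
    rw [← Finset.card_smul_finset g, Finset.smul_finset_inter, smul_inv_smul]
    exact ho.2

theorem pair_mask : toSet 8388624 = {pt 23, pt 4} := by decide +kernel

theorem oddCount_pair {p q : GolayPt} (hpq : p ≠ q) : oddCount {p, q} = 352 := by
  obtain ⟨g, hg, h1, h2⟩ := cfgP hpq
  have e : g • ({pt 23, pt 4} : Finset GolayPt) = {p, q} := by
    rw [Finset.smul_finset_insert, Finset.smul_finset_singleton, Equiv.Perm.smul_def, Equiv.Perm.smul_def, h1, h2]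
  rw [← e, oddCount_smul hg, ← pair_mask, oddCount_toSet, counts.1]

theorem oddCount_four {t : Finset GolayPt} (ht : t.card = 4) : oddCount t = 384 := by
  obtain ⟨g, hg, rfl⟩ := exists_smul_tetr0 ht
  rw [oddCount_smul hg]
  exact (oddCount_toSet _).trans counts.2

/-- The functional of a word. -/
def dot (v c : GolayPt → ZMod 2) : ZMod 2 := ∑ i, v i * c i

theorem dot_indW (v : GolayPt → ZMod 2) (o : Finset GolayPt) :
    dot v (indW o) = ((o ∩ support₂ v).card : ZMod 2) := by
  classical
  rw [show (o ∩ support₂ v) = o.filter (fun i => v i ≠ 0) by ext i; simp [support₂], Finset.card_filter, Nat.cast_sum,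
    dot, ← Finset.sum_subset (Finset.subset_univ o) (fun i _ hi => by simp [indW, hi])]
  refine Finset.sum_congr rfl fun i hi => ?_
  simp only [indW, if_pos hi, mul_one]
  generalize v i = a
  revert a
  decide

theorem dot_pair {p q : GolayPt} (hpq : p ≠ q) (c : GolayPt → ZMod 2) : dot (indW {p, q}) c = c p + c q := by
  classical
  rw [dot, ← Finset.sum_subset (Finset.subset_univ ({p, q} : Finset GolayPt)) (fun i _ hi => by simp [indW, hi]),
    Finset.sum_pair hpq]
  simp [indW]

theorem dot_add (v w c : GolayPt → ZMod 2) : dot (v + w) c = dot v c + dot w c := by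
  simp [dot, add_mul, Finset.sum_add_distrib]

theorem add_one_one : ∀ t : ZMod 2, t = t + (1 + 1) := by decide

theorem card_symmDiff_le (s t : Finset GolayPt) : (symmDiff s t).card ≤ s.card + t.card :=
  (Finset.card_le_card (fun a ha => Finset.mem_union.mpr ((Finset.mem_symmDiff.mp ha).imp And.left And.left))).trans
    (Finset.card_union_le _ _)

theorem orth_of_dot {X v : GolayPt → ZMod 2} (h : dot X v = 0) : ∑ i, v i * X i = 0 := by
  rw [← h]; exact Finset.sum_congr rfl fun i _ => mul_comm _ _

theorem cast_eq_one {k : ℕ} : (k : ZMod 2) = 1 ↔ k % 2 = 1 := by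
  rw [show (1 : ZMod 2) = ((1 : ℕ) : ZMod 2) by simp, ZMod.natCast_eq_natCast_iff, Nat.ModEq]

/-- A word of weight less than eight in the code is zero. -/
theorem code_small {u : GolayPt → ZMod 2} (hu : u ∈ golayCode) (h : (support₂ u).card < 8) : u = 0 := by
  rcases code_weight_cases ⟨u, hu, rfl⟩ with e | e | e | e | e
  · exact wordOf_support (by rw [Finset.card_eq_zero.mp e]; simp [support₂])
  all_goals omega

theorem indW_symmDiff (s t : Finset GolayPt) : indW s + indW t = indW (symmDiff s t) :=
  wordOf_support (by rw [support_add, support_indW, support_indW, support_indW])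

theorem pair_inj {p q a b : GolayPt}
    (h : ∀ c ∈ golayCode, dot (indW {p, q}) c = dot (indW {a, b}) c) : ({p, q} : Finset GolayPt) = {a, b} := by
  have hm : indW {p, q} + indW {a, b} ∈ golayCode := mem_code_of_orth fun v hv => by
    refine orth_of_dot ?_
    rw [dot_add, h v hv]
    exact (by decide : ∀ t : ZMod 2, t + t = 0) _
  have h0 := code_small hm (by
    rw [indW_symmDiff, support_indW]
    refine lt_of_le_of_lt (card_symmDiff_le _ _) ?_
    have h1 := Finset.card_le_two (a := p) (b := q)
    have h2 := Finset.card_le_two (a := a) (b := b)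
    omega)
  rw [indW_symmDiff] at h0
  have := congrArg support₂ h0
  rw [support_indW] at this
  refine symmDiff_eq_bot.mp (this.trans ?_)
  simp [support₂]

/-- The core. -/
theorem perm_of_linear (x : ↥golayCode ≃ₗ[ZMod 2] ↥golayCode)
    (hone : ∀ e : ↥golayCode, (e : GolayPt → ZMod 2) = (fun _ => (1 : ZMod 2)) → x e = e)
    (hoct : ∀ c : ↥golayCode, ∃ σ ∈ M24, ((x c : ↥golayCode) : GolayPt → ZMod 2) = (fun p => (c : GolayPt → ZMod 2) (σ.symm p)) ∨
      ((x c : ↥golayCode) : GolayPt → ZMod 2) = (fun p => (c : GolayPt → ZMod 2) (σ.symm p)) + fun _ => (1 : ZMod 2)) :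
    ∃ σ ∈ M24, ∀ c : ↥golayCode, ((x c : ↥golayCode) : GolayPt → ZMod 2) = (fun p => (c : GolayPt → ZMod 2) (σ.symm p)) ∨
      ((x c : ↥golayCode) : GolayPt → ZMod 2) = (fun p => (c : GolayPt → ZMod 2) (σ.symm p)) + fun _ => (1 : ZMod 2) := by
  classical
  have h1mem : (fun _ => (1 : ZMod 2)) ∈ golayCode := Submodule.subset_span (Or.inr rfl)
  let one : ↥golayCode := ⟨fun _ => 1, h1mem⟩
  have hx1 : x one = one := hone one rfl
  have hmem : ∀ o ∈ octF, indW o ∈ golayCode := fun o ho => by
    obtain ⟨⟨u, hu, rfl⟩, -⟩ := mem_octF.mp ho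
    rwa [indW_support]
  -- the induced map of octads
  have hπ : ∀ o (ho : o ∈ octF), ∃ o' ∈ octF, ((x ⟨indW o, hmem o ho⟩ : ↥golayCode) : GolayPt → ZMod 2) = indW o' ∨
      ((x ⟨indW o, hmem o ho⟩ : ↥golayCode) : GolayPt → ZMod 2) = indW o' + fun _ => 1 := fun o ho => by
    obtain ⟨σ, hσ, h⟩ := hoct ⟨indW o, hmem o ho⟩
    rw [indW_image] at h
    exact ⟨o.image σ, mem_octF.mpr (image_mem_octads hσ (mem_octF.mp ho)), h⟩
  choose π hπm hπe using hπ
  have hπinj : ∀ o ho o' ho', π o ho = π o' ho' → o = o' := by
    intro o ho o' ho' e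
    have h : x ⟨indW o, hmem o ho⟩ = x ⟨indW o', hmem o' ho'⟩ ∨
        x ⟨indW o, hmem o ho⟩ = x (⟨indW o', hmem o' ho'⟩ + one) := by
      rw [map_add, hx1]
      rcases hπe o ho with a | a <;> rcases hπe o' ho' with b | b <;> rw [e] at a
      · exact Or.inl (Subtype.ext (a.trans b.symm))
      · refine Or.inr (Subtype.ext ?_)
        show _ = ((x ⟨indW o', hmem o' ho'⟩ : ↥golayCode) : GolayPt → ZMod 2) + fun _ => 1
        rw [a, b, add_assoc]
        funext p; simp only [Pi.add_apply]
        exact add_one_one _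
      · refine Or.inr (Subtype.ext ?_)
        show _ = ((x ⟨indW o', hmem o' ho'⟩ : ↥golayCode) : GolayPt → ZMod 2) + fun _ => 1
        rw [a, b]
      · exact Or.inl (Subtype.ext (a.trans b.symm))
    rcases h with h | h
    · have := congrArg support₂ (congrArg Subtype.val (x.injective h))
      rwa [show ((⟨indW o, hmem o ho⟩ : ↥golayCode) : GolayPt → ZMod 2) = indW o from rfl, support_indW, support_indW] at this
    · exfalso
      have h' : indW o = indW o' + fun _ => 1 := congrArg Subtype.val (x.injective h)
      have h8 := card_of_mem_octads (mem_octF.mp ho)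
      have h8' := card_of_mem_octads (mem_octF.mp ho')
      have hcompl : o = o'ᶜ := by
        ext p
        have := congrFun h' p
        simp only [indW, Pi.add_apply] at this
        rw [Finset.mem_compl]
        by_cases a : p ∈ o <;> by_cases b : p ∈ o' <;> simp [a, b] at this ⊢ <;> revert this <;> decide
      rw [hcompl, Finset.card_compl, h8', Fintype.card_option, ZMod.card] at h8
      omega
  have hπsurj : ∀ o' ∈ octF, ∃ o ho, π o ho = o' := fun o' ho' => by
    obtain ⟨o, ho, e⟩ := Finset.surj_on_of_inj_on_of_card_le π hπm (fun a b ha hb => hπinj a ha b hb) le_rfl o' ho'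
    exact ⟨o, ho, e.symm⟩
  -- pairs go to pairs
  have key : ∀ p q : GolayPt, p ≠ q → ∃ a b : GolayPt, a ≠ b ∧ ∀ c : ↥golayCode,
      ((x c : ↥golayCode) : GolayPt → ZMod 2) p + ((x c : ↥golayCode) : GolayPt → ZMod 2) q =
        (c : GolayPt → ZMod 2) a + (c : GolayPt → ZMod 2) b := by
    intro p q hpq
    let g : ↥golayCode →ₗ[ZMod 2] ZMod 2 :=
      ((LinearMap.proj p : (GolayPt → ZMod 2) →ₗ[ZMod 2] ZMod 2) + LinearMap.proj q).comp (golayCode.subtype.comp x.toLinearMap)
    have hg : ∀ c, g c = ((x c : ↥golayCode) : GolayPt → ZMod 2) p + ((x c : ↥golayCode) : GolayPt → ZMod 2) q := fun c => rfl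
    obtain ⟨g', hg'⟩ := LinearMap.exists_extend g
    let v0 : GolayPt → ZMod 2 := fun i => g' (Pi.single i 1)
    have hv0 : ∀ c : ↥golayCode, g c = dot v0 c := fun c => by
      rw [← hg', LinearMap.comp_apply, Submodule.subtype_apply, LinearMap.pi_apply_eq_sum_univ g' (c : GolayPt → ZMod 2)]
      refine Finset.sum_congr rfl fun i _ => ?_
      rw [smul_eq_mul, mul_comm]
      congr 2
      funext j; simp [Pi.single_apply, eq_comm]
    obtain ⟨u, hu, hu4⟩ := exists_small_rep _ v0 le_rfl
    set v := v0 + u with hv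
    have hgv : ∀ c : ↥golayCode, g c = dot v c := fun c => by
      rw [hv, dot_add, hv0, show dot u c = 0 from golayCode_orth u c hu c.2, add_zero]
    have heven : Even (support₂ v).card := by
      have := hgv one
      rw [hg, hx1] at this
      rw [← ZMod.natCast_eq_zero_iff_even, ← sum_support]
      rw [dot, show ((one : ↥golayCode) : GolayPt → ZMod 2) = fun _ => 1 from rfl] at this
      simp only [mul_one] at this
      rw [← this]; decide
    have hcount : oddCount (support₂ v) = 352 := by
      rw [← oddCount_pair hpq]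
      have hiff : ∀ o (ho : o ∈ octF), ((o ∩ support₂ v).card % 2 = 1 ↔ (π o ho ∩ {p, q}).card % 2 = 1) := fun o ho => by
        rw [← cast_eq_one, ← cast_eq_one, ← dot_indW, ← support_indW ({p, q} : Finset GolayPt), ← dot_indW, dot_pair hpq,
          ← hgv ⟨indW o, hmem o ho⟩, hg]
        rcases hπe o ho with e | e <;> rw [e]
        simp only [Pi.add_apply]
        generalize indW (π o ho) p = s; generalize indW (π o ho) q = t; revert s t; decide
      refine Finset.card_bij (fun o ho => π o (Finset.mem_filter.mp ho).1) (fun o ho => ?_)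
        (fun a ha b hb e => hπinj _ _ _ _ e) (fun o' ho' => ?_)
      · exact Finset.mem_filter.mpr ⟨hπm _ _, (hiff _ _).mp (Finset.mem_filter.mp ho).2⟩
      · obtain ⟨o, ho, e⟩ := hπsurj o' (Finset.mem_filter.mp ho').1
        exact ⟨o, Finset.mem_filter.mpr ⟨ho, (hiff o ho).mpr (e ▸ (Finset.mem_filter.mp ho').2)⟩, e⟩
    have h2 : (support₂ v).card = 2 := by
      obtain ⟨k, hk⟩ := heven
      rcases Nat.lt_or_ge k 1 with hk1 | hk1
      · rw [Finset.card_eq_zero.mp (show (support₂ v).card = 0 by omega)] at hcount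
        simp [oddCount] at hcount
      rcases Nat.lt_or_ge k 2 with hk2 | hk2
      · omega
      have := oddCount_four (t := support₂ v) (by omega)
      omega
    obtain ⟨a, b, hab, hs⟩ := Finset.card_eq_two.mp h2
    refine ⟨a, b, hab, fun c => ?_⟩
    rw [← hg, hgv, ← indW_support v, hs, dot_pair hab]
  choose fa fb hne hkey using key
  let A : ∀ p q : GolayPt, p ≠ q → Finset GolayPt := fun p q h => {fa p q h, fb p q h}
  have hAdot : ∀ p q h (c : ↥golayCode), dot (indW (A p q h)) c =
      ((x c : ↥golayCode) : GolayPt → ZMod 2) p + ((x c : ↥golayCode) : GolayPt → ZMod 2) q := fun p q h c => by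
    rw [hkey p q h c, dot_pair (hne p q h)]
  have hAinj : ∀ p q h p' q' h', A p q h = A p' q' h' → ({p, q} : Finset GolayPt) = {p', q'} := by
    intro p q h p' q' h' e
    refine pair_inj fun c hc => ?_
    rw [dot_pair h, dot_pair h']
    obtain ⟨d, hd⟩ := x.surjective ⟨c, hc⟩
    rw [show c = ((x d : ↥golayCode) : GolayPt → ZMod 2) by rw [hd], ← hAdot p q h d, ← hAdot p' q' h' d, e]
  have hAcard : ∀ p q h, (A p q h).card = 2 := fun p q h => Finset.card_pair (hne p q h)
  have hAsum : ∀ p q r (hpq : p ≠ q) (hpr : p ≠ r) (hqr : q ≠ r), A q r hqr = symmDiff (A p q hpq) (A p r hpr) := by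
    intro p q r hpq hpr hqr
    have hm : indW (A p q hpq) + indW (A p r hpr) + indW (A q r hqr) ∈ golayCode := mem_code_of_orth fun v hv => by
      refine orth_of_dot ?_
      rw [dot_add, dot_add, hAdot p q hpq ⟨v, hv⟩, hAdot p r hpr ⟨v, hv⟩, hAdot q r hqr ⟨v, hv⟩]
      exact (by decide : ∀ s t u : ZMod 2, (s + t) + (s + u) + (t + u) = 0) _ _ _
    rw [indW_symmDiff, indW_symmDiff] at hm
    have h0 := code_small hm (by
      rw [support_indW]
      refine lt_of_le_of_lt (card_symmDiff_le _ _) ?_
      have := card_symmDiff_le (A p q hpq) (A p r hpr)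
      rw [hAcard, hAcard] at this
      rw [hAcard]
      omega)
    have := congrArg support₂ h0
    rw [support_indW] at this
    exact (symmDiff_eq_bot.mp (this.trans (by simp [support₂]))).symm
  have hmeet : ∀ p q r (hpq : p ≠ q) (hpr : p ≠ r), q ≠ r → (A p q hpq ∩ A p r hpr).card = 1 := by
    intro p q r hpq hpr hqr
    have e := congrArg Finset.card (hAsum p q r hpq hpr hqr)
    rw [hAcard, symmDiff_def, Finset.sup_eq_union, Finset.card_union_of_disjoint disjoint_sdiff_sdiff, Finset.card_sdiff,
      Finset.card_sdiff, Finset.inter_comm (A p r hpr), hAcard, hAcard] at e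
    omega
  -- the star of a point
  have hstar : ∀ p : GolayPt, ∃ a, ∀ q (h : p ≠ q), a ∈ A p q h := by
    intro p
    have h3 : 23 ≤ (Finset.univ.erase p).card := by
      rw [Finset.card_erase_of_mem (Finset.mem_univ _), Finset.card_univ, Fintype.card_option, ZMod.card]
    obtain ⟨q, hq⟩ := Finset.card_pos.mp (show 0 < (Finset.univ.erase p).card by omega)
    have hpq : p ≠ q := (Finset.mem_erase.mp hq).1.symm
    obtain ⟨r, hr⟩ := Finset.card_pos.mp (show 0 < ((Finset.univ.erase p).erase q).card by
      rw [Finset.card_erase_of_mem hq]; omega)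
    have hrq : r ≠ q := (Finset.mem_erase.mp hr).1
    have hpr : p ≠ r := (Finset.mem_erase.mp (Finset.mem_erase.mp hr).2).1.symm
    obtain ⟨a, ha⟩ := Finset.card_eq_one.mp (hmeet p q r hpq hpr hrq.symm)
    have ha1 : a ∈ A p q hpq ∧ a ∈ A p r hpr := Finset.mem_inter.mp (by rw [ha]; exact Finset.mem_singleton_self a)
    obtain ⟨b, hb⟩ := Finset.card_eq_one.mp (show ((A p q hpq).erase a).card = 1 by rw [Finset.card_erase_of_mem ha1.1, hAcard])
    obtain ⟨c, hc⟩ := Finset.card_eq_one.mp (show ((A p r hpr).erase a).card = 1 by rw [Finset.card_erase_of_mem ha1.2, hAcard])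
    have eB : A p q hpq = {a, b} := by rw [← Finset.insert_erase ha1.1, hb]
    have eC : A p r hpr = {a, c} := by rw [← Finset.insert_erase ha1.2, hc]
    have out : ∀ s (hps : p ≠ s), a ∉ A p s hps → A p s hps = {b, c} := by
      intro s hps has
      have hsq : q ≠ s := fun e => has (by subst e; exact ha1.1)
      have hsr : r ≠ s := fun e => has (by subst e; exact ha1.2)
      obtain ⟨u, hu⟩ := Finset.card_eq_one.mp (hmeet p q s hpq hps hsq)
      obtain ⟨w, hw⟩ := Finset.card_eq_one.mp (hmeet p r s hpr hps hsr)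
      have hu' : u ∈ A p q hpq ∧ u ∈ A p s hps := Finset.mem_inter.mp (by rw [hu]; exact Finset.mem_singleton_self u)
      have hw' : w ∈ A p r hpr ∧ w ∈ A p s hps := Finset.mem_inter.mp (by rw [hw]; exact Finset.mem_singleton_self w)
      rw [eB, Finset.mem_insert, Finset.mem_singleton] at hu'
      rw [eC, Finset.mem_insert, Finset.mem_singleton] at hw'
      have hub : u = b := hu'.1.resolve_left fun e => has (e ▸ hu'.2)
      have hwc : w = c := hw'.1.resolve_left fun e => has (e ▸ hw'.2)
      refine (Finset.eq_of_subset_of_card_le (Finset.insert_subset (hub ▸ hu'.2) (Finset.singleton_subset_iff.mpr (hwc ▸ hw'.2))) ?_).symm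
      have hbc : b ≠ c := fun e => by
        have e' := hAinj p q hpq p r hpr (by rw [eB, eC, e])
        have : q ∈ ({p, r} : Finset GolayPt) := e' ▸ by simp
        simp [hpq.symm, hrq.symm] at this
      rw [hAcard, Finset.card_pair hbc]
    refine ⟨a, fun s hps => ?_⟩
    by_contra has
    have hE := out s hps has
    -- a fourth point
    obtain ⟨t, ht⟩ := Finset.card_pos.mp (show 0 < (((Finset.univ.erase p).erase q).erase r |>.erase s).card by
      have := Finset.pred_card_le_card_erase (s := ((Finset.univ.erase p).erase q).erase r) (a := s)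
      rw [Finset.card_erase_of_mem hr, Finset.card_erase_of_mem hq] at this
      omega)
    simp only [Finset.mem_erase, Finset.mem_univ, and_true] at ht
    obtain ⟨hts, htr, htq, htp⟩ := ht
    have hat : a ∈ A p t htp.symm := by
      by_contra hat
      have e' := hAinj p t htp.symm p s hps ((out t htp.symm hat).trans hE.symm)
      have : t ∈ ({p, s} : Finset GolayPt) := e' ▸ by simp
      simp [htp, hts] at this
    obtain ⟨u, hu⟩ := Finset.card_eq_one.mp (hmeet p t s htp.symm hps hts)
    have hu' : u ∈ A p t htp.symm ∧ u ∈ A p s hps := Finset.mem_inter.mp (by rw [hu]; exact Finset.mem_singleton_self u)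
    have hsub : ({a, u} : Finset GolayPt) ⊆ A p t htp.symm :=
      Finset.insert_subset hat (Finset.singleton_subset_iff.mpr hu'.1)
    have hau : a ≠ u := fun e => has (e ▸ hu'.2)
    have eT : A p t htp.symm = {a, u} :=
      (Finset.eq_of_subset_of_card_le hsub (by rw [hAcard, Finset.card_pair hau])).symm
    have hubc := hu'.2
    rw [hE, Finset.mem_insert, Finset.mem_singleton] at hubc
    rcases hubc with e | e <;> subst e
    · have e' := hAinj p t htp.symm p q hpq (eT.trans eB.symm)
      have : t ∈ ({p, q} : Finset GolayPt) := e' ▸ by simp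
      simp [htp, htq] at this
    · have e' := hAinj p t htp.symm p r hpr (eT.trans eC.symm)
      have : t ∈ ({p, r} : Finset GolayPt) := e' ▸ by simp
      simp [htp, htr] at this
  choose f hf using hstar
  have hsymm : ∀ p q (h : p ≠ q), A q p h.symm = A p q h := fun p q h => by
    refine pair_inj fun c hc => ?_
    show dot (indW (A q p h.symm)) c = dot (indW (A p q h)) c
    rw [hAdot q p h.symm ⟨c, hc⟩, hAdot p q h ⟨c, hc⟩, add_comm]
  have hfinj : Function.Injective f := by
    intro p q e
    by_contra hpq
    obtain ⟨r, hr⟩ := Finset.card_pos.mp (show 0 < (((Finset.univ : Finset GolayPt).erase p).erase q).card by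
      rw [Finset.card_erase_of_mem (by simp [Ne.symm hpq]), Finset.card_erase_of_mem (Finset.mem_univ _), Finset.card_univ,
        Fintype.card_option, ZMod.card]
      norm_num)
    simp only [Finset.mem_erase, Finset.mem_univ, and_true] at hr
    have h1 : f p ∈ A r p hr.2 := hsymm p r hr.2.symm ▸ hf p r hr.2.symm
    have h2 : f p ∈ A r q hr.1 := by
      rw [e]; exact hsymm q r hr.1.symm ▸ hf q r hr.1.symm
    have h3 := hf p q hpq
    rw [hAsum r p q hr.2 hr.1 hpq, Finset.mem_symmDiff] at h3
    rcases h3 with ⟨-, h⟩ | ⟨-, h⟩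
    · exact h h2
    · exact h h1
  have hA : ∀ p q (h : p ≠ q), A p q h = {f p, f q} := fun p q h => by
    refine (Finset.eq_of_subset_of_card_le (Finset.insert_subset (hf p q h) (Finset.singleton_subset_iff.mpr ?_)) ?_).symm
    · rw [← hsymm p q h]; exact hf q p h.symm
    · rw [hAcard, Finset.card_pair (fun e => h (hfinj e))]
  let τ : Equiv.Perm GolayPt := (Equiv.ofBijective f (Finite.injective_iff_bijective.mp hfinj)).symm
  have hrel : ∀ c : ↥golayCode, ((x c : ↥golayCode) : GolayPt → ZMod 2) = (fun p => (c : GolayPt → ZMod 2) (τ.symm p)) ∨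
      ((x c : ↥golayCode) : GolayPt → ZMod 2) = (fun p => (c : GolayPt → ZMod 2) (τ.symm p)) + fun _ => (1 : ZMod 2) := by
    intro c
    have hconst : ∀ p q, ((x c : ↥golayCode) : GolayPt → ZMod 2) p + (c : GolayPt → ZMod 2) (f p) =
        ((x c : ↥golayCode) : GolayPt → ZMod 2) q + (c : GolayPt → ZMod 2) (f q) := by
      intro p q
      by_cases h : p = q
      · rw [h]
      have := hAdot p q h c
      rw [hA p q h, dot_pair (fun e => h (hfinj e))] at this
      revert this
      generalize ((x c : ↥golayCode) : GolayPt → ZMod 2) p = s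
      generalize ((x c : ↥golayCode) : GolayPt → ZMod 2) q = t
      generalize (c : GolayPt → ZMod 2) (f p) = s'
      generalize (c : GolayPt → ZMod 2) (f q) = t'
      revert s t s' t'; decide
    rcases (show ∀ k : ZMod 2, k = 0 ∨ k = 1 by decide)
      (((x c : ↥golayCode) : GolayPt → ZMod 2) none + (c : GolayPt → ZMod 2) (f none)) with e | e
    · refine Or.inl (funext fun p => ?_)
      have := (hconst p none).trans e
      show _ = (c : GolayPt → ZMod 2) (f p)
      revert this
      generalize ((x c : ↥golayCode) : GolayPt → ZMod 2) p = s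
      generalize (c : GolayPt → ZMod 2) (f p) = t
      revert s t; decide
    · refine Or.inr (funext fun p => ?_)
      have := (hconst p none).trans e
      show _ = (c : GolayPt → ZMod 2) (f p) + 1
      revert this
      generalize ((x c : ↥golayCode) : GolayPt → ZMod 2) p = s
      generalize (c : GolayPt → ZMod 2) (f p) = t
      revert s t; decide
  refine ⟨τ, mem_M24_of_octads fun o ho => ?_, hrel⟩
  have hin : (fun p => indW o (τ.symm p)) ∈ golayCode := by
    rcases hrel ⟨indW o, hmem o (mem_octF.mpr ho)⟩ with e | e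
    · exact e ▸ Subtype.coe_prop _
    · have h' := add_mem (Subtype.coe_prop (x ⟨indW o, hmem o (mem_octF.mpr ho)⟩)) h1mem
      rw [e, add_assoc] at h'
      convert h' using 1
      funext p
      simp only [Pi.add_apply]
      exact add_one_one _
  rw [indW_image] at hin
  exact ⟨⟨_, hin, support_indW _⟩, by rw [Finset.card_image_of_injective _ τ.injective, card_of_mem_octads ho]⟩

end CfsgPairAut
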