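/-
Quartets on a dodecad: uniqueness from two triples, transitivity, and the count.
-/
import Cfsg.Agent.Lib.Golay.M12More
import Cfsg.Agent.Lib.Golay.Data.Quart

set_option autoImplicit false

namespace CfsgGolay

open Cfsg
open scoped Pointwise

attribute [local irreducible] codeL octadL dodecadL slpCodes

/-- The mask is a hexad on the standard dodecad. -/
def hexB (m : ℕ) : Bool :=
  Nat.beq (pc m) 6 && (List.range cMO.n).any fun i => Nat.beq (340831 &&& cMO.obj i) m

theorem hexB_iff {m : ℕ} (hm : m < 2 ^ 24) : hexB m = true ↔ toSet m ∈ hexadsOn D0 := by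
  have hv : maskK.Valid 8536111 := by show _ < 2 ^ 24; norm_num
  simp only [hexadsOn, hexB, Bool.and_eq_true, List.any_eq_true, List.mem_range, Set.mem_ofPred_eq,
    card_toSet, octads_eq_orbit, show O0 = maskK.dec 8536111 from rfl,
    mem_orbit_iff (K := maskK) hv cMO_ok]
  constructor
  · rintro ⟨h6, i, hi, he⟩
    refine ⟨Nat.eq_of_beq_eq_true h6, _, ⟨i, hi, (orb_valid hv gM_ok cMO_ok i hi).1, rfl⟩, ?_⟩
    show toSet (cMO.obj i) ∩ D0 = toSet m
    rw [Finset.inter_comm, D0, ← toSet_and, Nat.eq_of_beq_eq_true he]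
  · rintro ⟨h6, _, ⟨i, hi, hv', rfl⟩, he⟩
    refine ⟨by rw [h6]; rfl, i, hi, ?_⟩
    change toSet (cMO.obj i) ∩ D0 = toSet m at he
    rw [eq_of_toSet_eq (lt_of_le_of_lt Nat.and_le_right hv') hm
      (by rw [toSet_and, Finset.inter_comm]; exact he)]
    exact Nat.beq_refl _

theorem smul_hexadsOn {g : Equiv.Perm GolayPt} (hg : g ∈ M24) {d h : Finset GolayPt}
    (hh : h ∈ hexadsOn d) : g • h ∈ hexadsOn (g • d) := by
  obtain ⟨h6, o, ho, rfl⟩ := hh
  exact ⟨by rw [Finset.card_smul_finset]; exact h6, g • o, smul_mem_octads hg ho,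
    (Finset.smul_finset_inter ..).symm⟩

theorem smul_quartets {g : Equiv.Perm GolayPt} (hg : g ∈ M24) {d : Finset GolayPt}
    {Q : Finset (Finset GolayPt)} (hQ : Q ∈ quartets d) : g • Q ∈ quartets (g • d) := by
  obtain ⟨h4, h3, hh⟩ := hQ
  refine ⟨by rw [Finset.card_smul_finset]; exact h4, fun t ht => ?_, fun t ht u hu hne => ?_⟩
  · obtain ⟨t', ht', rfl⟩ := Finset.mem_smul_finset.mp ht
    exact ⟨by rw [Finset.card_smul_finset]; exact (h3 t' ht').1,
      Finset.smul_finset_subset_smul_finset (h3 t' ht').2⟩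
  · obtain ⟨t', ht', rfl⟩ := Finset.mem_smul_finset.mp ht
    obtain ⟨u', hu', rfl⟩ := Finset.mem_smul_finset.mp hu
    rw [← Finset.smul_finset_union]
    exact smul_hexadsOn hg (hh t' ht' u' hu' fun h => hne (h ▸ rfl))

theorem hexad_split {d t u : Finset GolayPt} (ht : t.card = 3) (hu : u.card = 3) (h : t ∪ u ∈ hexadsOn d) :
    Disjoint t u := by
  rw [Finset.disjoint_iff_inter_eq_empty, ← Finset.card_eq_zero]
  have := Finset.card_union_add_card_inter t u
  have := h.1
  omega

theorem Q0_quartet : famSet 4 qQ0 ∈ quartets D0 := by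
  have key : ((unpackF 4 qQ0).all fun a => Nat.beq (pc a) 3 && Nat.beq (a &&& 340831) a &&
      (unpackF 4 qQ0).all fun b => Nat.beq a b || hexB (a ||| b)) = true ∧
      decide (((unpackF 4 qQ0).toFinset).card = 4) = true := by decide +kernel
  obtain ⟨h1, h2⟩ := key
  simp only [List.all_eq_true, Bool.and_eq_true, Bool.or_eq_true] at h1
  refine ⟨?_, fun t ht => ?_, fun t ht u hu hne => ?_⟩
  · rw [famSet, Finset.card_image_of_injOn]
    · exact of_decide_eq_true h2
    · intro a ha b hb he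
      exact eq_of_toSet_eq (unpackF_lt _ _ a (List.mem_toFinset.mp ha))
        (unpackF_lt _ _ b (List.mem_toFinset.mp hb)) he
  · obtain ⟨a, ha, rfl⟩ := Finset.mem_image.mp ht
    obtain ⟨⟨ha3, hsub⟩, -⟩ := h1 a (List.mem_toFinset.mp ha)
    refine ⟨by rw [card_toSet]; exact Nat.eq_of_beq_eq_true ha3, fun p hp => ?_⟩
    rw [← Nat.eq_of_beq_eq_true hsub, toSet_and] at hp
    exact (Finset.mem_inter.mp hp).2
  · obtain ⟨a, ha, rfl⟩ := Finset.mem_image.mp ht
    obtain ⟨b, hb, rfl⟩ := Finset.mem_image.mp hu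
    rw [List.mem_toFinset] at ha hb
    rcases (h1 a ha).2 b hb with h | h
    · exact absurd (congrArg toSet (Nat.eq_of_beq_eq_true h)) hne
    · rw [← toSet_or]
      exact (hexB_iff (Nat.or_lt_two_pow (unpackF_lt _ _ a ha) (unpackF_lt _ _ b hb))).mp h

theorem third_triple : ((setBits 78593).sublists.all fun l =>
    !(Nat.beq l.length 3 && hexB (14 ||| orBits l) && hexB (262224 ||| orBits l) &&
      hexB (14 ||| (78593 ^^^ orBits l)) && hexB (262224 ||| (78593 ^^^ orBits l))) ||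
    (Nat.beq (orBits l) 65793 || Nat.beq (orBits l) 12800)) = true := by decide +kernel

theorem std_quartet_unique {Q : Finset (Finset GolayPt)} (hQ : Q ∈ quartets D0) (ht : toSet 14 ∈ Q)
    (hu : toSet 262224 ∈ Q) : Q = famSet 4 qQ0 := by
  classical
  obtain ⟨h4, h3, hh⟩ := hQ
  have hne : toSet 14 ≠ toSet 262224 := fun h => absurd (eq_of_toSet_eq (by norm_num) (by norm_num) h) (by decide)
  obtain ⟨v, hv, hvt, hvu⟩ : ∃ v ∈ Q, v ≠ toSet 14 ∧ v ≠ toSet 262224 := by
    obtain ⟨v, hv⟩ : ((Q.erase (toSet 14)).erase (toSet 262224)).Nonempty := by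
      rw [← Finset.card_pos, Finset.card_erase_of_mem (Finset.mem_erase.mpr ⟨hne.symm, hu⟩),
        Finset.card_erase_of_mem ht, h4]
      norm_num
    obtain ⟨h1, h2⟩ := Finset.mem_erase.mp hv
    obtain ⟨h5, h6⟩ := Finset.mem_erase.mp h2
    exact ⟨v, h6, h5, h1⟩
  obtain ⟨w, hw, hwt, hwu, hwv⟩ : ∃ w ∈ Q, w ≠ toSet 14 ∧ w ≠ toSet 262224 ∧ w ≠ v := by
    obtain ⟨w, hw⟩ : (((Q.erase (toSet 14)).erase (toSet 262224)).erase v).Nonempty := by
      rw [← Finset.card_pos, Finset.card_erase_of_mem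
        (Finset.mem_erase.mpr ⟨hvu, Finset.mem_erase.mpr ⟨hvt, hv⟩⟩),
        Finset.card_erase_of_mem (Finset.mem_erase.mpr ⟨hne.symm, hu⟩), Finset.card_erase_of_mem ht, h4]
      norm_num
    obtain ⟨h1, h2⟩ := Finset.mem_erase.mp hw
    obtain ⟨h5, h6⟩ := Finset.mem_erase.mp h2
    obtain ⟨h7, h8⟩ := Finset.mem_erase.mp h6
    exact ⟨w, h8, h7, h5, h1⟩
  have hQeq : Q = {toSet 14, toSet 262224, v, w} := by
    refine (Finset.eq_of_subset_of_card_le (by simp [Finset.insert_subset_iff, ht, hu, hv, hw]) ?_).symm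
    rw [h4, Finset.card_insert_of_notMem (by simp [hne, hvt.symm, hwt.symm]),
      Finset.card_insert_of_notMem (by simp [hvu.symm, hwu.symm]),
      Finset.card_insert_of_notMem (by simp [hwv.symm]), Finset.card_singleton]
  have dis : ∀ {a b}, a ∈ Q → b ∈ Q → a ≠ b → Disjoint a b := fun ha hb hab =>
    hexad_split (h3 _ ha).1 (h3 _ hb).1 (hh _ ha _ hb hab)
  have hR : ∀ {a}, a ∈ Q → a ≠ toSet 14 → a ≠ toSet 262224 → a ⊆ toSet 78593 := by
    intro a ha h1 h2 p hp
    have hpd : p ∈ D0 := (h3 a ha).2 hp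
    have hp1 := Finset.disjoint_left.mp (dis ha ht h1) hp
    have hp2 := Finset.disjoint_left.mp (dis ha hu h2) hp
    rw [D0] at hpd
    simp only [mem_toSet] at hpd hp1 hp2 ⊢
    have key : ∀ i < 24, Nat.testBit 340831 i = true → ¬ Nat.testBit 14 i = true →
        ¬ Nat.testBit 262224 i = true → Nat.testBit 78593 i = true := by decide +kernel
    exact key _ (idx_lt p) hpd hp1 hp2
  have hwe : w = toSet 78593 \ v := by
    refine Finset.eq_of_subset_of_card_le (fun p hp => Finset.mem_sdiff.mpr ⟨hR hw hwt hwu hp,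
      Finset.disjoint_left.mp (dis hw hv hwv) hp⟩) ?_
    rw [Finset.card_sdiff_of_subset (hR hv hvt hvu), (h3 _ hv).1, (h3 _ hw).1, card_toSet]
    exact le_of_eq (by decide +kernel)
  set l := (setBits 78593).filter fun i => decide (pt i ∈ v) with hl
  have hlv : toSet (orBits l) = v := by
    ext p
    rw [mem_toSet, testBit_orBits, hl, List.mem_filter, mem_setBits,
      decide_eq_true_eq, pt_idx]
    exact ⟨fun h => h.2, fun h => ⟨⟨idx_lt p, by simpa using hR hv hvt hvu h⟩, h⟩⟩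
  have hlen : l.length = 3 := by
    have hnd : l.Nodup := (setBits_nodup _).filter _
    rw [← List.toFinset_card_of_nodup hnd, ← (h3 _ hv).1]
    refine Finset.card_bij (fun i _ => pt i) (fun i hi => ?_) (fun a ha b hb he => ?_) (fun p hp => ?_)
    · rw [List.mem_toFinset, hl, List.mem_filter] at hi
      exact of_decide_eq_true hi.2
    · rw [List.mem_toFinset, hl, List.mem_filter, mem_setBits] at ha hb
      rw [← idx_pt ha.1.1, he, idx_pt hb.1.1]
    · refine ⟨idx p, List.mem_toFinset.mpr (List.mem_filter.mpr ⟨mem_setBits.mpr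
        ⟨idx_lt p, by simpa using hR hv hvt hvu hp⟩, by simpa using hp⟩), pt_idx p⟩
  have hlt : orBits l < 2 ^ 24 := by
    refine Nat.lt_pow_two_of_testBit _ fun i hi => ?_
    by_contra hc
    rw [Bool.not_eq_false, testBit_orBits, hl, List.mem_filter, mem_setBits] at hc
    omega
  have hxor : toSet (78593 ^^^ orBits l) = w := by
    rw [hwe]
    ext p
    have hsub : p ∈ v → p ∈ toSet 78593 := fun h => hR hv hvt hvu h
    rw [← hlv] at hsub ⊢
    simp only [mem_toSet, Finset.mem_sdiff, Nat.testBit_xor] at hsub ⊢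
    revert hsub
    cases Nat.testBit 78593 (idx p) <;> cases Nat.testBit (orBits l) (idx p) <;> simp
  have htest := List.all_eq_true.mp third_triple l (List.mem_sublists.mpr (hl ▸ List.filter_sublist))
  have hlt' : 78593 ^^^ orBits l < 2 ^ 24 := Nat.xor_lt_two_pow (by norm_num) hlt
  have hx1 := (hexB_iff (Nat.or_lt_two_pow (by norm_num : (14 : ℕ) < 2 ^ 24) hlt)).mpr
    (by rw [toSet_or, hlv]; exact hh _ ht _ hv hvt.symm)
  have hx2 := (hexB_iff (Nat.or_lt_two_pow (by norm_num : (262224 : ℕ) < 2 ^ 24) hlt)).mpr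
    (by rw [toSet_or, hlv]; exact hh _ hu _ hv hvu.symm)
  have hx3 := (hexB_iff (Nat.or_lt_two_pow (by norm_num : (14 : ℕ) < 2 ^ 24) hlt')).mpr
    (by rw [toSet_or, hxor]; exact hh _ ht _ hw hwt.symm)
  have hx4 := (hexB_iff (Nat.or_lt_two_pow (by norm_num : (262224 : ℕ) < 2 ^ 24) hlt')).mpr
    (by rw [toSet_or, hxor]; exact hh _ hu _ hw hwu.symm)
  rw [hlen, hx1, hx2, hx3, hx4] at htest
  simp only [Nat.beq_refl, Bool.and_self, Bool.not_true, Bool.false_or, Bool.or_eq_true] at htest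
  have hgoal : famSet 4 qQ0 = ({toSet 14, toSet 262224, toSet 65793, toSet 12800} : Finset (Finset GolayPt)) := by
    have hu4 : (unpackF 4 qQ0).toFinset = ({14, 262224, 65793, 12800} : Finset ℕ) := by decide +kernel
    rw [famSet, hu4]
    simp
  rw [hQeq, hgoal, ← hlv, ← hxor]
  rcases htest with h | h <;> rw [Nat.eq_of_beq_eq_true h]
  · rfl
  · rw [show (78593 ^^^ 12800 : ℕ) = 65793 by decide +kernel]
    ext s
    simp only [Finset.mem_insert, Finset.mem_singleton]
    tauto

theorem pair_transitive {d t u : Finset GolayPt} (hd : d ∈ dodecads) (ht : t.card = 3) (hu : u.card = 3)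
    (hh : t ∪ u ∈ hexadsOn d) :
    ∃ g ∈ M24, g • D0 = d ∧ g • toSet 14 = t ∧ g • toSet 262224 = u := by
  classical
  obtain ⟨h6, o, ho, hod⟩ := hh
  have hdis := hexad_split ht hu ⟨h6, o, ho, hod⟩
  have hsub : t ∪ u ⊆ d := hod ▸ Finset.inter_subset_right
  obtain ⟨g₁, hg₁, rfl⟩ := exists_smul_D0 hd
  obtain ⟨a, ha⟩ := exists_emb_of_card (k := 3) (s := t) ht.ge
  obtain ⟨b, hb⟩ := exists_emb_of_card (k := 2) (s := u) (by omega)
  let x : Fin 5 → GolayPt := ![pt 1, pt 2, pt 3, pt 4, pt 6]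
  let y : Fin 5 → GolayPt := fun i => g₁⁻¹ (![a 0, a 1, a 2, b 0, b 1] i)
  have hab : ∀ i j, a i ≠ b j := fun i j h =>
    Finset.disjoint_left.mp hdis (ha i) (h ▸ hb j)
  have hyinj : Function.Injective y := by
    intro i j h
    have h' := g₁⁻¹.injective h
    fin_cases i <;> fin_cases j <;> simp_all [a.injective.eq_iff, b.injective.eq_iff, Ne.symm (hab _ _)]
  have hymem : ∀ i, y i ∈ D0 := by
    intro i
    refine inv_apply_mem.mpr (hsub ?_)
    fin_cases i <;> simp [Finset.mem_union, ha, hb]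
  obtain ⟨k, hk, hkD, hkx⟩ := dod_k_transitive (d := D0) (toSet_mem_dodecads' (by norm_num) (by decide +kernel))
    (le_refl 5) ⟨x, by decide +kernel⟩ ⟨y, hyinj⟩
    (by show ∀ i, x i ∈ toSet 340831; decide +kernel) hymem
  set g := g₁ * k with hg
  have hgM : g ∈ M24 := mul_mem hg₁ hk
  have hgD : g • D0 = g₁ • D0 := by rw [hg, mul_smul, hkD]
  have hgx : ∀ i, g (x i) = ![a 0, a 1, a 2, b 0, b 1] i := by
    intro i
    rw [hg, Equiv.Perm.mul_apply, show k (x i) = y i from hkx i]
    exact Equiv.apply_symm_apply g₁ _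
  have h14 : toSet 14 = ({pt 1, pt 2, pt 3} : Finset GolayPt) := by decide +kernel
  have hgt : g • toSet 14 = t := by
    refine Finset.eq_of_subset_of_card_le ?_ (by rw [Finset.card_smul_finset, ht, card_toSet]; decide +kernel)
    rw [h14, smul_finset_eq_image]
    intro p hp
    simp only [Finset.image_insert, Finset.image_singleton, Finset.mem_insert, Finset.mem_singleton,
      Equiv.Perm.smul_def] at hp
    rcases hp with rfl | rfl | rfl
    · rw [show g (pt 1) = a 0 from hgx 0]; exact ha 0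
    · rw [show g (pt 2) = a 1 from hgx 1]; exact ha 1
    · rw [show g (pt 3) = a 2 from hgx 2]; exact ha 2
  have ho0 : toSet 8683614 ∈ octads := toSet_mem_octads' (by norm_num) (by decide +kernel)
  have hfive : ∀ i, g (x i) ∈ o := by
    intro i
    have h : g (x i) ∈ o ∩ g₁ • D0 := by rw [hod, hgx i]; fin_cases i <;> simp [Finset.mem_union, ha, hb]
    exact (Finset.mem_inter.mp h).1
  have hoeq : g • toSet 8683614 = o := by
    refine octad_unique (s := Finset.univ.map ⟨fun i => g (x i), g.injective.comp (by decide +kernel)⟩)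
      (smul_mem_octads hgM ho0) ho (by simp) ?_ (by
        intro p hp; obtain ⟨i, -, rfl⟩ := Finset.mem_map.mp hp; exact hfive i)
    intro p hp
    obtain ⟨i, -, rfl⟩ := Finset.mem_map.mp hp
    have hx0 : ∀ i, x i ∈ toSet 8683614 := by show ∀ i, ![pt 1, pt 2, pt 3, pt 4, pt 6] i ∈ _; decide +kernel
    exact pt_mem_smul.mpr (hx0 i)
  refine ⟨g, hgM, hgD, hgt, ?_⟩
  have h1 : toSet 262224 = (toSet 8683614 ∩ D0) \ toSet 14 := by decide +kernel
  rw [h1, Finset.smul_finset_sdiff, Finset.smul_finset_inter, hoeq, hgD, hgt, hod, Finset.union_sdiff_left,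
    Finset.sdiff_eq_self_of_disjoint hdis.symm]

theorem quartets_std : quartets D0 = MulAction.orbit (stabM D0) (famSet 4 qQ0) := by
  ext Q
  constructor
  · intro hQ
    obtain ⟨t, ht⟩ := Finset.card_pos.mp (by rw [hQ.1]; norm_num : 0 < Q.card)
    obtain ⟨u, hu, hne⟩ := Finset.exists_mem_ne (by rw [hQ.1]; norm_num : 1 < Q.card) t
    obtain ⟨g, hg, hgD, hgt, hgu⟩ := pair_transitive (toSet_mem_dodecads' (m := 340831) (by norm_num)
      (by decide +kernel) : D0 ∈ dodecads) (hQ.2.1 t ht).1 (hQ.2.1 u hu).1 (hQ.2.2 t ht u hu hne.symm)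
    have hQ' : g⁻¹ • Q ∈ quartets D0 := by
      have h := smul_quartets (inv_mem hg) hQ
      rwa [show g⁻¹ • D0 = D0 from inv_smul_eq_iff.mpr hgD.symm] at h
    have := std_quartet_unique hQ'
      (by rw [← inv_smul_smul g (toSet 14), hgt]; exact Finset.smul_mem_smul_finset ht)
      (by rw [← inv_smul_smul g (toSet 262224), hgu]; exact Finset.smul_mem_smul_finset hu)
    exact ⟨⟨g, hg, hgD⟩, inv_smul_eq_iff.mp this |>.symm⟩
  · rintro ⟨⟨g, hg, hgD⟩, rfl⟩
    have := smul_quartets hg Q0_quartet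
    rwa [show g • D0 = D0 from hgD] at this

theorem qQ0_valid : (famK 4).Valid qQ0 := famValidB_sound (by decide +kernel)

theorem ncard_quartets_std : (quartets D0).ncard = 220 := by
  rw [quartets_std, ← stabD.1]
  exact ncard_orbit_cert (K := famK 4) qQ0_valid gD_ok cQt_ok

theorem quartet_cfg {d : Finset GolayPt} (hd : d ∈ dodecads) {Q : Finset (Finset GolayPt)} (hQ : Q ∈ quartets d) :
    ∃ g ∈ M24, g • D0 = d ∧ g • famSet 4 qQ0 = Q := by
  obtain ⟨g, hg, rfl⟩ := exists_smul_D0 hd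
  have h := smul_quartets (inv_mem hg) hQ
  rw [inv_smul_smul, quartets_std] at h
  obtain ⟨⟨k, hk, hkD⟩, he⟩ := h
  exact ⟨g * k, mul_mem hg hk, by rw [mul_smul, show k • D0 = D0 from hkD],
    by rw [mul_smul]; exact (eq_inv_smul_iff.mp he)⟩

theorem quartets_smul {g : Equiv.Perm GolayPt} (hg : g ∈ M24) (d : Finset GolayPt) :
    quartets (g • d) = g • quartets d := by
  ext Q
  rw [Set.mem_smul_set_iff_inv_smul_mem]
  constructor
  · intro h; simpa using smul_quartets (inv_mem hg) h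
  · intro h; simpa using smul_quartets hg h

end CfsgGolay
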