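/-
The stabiliser of a dodecad and a quartet: its normal subgroup of order nine and its suborbits.
-/
import Cfsg.Agent.Lib.Golay.Quartet
import Mathlib.LinearAlgebra.Matrix.GeneralLinearGroup.Defs
import Mathlib.LinearAlgebra.Matrix.GeneralLinearGroup.Card
import Mathlib.Algebra.Module.ZMod

set_option autoImplicit false

namespace CfsgGolay

open Cfsg
open scoped Pointwise

attribute [local irreducible] codeL octadL dodecadL slpCodes

/-- The standard quartet. -/
def Qs : Finset (Finset GolayPt) := famSet 4 qQ0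

/-- The stabiliser of the standard dodecad and the standard quartet. -/
def SQ : Subgroup (Equiv.Perm GolayPt) := stabM D0 ⊓ MulAction.stabilizer (Equiv.Perm GolayPt) Qs

theorem card_SQ : Nat.card ↥SQ = 432 := by
  have h := card_inf_stab (H := stabM D0) Qs
  rw [Qs, ← quartets_std, ncard_quartets_std, stabD.2] at h
  unfold SQ Qs
  omega

theorem gQt_eq : Gr gQt = SQ := by
  refine Gr_eq_of_card gQt_ok (le_inf (le_inf (Gr_le_M24 gQt_ok) fun g hg => ?_) fun g hg => ?_)
    (base := [20, 0, 3]) (by decide +kernel) (le_of_eq_of_le card_SQ (by decide +kernel))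
  · exact Gr_le_stab (K := maskK) (o := 340831) (by show _ < 2 ^ 24; norm_num) (by decide +kernel) hg
  · exact Gr_le_stab (K := famK 4) (o := qQ0) qQ0_valid (by decide +kernel) hg

/-- Power of a code below three. -/
def qPow (c : ℕ) : ℕ → ℕ
  | 0 => pid
  | 1 => c
  | _ => pcomp c c

/-- The element of the normal subgroup with coordinates `(k / 3, k % 3)`. -/
def qEl (k : ℕ) : ℕ := pcomp (qPow qN1 (k / 3)) (qPow qN2 (k % 3))

theorem qEl_ok : (List.range 9).all (fun k => permOK (qEl k) && gensKept (qEl k) &&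
    Nat.beq (pmask (qEl k) 340831) 340831 &&
    ((unpackF 4 qQ0).all fun m => (unpackF 4 qQ0).any fun m' => Nat.beq (pmask (qEl k) m) m') &&
    (List.range 9).all fun j => Nat.beq (pcomp (qEl k) (qEl j)) (qEl ((k / 3 + j / 3) % 3 * 3 + (k % 3 + j % 3) % 3))) = true := by
  decide +kernel

theorem qEl_nodup : ((List.range 9).map qEl).Nodup := by decide +kernel

/-- Coordinates as a number. -/
def vIdx (v : Fin 2 → ZMod 3) : ℕ := (v 0).val * 3 + (v 1).val

theorem vIdx_lt (v : Fin 2 → ZMod 3) : vIdx v < 9 := by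
  have := ZMod.val_lt (v 0); have := ZMod.val_lt (v 1); unfold vIdx; omega

theorem exists_qEl (v : Fin 2 → ZMod 3) : ∃ g : Equiv.Perm GolayPt, Repr (qEl (vIdx v)) g := by
  have h := qEl_ok
  simp only [List.all_eq_true, Bool.and_eq_true, List.mem_range] at h
  exact exists_repr_of_permOK (h _ (vIdx_lt v)).1.1.1.1

/-- The normal subgroup of order nine, as a parametrised family. -/
noncomputable def qv (v : Fin 2 → ZMod 3) : Equiv.Perm GolayPt := (exists_qEl v).choose

theorem qv_repr (v : Fin 2 → ZMod 3) : Repr (qEl (vIdx v)) (qv v) := (exists_qEl v).choose_spec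

theorem qv_add (v w : Fin 2 → ZMod 3) : qv (v + w) = qv v * qv w := by
  have h := qEl_ok
  simp only [List.all_eq_true, Bool.and_eq_true, List.mem_range] at h
  have h2 := Nat.eq_of_beq_eq_true ((h _ (vIdx_lt v)).2 _ (vIdx_lt w))
  have hidx : (vIdx v / 3 + vIdx w / 3) % 3 * 3 + (vIdx v % 3 + vIdx w % 3) % 3 = vIdx (v + w) := by
    have := ZMod.val_lt (v 0); have := ZMod.val_lt (v 1); have := ZMod.val_lt (w 0); have := ZMod.val_lt (w 1)
    unfold vIdx
    rw [Pi.add_apply, Pi.add_apply, ZMod.val_add, ZMod.val_add]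
    omega
  rw [hidx] at h2
  have := (qv_repr v).comp (qv_repr w)
  rw [h2] at this
  exact (qv_repr (v + w)).unique this

theorem qv_inj : Function.Injective qv := by
  intro v w h
  have hc : qEl (vIdx v) = qEl (vIdx w) := by
    have h1 := qv_repr v
    rw [h] at h1
    have h2 := qv_repr w
    have key : ∀ a < 9, ∀ b < 9, (∀ i < 24, papp (qEl a) i = papp (qEl b) i) → qEl a = qEl b := by
      decide +kernel
    refine key _ (vIdx_lt v) _ (vIdx_lt w) fun i hi => ?_
    rw [← idx_pt hi, ← h1 (pt i), h2 (pt i)]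
  have hi := List.inj_on_of_nodup_map qEl_nodup (List.mem_range.mpr (vIdx_lt v)) (List.mem_range.mpr (vIdx_lt w)) hc
  have := ZMod.val_lt (v 0); have := ZMod.val_lt (v 1); have := ZMod.val_lt (w 0); have := ZMod.val_lt (w 1)
  unfold vIdx at hi
  funext i
  fin_cases i <;> apply ZMod.val_injective <;> simp only [Fin.zero_eta, Fin.mk_one] <;> omega

theorem repr_Qs {c : ℕ} {g : Equiv.Perm GolayPt} (hg : Repr c g)
    (h : ((unpackF 4 qQ0).all fun m => (unpackF 4 qQ0).any fun m' => Nat.beq (pmask c m) m') = true) :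
    g • Qs = Qs := by
  simp only [List.all_eq_true, List.any_eq_true] at h
  refine Finset.eq_of_subset_of_card_le (fun s hs => ?_) (by rw [Finset.card_smul_finset])
  obtain ⟨t, ht, rfl⟩ := Finset.mem_smul_finset.mp hs
  obtain ⟨m, hm, rfl⟩ := Finset.mem_image.mp ht
  obtain ⟨m', hm', he⟩ := h m (List.mem_toFinset.mp hm)
  refine Finset.mem_image.mpr ⟨m', List.mem_toFinset.mpr hm', ?_⟩
  rw [← Nat.eq_of_beq_eq_true he, hg.toSet_pmask]
  rfl

theorem repr_mem_SQ {c : ℕ} {g : Equiv.Perm GolayPt} (hg : Repr c g) (hk : gensKept c = true)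
    (hd : Nat.beq (pmask c 340831) 340831 = true)
    (h : ((unpackF 4 qQ0).all fun m => (unpackF 4 qQ0).any fun m' => Nat.beq (pmask c m) m') = true) : g ∈ SQ := by
  refine ⟨⟨mem_M24_of_gensKept hg hk, ?_⟩, repr_Qs hg h⟩
  show g • toSet 340831 = toSet 340831
  conv_rhs => rw [← Nat.eq_of_beq_eq_true hd]
  exact (hg.toSet_pmask _).symm

theorem qv_mem (v : Fin 2 → ZMod 3) : qv v ∈ SQ := by
  have h := qEl_ok
  simp only [List.all_eq_true, Bool.and_eq_true, List.mem_range] at h
  obtain ⟨⟨⟨⟨-, h2⟩, h3⟩, h4⟩, -⟩ := h _ (vIdx_lt v)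
  exact repr_mem_SQ (qv_repr v) h2 h3 (by simpa [List.all_eq_true] using h4)

theorem qNorm_ok : ((gQt.zip qNorm).all fun x =>
    Nat.beq (pcomp x.1.c (qEl 3)) (pcomp (qEl x.2.1) x.1.c) &&
      Nat.beq (pcomp x.1.c (qEl 1)) (pcomp (qEl x.2.2) x.1.c) && Nat.blt x.2.1 9 && Nat.blt x.2.2 9) = true ∧
    qNorm.length = gQt.length := by decide +kernel

/-- The vector with a given number. -/
def vOf (k : ℕ) : Fin 2 → ZMod 3 := ![((k / 3 : ℕ) : ZMod 3), ((k % 3 : ℕ) : ZMod 3)]

theorem vIdx_vOf {k : ℕ} (h : k < 9) : vIdx (vOf k) = k := by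
  interval_cases k <;> decide +kernel

theorem qv_span (v : Fin 2 → ZMod 3) :
    qv v = qv ((v 0).val • vOf 3) * qv ((v 1).val • vOf 1) := by
  rw [← qv_add]
  congr 1
  revert v; decide +kernel

theorem qv_nsmul (n : ℕ) (v : Fin 2 → ZMod 3) : qv (n • v) = qv v ^ n := by
  induction n with
  | zero =>
    have h := qv_add 0 0
    rw [add_zero] at h
    rw [zero_smul, pow_zero]
    exact left_eq_mul.mp h
  | succ n ih => rw [succ_nsmul, qv_add, ih, pow_succ]

theorem qv_normal {g : Equiv.Perm GolayPt} (hg : g ∈ SQ) (v : Fin 2 → ZMod 3) :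
    ∃ w, qv w = g * qv v * g⁻¹ := by
  rw [← gQt_eq] at hg
  revert v
  refine Subgroup.closure_induction (p := fun g _ => ∀ v, ∃ w, qv w = g * qv v * g⁻¹) ?_ ?_ ?_ ?_ hg
  · rintro a ⟨e, he, ha⟩ v
    obtain ⟨h1, hlen⟩ := qNorm_ok
    obtain ⟨i, hi, rfl⟩ := List.mem_iff_getElem.mp he
    have hx := List.all_eq_true.mp h1 (gQt[i], qNorm[i]'(by omega)) (by
      rw [List.mem_iff_getElem]
      exact ⟨i, by simp; omega, by simp⟩)
    simp only [Bool.and_eq_true, Nat.blt_eq] at hx
    obtain ⟨⟨⟨hA, hB⟩, hA9⟩, hB9⟩ := hx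
    have conj : ∀ {k j : ℕ}, k < 9 → j < 9 →
        Nat.beq (pcomp gQt[i].c (qEl k)) (pcomp (qEl j) gQt[i].c) = true →
        qv (vOf j) = a * qv (vOf k) * a⁻¹ := by
      intro k j hk hj h
      have hk' := qv_repr (vOf k); rw [vIdx_vOf hk] at hk'
      have hj' := qv_repr (vOf j); rw [vIdx_vOf hj] at hj'
      have h' := ha.1.comp hk'
      rw [Nat.eq_of_beq_eq_true h] at h'
      rw [eq_mul_inv_iff_mul_eq]
      exact (hj'.comp ha.1).unique h'
    refine ⟨(v 0).val • vOf (qNorm[i]'(by omega)).1 + (v 1).val • vOf (qNorm[i]'(by omega)).2, ?_⟩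
    rw [qv_add, qv_nsmul, qv_nsmul, conj (by norm_num) hA9 hA, conj (by norm_num) hB9 hB, qv_span v, qv_nsmul,
      qv_nsmul, conj_pow, conj_pow]
    group
  · intro v; exact ⟨v, by simp⟩
  · intro a b _ _ h1 h2 v
    obtain ⟨w, hw⟩ := h2 v
    obtain ⟨u, hu⟩ := h1 w
    exact ⟨u, by rw [hu, hw]; group⟩
  · intro a _ h1 v
    obtain ⟨w, hw⟩ := (Finite.injective_iff_surjective.mp
      (show Function.Injective (fun v => (h1 v).choose) by
        intro x y hxy
        have hx := (h1 x).choose_spec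
        have hy := (h1 y).choose_spec
        simp only at hxy
        rw [hxy, hy] at hx
        exact (qv_inj (mul_left_cancel (mul_right_cancel hx))).symm)) v
    refine ⟨w, ?_⟩
    have hs := (h1 w).choose_spec
    simp only at hw
    rw [hw] at hs
    rw [hs]; group

/-- Conjugation on the coordinates. -/
noncomputable def qAct (g : SQ) : (Fin 2 → ZMod 3) →+ (Fin 2 → ZMod 3) :=
  AddMonoidHom.mk' (fun v => (qv_normal g.2 v).choose) fun v w => qv_inj (by
    refine (qv_normal g.2 (v + w)).choose_spec.trans ?_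
    rw [qv_add v w, qv_add, (qv_normal g.2 v).choose_spec, (qv_normal g.2 w).choose_spec]
    group)

theorem qAct_spec (g : SQ) (v : Fin 2 → ZMod 3) :
    qv (qAct g v) = (g : Equiv.Perm GolayPt) * qv v * (g : Equiv.Perm GolayPt)⁻¹ := (qv_normal g.2 v).choose_spec

/-- The representation on the normal subgroup. -/
noncomputable def qEnd : SQ →* Module.End (ZMod 3) (Fin 2 → ZMod 3) where
  toFun g := (qAct g).toZModLinearMap 3
  map_one' := LinearMap.ext fun v => qv_inj (by
    show qv (qAct 1 v) = qv v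
    rw [qAct_spec]; simp)
  map_mul' a b := LinearMap.ext fun v => qv_inj (by
    show qv (qAct (a * b) v) = qv (qAct a (qAct b v))
    rw [qAct_spec, qAct_spec, qAct_spec, Subgroup.coe_mul]; group)

/-- The map onto the general linear group. -/
noncomputable def qGL : SQ →* GL (Fin 2) (ZMod 3) :=
  ((Units.mapEquiv (LinearMap.toMatrixAlgEquiv (Pi.basisFun (ZMod 3) (Fin 2))).toMulEquiv).toMonoidHom).comp
    qEnd.toHomUnits

theorem qGL_eq_iff {a b : SQ} : qGL a = qGL b ↔ ∀ v, qAct a v = qAct b v := by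
  constructor
  · intro h v
    have h1 : qEnd.toHomUnits a = qEnd.toHomUnits b :=
      (Units.mapEquiv (LinearMap.toMatrixAlgEquiv (Pi.basisFun (ZMod 3) (Fin 2))).toMulEquiv).injective h
    exact LinearMap.congr_fun (congrArg Units.val h1) v
  · intro h
    have h1 : qEnd.toHomUnits a = qEnd.toHomUnits b := Units.ext (LinearMap.ext h)
    show (Units.mapEquiv _) (qEnd.toHomUnits a) = (Units.mapEquiv _) (qEnd.toHomUnits b)
    rw [h1]

theorem qLift_ok : (qLift.all fun x => permOK x.1 && gensKept x.1 && Nat.beq (pmask x.1 340831) 340831 &&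
    ((unpackF 4 qQ0).all fun m => (unpackF 4 qQ0).any fun m' => Nat.beq (pmask x.1 m) m') &&
    Nat.blt x.2.1 9 && Nat.blt x.2.2 9 &&
    Nat.beq (pcomp x.1 (qEl 3)) (pcomp (qEl x.2.1) x.1) &&
    Nat.beq (pcomp x.1 (qEl 1)) (pcomp (qEl x.2.2) x.1)) = true ∧
    (qLift.map Prod.snd).Nodup ∧ qLift.length = 48 := by decide +kernel

theorem qGL_range : 48 ≤ Nat.card ↥qGL.range := by
  classical
  obtain ⟨hall, hnd, hlen⟩ := qLift_ok
  simp only [List.all_eq_true, Bool.and_eq_true, Nat.blt_eq] at hall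
  have key : ∀ x ∈ qLift, ∃ a : SQ, qAct a (vOf 3) = vOf x.2.1 ∧ qAct a (vOf 1) = vOf x.2.2 := by
    intro x hx
    obtain ⟨⟨⟨⟨⟨⟨⟨hp, hk⟩, hd⟩, hq⟩, hA9⟩, hB9⟩, hA⟩, hB⟩ := hall x hx
    obtain ⟨g, hg⟩ := exists_repr_of_permOK hp
    have hgS : g ∈ SQ := repr_mem_SQ hg hk hd (by simpa [List.all_eq_true] using hq)
    have conj : ∀ {k j : ℕ}, k < 9 → j < 9 → Nat.beq (pcomp x.1 (qEl k)) (pcomp (qEl j) x.1) = true →
        qAct ⟨g, hgS⟩ (vOf k) = vOf j := by
      intro k j hk hj h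
      have hk' := qv_repr (vOf k); rw [vIdx_vOf hk] at hk'
      have hj' := qv_repr (vOf j); rw [vIdx_vOf hj] at hj'
      have h' := hg.comp hk'
      rw [Nat.eq_of_beq_eq_true h] at h'
      refine qv_inj ?_
      rw [qAct_spec, mul_inv_eq_iff_eq_mul]
      exact h'.unique (hj'.comp hg)
    exact ⟨⟨g, hgS⟩, conj (by norm_num) hA9 hA, conj (by norm_num) hB9 hB⟩
  choose f hf3 hf1 using key
  let F : ↥qLift.toFinset → ↥qGL.range := fun x => ⟨qGL (f x.1 (List.mem_toFinset.mp x.2)), _, rfl⟩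
  have hFinj : Function.Injective F := by
    intro x y h
    have h' := qGL_eq_iff.mp (congrArg Subtype.val h)
    have e1 := h' (vOf 3)
    have e2 := h' (vOf 1)
    rw [hf3, hf3] at e1
    rw [hf1, hf1] at e2
    have hx := hall x.1 (List.mem_toFinset.mp x.2)
    have hy := hall y.1 (List.mem_toFinset.mp y.2)
    have d1 := congrArg vIdx e1
    have d2 := congrArg vIdx e2
    rw [vIdx_vOf hx.1.1.1.2, vIdx_vOf hy.1.1.1.2] at d1
    rw [vIdx_vOf hx.1.1.2, vIdx_vOf hy.1.1.2] at d2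
    exact Subtype.ext (List.inj_on_of_nodup_map hnd (List.mem_toFinset.mp x.2) (List.mem_toFinset.mp y.2) (Prod.ext d1 d2))
  have := Nat.card_le_card_of_injective F hFinj
  rw [Nat.card_eq_fintype_card, Fintype.card_coe,
    List.toFinset_card_of_nodup hnd.of_map, hlen] at this
  exact this

theorem qGL_surj : Function.Surjective qGL ∧ Nat.card ↥qGL.ker = 9 ∧ ∀ x ∈ qGL.ker, ∀ y ∈ qGL.ker, x * y = y * x := by
  classical
  have hcard : Nat.card (GL (Fin 2) (ZMod 3)) = 48 := by
    rw [Matrix.card_GL_field]; simp [Fin.prod_univ_two, ZMod.card]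
  have htop : qGL.range = ⊤ := Subgroup.eq_top_of_le_card _ (by rw [hcard]; exact qGL_range)
  have hsurj := MonoidHom.range_eq_top.mp htop
  have hker : Nat.card ↥qGL.ker = 9 := by
    have h := Subgroup.card_eq_card_quotient_mul_card_subgroup qGL.ker
    rw [card_SQ, Nat.card_congr (QuotientGroup.quotientKerEquivOfSurjective qGL hsurj).toEquiv, hcard] at h
    omega
  let ι : (Fin 2 → ZMod 3) → ↥qGL.ker := fun v => ⟨⟨qv v, qv_mem v⟩, by
    rw [MonoidHom.mem_ker, ← qGL.map_one, qGL_eq_iff]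
    intro w
    refine qv_inj ?_
    rw [qAct_spec, qAct_spec, Subgroup.coe_one, one_mul, inv_one, mul_one, mul_inv_eq_iff_eq_mul,
      ← qv_add, ← qv_add, add_comm]⟩
  have hι : Function.Surjective ι := by
    refine ((Nat.bijective_iff_injective_and_card ι).mpr ⟨fun v w h =>
      qv_inj (congrArg (fun z : ↥qGL.ker => ((z : SQ) : Equiv.Perm GolayPt)) h), ?_⟩).2
    rw [hker]; simp [Nat.card_eq_fintype_card, ZMod.card]
  refine ⟨hsurj, hker, fun x hx y hy => ?_⟩
  obtain ⟨v, hv⟩ := hι ⟨x, hx⟩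
  obtain ⟨w, hw⟩ := hι ⟨y, hy⟩
  have e1 : qv v = (x : Equiv.Perm GolayPt) := congrArg (fun z : ↥qGL.ker => ((z : SQ) : Equiv.Perm GolayPt)) hv
  have e2 : qv w = (y : Equiv.Perm GolayPt) := congrArg (fun z : ↥qGL.ker => ((z : SQ) : Equiv.Perm GolayPt)) hw
  refine Subtype.ext ?_
  rw [Subgroup.coe_mul, Subgroup.coe_mul, ← e1, ← e2, ← qv_add, ← qv_add, add_comm]

theorem SQ_suborbits : ∃ X₁ ∈ quartets D0, ∃ X₂ ∈ quartets D0, ∃ X₃ ∈ quartets D0, ∃ X₄ ∈ quartets D0,
    (MulAction.orbit SQ X₁).ncard = 12 ∧ (MulAction.orbit SQ X₂).ncard = 27 ∧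
    (MulAction.orbit SQ X₃).ncard = 72 ∧ (MulAction.orbit SQ X₄).ncard = 108 ∧
    quartets D0 = {Qs} ∪ MulAction.orbit SQ X₁ ∪ MulAction.orbit SQ X₂ ∪ MulAction.orbit SQ X₃ ∪
      MulAction.orbit SQ X₄ := by
  classical
  have hmem : ∀ {o : ℕ}, (List.range cQt.n).any (fun i => Nat.beq (cQt.obj i) o) = true →
      (famK 4).Valid o ∧ (famK 4).dec o ∈ quartets D0 := by
    intro o h
    simp only [List.any_eq_true, List.mem_range] at h
    obtain ⟨i, hi, he⟩ := h
    rw [← Nat.eq_of_beq_eq_true he]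
    refine ⟨(orb_valid qQ0_valid gD_ok cQt_ok i hi).1, ?_⟩
    rw [quartets_std, ← stabD.1, show famSet 4 qQ0 = (famK 4).dec qQ0 from rfl,
      orbit_cert qQ0_valid gD_ok cQt_ok]
    exact ⟨_, Finset.mem_coe.mpr (Finset.mem_image.mpr ⟨i, Finset.mem_range.mpr hi, rfl⟩), rfl⟩
  obtain ⟨v1, m1⟩ := hmem (o := 1240376798909624292395192386) (by decide +kernel)
  obtain ⟨v2, m2⟩ := hmem (o := 1238247011630072215308865546) (by decide +kernel)
  obtain ⟨v3, m3⟩ := hmem (o := 1237968391949317646393017096) (by decide +kernel)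
  obtain ⟨v4, m4⟩ := hmem (o := 1257585104607268044883886101) (by decide +kernel)
  have n1 := ncard_orbit_cert v1 gQt_ok cQt12_ok
  have n2 := ncard_orbit_cert v2 gQt_ok cQt27_ok
  have n3 := ncard_orbit_cert v3 gQt_ok cQt72_ok
  have n4 := ncard_orbit_cert v4 gQt_ok cQt108_ok
  rw [gQt_eq, show cQt12.n = 12 from rfl] at n1
  rw [gQt_eq, show cQt27.n = 27 from rfl] at n2
  rw [gQt_eq, show cQt72.n = 72 from rfl] at n3
  rw [gQt_eq, show cQt108.n = 108 from rfl] at n4
  refine ⟨_, m1, _, m2, _, m3, _, m4, n1, n2, n3, n4, (Set.eq_of_subset_of_ncard_le ?_ ?_ (Set.toFinite _)).symm⟩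
  · have hsub : ∀ {y : Finset (Finset GolayPt)}, y ∈ quartets D0 → MulAction.orbit SQ y ⊆ quartets D0 := by
      rintro y hy _ ⟨⟨k, hk⟩, rfl⟩
      have := smul_quartets hk.1.1 hy
      rwa [show k • D0 = D0 from hk.1.2] at this
    simp only [Set.union_subset_iff, Set.singleton_subset_iff]
    exact ⟨⟨⟨⟨Q0_quartet, hsub m1⟩, hsub m2⟩, hsub m3⟩, hsub m4⟩
  · rw [ncard_quartets_std]
    -- the five pieces are disjoint, having different sizes
    have hq : MulAction.orbit SQ Qs = {Qs} := by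
      ext y
      constructor
      · rintro ⟨⟨k, hk⟩, rfl⟩; exact hk.2
      · rintro rfl; exact MulAction.mem_orbit_self _
    have hdisj : ∀ {a b : Finset (Finset GolayPt)}, (MulAction.orbit SQ a).ncard ≠ (MulAction.orbit SQ b).ncard →
        Disjoint (MulAction.orbit SQ a) (MulAction.orbit SQ b) := by
      intro a b h
      refine Set.disjoint_left.mpr fun y ha hb => h ?_
      rw [← MulAction.orbit_eq_iff.mpr ha, MulAction.orbit_eq_iff.mpr hb]
    have n0 : (MulAction.orbit SQ Qs).ncard = 1 := by rw [hq, Set.ncard_singleton]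
    rw [← hq]
    rw [Set.ncard_union_eq, Set.ncard_union_eq, Set.ncard_union_eq, Set.ncard_union_eq, n0, n1, n2, n3, n4]
    all_goals first
      | exact Set.toFinite _
      | (simp only [Set.disjoint_union_left]
         repeat' constructor
         all_goals exact hdisj (by simp [n0, n1, n2, n3, n4]))
      | exact hdisj (by simp [n0, n1, n2, n3, n4])

theorem SQ_transitive {p q : GolayPt} (hp : p ∈ D0) (hq : q ∈ D0) : ∃ g ∈ SQ, g p = q := by
  obtain ⟨a, ha, hap⟩ := reach_of_orbMask gQt_ok (b := 0) (mask := 340831) (by norm_num) (by decide +kernel) p hp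
  obtain ⟨b, hb, hbq⟩ := reach_of_orbMask gQt_ok (b := 0) (mask := 340831) (by norm_num) (by decide +kernel) q hq
  rw [gQt_eq] at ha hb
  exact ⟨b * a⁻¹, mul_mem hb (inv_mem ha), by rw [Equiv.Perm.mul_apply, ← hap]; simp [hbq]⟩

end CfsgGolay
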