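/-
Transfer of the quartet facts to an arbitrary dodecad and quartet.
-/
import Cfsg.Agent.Lib.Golay.QuartStab

set_option autoImplicit false

namespace CfsgGolay

open Cfsg
open scoped Pointwise

attribute [local irreducible] codeL octadL dodecadL slpCodes

theorem quartet_stab_map (d : Finset GolayPt) (Q : Finset (Finset GolayPt)) :
    (MulAction.stabilizer M24 d ⊓ MulAction.stabilizer M24 Q).map M24.subtype =
      stabM d ⊓ MulAction.stabilizer (Equiv.Perm GolayPt) Q := by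
  rw [map_inf_subtype, map_stab, map_stab]
  exact le_antisymm (inf_le_inf_left _ inf_le_right)
    (le_inf inf_le_left (le_inf (inf_le_left.trans inf_le_left) inf_le_right))

theorem quartet_stab_facts {d : Finset GolayPt} (hd : d ∈ dodecads) {Q : Finset (Finset GolayPt)}
    (hQ : Q ∈ quartets d) :
    ∃ g ∈ M24, g • D0 = d ∧ g • Qs = Q ∧
      IsConjOf g SQ (stabM d ⊓ MulAction.stabilizer (Equiv.Perm GolayPt) Q) := by
  obtain ⟨g, hg, rfl, rfl⟩ := quartet_cfg hd hQ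
  exact ⟨g, hg, rfl, rfl, (isConjOf_stabM hg D0).inf (isConjOf_stab Qs)⟩

theorem quartet_stab_struct {d : Finset GolayPt} (hd : d ∈ dodecads) {Q : Finset (Finset GolayPt)}
    (hQ : Q ∈ quartets d) :
    ∃ (N : Subgroup ↥(MulAction.stabilizer M24 d ⊓ MulAction.stabilizer M24 Q)) (_ : N.Normal),
      Nat.card N = 9 ∧
        Nonempty (↥(MulAction.stabilizer M24 d ⊓ MulAction.stabilizer M24 Q) ⧸ N ≃* GL (Fin 2) (ZMod 3)) := by
  obtain ⟨g, hg, -, -, hc⟩ := quartet_stab_facts hd hQ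
  set S := MulAction.stabilizer M24 d ⊓ MulAction.stabilizer M24 Q with hS
  let e : ↥S ≃* ↥SQ := ((S.equivMapOfInjective _ Subtype.val_injective).trans
    (MulEquiv.subgroupCongr ((quartet_stab_map d Q).trans hc.map_eq.symm))).trans
    (SQ.equivMapOfInjective _ (MulAut.conj g).injective).symm
  obtain ⟨hsurj, hker, -⟩ := qGL_surj
  let φ : ↥S →* GL (Fin 2) (ZMod 3) := qGL.comp e.toMonoidHom
  refine ⟨φ.ker, inferInstance, ?_, ⟨QuotientGroup.quotientKerEquivOfSurjective φ (hsurj.comp e.surjective)⟩⟩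
  rw [← hker]
  exact Nat.card_congr (e.toEquiv.subtypeEquiv fun x => Iff.rfl)

theorem quartet_suborbits {d : Finset GolayPt} (hd : d ∈ dodecads) {Q : Finset (Finset GolayPt)}
    (hQ : Q ∈ quartets d) : ∃ X₁ ∈ quartets d, ∃ X₂ ∈ quartets d, ∃ X₃ ∈ quartets d, ∃ X₄ ∈ quartets d,
    let H := stabM d ⊓ MulAction.stabilizer (Equiv.Perm GolayPt) Q
    (MulAction.orbit H X₁).ncard = 12 ∧ (MulAction.orbit H X₂).ncard = 27 ∧
    (MulAction.orbit H X₃).ncard = 72 ∧ (MulAction.orbit H X₄).ncard = 108 ∧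
    quartets d = {Q} ∪ MulAction.orbit H X₁ ∪ MulAction.orbit H X₂ ∪ MulAction.orbit H X₃ ∪
      MulAction.orbit H X₄ := by
  obtain ⟨g, hg, rfl, rfl, hc⟩ := quartet_stab_facts hd hQ
  obtain ⟨X₁, m1, X₂, m2, X₃, m3, X₄, m4, n1, n2, n3, n4, hu⟩ := SQ_suborbits
  refine ⟨g • X₁, smul_quartets hg m1, g • X₂, smul_quartets hg m2, g • X₃, smul_quartets hg m3,
    g • X₄, smul_quartets hg m4, ?_, ?_, ?_, ?_, ?_⟩
  · rw [hc.ncard_orbit]; exact n1
  · rw [hc.ncard_orbit]; exact n2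
  · rw [hc.ncard_orbit]; exact n3
  · rw [hc.ncard_orbit]; exact n4
  · rw [quartets_smul hg, hu, hc.orbit_smul, hc.orbit_smul, hc.orbit_smul, hc.orbit_smul]
    simp only [Set.smul_set_union, Set.smul_set_singleton]

theorem quartet_stab_transitive {d : Finset GolayPt} (hd : d ∈ dodecads) {Q : Finset (Finset GolayPt)}
    (hQ : Q ∈ quartets d) {p q : GolayPt} (hp : p ∈ d) (hq : q ∈ d) :
    ∃ k ∈ stabM d ⊓ MulAction.stabilizer (Equiv.Perm GolayPt) Q, k p = q := by
  obtain ⟨g, hg, rfl, rfl, hc⟩ := quartet_stab_facts hd hQ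
  obtain ⟨k, hk, he⟩ := SQ_transitive (inv_apply_mem.mpr hp) (inv_apply_mem.mpr hq)
  refine ⟨g * k * g⁻¹, (hc _).mpr (by simpa [mul_assoc] using hk), ?_⟩
  rw [Equiv.Perm.mul_apply, Equiv.Perm.mul_apply, he]
  exact Equiv.apply_symm_apply g q

end CfsgGolay
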