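/-
Sequences of masks as coded objects.
-/
import Cfsg.Agent.Lib.Golay.Transfer

set_option autoImplicit false

namespace CfsgGolay

open Cfsg
open scoped Pointwise

/-- Sequences of `k` sets of points. -/
def seqK (k : ℕ) : Kind (Fin k → Finset GolayPt) where
  dec n i := toSet ((unpackF k n).getD i 0)
  act e n := packF ((unpackF k n).map (pmT e))
  Valid n := packF (unpackF k n) = n
  spec := by
    intro e g n hg _
    set L := (unpackF k n).map (pmT e) with hL
    have hlt : ∀ m ∈ L, m < 2 ^ 24 := by
      intro m hm
      obtain ⟨x, hx, rfl⟩ := List.mem_map.mp hm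
      exact (hg.toSet_pmT (unpackF_lt _ _ x hx)).2
    have hup : unpackF k (packF L) = L := by
      conv_lhs => rw [show k = L.length by rw [hL, List.length_map, unpackF_length]]
      exact unpackF_packF _ hlt
    refine ⟨by rw [hup], funext fun i => ?_⟩
    have hi : (i : ℕ) < (unpackF k n).length := by rw [unpackF_length]; exact i.2
    rw [Pi.smul_apply, hup, hL, List.getD_eq_getElem _ _ hi, List.getD_eq_getElem _ _ (by simpa using hi),
      List.getElem_map]
    exact (hg.toSet_pmT (unpackF_lt _ _ _ (List.getElem_mem hi))).1.symm
  inj := by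
    intro a ha b hb h
    have hl : unpackF k a = unpackF k b := by
      refine List.ext_getElem (by rw [unpackF_length, unpackF_length]) fun i h1 h2 => ?_
      have h' := congrFun h ⟨i, by rwa [unpackF_length] at h1⟩
      simp only [List.getD_eq_getElem _ _ h1, List.getD_eq_getElem _ _ h2] at h'
      exact toSet_injOn (unpackF_lt _ _ _ (List.getElem_mem h1)) (unpackF_lt _ _ _ (List.getElem_mem h2)) h'
    rw [← ha, ← hb, hl]

end CfsgGolay
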