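/-
Subgroups of order seven: normaliser, centraliser and invariant trio.
-/
import Cfsg.Agent.Lib.Golay.ElemCent

set_option autoImplicit false

namespace CfsgGolay

open Cfsg
open scoped Pointwise

attribute [local irreducible] codeL octadL dodecadL slpCodes

theorem seven_pow_checked : ((List.range 7).all fun i => Nat.beq (cP7.obj i) (ppow e7 i)) = true ∧
    kC7.mem' (ppow e7 2) = true ∧ kC7.mem' (ppow e7 4) = true ∧
    kC7.mem' (ppow e7 0) = false ∧ kC7.mem' (ppow e7 3) = false ∧ kC7.mem' (ppow e7 5) = false ∧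
    kC7.mem' (ppow e7 6) = false := by decide +kernel

theorem seven_noncomm : ∃ a ∈ centM r7, ∃ b ∈ centM r7, a * b ≠ b * a := by
  have hlen : 2 ≤ gC7.length := by decide +kernel
  have hchk : Nat.beq (pcomp ((gC7.map GenT.c).getD 0 0) ((gC7.map GenT.c).getD 1 0))
      (pcomp ((gC7.map GenT.c).getD 1 0) ((gC7.map GenT.c).getD 0 0)) = false := by decide +kernel
  rw [List.getD_eq_getElem _ _ (by rw [List.length_map]; omega), List.getD_eq_getElem _ _ (by rw [List.length_map]; omega),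
    List.getElem_map, List.getElem_map] at hchk
  obtain ⟨a, -, hga⟩ := exists_good gC7_ok (List.getElem_mem (show 0 < gC7.length by omega))
  obtain ⟨b, -, hgb⟩ := exists_good gC7_ok (List.getElem_mem (show 1 < gC7.length by omega))
  have hle := Gr_le_centM gC7_ok good_7.1 comm_checked.2.2.2.1
  refine ⟨a, hle (mem_Gr (List.getElem_mem _) hga), b, hle (mem_Gr (List.getElem_mem _) hgb), fun he => ?_⟩
  have h1 := hga.1.comp hgb.1
  have h2 := hgb.1.comp hga.1
  rw [he] at h1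
  rw [permDec_injOn ⟨pcomp_lt _ _, _, h1⟩ ⟨pcomp_lt _ _, _, h2⟩ ((permDec_eq h1).trans (permDec_eq h2).symm)]
    at hchk
  simp at hchk

theorem repr_r7 : Repr e7 r7 := by
  rw [r7]; exact (rep_spec rep_facts.2.2.2.2).1

attribute [local irreducible] r7

theorem seven_zpowers {x : Equiv.Perm GolayPt} (hx : x ∈ Subgroup.zpowers r7) :
    ∃ i < 7, Repr (ppow e7 i) x := by
  have hfin : IsOfFinOrder r7 := isOfFinOrder_of_finite r7
  rw [← hfin.mem_powers_iff_mem_zpowers, Submonoid.mem_powers_iff] at hx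
  obtain ⟨n, rfl⟩ := hx
  refine ⟨n % 7, Nat.mod_lt _ (by norm_num), ?_⟩
  have := repr_r7.pow (n % 7)
  rw [← pow_mod_orderOf, order_7]
  exact this

theorem conj_orbit {L : List GenT} {o : ℕ} {C : Cert} {z : Equiv.Perm GolayPt} (hz : Repr o z)
    (hlt : o < 2 ^ 120) (hL : gensOK L = true) (hC : orbOK cactF L o C = true) :
    MulAction.orbit (Gr L) (⟨z⟩ : PConj) = conjK.dec '' (C.codes : Set ℕ) ∧ ∀ i < C.n, PValid (C.obj i) := by
  have horb := orbit_cert (K := conjK) (⟨hlt, z, hz⟩) hL hC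
  have hdec : conjK.dec o = (⟨z⟩ : PConj) := PConj.val_injective (permDec_eq hz)
  rw [hdec] at horb
  exact ⟨horb, fun i hi => (orb_valid (K := conjK) (⟨hlt, z, hz⟩) hL hC i hi).1⟩

/-- The orbit of the element of order seven under the group normalising what it generates. -/
theorem seven_orbit (H : Subgroup (Equiv.Perm GolayPt))
    (hH : ∀ g, g ∈ H ↔ g ∈ M24 ∧ g * r7 * g⁻¹ ∈ Subgroup.zpowers r7) :
    MulAction.orbit H (⟨r7⟩ : PConj) = {⟨r7⟩, ⟨r7 ^ 2⟩, ⟨r7 ^ 4⟩} := by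
  obtain ⟨horb, hval⟩ := conj_orbit repr_r7 rep_lt.2.2 gT_ok kC7_ok
  have hreach : ∀ i, kC7.mem' (ppow e7 i) = true → (⟨r7 ^ i⟩ : PConj) ∈ MulAction.orbit H (⟨r7⟩ : PConj) := by
    intro i hi
    simp only [Cert.mem', List.any_eq_true, List.mem_range] at hi
    obtain ⟨j, hj, he⟩ := hi
    have : (⟨r7 ^ i⟩ : PConj) ∈ MulAction.orbit (Gr gT) (⟨r7⟩ : PConj) := by
      rw [horb]
      refine ⟨ppow e7 i, Finset.mem_coe.mpr (Finset.mem_image.mpr
        ⟨j, Finset.mem_range.mpr hj, Nat.eq_of_beq_eq_true he⟩), PConj.val_injective (permDec_eq (repr_r7.pow i))⟩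
    obtain ⟨⟨g, hg⟩, hge⟩ := this
    have hge' : g * r7 * g⁻¹ = r7 ^ i := congrArg PConj.val hge
    exact ⟨⟨g, (hH g).mpr ⟨Gr_le_M24 gT_ok hg, by rw [hge']; exact Subgroup.npow_mem_zpowers r7 i⟩⟩, hge⟩
  refine Set.Subset.antisymm ?_ ?_
  · rintro _ ⟨⟨g, hg⟩, rfl⟩
    obtain ⟨hgM, hgz⟩ := (hH g).mp hg
    obtain ⟨i, hi, hr⟩ := seven_zpowers hgz
    have hgT : g ∈ Gr gT := by rw [stabT.1]; exact norm_7_le hgM hgz
    have hmem : (⟨g * r7 * g⁻¹⟩ : PConj) ∈ MulAction.orbit (Gr gT) (⟨r7⟩ : PConj) := ⟨⟨g, hgT⟩, rfl⟩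
    rw [horb] at hmem
    obtain ⟨m, hm, hmd⟩ := hmem
    obtain ⟨j, hj, rfl⟩ := Finset.mem_image.mp (Finset.mem_coe.mp hm)
    rw [Finset.mem_range] at hj
    have hv := hval j hj
    have heq : kC7.obj j = ppow e7 i := by
      refine permDec_injOn hv ⟨?_, _, hr⟩ ((congrArg PConj.val hmd).trans (permDec_eq hr).symm)
      cases i with
      | zero => exact pvalid_pid.1
      | succ n => exact pcomp_lt _ _
    have hmem' : kC7.mem' (ppow e7 i) = true := by
      simp only [Cert.mem', List.any_eq_true, List.mem_range]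
      exact ⟨j, hj, by rw [heq]; exact Nat.beq_refl _⟩
    have hx : g * r7 * g⁻¹ = r7 ^ i := hr.unique (repr_r7.pow i)
    show (⟨g * r7 * g⁻¹⟩ : PConj) ∈ _
    rw [hx]
    obtain ⟨-, -, -, h0, h3, h5, h6⟩ := seven_pow_checked
    interval_cases i <;>
      first
        | (simp [h0] at hmem'; done) | (simp [h3] at hmem'; done) | (simp [h5] at hmem'; done)
        | (simp [h6] at hmem'; done) | simp
  · rintro x (rfl | rfl | rfl)
    · exact MulAction.mem_orbit_self _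
    · exact hreach 2 seven_pow_checked.2.1
    · exact hreach 4 seven_pow_checked.2.2.1

theorem seven_orbit_card : ({⟨r7⟩, ⟨r7 ^ 2⟩, ⟨r7 ^ 4⟩} : Set PConj).ncard = 3 := by
  have h : ∀ i j, i < 7 → j < 7 → (⟨r7 ^ i⟩ : PConj) = ⟨r7 ^ j⟩ → i = j := by
    intro i j hi hj he
    have := congrArg PConj.val he
    exact pow_injOn_Iio_orderOf (by rw [order_7]; exact hi) (by rw [order_7]; exact hj) this
  rw [show (⟨r7⟩ : PConj) = ⟨r7 ^ 1⟩ by rw [pow_one], Set.ncard_eq_three]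
  exact ⟨_, _, _, fun e => absurd (h 1 2 (by norm_num) (by norm_num) e) (by norm_num),
    fun e => absurd (h 1 4 (by norm_num) (by norm_num) e) (by norm_num),
    fun e => absurd (h 2 4 (by norm_num) (by norm_num) e) (by norm_num), rfl⟩

/-- The elements normalising the standard subgroup of order seven. -/
def norm7 : Subgroup (Equiv.Perm GolayPt) where
  carrier := {g | g ∈ M24 ∧ ∀ x, x ∈ Subgroup.zpowers r7 ↔ g * x * g⁻¹ ∈ Subgroup.zpowers r7}
  one_mem' := ⟨one_mem _, fun x => by simp⟩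
  mul_mem' := fun {a b} ha hb => ⟨mul_mem ha.1 hb.1, fun x => by
    rw [hb.2 x, ha.2 (b * x * b⁻¹)]; simp [mul_assoc]⟩
  inv_mem' := fun {a} ha => ⟨inv_mem ha.1, fun x => by rw [ha.2 (a⁻¹ * x * a⁻¹⁻¹)]; simp [mul_assoc]⟩

theorem mem_norm7 {g : Equiv.Perm GolayPt} :
    g ∈ norm7 ↔ g ∈ M24 ∧ g * r7 * g⁻¹ ∈ Subgroup.zpowers r7 := by
  constructor
  · exact fun h => ⟨h.1, (h.2 r7).mp (Subgroup.mem_zpowers r7)⟩
  · rintro ⟨hg, h⟩
    refine ⟨hg, fun x => ?_⟩
    have hgen : (Subgroup.zpowers r7).map (MulAut.conj g).toMonoidHom = Subgroup.zpowers r7 := by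
      rw [MonoidHom.map_zpowers]
      refine Subgroup.eq_of_le_of_card_ge (Subgroup.zpowers_le.mpr h) (le_of_eq ?_)
      rw [Nat.card_zpowers, Nat.card_zpowers]
      exact ((MulAut.conj g).orderOf_eq r7).symm
    conv_rhs => rw [← hgen, ← MulAut.conj_apply]
    exact (Subgroup.mem_map_iff_mem (MulAut.conj g).injective).symm

theorem norm7_le : norm7 ≤ stabM T0 := fun g hg => norm_7_le hg.1 (mem_norm7.mp hg).2

theorem card_norm7 : Nat.card ↥norm7 = 126 := by
  have h := card_inf_stab (H := norm7) (⟨r7⟩ : PConj)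
  rw [seven_orbit norm7 (fun g => mem_norm7), seven_orbit_card] at h
  have hc : norm7 ⊓ MulAction.stabilizer (Equiv.Perm GolayPt) (⟨r7⟩ : PConj) = centM r7 := by
    ext g
    rw [Subgroup.mem_inf, MulAction.mem_stabilizer_iff, pconj_fix, mem_centM, mem_norm7]
    refine ⟨fun hg => ⟨hg.1.1, hg.2⟩, fun hg => ⟨⟨hg.1, ?_⟩, hg.2⟩⟩
    rw [hg.2, mul_inv_cancel_right]; exact Subgroup.mem_zpowers r7
  rw [hc, card_cent_7] at h
  exact h.symm

theorem class_seven {g : Equiv.Perm GolayPt} (hg : g ∈ M24) (ho : orderOf g = 7) :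
    ∃ k ∈ M24, k * g * k⁻¹ ∈ Subgroup.zpowers r7 := by
  have : Fact (Nat.Prime 7) := ⟨by norm_num⟩
  obtain ⟨k, hk, i, hi, hr⟩ := prime_cert (H := M24) 7 (Gr_le_M24 gP7_ok) gP7_ok cP7_ok
    (by rw [card_M24_facts.2.2]; rfl) hg ho
  refine ⟨k, hk, ?_⟩
  have hi' : i < 7 := hi
  rw [Nat.eq_of_beq_eq_true (List.all_eq_true.mp seven_pow_checked.1 i (List.mem_range.mpr hi'))] at hr
  rw [hr.unique (repr_r7.pow i)]
  exact Subgroup.npow_mem_zpowers r7 i

theorem seven_subgroups (S : Subgroup ↥M24) (hS : Nat.card S = 7) :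
    Nat.card ↥(Subgroup.normalizer (S : Set ↥M24)) = 126 ∧
      Nat.card ↥(Subgroup.centralizer (S : Set ↥M24)) = 42 ∧
      (∃ x ∈ Subgroup.centralizer (S : Set ↥M24), ∃ y ∈ Subgroup.centralizer (S : Set ↥M24), x * y ≠ y * x) ∧
      ∃ T ∈ trios, ∀ n ∈ Subgroup.normalizer (S : Set ↥M24), ((n : ↥M24) : Equiv.Perm GolayPt) • T = T := by
  have : Fact (Nat.Prime 7) := ⟨by norm_num⟩
  obtain ⟨y, hy⟩ := exists_prime_orderOf_dvd_card' (G := S) 7 (by rw [hS])
  have ho : orderOf ((y : ↥M24) : Equiv.Perm GolayPt) = 7 := by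
    rw [Subgroup.orderOf_coe, Subgroup.orderOf_coe]; exact hy
  obtain ⟨k, hk, hky⟩ := class_seven (y : ↥M24).2 ho
  -- the image of `S` after conjugation is the standard subgroup
  have hmem : ∀ s : ↥M24, s ∈ S ↔ k * (s : Equiv.Perm GolayPt) * k⁻¹ ∈ Subgroup.zpowers r7 := by
    have himg : (S.map M24.subtype).map (MulAut.conj k).toMonoidHom = Subgroup.zpowers r7 := by
      have hz : S.map M24.subtype = Subgroup.zpowers ((y : ↥M24) : Equiv.Perm GolayPt) := by
        refine (Subgroup.eq_of_le_of_card_ge ?_ (le_of_eq ?_)).symm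
        · exact Subgroup.zpowers_le.mpr (Subgroup.mem_map_of_mem _ y.2)
        · rw [Nat.card_zpowers, ho, Subgroup.card_map_of_injective M24.subtype_injective, hS]
      rw [hz, MonoidHom.map_zpowers]
      refine Subgroup.eq_of_le_of_card_ge (Subgroup.zpowers_le.mpr hky) (le_of_eq ?_)
      rw [Nat.card_zpowers, Nat.card_zpowers, order_7]
      exact (((MulAut.conj k).orderOf_eq _).trans ho).symm
    intro s
    rw [← himg]
    constructor
    · exact fun hs => Subgroup.mem_map_of_mem _ (Subgroup.mem_map_of_mem _ hs)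
    · intro h
      obtain ⟨a, ⟨b, hb, rfl⟩, hab⟩ := h
      have : b = s := Subtype.ext ((MulAut.conj k).injective hab)
      exact this ▸ hb
  have hN : ∀ n : ↥M24, n ∈ Subgroup.normalizer (S : Set ↥M24) ↔ k * (n : Equiv.Perm GolayPt) * k⁻¹ ∈ norm7 := by
    intro n
    rw [Subgroup.mem_normalizer_iff]
    constructor
    · intro h
      refine mem_norm7.mpr ⟨mul_mem (mul_mem hk n.2) (inv_mem hk), ?_⟩
      have hr : k⁻¹ * r7 * k ∈ M24 := mul_mem (mul_mem (inv_mem hk) mem_r7) hk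
      have h1 := (hmem _).mp ((h ⟨_, hr⟩).mp ((hmem _).mpr (by
        show k * (k⁻¹ * r7 * k) * k⁻¹ ∈ _
        rw [show k * (k⁻¹ * r7 * k) * k⁻¹ = r7 by group]; exact Subgroup.mem_zpowers r7)))
      simpa [mul_assoc] using h1
    · intro h s
      rw [hmem, hmem, h.2]
      simp [mul_assoc]
  have hC : ∀ c : ↥M24, c ∈ Subgroup.centralizer (S : Set ↥M24) ↔
      k * (c : Equiv.Perm GolayPt) * k⁻¹ ∈ centM r7 := by
    intro c
    constructor
    · intro h
      refine mem_centM.mpr ⟨mul_mem (mul_mem hk c.2) (inv_mem hk), ?_⟩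
      have hr : k⁻¹ * r7 * k ∈ M24 := mul_mem (mul_mem (inv_mem hk) mem_r7) hk
      have hs : (⟨_, hr⟩ : ↥M24) ∈ S := (hmem _).mpr (by
        show k * (k⁻¹ * r7 * k) * k⁻¹ ∈ _
        rw [show k * (k⁻¹ * r7 * k) * k⁻¹ = r7 by group]; exact Subgroup.mem_zpowers r7)
      have := congrArg (fun z : ↥M24 => k * (z : Equiv.Perm GolayPt) * k⁻¹) (Subgroup.mem_centralizer_iff.mp h _ hs)
      simp only [Subgroup.coe_mul] at this
      calc k * ↑c * k⁻¹ * r7 = k * (↑c * (k⁻¹ * r7 * k)) * k⁻¹ := by group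
        _ = k * (k⁻¹ * r7 * k * ↑c) * k⁻¹ := this.symm
        _ = r7 * (k * ↑c * k⁻¹) := by group
    · intro h
      rw [Subgroup.mem_centralizer_iff]
      intro s hs
      obtain ⟨n, hn⟩ := Subgroup.mem_zpowers_iff.mp ((hmem s).mp hs)
      have hc := ((show Commute (k * (c : Equiv.Perm GolayPt) * k⁻¹) r7 from (mem_centM.mp h).2).zpow_right n).eq
      rw [hn] at hc
      refine Subtype.ext ((MulAut.conj k).injective ?_)
      simp only [Subgroup.coe_mul, MulAut.conj_apply]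
      calc k * ((s : Equiv.Perm GolayPt) * ↑c) * k⁻¹ = k * ↑s * k⁻¹ * (k * ↑c * k⁻¹) := by group
        _ = k * ↑c * k⁻¹ * (k * ↑s * k⁻¹) := hc.symm
        _ = k * (↑c * ↑s) * k⁻¹ := by group
  have hcard : ∀ (A : Subgroup ↥M24) (B : Subgroup (Equiv.Perm GolayPt)), B ≤ M24 →
      (∀ n : ↥M24, n ∈ A ↔ k * (n : Equiv.Perm GolayPt) * k⁻¹ ∈ B) → Nat.card ↥A = Nat.card ↥B := by
    intro A B hB h
    refine Nat.card_congr (Equiv.ofBijective
      (fun a => ⟨k * ((a : ↥M24) : Equiv.Perm GolayPt) * k⁻¹, (h _).mp a.2⟩) ⟨fun a b hab => ?_, fun b => ?_⟩)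
    · have := congrArg Subtype.val hab
      exact Subtype.ext (Subtype.ext ((MulAut.conj k).injective this))
    · have hb : k⁻¹ * (b : Equiv.Perm GolayPt) * k ∈ M24 := mul_mem (mul_mem (inv_mem hk) (hB b.2)) hk
      refine ⟨⟨⟨_, hb⟩, (h _).mpr ?_⟩, Subtype.ext ?_⟩
      · show k * (k⁻¹ * ↑b * k) * k⁻¹ ∈ B
        rw [show k * (k⁻¹ * (b : Equiv.Perm GolayPt) * k) * k⁻¹ = b by group]; exact b.2
      · show k * (k⁻¹ * ↑b * k) * k⁻¹ = ↑b
        group
  refine ⟨(hcard _ _ (fun g hg => (mem_norm7.mp hg).1) hN).trans card_norm7,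
    (hcard _ _ inf_le_left hC).trans card_cent_7, ?_, k⁻¹ • T0, smul_mem_trios (inv_mem hk) T0_mem, ?_⟩
  · obtain ⟨a, ha, b, hb, hab⟩ := seven_noncomm
    have hpre : ∀ u ∈ centM r7, ∃ x ∈ Subgroup.centralizer (S : Set ↥M24),
        k * (x : Equiv.Perm GolayPt) * k⁻¹ = u := by
      intro u hu
      refine ⟨⟨k⁻¹ * u * k, mul_mem (mul_mem (inv_mem hk) hu.1) hk⟩, (hC _).mpr ?_, ?_⟩
      · show k * (k⁻¹ * u * k) * k⁻¹ ∈ _
        rw [show k * (k⁻¹ * u * k) * k⁻¹ = u by group]; exact hu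
      · show k * (k⁻¹ * u * k) * k⁻¹ = u
        group
    obtain ⟨x, hx, hxa⟩ := hpre a ha
    obtain ⟨z, hz, hzb⟩ := hpre b hb
    refine ⟨x, hx, z, hz, fun he => hab ?_⟩
    rw [← hxa, ← hzb]
    have := congrArg (fun w : ↥M24 => k * (w : Equiv.Perm GolayPt) * k⁻¹) he
    simp only [Subgroup.coe_mul] at this
    calc k * ↑x * k⁻¹ * (k * ↑z * k⁻¹) = k * (↑x * ↑z) * k⁻¹ := by group
      _ = k * (↑z * ↑x) * k⁻¹ := this
      _ = k * ↑z * k⁻¹ * (k * ↑x * k⁻¹) := by group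
  · intro n hn
    have h2 := (mem_stabM.mp (norm7_le ((hN n).mp hn))).2
    rw [← mul_smul, show (n : Equiv.Perm GolayPt) * k⁻¹ = k⁻¹ * (k * n * k⁻¹) by group, mul_smul, h2]

end CfsgGolay
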