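/-
The stabiliser of a sextet: full action on the tetrads, kernel of order 192, normal subgroup of order 64.
-/
import Cfsg.Agent.Lib.Golay.Sextets
import Cfsg.Agent.Lib.Golay.ElAb
import Cfsg.Agent.Lib.Golay.Data.SextTrio

set_option autoImplicit false

namespace CfsgGolay

open Cfsg
open scoped Pointwise

attribute [local irreducible] codeL octadL dodecadL slpCodes

/-- The standard sequence of tetrads. -/
def sextSeq : Fin 6 → Finset GolayPt := (seqK 6).dec 11150382242010895008167239022564679587348520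

theorem sextSeq_facts : Function.Injective sextSeq ∧ ∀ t, t ∈ S0 ↔ ∃ i, sextSeq i = t := by
  have hlen : sext0L.length = 6 := sext0_checks.2.2.2.1
  have hget : ∀ i : Fin 6, sextSeq i = toSet (sext0L.getD i 0) := fun i => rfl
  refine ⟨fun i j h => ?_, fun t => ?_⟩
  · rw [hget, hget, List.getD_eq_getElem _ _ (by omega), List.getD_eq_getElem _ _ (by omega)] at h
    have h' := toSet_injOn (unpackF_lt 6 _ _ (List.getElem_mem (l := sext0L) _))
      (unpackF_lt 6 _ _ (List.getElem_mem (l := sext0L) _)) h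
    exact Fin.ext ((sext0_checks.2.2.2.2.getElem_inj_iff).mp h')
  · rw [mem_S0]
    constructor
    · rintro ⟨m, hm, rfl⟩
      obtain ⟨i, hi, rfl⟩ := List.getElem_of_mem hm
      exact ⟨⟨i, by omega⟩, by rw [hget, List.getD_eq_getElem _ _ hi]⟩
    · rintro ⟨i, rfl⟩
      exact ⟨sext0L[(i : ℕ)]'(by omega), List.getElem_mem _, by rw [hget, List.getD_eq_getElem _ _ (by omega)]⟩

theorem sextSeq_smul_eq {g : Equiv.Perm GolayPt} : g • sextSeq = sextSeq ↔ ∀ t ∈ S0, g • t = t := by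
  constructor
  · intro h t ht
    obtain ⟨i, rfl⟩ := (sextSeq_facts.2 t).mp ht
    exact congrFun h i
  · intro h; funext i; exact h _ ((sextSeq_facts.2 _).mpr ⟨i, rfl⟩)

theorem sextet_induce_std (e : Equiv.Perm ↥S0) : ∃ g ∈ stabM S0, ∀ t : ↥S0, g • (t : Finset GolayPt) = e t := by
  classical
  have hn : (MulAction.orbit (stabM S0) sextSeq).ncard = 720 :=
    orbit_std (K := seqK 6) stabS.1 gS_ok (by show packF _ = _; decide +kernel) cSX_ok
  set F : Set (Fin 6 → Finset GolayPt) := {f | Function.Injective f ∧ ∀ i, f i ∈ S0}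
  have hF : F.ncard = 720 := by
    have : F = Set.range fun (f : Fin 6 ↪ ↥S0) (i : Fin 6) => ((f i : ↥S0) : Finset GolayPt) := by
      ext f
      constructor
      · rintro ⟨hi, hm⟩
        exact ⟨⟨fun i => ⟨f i, hm i⟩, fun a b h => hi (congrArg Subtype.val h)⟩, rfl⟩
      · rintro ⟨f, rfl⟩
        exact ⟨fun a b h => f.injective (Subtype.ext h), fun i => (f i).2⟩
    rw [this, Set.ncard_range_of_injective, Nat.card_eq_fintype_card, Fintype.card_embedding_eq,
      Fintype.card_coe, card_S0, Fintype.card_fin]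
    · rfl
    · intro f f' h; ext1 i; exact Subtype.ext (congrFun h i)
  have hmemi : ∀ i, sextSeq i ∈ S0 := fun i => (sextSeq_facts.2 _).mpr ⟨i, rfl⟩
  have horb : MulAction.orbit (stabM S0) sextSeq = F := by
    refine Set.eq_of_subset_of_ncard_le ?_ (by rw [hF, hn]) (Set.toFinite _)
    rintro _ ⟨⟨g, hg⟩, rfl⟩
    refine ⟨fun a b h => sextSeq_facts.1 (smul_left_cancel g h), fun i => ?_⟩
    show g • sextSeq i ∈ S0
    rw [← (mem_stabM.mp hg).2]
    exact Finset.smul_mem_smul_finset (hmemi i)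
  have hmem : (fun i => ((e ⟨sextSeq i, hmemi i⟩ : ↥S0) : Finset GolayPt)) ∈ MulAction.orbit (stabM S0) sextSeq := by
    rw [horb]
    exact ⟨fun a b h => sextSeq_facts.1 (congrArg Subtype.val (e.injective (Subtype.ext h))), fun i => (e _).2⟩
  obtain ⟨⟨g, hg⟩, he⟩ := hmem
  refine ⟨g, hg, fun t => ?_⟩
  obtain ⟨i, hi⟩ := (sextSeq_facts.2 t).mp t.2
  have := congrFun he i
  rw [show t = ⟨sextSeq i, hmemi i⟩ from Subtype.ext hi.symm]
  exact this

/-- The kernel of the action on the tetrads. -/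
def sextKer (S : Finset (Finset GolayPt)) : Subgroup (Equiv.Perm GolayPt) where
  carrier := {g | g ∈ stabM S ∧ ∀ t ∈ S, g • t = t}
  one_mem' := ⟨one_mem _, fun t _ => one_smul _ t⟩
  mul_mem' := fun {a b} ha hb => ⟨mul_mem ha.1 hb.1, fun t ht => by rw [mul_smul, hb.2 t ht, ha.2 t ht]⟩
  inv_mem' := fun {a} ha => ⟨inv_mem ha.1, fun t ht => inv_smul_eq_iff.mpr (ha.2 t ht).symm⟩

theorem card_sextKer_std : Nat.card ↥(sextKer S0) = 192 := by
  have h := card_inf_stab (H := stabM S0) sextSeq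
  rw [show (MulAction.orbit (stabM S0) sextSeq).ncard = 720 from
    orbit_std (K := seqK 6) stabS.1 gS_ok (by show packF _ = _; decide +kernel) cSX_ok, stabS.2] at h
  have heq : stabM S0 ⊓ MulAction.stabilizer (Equiv.Perm GolayPt) sextSeq = sextKer S0 := by
    ext g
    simp only [Subgroup.mem_inf, MulAction.mem_stabilizer_iff, sextSeq_smul_eq]
    rfl
  rw [heq] at h
  exact Nat.eq_of_mul_eq_mul_right (by norm_num : 0 < 720) (h.trans (by norm_num : (138240 : ℕ) = 192 * 720))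

theorem sxN_ok : elOK sxN = true ∧ normOK gS sxN sxNorm = true ∧
    (sxN.all fun c => sext0L.all fun a => sext0L.any fun b => Nat.beq (pmask c a) b) = true := by decide +kernel

theorem sxN_le : elGr sxN ≤ stabM S0 := by
  rw [elGr, Subgroup.closure_le]
  rintro g ⟨c, hc, hg⟩
  refine mem_stabM.mpr ⟨elGr_le sxN_ok.1 (Subgroup.subset_closure ⟨c, hc, hg⟩), ?_⟩
  have h := sxN_ok.2.2
  simp only [List.all_eq_true, List.any_eq_true] at h
  refine Finset.eq_of_subset_of_card_le (fun s hs => ?_) (by rw [Finset.card_smul_finset])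
  obtain ⟨t, ht, rfl⟩ := Finset.mem_smul_finset.mp hs
  obtain ⟨a, ha, rfl⟩ := mem_S0.mp ht
  obtain ⟨b, hb, he⟩ := h c hc a ha
  exact mem_S0.mpr ⟨b, hb, by rw [← Nat.eq_of_beq_eq_true he, hg.toSet_pmask]; rfl⟩

theorem sextet_group {S : Finset (Finset GolayPt)} (hS : S ∈ sextets) :
    (∀ e : Equiv.Perm ↥S, ∃ g ∈ stabM S, ∀ t : ↥S, g • (t : Finset GolayPt) = e t) ∧
    Nat.card ↥(sextKer S) = 192 ∧
    ∃ N : Subgroup (Equiv.Perm GolayPt), N ≤ stabM S ∧ (∀ g ∈ stabM S, ∀ x ∈ N, g * x * g⁻¹ ∈ N) ∧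
      Nat.card ↥N = 64 ∧ ∀ x ∈ N, x * x = 1 := by
  classical
  obtain ⟨g, hg, rfl⟩ := exists_smul_S0 hS
  have hmem : ∀ t, t ∈ g • S0 ↔ g⁻¹ • t ∈ S0 := by
    intro t
    constructor
    · intro h; obtain ⟨u, hu, rfl⟩ := Finset.mem_smul_finset.mp h; rwa [inv_smul_smul]
    · intro h; exact Finset.mem_smul_finset.mpr ⟨_, h, smul_inv_smul g t⟩
  have hc := isConjOf_stabM hg S0
  refine ⟨fun e => ?_, ?_, ?_⟩
  · let φ : ↥S0 ≃ ↥(g • S0) :=
      { toFun := fun t => ⟨g • (t : Finset GolayPt), Finset.smul_mem_smul_finset t.2⟩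
        invFun := fun t => ⟨g⁻¹ • (t : Finset GolayPt), (hmem _).mp t.2⟩
        left_inv := fun t => Subtype.ext (inv_smul_smul g _)
        right_inv := fun t => Subtype.ext (smul_inv_smul g _) }
    obtain ⟨k, hk, hke⟩ := sextet_induce_std ((φ.trans e).trans φ.symm)
    refine ⟨g * k * g⁻¹, (hc _).mpr (by simpa [mul_assoc] using hk), fun t => ?_⟩
    rw [mul_smul, mul_smul]
    have h1 := hke (φ.symm t)
    rw [show g⁻¹ • (t : Finset GolayPt) = ((φ.symm t : ↥S0) : Finset GolayPt) from rfl, h1]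
    simp only [Equiv.trans_apply, Equiv.apply_symm_apply]
    exact smul_inv_smul g _
  · have hK : IsConjOf g (sextKer S0) (sextKer (g • S0)) := by
      intro k
      show (k ∈ stabM (g • S0) ∧ _) ↔ (g⁻¹ * k * g ∈ stabM S0 ∧ _)
      refine and_congr (hc k) ⟨fun h t ht => ?_, fun h t ht => ?_⟩
      · rw [mul_smul, mul_smul, h _ (Finset.smul_mem_smul_finset ht), inv_smul_smul]
      · have := h _ ((hmem t).mp ht)
        rw [mul_smul, mul_smul, smul_inv_smul, smul_left_cancel_iff] at this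
        exact this
    rw [hK.card_eq, card_sextKer_std]
  · refine ⟨(elGr sxN).map (MulAut.conj g).toMonoidHom, ?_, ?_, ?_, ?_⟩
    · rw [← hc.map_eq]; exact Subgroup.map_mono sxN_le
    · rintro k hk _ ⟨x, hx, rfl⟩
      have hk' : g⁻¹ * k * g ∈ Gr gS := by rw [stabS.1]; exact (hc k).mp hk
      refine ⟨_, elGr_normal gS_ok sxN_ok.1 sxN_ok.2.1 hk' hx, ?_⟩
      simp only [MulEquiv.coe_toMonoidHom, MulAut.conj_apply]
      group
    · rw [← Nat.card_congr ((elGr sxN).equivMapOfInjective _ (MulAut.conj g).injective).toEquiv, card_elGr sxN_ok.1]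
    · rintro _ ⟨x, hx, rfl⟩
      rw [← map_mul, elGr_invol sxN_ok.1 hx, map_one]

end CfsgGolay
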