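/-
The binary code of length 23 obtained by deleting the extra coordinate.
-/
import Cfsg.Agent.Lib.Golay.Code

set_option autoImplicit false

namespace CfsgGolay.Short

open Cfsg CfsgGolay

attribute [local irreducible] codeL

/-- The shortened code. -/
abbrev code : Set (ZMod 23 → ZMod 2) := {u | ∃ w ∈ golayCode, ∀ x : ZMod 23, u x = w (some x)}

/-- The short word with a given mask. -/
def word (m : ℕ) : ZMod 23 → ZMod 2 := fun x => wordOf m (some x)

theorem word_congr {m n : ℕ} (h : m % 2 ^ 23 = n % 2 ^ 23) : word m = word n := by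
  funext x
  have := congrArg (fun k => k.testBit x.val) h
  simp only [Nat.testBit_mod_two_pow, decide_eq_true (ZMod.val_lt x), Bool.true_and] at this
  simp only [word, wordOf, idx, this]; rfl

theorem word_ne_zero {m : ℕ} {x : ZMod 23} : word m x ≠ 0 ↔ m.testBit x.val = true := by
  by_cases h : m.testBit x.val = true
  · have : word m x = 1 := by simp only [word, wordOf]; rw [if_pos]; exact h
    rw [this]; exact iff_of_true one_ne_zero h
  · have : word m x = 0 := by simp only [word, wordOf]; rw [if_neg]; exact h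
    rw [this]; exact iff_of_false (fun h => h rfl) h

theorem toSet_low {m : ℕ} : toSet (m % 2 ^ 23) =
    (Finset.univ.filter fun x => word m x ≠ 0).map ⟨some, Option.some_injective _⟩ := by
  ext p
  cases p with
  | none => simp only [mem_toSet, idx, Nat.testBit_mod_two_pow]; simp
  | some x =>
    rw [mem_toSet, Finset.mem_map]
    show (m % 2 ^ 23).testBit x.val = true ↔ _
    rw [Nat.testBit_mod_two_pow, decide_eq_true (ZMod.val_lt x), Bool.true_and]
    constructor
    · intro h
      exact ⟨x, Finset.mem_filter.mpr ⟨Finset.mem_univ _, word_ne_zero.mpr h⟩, rfl⟩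
    · rintro ⟨y, hy, hyx⟩
      have : y = x := Option.some_injective _ hyx
      subst this
      exact word_ne_zero.mp (Finset.mem_filter.mp hy).2

theorem norm_word (m : ℕ) : hammingNorm (word m) = pc (m % 2 ^ 23) := by
  rw [← card_toSet, toSet_low, Finset.card_map]; rfl

theorem code_eq : code = word '' {m | m ∈ codeL} := by
  ext u
  constructor
  · rintro ⟨w, hw, hu⟩
    refine ⟨toMask (support₂ w), toMask_support_mem hw, funext fun x => ?_⟩
    rw [hu x, word, wordOf_toMask_support]
  · rintro ⟨m, hm, rfl⟩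
    exact ⟨wordOf m, codeL_mem hm, fun _ => rfl⟩

/-- The masks without the extra coordinate. -/
def lowL : List ℕ := codeL.map fun m => m % 2 ^ 23

theorem lowL_checks : (lowL.map (fun n => n % 4096) == List.range 4096) = true ∧
    (lowL.all fun n => decide (n = 0 ∨ 7 ≤ pc n)) = true ∧
    (lowL.countP fun n => pc n == 7) = 253 ∧ (lowL.countP fun n => pc n == 8) = 506 ∧
    (lowL.countP fun n => pc n == 11) = 1288 ∧ (lowL.countP fun n => pc n == 12) = 1288 ∧
    (lowL.countP fun n => pc n == 15) = 506 ∧ (lowL.countP fun n => pc n == 16) = 253 := by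
  decide +kernel

theorem lowL_nodup : lowL.Nodup := by
  have h := List.nodup_range (n := 4096)
  rw [← beq_iff_eq.mp lowL_checks.1] at h
  exact List.Nodup.of_map _ h

theorem code_eq_low : code = word '' {n | n ∈ lowL} := by
  rw [code_eq]
  ext u
  constructor
  · rintro ⟨m, hm, rfl⟩
    exact ⟨m % 2 ^ 23, List.mem_map.mpr ⟨m, hm, rfl⟩, word_congr (Nat.mod_mod _ _)⟩
  · rintro ⟨n, hn, rfl⟩
    obtain ⟨m, hm, rfl⟩ := List.mem_map.mp hn
    exact ⟨m, hm, (word_congr (Nat.mod_mod _ _)).symm⟩

theorem low_lt {n : ℕ} (hn : n ∈ lowL) : n < 2 ^ 23 := by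
  obtain ⟨m, -, rfl⟩ := List.mem_map.mp hn
  exact Nat.mod_lt _ (by norm_num)

theorem word_injOn : Set.InjOn word {n | n ∈ lowL} := by
  intro a ha b hb h
  have ha' := low_lt ha
  have hb' := low_lt hb
  have h1 : toSet (a % 2 ^ 23) = toSet (b % 2 ^ 23) := by rw [toSet_low, toSet_low, h]
  rw [Nat.mod_eq_of_lt ha', Nat.mod_eq_of_lt hb'] at h1
  exact eq_of_toSet_eq (ha'.trans (by norm_num)) (hb'.trans (by norm_num)) h1

theorem ncard_code : code.ncard = 4096 := by
  rw [code_eq_low, word_injOn.ncard_image, ← List.coe_toFinset, Set.ncard_coe_finset,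
    List.toFinset_card_of_nodup lowL_nodup]
  have := congrArg List.length (beq_iff_eq.mp lowL_checks.1)
  simpa using this

theorem ncard_weight (k : ℕ) :
    {u : ZMod 23 → ZMod 2 | u ∈ code ∧ hammingNorm u = k}.ncard = lowL.countP fun n => pc n == k := by
  have : {u : ZMod 23 → ZMod 2 | u ∈ code ∧ hammingNorm u = k} = word '' {n | n ∈ lowL.filter fun n => pc n == k} := by
    rw [code_eq_low]
    ext u
    constructor
    · rintro ⟨⟨n, hn, rfl⟩, hk⟩
      rw [norm_word, Nat.mod_eq_of_lt (low_lt hn)] at hk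
      exact ⟨n, List.mem_filter.mpr ⟨hn, by simp [hk]⟩, rfl⟩
    · rintro ⟨n, hn, rfl⟩
      obtain ⟨hn, hk⟩ := List.mem_filter.mp hn
      refine ⟨⟨n, hn, rfl⟩, ?_⟩
      rw [norm_word, Nat.mod_eq_of_lt (low_lt hn)]
      exact beq_iff_eq.mp hk
  rw [this, Set.InjOn.ncard_image (word_injOn.mono (show {n | n ∈ lowL.filter fun n => pc n == k} ⊆ {n | n ∈ lowL} from fun n hn => (List.mem_filter.mp hn).1)), ← List.coe_toFinset,
    Set.ncard_coe_finset, List.toFinset_card_of_nodup (lowL_nodup.filter _), List.countP_eq_length_filter]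

theorem min_weight {u : ZMod 23 → ZMod 2} (hu : u ∈ code) (hne : u ≠ 0) : 7 ≤ hammingNorm u := by
  rw [code_eq_low] at hu
  obtain ⟨n, hn, rfl⟩ := hu
  rw [norm_word, Nat.mod_eq_of_lt (low_lt hn)]
  rcases of_decide_eq_true (List.all_eq_true.mp lowL_checks.2.1 n hn) with h | h
  · subst h; exact absurd (funext fun x => by simp [word, wordOf]) hne
  · exact h

theorem weights : code.ncard = 4096 ∧
    {u : ZMod 23 → ZMod 2 | u ∈ code ∧ hammingNorm u = 7}.ncard = 253 ∧
    {u : ZMod 23 → ZMod 2 | u ∈ code ∧ hammingNorm u = 8}.ncard = 506 ∧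
    {u : ZMod 23 → ZMod 2 | u ∈ code ∧ hammingNorm u = 11}.ncard = 1288 ∧
    {u : ZMod 23 → ZMod 2 | u ∈ code ∧ hammingNorm u = 12}.ncard = 1288 ∧
    {u : ZMod 23 → ZMod 2 | u ∈ code ∧ hammingNorm u = 15}.ncard = 506 ∧
    {u : ZMod 23 → ZMod 2 | u ∈ code ∧ hammingNorm u = 16}.ncard = 253 ∧
    ∀ u ∈ code, u ≠ 0 → 7 ≤ hammingNorm u := by
  obtain ⟨-, -, h7, h8, h11, h12, h15, h16⟩ := lowL_checks
  exact ⟨ncard_code, by rw [ncard_weight, h7], by rw [ncard_weight, h8], by rw [ncard_weight, h11],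
    by rw [ncard_weight, h12], by rw [ncard_weight, h15], by rw [ncard_weight, h16], fun u hu hne => min_weight hu hne⟩

theorem sub_mem_code {a b : ZMod 23 → ZMod 2} (ha : a ∈ code) (hb : b ∈ code) : a - b ∈ code := by
  obtain ⟨v, hv, hav⟩ := ha
  obtain ⟨w, hw, hbw⟩ := hb
  exact ⟨v - w, sub_mem hv hw, fun x => by simp [hav x, hbw x]⟩

theorem close_eq {u a b : ZMod 23 → ZMod 2} (ha : a ∈ code) (hb : b ∈ code) (h1 : hammingDist u a ≤ 3)
    (h2 : hammingDist u b ≤ 3) : a = b := by
  by_contra hne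
  have h := min_weight (sub_mem_code ha hb) (sub_ne_zero.mpr hne)
  have h3 := hammingDist_triangle a u b
  rw [hammingDist_comm a u, hammingDist_eq_hammingNorm] at h3
  have h4 : -a + b = a - b := by funext x; simp only [Pi.add_apply, Pi.neg_apply, Pi.sub_apply]; generalize a x = p; generalize b x = q; revert p q; decide
  rw [h4] at h3
  omega

/-- The indicator of a set of positions. -/
def ind (s : Finset (ZMod 23)) : ZMod 23 → ZMod 2 := fun x => if x ∈ s then 1 else 0

theorem norm_ind (s : Finset (ZMod 23)) : hammingNorm (ind s) = s.card := by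
  simp [hammingNorm, ind]

theorem perfect (u : ZMod 23 → ZMod 2) : ∃! c, c ∈ code ∧ hammingDist u c ≤ 3 := by
  suffices h : ∃ c ∈ code, hammingDist u c ≤ 3 by
    obtain ⟨c, hc, hd⟩ := h
    exact ⟨c, ⟨hc, hd⟩, fun c' h' => close_eq h'.1 hc h'.2 hd⟩
  let B := (k : Fin 4) × {s : Finset (ZMod 23) // s ∈ Finset.powersetCard k.val Finset.univ}
  let Φ : code × B → (ZMod 23 → ZMod 2) := fun p => p.1.1 + ind p.2.2.1
  have hle : ∀ p : code × B, hammingDist (Φ p) p.1.1 ≤ 3 := fun p => by
    rw [hammingDist_eq_hammingNorm, show -Φ p + p.1.1 = ind p.2.2.1 by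
      simp only [Φ, neg_add_rev]; rw [add_assoc, neg_add_cancel, add_zero]; funext x; simp [ind]]
    rw [norm_ind, (Finset.mem_powersetCard.mp p.2.2.2).2]
    have := p.2.1.isLt
    omega
  have hinj : Function.Injective Φ := by
    rintro p q hpq
    have h1 : p.1 = q.1 := Subtype.ext (close_eq p.1.2 q.1.2 (hle p) (hpq ▸ hle q))
    obtain ⟨c, k, s, hs⟩ := p
    obtain ⟨c', k', s', hs'⟩ := q
    simp only at h1
    subst h1
    have h2 : ind s = ind s' := add_left_cancel hpq
    have h3 : s = s' := by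
      ext x
      have := congrFun h2 x
      simp only [ind] at this
      by_cases hx : x ∈ s <;> by_cases hx' : x ∈ s' <;> simp_all
    subst h3
    have h4 : k = k' := Fin.ext ((Finset.mem_powersetCard.mp hs).2.symm.trans (Finset.mem_powersetCard.mp hs').2)
    subst h4; rfl
  have hcard : Nat.card (code × B) = Nat.card (ZMod 23 → ZMod 2) := by
    rw [Nat.card_prod, Nat.card_coe_set_eq, ncard_code, Nat.card_sigma, Fin.sum_univ_four]
    simp only [Nat.card_eq_fintype_card, Fintype.card_coe, Finset.card_powersetCard, Finset.card_univ, ZMod.card,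
      Fintype.card_fun]
    decide +kernel
  obtain ⟨p, hp⟩ := (Nat.bijective_iff_injective_and_card Φ).mpr ⟨hinj, hcard⟩ |>.2 u
  exact ⟨p.1.1, p.1.2, hp ▸ hle p⟩

end CfsgGolay.Short
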