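/-
The stabiliser of a dodecad and three of its points is 3^2:Q8.
-/
import Cfsg.Agent.Lib.Golay.Small11Gen

set_option autoImplicit false

namespace CfsgGolay

open Cfsg
open scoped Pointwise

attribute [local irreducible] codeL octadL dodecadL slpCodes

theorem mem_M72std {y : Equiv.Perm GolayPt} :
    y ∈ subG [2, 1, 0] [340831] ↔ (y ∈ M24 ∧ y • D0 = D0) ∧ y (pt 0) = pt 0 ∧ y (pt 1) = pt 1 ∧ y (pt 2) = pt 2 := by
  rw [mem_subG, mem_fixL]
  constructor
  · rintro ⟨h1, h2, h3⟩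
    exact ⟨⟨h1, h3 340831 (by simp)⟩, h2 _ (by rw [idx_pt (by norm_num)]; simp),
      h2 _ (by rw [idx_pt (by norm_num)]; simp), h2 _ (by rw [idx_pt (by norm_num)]; simp)⟩
  · rintro ⟨⟨h1, h2⟩, ha, hb, hc⟩
    refine ⟨h1, fun p hp => ?_, fun o ho => ?_⟩
    · simp only [List.mem_cons, List.not_mem_nil, or_false] at hp
      rcases hp with hp | hp | hp <;> rw [← pt_idx p, hp] <;> assumption
    · simp only [List.mem_singleton] at ho
      subst ho; exact h2

theorem std_points : pt 0 ∈ D0 ∧ pt 1 ∈ D0 ∧ pt 2 ∈ D0 ∧ pt 0 ≠ pt 1 ∧ pt 0 ≠ pt 2 ∧ pt 1 ≠ pt 2 := by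
  rw [D0, pt_mem_toSet (by norm_num), pt_mem_toSet (by norm_num), pt_mem_toSet (by norm_num)]
  decide

theorem card_M72std : Nat.card ↥(subG [2, 1, 0] [340831]) = 72 := by
  obtain ⟨h0, h1, h2, n01, n02, n12⟩ := std_points
  have e : subG [2, 1, 0] [340831] = dodTriple D0 (pt 0) (pt 1) (pt 2) := by
    ext y; rw [mem_M72std, mem_dodTriple]
  rw [e]
  exact card_dodTriple D0_mem h0 h1 h2 n01 n02 n12

theorem M72_eq : Gr gM72 = subG [2, 1, 0] [340831] := by
  refine Subgroup.eq_of_le_of_card_ge (Gr_le_subG gM72_ok M11std_checks.2.2.2.2.2.2) ?_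
  rw [card_M72std, (group_cert gM72_ok cM72_ok).2]
  exact le_of_eq rfl

theorem M72_checks : ((gN9 ++ gQ8).all fun e => cM72.mem' e.c) = true ∧
    (gM72.all fun e => gN9.all fun n => cN9.mem' (pcomp (pcomp e.c n.c) (pinv e.c))) = true ∧
    ((List.range 9).all fun i => Nat.beq (ppow (cN9.obj i) 3) pid) = true := by decide +kernel

theorem Gr_le_of_mem' {L L' : List GenT} {C : Cert} (hL : gensOK L = true) (hL' : gensOK L' = true)
    (hC : orbOK (fun e n => pcomp e.c n) L' pid C = true)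
    (h : (L.all fun e => C.mem' e.c) = true) : Gr L ≤ Gr L' := by
  refine Gr_le _ fun e he g hg => ?_
  have hm := List.all_eq_true.mp h e he
  simp only [Cert.mem', List.any_eq_true, List.mem_range] at hm
  obtain ⟨i, hi, hb⟩ := hm
  obtain ⟨-, x, hx, hxd⟩ := orb_valid (K := leftK) pvalid_pid hL' hC i hi
  obtain ⟨-, y, hy⟩ := (orb_valid (K := leftK) pvalid_pid hL' hC i hi).1
  have hxy : x * 1 = y := by
    have : x • leftK.dec pid = leftK.dec (C.obj i) := hxd
    rw [show leftK.dec pid = 1 from permDec_pid, show leftK.dec (C.obj i) = y from permDec_eq hy] at this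
    exact this
  rw [mul_one] at hxy
  rw [Nat.eq_of_beq_eq_true hb] at hy
  rw [hg.1.unique hy, ← hxy]
  exact hx

theorem N9_Q8_le : Gr gN9 ≤ Gr gM72 ∧ Gr gQ8 ≤ Gr gM72 := by
  have h := List.all_eq_true.mp M72_checks.1
  exact ⟨Gr_le_of_mem' gN9_ok gM72_ok cM72_ok (List.all_eq_true.mpr fun e he => h e (List.mem_append_left _ he)),
    Gr_le_of_mem' gQ8_ok gM72_ok cM72_ok (List.all_eq_true.mpr fun e he => h e (List.mem_append_right _ he))⟩

theorem N9_normal : ((Gr gN9).subgroupOf (Gr gM72)).Normal := by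
  constructor
  intro n hn g
  rw [Subgroup.mem_subgroupOf] at hn ⊢
  have hstab : ∀ a ∈ Gr gM72, ∀ x ∈ Gr gN9, a * x * a⁻¹ ∈ Gr gN9 := by
    intro a ha
    induction ha using Subgroup.closure_induction with
    | mem a ha =>
      obtain ⟨e, he, hg⟩ := ha
      intro x hx
      induction hx using Subgroup.closure_induction with
      | mem x hx =>
        obtain ⟨f, hf, hfg⟩ := hx
        have hm := List.all_eq_true.mp (List.all_eq_true.mp M72_checks.2.1 e he) f hf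
        simp only [Cert.mem', List.any_eq_true, List.mem_range] at hm
        obtain ⟨i, hi, hb⟩ := hm
        obtain ⟨⟨-, y, hy⟩, z, hz, hzd⟩ := orb_valid (K := leftK) pvalid_pid gN9_ok cN9_ok i hi
        have hzy : z * 1 = y := by
          have : z • leftK.dec pid = leftK.dec (cN9.obj i) := hzd
          rw [show leftK.dec pid = 1 from permDec_pid, show leftK.dec (cN9.obj i) = y from permDec_eq hy] at this
          exact this
        rw [mul_one] at hzy
        rw [Nat.eq_of_beq_eq_true hb] at hy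
        rw [((hg.1.comp hfg.1).comp hg.1.inv).unique hy, ← hzy]
        exact hz
      | one => simp
      | mul x y _ _ ihx ihy =>
        rw [show a * (x * y) * a⁻¹ = a * x * a⁻¹ * (a * y * a⁻¹) by group]; exact mul_mem ihx ihy
      | inv x _ ihx => rw [show a * x⁻¹ * a⁻¹ = (a * x * a⁻¹)⁻¹ by group]; exact inv_mem ihx
    | one => intro x hx; simpa using hx
    | mul a b _ _ iha ihb =>
      intro x hx
      rw [show a * b * x * (a * b)⁻¹ = a * (b * x * b⁻¹) * a⁻¹ by group]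
      exact iha _ (ihb x hx)
    | inv a _ iha =>
      intro x hx
      -- conjugation by `a` is a bijection of the finite subgroup
      have hbij : Function.Surjective (fun y : ↥(Gr gN9) => (⟨a * y * a⁻¹, iha y y.2⟩ : ↥(Gr gN9))) :=
        Finite.surjective_of_injective fun u v huv => Subtype.ext (by simpa using congrArg Subtype.val huv)
      obtain ⟨y, hy⟩ := hbij ⟨x, hx⟩
      have hy' : a * y * a⁻¹ = x := congrArg Subtype.val hy
      rw [← hy', inv_inv, show a⁻¹ * (a * (y : Equiv.Perm GolayPt) * a⁻¹) * a = y by group]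
      exact y.2
  exact hstab _ g.2 _ hn

theorem card_sub_of_le {A B : Subgroup (Equiv.Perm GolayPt)} (h : A ≤ B) :
    Nat.card ↥(A.subgroupOf B) = Nat.card ↥A :=
  Nat.card_congr (Subgroup.subgroupOfEquivOfLe h).toEquiv

theorem M9_std : (∀ Q : Sylow 3 ↥(Gr gM72), (Q : Subgroup ↥(Gr gM72)).Normal ∧ Nat.card ↥Q = 9 ∧
      ∀ x ∈ (Q : Subgroup ↥(Gr gM72)), x ^ 3 = 1) ∧
    ∀ P : Sylow 2 ↥(Gr gM72), Nonempty (↥P ≃* QuaternionGroup 2) := by
  have : Fact (Nat.Prime 3) := ⟨by norm_num⟩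
  have hn : Nat.card ↥(Gr gM72) = 72 := (group_cert gM72_ok cM72_ok).2
  have h9 : Nat.card ↥((Gr gN9).subgroupOf (Gr gM72)) = 9 := by
    rw [card_sub_of_le N9_Q8_le.1, (group_cert gN9_ok cN9_ok).2]; rfl
  have h8 : Nat.card ↥((Gr gQ8).subgroupOf (Gr gM72)) = 8 := by
    rw [card_sub_of_le N9_Q8_le.2, (group_cert gQ8_ok cQ8_ok).2]; rfl
  let S3 : Sylow 3 ↥(Gr gM72) := Sylow.ofCard _
    (h9.trans (by rw [hn, factorization_eq (k := 2) (q := 8) Nat.prime_three (by norm_num) (by norm_num)]; rfl))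
  let S2 : Sylow 2 ↥(Gr gM72) := Sylow.ofCard _
    (h8.trans (by rw [hn, factorization_eq (k := 3) (q := 9) Nat.prime_two (by norm_num) (by norm_num)]; rfl))
  refine ⟨fun Q => ?_, fun P => ?_⟩
  · have hnorm : (S3 : Subgroup ↥(Gr gM72)).Normal := N9_normal
    have := Sylow.unique_of_normal S3 hnorm
    rw [Subsingleton.elim Q S3]
    refine ⟨hnorm, h9, fun x hx => ?_⟩
    have hx' : (x : Equiv.Perm GolayPt) ∈ Gr gN9 := Subgroup.mem_subgroupOf.mp hx
    obtain ⟨i, hi, hr⟩ := (group_cert gN9_ok cN9_ok).1 _ hx'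
    have hp := hr.pow 3
    rw [Nat.eq_of_beq_eq_true (List.all_eq_true.mp M72_checks.2.2 i (List.mem_range.mpr (show i < 9 from hi)))] at hp
    exact Subtype.ext (hp.unique repr_pid)
  · obtain ⟨e⟩ := Q8_iso
    exact ⟨(P.equiv S2).trans ((Subgroup.subgroupOfEquivOfLe N9_Q8_le.2).trans e)⟩

theorem M9 (d : Finset GolayPt) (hd : d ∈ dodecads) (p q r : GolayPt) (hp : p ∈ d) (hq : q ∈ d) (hr : r ∈ d)
    (hpq : p ≠ q) (hpr : p ≠ r) (hqr : q ≠ r) :
    Nonempty (↥(MulAction.stabilizer M24 d ⊓ MulAction.stabilizer M24 p ⊓ MulAction.stabilizer M24 q ⊓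
      MulAction.stabilizer M24 r) ≃* ↥(Gr gM72)) := by
  obtain ⟨g₀, hg₀, rfl⟩ := exists_smul_D0 hd
  obtain ⟨h0, h1, h2, n01, n02, n12⟩ := std_points
  have hin : ∀ t, t ∈ g₀ • D0 → g₀⁻¹ t ∈ D0 := fun t ht => inv_apply_mem.mpr ht
  obtain ⟨a, haM, haD, hae⟩ := dod_k_transitive D0_mem (by norm_num : 3 ≤ 5)
    (⟨![pt 0, pt 1, pt 2], injective_vec3 n01 n02 n12⟩ : Fin 3 ↪ GolayPt)
    (⟨![g₀⁻¹ p, g₀⁻¹ q, g₀⁻¹ r], injective_vec3 (fun h => hpq (g₀⁻¹.injective h))
      (fun h => hpr (g₀⁻¹.injective h)) (fun h => hqr (g₀⁻¹.injective h))⟩ : Fin 3 ↪ GolayPt)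
    (fun i => by fin_cases i; exacts [h0, h1, h2])
    (fun i => by fin_cases i; exacts [hin _ hp, hin _ hq, hin _ hr])
  have ha0 : a (pt 0) = g₀⁻¹ p := hae 0
  have ha1 : a (pt 1) = g₀⁻¹ q := hae 1
  have ha2 : a (pt 2) = g₀⁻¹ r := hae 2
  set g := g₀ * a with hgdef
  have hg : g ∈ M24 := mul_mem hg₀ haM
  have hgD : g₀ • D0 = g • D0 := by rw [hgdef, mul_smul, haD]
  have hgp : p = g (pt 0) := by rw [hgdef, Equiv.Perm.mul_apply, ha0, perm_apply_inv]
  have hgq : q = g (pt 1) := by rw [hgdef, Equiv.Perm.mul_apply, ha1, perm_apply_inv]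
  have hgr : r = g (pt 2) := by rw [hgdef, Equiv.Perm.mul_apply, ha2, perm_apply_inv]
  obtain ⟨t⟩ := transport (K := MulAction.stabilizer M24 (g₀ • D0) ⊓ MulAction.stabilizer M24 p ⊓
      MulAction.stabilizer M24 q ⊓ MulAction.stabilizer M24 r) (subG_le [2, 1, 0] [340831]) hg (fun x => by
    rw [mem_M72std]
    simp only [Subgroup.mem_inf, MulAction.mem_stabilizer_iff]
    rw [hgD, hgp, hgq, hgr]
    show (((x : Equiv.Perm GolayPt) • (g • D0) = g • D0 ∧ (x : Equiv.Perm GolayPt) (g (pt 0)) = g (pt 0)) ∧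
      (x : Equiv.Perm GolayPt) (g (pt 1)) = g (pt 1)) ∧ (x : Equiv.Perm GolayPt) (g (pt 2)) = g (pt 2) ↔ _
    rw [conj_smul_obj, conj_apply_pt, conj_apply_pt, conj_apply_pt]
    exact ⟨fun h => ⟨⟨mem_M24_conj hg x, h.1.1.1⟩, h.1.1.2, h.1.2, h.2⟩,
      fun h => ⟨⟨⟨h.1.2, h.2.1⟩, h.2.2.1⟩, h.2.2.2⟩⟩)
  exact ⟨t.trans (MulEquiv.subgroupCongr M72_eq).symm⟩

theorem M9_structure {G H : Type*} [Group G] [Group H] [Finite G] [Finite H] (e : G ≃* H)
    (h : (∀ Q : Sylow 3 H, (Q : Subgroup H).Normal ∧ Nat.card ↥Q = 9 ∧ ∀ x ∈ (Q : Subgroup H), x ^ 3 = 1) ∧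
      ∀ P : Sylow 2 H, Nonempty (↥P ≃* QuaternionGroup 2)) :
    (∀ Q : Sylow 3 G, (Q : Subgroup G).Normal ∧ Nat.card ↥Q = 9 ∧ ∀ x ∈ (Q : Subgroup G), x ^ 3 = 1) ∧
      ∀ P : Sylow 2 G, Nonempty (↥P ≃* QuaternionGroup 2) := by
  have hc : Nat.card G = Nat.card H := Nat.card_congr e.toEquiv
  have key : ∀ (p : ℕ) [Fact p.Prime] (Q : Sylow p G),
      Nat.card ↥((Q : Subgroup G).map e.toMonoidHom) = p ^ (Nat.card H).factorization p := by
    intro p _ Q
    rw [Subgroup.card_map_of_injective e.injective, Q.card_eq_multiplicity, hc]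
  have : Fact (Nat.Prime 3) := ⟨by norm_num⟩
  refine ⟨fun Q => ?_, fun P => ?_⟩
  · obtain ⟨hn, h9, hx⟩ := h.1 (Sylow.ofCard _ (key 3 Q))
    refine ⟨?_, ?_, fun x hxm => e.injective ?_⟩
    · have := hn.comap e.toMonoidHom
      rwa [show (Sylow.ofCard _ (key 3 Q) : Subgroup H) = (Q : Subgroup G).map e.toMonoidHom from rfl,
        Subgroup.comap_map_eq_self_of_injective e.injective] at this
    · rw [← h9]
      exact (Subgroup.card_map_of_injective e.injective).symm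
    · rw [map_pow, map_one]
      exact hx _ (Subgroup.mem_map_of_mem _ hxm)
  · obtain ⟨u⟩ := h.2 (Sylow.ofCard _ (key 2 P))
    exact ⟨((P : Subgroup G).equivMapOfInjective e.toMonoidHom e.injective).trans u⟩

end CfsgGolay
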