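import Cfsg.Agent.Lib.Fusion.MathieuSylowData
import Mathlib.GroupTheory.Nilpotent
import Mathlib.GroupTheory.QuotientGroup.Basic

/-!
The central quotient of a Sylow 2-subgroup of the Mathieu group of degree 24.
-/

set_option autoImplicit false
set_option linter.unusedSectionVars false
set_option maxHeartbeats 800000

namespace CfsgGolay.SylQuot

open Cfsg

attribute [local irreducible] codeL octadL dodecadL slpCodes

local notation "P24" => Equiv.Perm GolayPt

/-- The generators of the Sylow subgroup. -/
def gT : List ℕ := sylowM24.gens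

/-- The central involution. -/
def zc : ℕ := sylowM24.z

/-- Coset representatives for the large abelian subgroup. -/
def rs : List ℕ := [888824006053878069270466879608168480, 357844706208518298524226839028828192,
  800489331456243103590525001373485088]

/-- Generators of the large abelian subgroup. -/
def ag : List ℕ := [680966273632806744415152605439041765, 680976419053859889692539360017228064,
  984800487136444707380649434375260643, 984814433033970865165582594408417281,
  357472024265054778205631731763429408, 800277630369444809882581591165874208,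
  984806834480665595833759481617353006]

/-- Commuting modulo the central involution. -/
def cmB (a b : ℕ) : Bool := Nat.beq (pcomp a b) (pcomp b a) || Nat.beq (pcomp a b) (pcomp zc (pcomp b a))

/-- Spans with a sign attached. -/
def parL : List (ℕ × Bool) → List (ℕ × Bool)
  | [] => [(pid, true)]
  | (c, b) :: l => parL l ++ (parL l).map fun p => (pcomp c p.1, b == p.2)

/-- All sign patterns of length four except the trivial one. -/
def masks : List (List Bool) :=
  ([[true, false], [true, false], [true, false], [true, false]].foldr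
    (fun c acc => c.flatMap fun b => acc.map (b :: ·)) [[]]).filter fun s => s.any (!·)

/-- The signed generators. -/
def sgn (s : List Bool) : List (ℕ × Bool) :=
  sylowM24.repG.zip s ++ sylowM24.phiG.map fun c => (c, true)

/-- Elements of the subgroup with the given signs used as tests. -/
def tests (s : List Bool) : List ℕ :=
  sylowM24.phiG ++ (((sylowM24.repG.zip s).filter fun p => p.2).map Prod.fst) ++
    (let N := ((sylowM24.repG.zip s).filter fun p => !p.2).map Prod.fst
     N.flatMap fun a => N.map fun b => pcomp a b)

/-- The common centraliser of two representatives in the abelian subgroup. -/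
def fixA (r r' : ℕ) : List ℕ := (spanC ag).filter fun a => cmB a r && cmB a r'

def checkA : Bool :=
  (rs ++ ag).all permOK && pcOK (rs ++ ag) && pcOK ag && distinctB (spanC ag) &&
  (rs ++ ag).all (fun c => memB c (spanC gT)) && distinctB (spanC (rs ++ ag)) &&
  decide ((spanC (rs ++ ag)).length = 1024) && decide ((spanC ag).length = 128) &&
  memB zc (spanC ag) && ag.all (fun a => Nat.beq (pcomp a a) pid || Nat.beq (pcomp a a) zc) &&
  ag.all (fun a => ag.all fun b => cmB a b)

def checkFix : Bool :=
  (spanC rs).all (fun r => Nat.beq r pid || decide ((fixA r r).length < 64) &&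
    (spanC rs).all fun r' => Nat.beq r' pid || Nat.beq r r' || decide ((fixA r r').length ≤ 16)) &&
  (spanC rs).any fun r => !(Nat.beq r pid) && decide ((fixA r r).length ≤ 8)

def checkMax : Bool :=
  masks.all fun s =>
    decide ((((parL (sgn s)).filter fun p => p.2 && (tests s).all fun d => cmB p.1 d).length) ≤ 16)

/-- The generators are canonical codes of elements. -/
def checkGen : Bool := gT.all fun c => memB c (spanC gT)

theorem parL_fst : ∀ l : List (ℕ × Bool), (parL l).map Prod.fst = spanC (l.map Prod.fst)
  | [] => rfl
  | (c, b) :: l => by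
    simp only [parL, List.map_cons, spanC, dblC, List.map_append, List.map_map]
    rw [← parL_fst l]
    simp [List.map_map, Function.comp_def]

theorem parL_sound (M : Subgroup P24) (T : Subgroup P24) (hM : ∀ a ∈ T, ∀ b ∈ T, (a * b ∈ M ↔ (a ∈ M ↔ b ∈ M))) :
    ∀ (l : List (ℕ × Bool)), (∀ p ∈ l, ∃ g ∈ T, Repr p.1 g ∧ (g ∈ M ↔ p.2 = true)) →
      ∀ q ∈ parL l, ∃ g ∈ T, codeP g = q.1 ∧ (g ∈ M ↔ q.2 = true)
  | [], _, q, hq => by
    simp only [parL, List.mem_singleton] at hq
    exact ⟨1, one_mem _, by rw [hq, pid_eq_codeP], by simp [hq, one_mem]⟩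
  | (c, b) :: l, hl, q, hq => by
    obtain ⟨u, huT, hu, hub⟩ := hl (c, b) (List.mem_cons_self ..)
    have ih := parL_sound M T hM l fun p hp => hl p (List.mem_cons_of_mem _ hp)
    simp only [parL, List.mem_append, List.mem_map] at hq
    rcases hq with hq | ⟨p, hp, rfl⟩
    · exact ih q hq
    · obtain ⟨g, hgT, hg, hgb⟩ := ih p hp
      refine ⟨u * g, mul_mem huT hgT, ?_, ?_⟩
      · rw [← hg]
        exact (pcomp_eq_codeP hu (repr_codeP g)).symm
      · rw [hM u huT g hgT, hub, hgb]
        cases b <;> cases p.2 <;> simp

section Abstract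

variable {S : Type*} [Group S] [Finite S] (φ : ↥(spanH gT) →* S)

theorem codes_card (H : Subgroup S) (hsur : Function.Surjective φ) (hk : Nat.card φ.ker = 2) (L : List ℕ)
    (hL : ∀ t : ↥(spanH gT), φ t ∈ H → codeP (t : P24) ∈ L) : 2 * Nat.card H ≤ L.length := by
  classical
  have h1 : Nat.card (H.comap φ) = 2 * Nat.card H := by
    have e1 := (H.comap φ).card_mul_index
    rw [Subgroup.index_comap_of_surjective H hsur] at e1
    have e2 : Nat.card ↥(spanH gT) = 2 * Nat.card S := by
      rw [← φ.ker.card_mul_index, hk, Subgroup.index_ker, MonoidHom.range_eq_top.mpr hsur, Subgroup.card_top]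
    rw [e2, ← H.card_mul_index, ← mul_assoc] at e1
    exact Nat.eq_of_mul_eq_mul_right (Nat.pos_of_ne_zero H.index_ne_zero_of_finite) e1
  rw [← h1]
  refine le_trans (Nat.card_le_card_of_injective
    (fun t : H.comap φ => (⟨codeP ((t : ↥(spanH gT)) : P24), List.mem_toFinset.mpr (hL _ t.2)⟩ : ↥L.toFinset))
    fun a b e => Subtype.ext (Subtype.ext (codeP_injective (congrArg Subtype.val e)))) ?_
  rw [Nat.card_eq_fintype_card, Fintype.card_coe]
  exact L.toFinset_card_le

theorem comm_cmB (hker : ∀ t : ↥(spanH gT), φ t = 1 → codeP (t : P24) = pid ∨ codeP (t : P24) = zc)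
    {a b : ↥(spanH gT)} (h : φ a * φ b = φ b * φ a) : cmB (codeP (a : P24)) (codeP (b : P24)) = true := by
  have h1 : φ (a * b * (b * a)⁻¹) = 1 := by simp [map_mul, map_inv, h]
  have e0 : pcomp (codeP (a : P24)) (codeP (b : P24)) = codeP ((a : P24) * b) :=
    pcomp_eq_codeP (repr_codeP _) (repr_codeP _)
  have e1 : pcomp (codeP (b : P24)) (codeP (a : P24)) = codeP ((b : P24) * a) :=
    pcomp_eq_codeP (repr_codeP _) (repr_codeP _)
  rw [cmB, Bool.or_eq_true, e0, e1]
  rcases hker _ h1 with h2 | h2
  · left
    have h3 := codeP_injective (h2.trans pid_eq_codeP)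
    push_cast at h3
    rw [mul_inv_eq_one] at h3
    rw [h3]
    exact Nat.beq_refl _
  · right
    rw [← h2, pcomp_eq_codeP (repr_codeP _) (repr_codeP _)]
    push_cast
    rw [inv_mul_cancel_right]
    exact Nat.beq_refl _

end Abstract

end CfsgGolay.SylQuot
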