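import Cfsg.Agent.Lib.Golay.SylowQuotMain

/-!
The abelian subgroup of order 64 in the central quotient.
-/

set_option autoImplicit false
set_option linter.unusedSectionVars false
set_option maxHeartbeats 800000

namespace CfsgGolay.SylQuot

open Cfsg

attribute [local irreducible] codeL octadL dodecadL slpCodes pcomp codeP pack papp sylowM24

local notation "P24" => Equiv.Perm GolayPt

variable {S : Type*} [Group S] [Finite S] {φ : ↥(spanH gT) →* S}
  (hB : sylowM24.checkBasic = true)
  (hsur : Function.Surjective φ) (hk : Nat.card φ.ker = 2)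
  (hker : ∀ t : ↥(spanH gT), φ t = 1 → codeP (t : P24) = pid ∨ codeP (t : P24) = zc)

theorem spanH_mono {l l' : List ℕ} (h : l ⊆ l') : spanH l ≤ spanH l' :=
  Subgroup.closure_mono fun _ ⟨c, hc, hr⟩ => ⟨c, h hc, hr⟩

variable (φ) in
/-- The large abelian subgroup. -/
def bigA : Subgroup S := ((spanH ag).subgroupOf (spanH gT)).map φ

structure Facts : Prop where
  hok : ∀ c ∈ rs ++ ag, permOK c = true
  hpc : pcOK (rs ++ ag) = true
  hpcA : pcOK ag = true
  hdA : distinctB (spanC ag) = true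
  hmem : ∀ c ∈ rs ++ ag, c ∈ spanC gT
  hd : distinctB (spanC (rs ++ ag)) = true
  hlen : (spanC (rs ++ ag)).length = 1024
  hlenA : (spanC ag).length = 128
  hz : zc ∈ spanC ag
  hsq : ∀ a ∈ ag, pcomp a a = pid ∨ pcomp a a = zc
  hcm : ∀ a ∈ ag, ∀ b ∈ ag, cmB a b = true

theorem facts (h : checkA = true) : Facts := by
  simp only [checkA, Bool.and_eq_true, List.all_eq_true, decide_eq_true_eq, Bool.or_eq_true] at h
  obtain ⟨⟨⟨⟨⟨⟨⟨⟨⟨⟨h1, h2⟩, h3⟩, h4⟩, h5⟩, h6⟩, h7⟩, h8⟩, h9⟩, h10⟩, h11⟩ := h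
  exact ⟨h1, h2, h3, h4, fun c hc => of_memB (h5 c hc), h6, h7, h8, of_memB h9,
    fun a ha => (h10 a ha).imp Nat.eq_of_beq_eq_true Nat.eq_of_beq_eq_true, h11⟩

include hB in
theorem ra_le (hA : Facts) : spanH (rs ++ ag) ≤ spanH gT := by
  refine (Subgroup.closure_le _).mpr fun g ⟨c, hc, hr⟩ => ?_
  obtain ⟨v, hv⟩ := lift hB (hA.hmem c hc)
  rw [hr.unique (hv ▸ repr_codeP (v : P24))]
  exact v.2

include hB in
theorem a_le (hA : Facts) : spanH ag ≤ spanH gT :=
  le_trans (spanH_mono (List.subset_append_right _ _)) (ra_le hB hA)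

include hB in
theorem ra_eq (hA : Facts) (hlen : (spanC gT).length = 1024) : spanH (rs ++ ag) = spanH gT :=
  Subgroup.eq_of_le_of_card_ge (ra_le hB hA) (by
    rw [card_spanH hA.hok hA.hpc hA.hd, hA.hlen]
    exact le_of_eq ((SylData.card_U hB).trans hlen))

include hB hsur hk hker in
theorem card_bigA (hA : Facts) : Nat.card (bigA φ) = 64 := by
  have hle : φ.ker ≤ (spanH ag).subgroupOf (spanH gT) := by
    intro t ht
    rw [Subgroup.mem_subgroupOf]
    rcases hker t ht with h | h
    · rw [Subtype.ext (codeP_injective (h.trans pid_eq_codeP)) (a2 := (1 : ↥(spanH gT)))]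
      exact one_mem _
    · obtain ⟨g, hg, he⟩ := spanC_sound (cs := ag) (fun c hc => hA.hok c (List.mem_append_right _ hc)) zc hA.hz
      rw [← h] at he
      exact codeP_injective he ▸ hg
  have e1 := ((spanH ag).subgroupOf (spanH gT)).card_mul_index
  rw [← Subgroup.index_map_eq _ hsur hle, Nat.card_congr (Subgroup.subgroupOfEquivOfLe (a_le hB hA)).toEquiv,
    card_spanH (fun c hc => hA.hok c (List.mem_append_right _ hc)) hA.hpcA hA.hdA, hA.hlenA] at e1
  have e2 : Nat.card ↥(spanH gT) = 2 * Nat.card S := by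
    rw [← φ.ker.card_mul_index, hk, Subgroup.index_ker, MonoidHom.range_eq_top.mpr hsur, Subgroup.card_top]
  rw [e2, ← (bigA φ).card_mul_index, ← mul_assoc] at e1
  have := Nat.eq_of_mul_eq_mul_right (Nat.pos_of_ne_zero (bigA φ).index_ne_zero_of_finite) e1
  omega

include hB hk hker in
theorem bigA_elementary (hA : Facts) : IsElementaryAbelian 2 (bigA φ) := by
  have okA : ∀ c ∈ ag, permOK c = true := fun c hc => hA.hok c (List.mem_append_right _ hc)
  set X : Set S := {x | ∃ t : ↥(spanH gT), codeP (t : P24) ∈ ag ∧ φ t = x}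
  have hle : bigA φ ≤ Subgroup.closure X := by
    rintro _ ⟨t, ht, rfl⟩
    have key : spanH ag ≤ ((Subgroup.closure X).comap φ).map (spanH gT).subtype := by
      refine (Subgroup.closure_le _).mpr fun g ⟨c, hc, hr⟩ => ?_
      obtain ⟨v, hv⟩ := lift hB (hA.hmem c (List.mem_append_right _ hc))
      refine ⟨v, Subgroup.subset_closure ⟨v, hv ▸ hc, rfl⟩, ?_⟩
      exact (hr.unique (hv ▸ repr_codeP (v : P24))).symm
    obtain ⟨u, hu, e⟩ := key ht
    exact (Subtype.ext e : u = t) ▸ hu
  have comm : ∀ x ∈ X, ∀ y ∈ X, x * y = y * x := by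
    rintro _ ⟨t, ht, rfl⟩ _ ⟨u, hu, rfl⟩
    exact of_cmB hk hker (hA.hcm _ ht _ hu)
  haveI := Subgroup.isMulCommutative_closure comm
  refine ⟨⟨⟨fun a b => Subtype.ext ?_⟩⟩, fun a ha => ?_⟩
  · show (a : S) * b = b * a
    exact congrArg Subtype.val (mul_comm' (⟨_, hle a.2⟩ : Subgroup.closure X) ⟨_, hle b.2⟩)
  · have hac := hle ha
    clear ha
    induction hac using Subgroup.closure_induction with
    | one => simp
    | mul x y hx hy ihx ihy =>
      have hc : Commute x y := congrArg Subtype.val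
        (mul_comm' (⟨_, hx⟩ : Subgroup.closure X) ⟨_, hy⟩)
      rw [hc.mul_pow, ihx, ihy, one_mul]
    | inv x hx ihx => rw [inv_pow, ihx, inv_one]
    | mem x hx =>
      obtain ⟨t, ht, rfl⟩ := hx
      rcases hA.hsq _ ht with h | h
      · rw [pcomp_eq_codeP (repr_codeP _) (repr_codeP _), pid_eq_codeP] at h
        rw [← map_pow, show t ^ 2 = 1 from Subtype.ext (by rw [sq]; exact codeP_injective h), map_one]
      · rw [pcomp_eq_codeP (repr_codeP _) (repr_codeP _)] at h
        obtain ⟨z, hz, hz1⟩ := zc_mem hk hker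
        rw [← hz] at h
        rw [← map_pow, show t ^ 2 = z from Subtype.ext (by rw [sq]; exact codeP_injective h), hz1]

include hB hsur hk hker in
theorem abelian_eq (hA : Facts) (hlen : (spanC gT).length = 1024) (hS : Nat.card S = 512)
    (hF : checkFix = true) (B : Subgroup S) (hBc : IsMulCommutative ↥B) (hB64 : Nat.card B = 64) :
    B = bigA φ := by
  classical
  set A := bigA φ with hAdef
  have hAc := card_bigA hB hsur hk hker hA
  obtain ⟨hAcom, -⟩ := bigA_elementary hB hk hker hA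
  have commA : ∀ a ∈ A, ∀ b ∈ A, a * b = b * a := fun a ha b hb =>
    congrArg Subtype.val (mul_comm' (⟨a, ha⟩ : A) ⟨b, hb⟩)
  have commB : ∀ a ∈ B, ∀ b ∈ B, a * b = b * a := fun a ha b hb =>
    congrArg Subtype.val (mul_comm' (⟨a, ha⟩ : B) ⟨b, hb⟩)
  simp only [checkFix, Bool.and_eq_true, List.all_eq_true, Bool.or_eq_true, decide_eq_true_eq,
    List.any_eq_true, Bool.not_eq_true'] at hF
  obtain ⟨hfix, r₀, hr₀, hr₀ne, hr₀fix⟩ := hF
  have dec : ∀ x : S, ∃ t : ↥(spanH gT), codeP (t : P24) ∈ spanC rs ∧ ∃ a ∈ A, x = φ t * a := by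
    intro x
    obtain ⟨t, rfl⟩ := hsur x
    have ht : codeP (t : P24) ∈ spanC (rs ++ ag) :=
      spanC_complete hA.hok hA.hpc _ (by rw [ra_eq hB hA hlen]; exact t.2)
    obtain ⟨r, f, hr, hrT, hf, he⟩ := spanH_split hA.hok hA.hpc _ ht
    rw [ra_eq hB hA hlen] at hrT
    refine ⟨⟨r, hrT⟩, hr, φ ⟨f, a_le hB hA hf⟩, ⟨_, Subgroup.mem_subgroupOf.mpr hf, rfl⟩, ?_⟩
    rw [← map_mul]
    exact congrArg φ (Subtype.ext (codeP_injective he).symm)
  have bnd : ∀ (t t' : ↥(spanH gT)) (D : Subgroup S), D ≤ A → (∀ d ∈ D, d * φ t = φ t * d) →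
      (∀ d ∈ D, d * φ t' = φ t' * d) → 2 * Nat.card D ≤ (fixA (codeP (t : P24)) (codeP (t' : P24))).length := by
    intro t t' D hDA h1 h2
    refine codes_card φ D hsur hk _ fun u hu => ?_
    obtain ⟨v, hv, hvu⟩ := hDA hu
    have hu' : (u : P24) ∈ spanH ag := by
      have h3 : φ (v⁻¹ * u) = 1 := by rw [map_mul, map_inv, hvu, inv_mul_cancel]
      have h4 : ((v⁻¹ * u : ↥(spanH gT)) : P24) ∈ spanH ag := by
        obtain ⟨g, hg, he⟩ := spanC_sound (cs := ag) (fun c hc => hA.hok c (List.mem_append_right _ hc)) zc hA.hz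
        rcases hker _ h3 with h | h
        · rw [codeP_injective (h.trans pid_eq_codeP)]; exact one_mem _
        · rw [← codeP_injective (he.trans h.symm)]; exact hg
      have := mul_mem (Subgroup.mem_subgroupOf.mp hv) h4
      rwa [show (u : P24) = (v : P24) * ((v⁻¹ * u : ↥(spanH gT)) : P24) by push_cast; rw [mul_inv_cancel_left]]
    rw [fixA, List.mem_filter, Bool.and_eq_true]
    exact ⟨spanC_complete (fun c hc => hA.hok c (List.mem_append_right _ hc)) hA.hpcA _ hu',
      comm_cmB φ hker (h1 _ hu), comm_cmB φ hker (h2 _ hu)⟩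
  set D := A ⊓ B with hD
  have coset : ∀ (x : S) (t : ↥(spanH gT)) (a : S), a ∈ A → x = φ t * a → x ∈ B →
      ∀ d ∈ D, d * φ t = φ t * d := by
    intro x t a ha he hx d hd
    have h1 := commB d hd.2 x hx
    have h2 := commA d hd.1 a ha
    rw [he] at h1
    calc d * φ t = d * (φ t * a) * a⁻¹ := by rw [← mul_assoc d, mul_inv_cancel_right]
      _ = φ t * (a * d) * a⁻¹ := by rw [h1]; simp [mul_assoc]
      _ = φ t * d := by rw [← h2, ← mul_assoc, mul_inv_cancel_right]
  have nA : ∀ {t : ↥(spanH gT)} {x a : S}, a ∈ A → x = φ t * a → x ∉ A → codeP (t : P24) ≠ pid := by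
    intro t x a ha he hx h
    rw [Subtype.ext (codeP_injective (h.trans pid_eq_codeP)) (a2 := (1 : ↥(spanH gT))), map_one, one_mul] at he
    exact hx (he ▸ ha)
  have hidx : A.index = 8 := by
    have := A.card_mul_index
    rw [hAc, hS] at this
    omega
  have hrel : A.relIndex B * Nat.card D = 64 := by
    rw [← hB64, ← (A.subgroupOf B).card_mul_index, mul_comm]
    congr 1
    rw [← Subgroup.inf_subgroupOf_right, Nat.card_congr (Subgroup.subgroupOfEquivOfLe inf_le_right).toEquiv]
  let f : ↥B ⧸ A.subgroupOf B → S ⧸ A := Quotient.map' Subtype.val fun a b h => by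
    rw [QuotientGroup.leftRel_apply, Subgroup.mem_subgroupOf] at h
    rw [QuotientGroup.leftRel_apply]
    simpa using h
  have finj : Function.Injective f := by
    intro p q
    induction p using QuotientGroup.induction_on with
    | H a =>
      induction q using QuotientGroup.induction_on with
      | H b =>
        intro h
        have h' : ((a : S) : S ⧸ A) = ((b : S) : S ⧸ A) := h
        rw [QuotientGroup.eq] at h' ⊢
        rw [Subgroup.mem_subgroupOf]
        simpa using h'
  have hle : A.relIndex B ≤ 8 := by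
    rw [← hidx, Subgroup.relIndex, Subgroup.index_eq_card, Subgroup.index_eq_card]
    exact Nat.card_le_card_of_injective f finj
  by_contra hne
  obtain ⟨x, hxB, hxA⟩ : ∃ x ∈ B, x ∉ A := by
    by_contra hcon
    push Not at hcon
    exact hne (Subgroup.eq_of_le_of_card_ge hcon (by rw [hAc, hB64]))
  obtain ⟨t, ht, a, ha, hx⟩ := dec x
  have hd1 := coset x t a ha hx hxB
  have htne := nA ha hx hxA
  by_cases hpair : ∃ y ∈ B, y ∉ A ∧ x⁻¹ * y ∉ A
  · obtain ⟨y, hyB, hyA, hxy⟩ := hpair
    obtain ⟨u, hu, b, hb, hy⟩ := dec y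
    have hne' : codeP (t : P24) ≠ codeP (u : P24) := by
      intro h
      rw [Subtype.ext (codeP_injective h)] at hx
      apply hxy
      rw [hx, hy, mul_inv_rev, mul_assoc, inv_mul_cancel_left]
      exact mul_mem (inv_mem ha) hb
    have hD8 : 2 * Nat.card D ≤ 16 := by
      refine le_trans (bnd t u D inf_le_left hd1 (coset y u b hb hy hyB)) ?_
      rcases (hfix _ ht) with h | ⟨-, h⟩
      · exact absurd (Nat.eq_of_beq_eq_true h) htne
      rcases h _ hu with (h | h) | h
      · exact absurd (Nat.eq_of_beq_eq_true h) (nA hb hy hyA)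
      · exact absurd (Nat.eq_of_beq_eq_true h) hne'
      · exact h
    have h8 : A.relIndex B = 8 := by nlinarith
    have fbij : Function.Bijective f := (Nat.bijective_iff_injective_and_card f).mpr ⟨finj, by
      rw [← Subgroup.index_eq_card, ← Subgroup.index_eq_card, hidx]
      exact h8⟩
    obtain ⟨g, hg, hgc⟩ := spanC_sound (fun c hc => hA.hok c (List.mem_append_left _ hc)) r₀ hr₀
    have hgT : g ∈ spanH gT := ra_le hB hA (spanH_mono (List.subset_append_left _ _) hg)
    obtain ⟨q, hq⟩ := fbij.2 ((φ ⟨g, hgT⟩ : S) : S ⧸ A)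
    induction q using QuotientGroup.induction_on with
    | H w =>
      have h' : ((w : S) : S ⧸ A) = ((φ ⟨g, hgT⟩ : S) : S ⧸ A) := hq
      rw [QuotientGroup.eq] at h'
      have h0 := bnd ⟨g, hgT⟩ ⟨g, hgT⟩ D inf_le_left
        (coset w ⟨g, hgT⟩ _ (inv_mem h') (by simp) w.2) (coset w ⟨g, hgT⟩ _ (inv_mem h') (by simp) w.2)
      rw [show codeP ((⟨g, hgT⟩ : ↥(spanH gT)) : P24) = r₀ from hgc] at h0
      rw [h8] at hrel
      omega
  · push Not at hpair
    have h2 : A.relIndex B ≤ 2 := by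
      rw [Subgroup.relIndex, Subgroup.index_eq_card]
      have hsub : ∀ q : ↥B ⧸ A.subgroupOf B, q = ((1 : B) : ↥B ⧸ A.subgroupOf B) ∨
          q = ((⟨x, hxB⟩ : B) : ↥B ⧸ A.subgroupOf B) := by
        intro q
        induction q using QuotientGroup.induction_on with
        | H w =>
          by_cases hw : (w : S) ∈ A
          · left; rw [QuotientGroup.eq, Subgroup.mem_subgroupOf]; simpa using hw
          · right; symm; rw [QuotientGroup.eq, Subgroup.mem_subgroupOf]; simpa using hpair w w.2 hw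
      let g2 : Bool → ↥B ⧸ A.subgroupOf B := fun b =>
        if b then ((1 : B) : ↥B ⧸ A.subgroupOf B) else ((⟨x, hxB⟩ : B) : ↥B ⧸ A.subgroupOf B)
      refine le_trans (Nat.card_le_card_of_surjective g2 fun q => ?_) (by simp)
      rcases hsub q with h | h
      exacts [⟨true, h.symm⟩, ⟨false, h.symm⟩]
    have := bnd t t D inf_le_left hd1 hd1
    rcases (hfix _ ht) with h | ⟨h, -⟩
    · exact absurd (Nat.eq_of_beq_eq_true h) htne
    · nlinarith

end CfsgGolay.SylQuot
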