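import Cfsg.Agent.Lib.Golay.SylowQuotAb

/-!
Kernel checks for the central quotient of the Sylow subgroup.
-/

set_option autoImplicit false

namespace CfsgGolay.SylQuot

theorem basic_ok : sylowM24.checkBasic = true := by decide +kernel
theorem phi_ok : sylowM24.checkPhi = true := by decide +kernel
theorem cen_ok : sylowM24.checkCen = true := by decide +kernel
theorem gen_ok : checkGen = true := by decide +kernel
theorem a_ok : checkA = true := by decide +kernel
theorem fix_ok : checkFix = true := by decide +kernel
theorem max_ok : checkMax = true := by decide +kernel
theorem amb_eq : Cfsg.M24 = sylowM24.amb := subG_nil.symm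
theorem len_ok : (spanC gT).length = 1024 := by decide +kernel

end CfsgGolay.SylQuot
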