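import Cfsg.Agent.Lib.Golay.SylowQuot
import Cfsg.Prelude.Def_Transfer

/-!
Maximal subgroups and large abelian subgroups of the central quotient of the Sylow 2-subgroup.
-/

set_option autoImplicit false
set_option linter.unusedSectionVars false
set_option maxHeartbeats 800000

namespace CfsgGolay.SylQuot

open Cfsg

attribute [local irreducible] codeL octadL dodecadL slpCodes pcomp codeP pack papp sylowM24

local notation "P24" => Equiv.Perm GolayPt

variable {S : Type*} [Group S] [Finite S] {φ : ↥(spanH gT) →* S}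
  (hB : sylowM24.checkBasic = true) (hP : sylowM24.checkPhi = true)
  (hsur : Function.Surjective φ) (hk : Nat.card φ.ker = 2)
  (hker : ∀ t : ↥(spanH gT), φ t = 1 → codeP (t : P24) = pid ∨ codeP (t : P24) = zc)

include hB in
theorem lift {c : ℕ} (hc : c ∈ spanC gT) : ∃ t : ↥(spanH gT), codeP (t : P24) = c := by
  obtain ⟨g, hg, he⟩ := spanC_sound (SylData.permOK_gens hB) c hc
  exact ⟨⟨g, hg⟩, he⟩

theorem code_eq {c : ℕ} {g : P24} (hc : c ∈ spanC gT) (hB : sylowM24.checkBasic = true) (hr : Repr c g) :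
    codeP g = c := by
  obtain ⟨v, hv⟩ := lift hB hc
  rw [hr.unique (hv ▸ repr_codeP (v : P24)), hv]

include hk hker in
theorem zc_mem : ∃ t : ↥(spanH gT), codeP (t : P24) = zc ∧ φ t = 1 := by
  by_contra hcon
  push Not at hcon
  have : φ.ker = ⊥ := (Subgroup.eq_bot_iff_forall _).mpr fun t ht => by
    rcases hker t ht with h | h
    · exact Subtype.ext (codeP_injective (h.trans pid_eq_codeP))
    · exact absurd ht (hcon t h)
  rw [this, Subgroup.card_bot] at hk
  omega

include hk hker in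
theorem of_cmB {a b : ↥(spanH gT)} (h : cmB (codeP (a : P24)) (codeP (b : P24)) = true) :
    φ a * φ b = φ b * φ a := by
  rw [cmB, Bool.or_eq_true, pcomp_eq_codeP (repr_codeP _) (repr_codeP _),
    pcomp_eq_codeP (repr_codeP _) (repr_codeP _)] at h
  rcases h with h | h
  · rw [← map_mul, ← map_mul]
    exact congrArg φ (Subtype.ext (show ((a * b : ↥(spanH gT)) : P24) = ((b * a : ↥(spanH gT)) : P24)
      from codeP_injective (Nat.eq_of_beq_eq_true h)))
  · obtain ⟨z, hz, hz1⟩ := zc_mem hk hker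
    rw [← hz, pcomp_eq_codeP (repr_codeP _) (repr_codeP _)] at h
    rw [← map_mul, ← map_mul, Subtype.ext (show ((a * b : ↥(spanH gT)) : P24) = ((z * (b * a) : ↥(spanH gT)) : P24)
      from codeP_injective (Nat.eq_of_beq_eq_true h)), map_mul, hz1, one_mul]

include hB hP hsur hk hker in
theorem centre_le (hg0 : checkGen = true) (h : checkMax = true) (M : Subgroup S) (hM : M.index = 2) :
    Nat.card ↥(Subgroup.center ↥M) ≤ 8 := by
  classical
  simp only [SylData.checkPhi, Bool.and_eq_true, List.all_eq_true, decide_eq_true_eq] at hP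
  obtain ⟨⟨-, hlen⟩, hsq⟩ := hP
  set M' : Subgroup P24 := (M.comap φ).map (spanH gT).subtype with hM'
  have mem' : ∀ t : ↥(spanH gT), (t : P24) ∈ M' ↔ φ t ∈ M := fun t =>
    ⟨fun ⟨u, hu, e⟩ => Subtype.ext e ▸ hu, fun ht => ⟨t, ht, rfl⟩⟩
  have two : ∀ a ∈ spanH gT, ∀ b ∈ spanH gT, (a * b ∈ M' ↔ (a ∈ M' ↔ b ∈ M')) := by
    intro a ha b hb
    rw [mem' ⟨a, ha⟩, mem' ⟨b, hb⟩, show a * b = ((⟨a, ha⟩ * ⟨b, hb⟩ : ↥(spanH gT)) : P24) from rfl, mem',
      map_mul, Subgroup.mul_mem_iff_of_index_two hM]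
  have okT := SylData.permOK_gens hB
  simp only [checkGen, List.all_eq_true] at hg0
  have hgen : ∀ c ∈ gT, c ∈ spanC gT := fun c hc => of_memB (hg0 c hc)
  have sq : ∀ w : List ℕ, (∀ u ∈ w, u ∈ spanC gT) → ∃ g ∈ spanH gT, codeP g = SylData.sqProd w ∧ g ∈ M' := by
    intro w
    induction w with
    | nil => exact fun _ => ⟨1, one_mem _, by rw [SylData.sqProd, pid_eq_codeP], one_mem _⟩
    | cons u w ih =>
      intro hw
      obtain ⟨g, hg, hg1, hg2⟩ := ih fun v hv => hw v (List.mem_cons_of_mem _ hv)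
      obtain ⟨v, hv⟩ := lift hB (hw u (List.mem_cons_self ..))
      refine ⟨(v : P24) * v * g, mul_mem (mul_mem v.2 v.2) hg, ?_, mul_mem ((two _ v.2 _ v.2).mpr Iff.rfl) hg2⟩
      rw [SylData.sqProd, ← hg1, ← hv, pcomp_eq_codeP (repr_codeP _) (repr_codeP _),
        pcomp_eq_codeP (repr_codeP _) (repr_codeP _)]
  have hphi : ∀ c ∈ sylowM24.phiG, ∃ g ∈ spanH gT, Repr c g ∧ g ∈ M' := by
    intro c hc
    obtain ⟨i, hi, rfl⟩ := List.getElem_of_mem hc
    have hi' : i < sylowM24.sqW.length := hlen ▸ hi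
    have hz : (sylowM24.phiG[i], sylowM24.sqW[i]) ∈ sylowM24.phiG.zip sylowM24.sqW := by
      rw [List.mem_iff_getElem]
      exact ⟨i, by rw [List.length_zip]; omega, List.getElem_zip⟩
    obtain ⟨h1, h2⟩ := hsq _ hz
    obtain ⟨g, hg, hg1, hg2⟩ := sq _ fun u hu => of_memB (h2 u hu)
    refine ⟨g, hg, ?_, hg2⟩
    have h3 : SylData.sqProd sylowM24.sqW[i] = sylowM24.phiG[i] := Nat.eq_of_beq_eq_true h1
    rw [← h3, ← hg1]
    exact repr_codeP g
  have hrep : ∀ c ∈ sylowM24.repG, ∃ g ∈ spanH gT, Repr c g := by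
    intro c hc
    obtain ⟨u, hu⟩ := exists_repr_of_permOK (okT c (List.mem_append_left _ hc))
    exact ⟨u, mem_spanH (List.mem_append_left _ hc) hu, hu⟩
  let sb : ℕ → Bool := fun c => decide (∃ g ∈ spanH gT, Repr c g ∧ g ∈ M')
  have hsb : ∀ c ∈ sylowM24.repG, ∃ g ∈ spanH gT, Repr c g ∧ (g ∈ M' ↔ sb c = true) := by
    intro c hc
    obtain ⟨g, hg, hr⟩ := hrep c hc
    refine ⟨g, hg, hr, ?_⟩
    simp only [sb, decide_eq_true_eq]
    exact ⟨fun h => ⟨g, hg, hr, h⟩, fun ⟨g', _, hr', h'⟩ => hr'.unique hr ▸ h'⟩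
  set s := sylowM24.repG.map sb with hs
  have hmask : s ∈ masks := by
    obtain ⟨a, b, c, d, habcd⟩ : ∃ a b c d, sylowM24.repG = [a, b, c, d] := ⟨_, _, _, _, by unfold sylowM24; rfl⟩
    have hnot : ¬ (sb a = true ∧ sb b = true ∧ sb c = true ∧ sb d = true) := by
      rintro ⟨ha, hb, hc, hd⟩
      have hle : spanH gT ≤ M' := by
        refine (Subgroup.closure_le _).mpr fun g ⟨e, he, hr⟩ => ?_
        rcases List.mem_append.mp he with he | he
        · obtain ⟨g', _, hr', hiff⟩ := hsb e he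
          rw [hr.unique hr']
          refine hiff.mpr ?_
          rw [habcd] at he
          simp only [List.mem_cons, List.not_mem_nil, or_false] at he
          rcases he with rfl | rfl | rfl | rfl <;> assumption
        · obtain ⟨g', _, hr', h'⟩ := hphi e he
          rw [hr.unique hr']
          exact h'
      have : M = ⊤ := (Subgroup.eq_top_iff' _).mpr fun x => by
        obtain ⟨t, rfl⟩ := hsur x
        exact (mem' t).mp (hle t.2)
      rw [this, Subgroup.index_top] at hM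
      omega
    have key : ∀ p q r t : Bool, ¬ (p = true ∧ q = true ∧ r = true ∧ t = true) → [p, q, r, t] ∈ masks := by decide
    rw [hs, habcd]
    exact key _ _ _ _ hnot
  have hs4 : sylowM24.repG.length = s.length := by rw [hs, List.length_map]
  have hfst : (sgn s).map Prod.fst = gT := by
    rw [sgn, List.map_append, List.map_fst_zip hs4.le, List.map_map]
    exact congrArg (sylowM24.repG ++ ·) (List.map_id _)
  have hzip : ∀ p ∈ sylowM24.repG.zip s, p.1 ∈ sylowM24.repG ∧ p.2 = sb p.1 := by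
    intro p hp
    rw [hs, List.zip_map_right] at hp
    obtain ⟨⟨u, v⟩, huv, rfl⟩ := List.mem_map.mp hp
    obtain ⟨h1, rfl⟩ : u ∈ sylowM24.repG ∧ v = u := by
      obtain ⟨i, hi, e⟩ := List.getElem_of_mem huv
      rw [List.getElem_zip] at e
      simp only [Prod.mk.injEq] at e
      exact ⟨e.1 ▸ List.getElem_mem _, e.2.symm.trans e.1⟩
    exact ⟨h1, rfl⟩
  have hl : ∀ p ∈ sgn s, ∃ g ∈ spanH gT, Repr p.1 g ∧ (g ∈ M' ↔ p.2 = true) := by
    intro p hp
    rcases List.mem_append.mp hp with hp | hp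
    · obtain ⟨h1, h2⟩ := hzip p hp
      rw [h2]
      exact hsb _ h1
    · obtain ⟨c, hc, rfl⟩ := List.mem_map.mp hp
      obtain ⟨g, hg, hr, hm⟩ := hphi c hc
      exact ⟨g, hg, hr, by simp [hm]⟩
  have htest : ∀ d ∈ tests s, ∃ t : ↥(spanH gT), codeP (t : P24) = d ∧ φ t ∈ M := by
    intro d hd
    simp only [tests, List.mem_append, List.mem_map, List.mem_filter, List.mem_flatMap] at hd
    rcases hd with (hd | ⟨p, ⟨hp, hb⟩, rfl⟩) | ⟨a, ⟨p, ⟨hp, hb⟩, rfl⟩, b, ⟨q, ⟨hq, hb'⟩, rfl⟩, rfl⟩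
    · obtain ⟨g, hg, hr, hm⟩ := hphi d hd
      exact ⟨⟨g, hg⟩, code_eq (hgen _ (List.mem_append_right _ hd)) hB hr, (mem' _).mp hm⟩
    · obtain ⟨g, hg, hr, hm⟩ := hl p (List.mem_append_left _ hp)
      exact ⟨⟨g, hg⟩, code_eq (hgen _ (List.mem_append_left _ (hzip p hp).1)) hB hr, (mem' _).mp (hm.mpr hb)⟩
    · obtain ⟨g, hg, hr, hm⟩ := hl p (List.mem_append_left _ hp)
      obtain ⟨g', hg', hr', hm'⟩ := hl q (List.mem_append_left _ hq)
      simp only [Bool.not_eq_true'] at hb hb'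
      rw [hb] at hm
      rw [hb'] at hm'
      refine ⟨⟨g * g', mul_mem hg hg'⟩, (pcomp_eq_codeP hr hr').symm, (mem' _).mp ((two g hg g' hg').mpr ?_)⟩
      simp only [Bool.false_eq_true, iff_false] at hm hm'
      exact ⟨fun h => absurd h hm, fun h => absurd h hm'⟩
  simp only [checkMax, List.all_eq_true, decide_eq_true_eq] at h
  have hcard := h s hmask
  set L := (parL (sgn s)).filter fun p => p.2 && (tests s).all fun d => cmB p.1 d
  have := codes_card φ ((Subgroup.center ↥M).map M.subtype) hsur hk (L.map Prod.fst) (by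
    rintro t ⟨m, hm, hmt⟩
    have hc : codeP (t : P24) ∈ spanC gT := spanC_complete okT (SylData.pc_gens hB) _ t.2
    have hc' : codeP (t : P24) ∈ (parL (sgn s)).map Prod.fst := by rw [parL_fst, hfst]; exact hc
    obtain ⟨p, hp, hpt⟩ := List.mem_map.mp hc'
    obtain ⟨g, -, hg1, hg2⟩ := parL_sound M' (spanH gT) two (sgn s) hl p hp
    have hgt : g = (t : P24) := codeP_injective (hg1.trans hpt)
    refine List.mem_map.mpr ⟨p, List.mem_filter.mpr ⟨hp, ?_⟩, hpt⟩
    rw [Bool.and_eq_true, List.all_eq_true]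
    refine ⟨hg2.mp (hgt ▸ (mem' t).mpr (hmt ▸ m.2)), fun d hd => ?_⟩
    obtain ⟨u, hu, huM⟩ := htest d hd
    rw [hpt, ← hu]
    refine comm_cmB φ hker ?_
    rw [← hmt]
    exact congrArg Subtype.val (Subgroup.mem_center_iff.mp hm ⟨φ u, huM⟩).symm)
  rw [Subgroup.card_map_of_injective (K := Subgroup.center ↥M) (Subgroup.subtype_injective _), List.length_map] at this
  omega

end CfsgGolay.SylQuot
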