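/-
The stabiliser of a trio and its map onto GL(3,2) times the symmetric group on the three octads.
-/
import Cfsg.Agent.Lib.Golay.SextGroup
import Mathlib.LinearAlgebra.Matrix.GeneralLinearGroup.Defs
import Mathlib.LinearAlgebra.Matrix.GeneralLinearGroup.Card
import Mathlib.Algebra.Module.ZMod

set_option autoImplicit false

namespace CfsgGolay

open Cfsg
open scoped Pointwise

attribute [local irreducible] codeL octadL dodecadL slpCodes

/-- A vector as a number. -/
def v3n (v : Fin 3 → ZMod 2) : ℕ := (v 0).val + 2 * (v 1).val + 4 * (v 2).val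

/-- A number as a vector. -/
def n3v (k : ℕ) : Fin 3 → ZMod 2 := ![(k : ZMod 2), ((k / 2 : ℕ) : ZMod 2), ((k / 4 : ℕ) : ZMod 2)]

theorem v3_facts : (∀ v, n3v (v3n v) = v) ∧ (∀ k < 8, v3n (n3v k) = k) ∧ (∀ v, v3n v < 8) ∧
    (∀ v w, v3n (v + w) = Nat.xor (v3n v) (v3n w)) := by decide +kernel

/-- The code of the sextet with a given number. -/
def trSc (k : ℕ) : ℕ := trS.getD (k - 1) 0

/-- The sextets refining the standard trio, and nothing for the zero vector. -/
def trX (v : Fin 3 → ZMod 2) : Finset (Finset GolayPt) := if v = 0 then ∅ else famSet 6 (trSc (v3n v))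

theorem trS_ok : ((List.range 7).all fun i => famValidB 6 (trS.getD i 0)) = true ∧ trS.Nodup ∧ trS.length = 7 := by
  decide +kernel

theorem trSc_valid {v : Fin 3 → ZMod 2} (hv : v ≠ 0) : (famK 6).Valid (trSc (v3n v)) ∧ 1 ≤ v3n v := by
  have h1 : 1 ≤ v3n v := by
    rcases Nat.eq_zero_or_pos (v3n v) with h | h
    · exact absurd (by rw [← v3_facts.1 v, h]; decide +kernel) hv
    · exact h
  have h8 := v3_facts.2.2.1 v
  exact ⟨famValidB_sound (List.all_eq_true.mp trS_ok.1 _ (List.mem_range.mpr (by omega))), h1⟩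

theorem trX_inj : Function.Injective trX := by
  intro v w h
  have hne : ∀ {u}, u ≠ 0 → trX u ≠ ∅ := by
    intro u hu he
    have hc : (trX u).card = 0 := by rw [he]; rfl
    rw [trX, if_neg hu, famSet, Finset.card_eq_zero, Finset.image_eq_empty, List.toFinset_eq_empty_iff] at hc
    have := congrArg List.length hc
    rw [unpackF_length] at this
    exact absurd this (by norm_num)
  by_cases hv : v = 0
  · by_cases hw : w = 0
    · rw [hv, hw]
    · exact absurd (h.symm.trans (if_pos hv)) (hne hw)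
  · by_cases hw : w = 0
    · exact absurd (h.trans (if_pos hw)) (hne hv)
    · simp only [trX, if_neg hv, if_neg hw] at h
      obtain ⟨hv', hv1⟩ := trSc_valid hv
      obtain ⟨hw', hw1⟩ := trSc_valid hw
      have hc := (famK 6).inj hv' hw' h
      have hlt := trS_ok.2.2
      have hv8 := v3_facts.2.2.1 v
      have hw8 := v3_facts.2.2.1 w
      rw [trSc, trSc, List.getD_eq_getElem _ _ (by omega), List.getD_eq_getElem _ _ (by omega),
        trS_ok.2.1.getElem_inj_iff] at hc
      rw [← v3_facts.1 v, ← v3_facts.1 w, show v3n v = v3n w by omega]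

theorem repr_famSet {c : ℕ} {g : Equiv.Perm GolayPt} (hg : Repr c g) {k n m : ℕ}
    (h : Nat.beq (packF (isortF ((unpackF k n).map (pmask c)))) m = true) : g • famSet k n = famSet k m := by
  rw [← Nat.eq_of_beq_eq_true h]
  set L := (unpackF k n).map (pmask c) with hL
  have hlen : (isortF L).length = k := by
    rw [(isortF_perm L).length_eq, hL, List.length_map, unpackF_length]
  have hlt : ∀ m ∈ isortF L, m < 2 ^ 24 := by
    intro m hm
    obtain ⟨z, -, rfl⟩ := List.mem_map.mp ((isortF_perm L).mem_iff.mp hm)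
    exact hg.pmask_lt z
  have hup : unpackF k (packF (isortF L)) = isortF L := by
    conv_lhs => rw [← hlen]
    exact unpackF_packF _ hlt
  rw [famSet, famSet, hup, smul_finset_eq_image, Finset.image_image]
  ext s
  simp only [Finset.mem_image, List.mem_toFinset, Function.comp_apply]
  constructor
  · rintro ⟨z, hz, rfl⟩
    exact ⟨pmask c z, (isortF_perm L).mem_iff.mpr (List.mem_map_of_mem hz), hg.toSet_pmask z⟩
  · rintro ⟨w, hw, rfl⟩
    obtain ⟨z, hz, rfl⟩ := List.mem_map.mp ((isortF_perm L).mem_iff.mp hw)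
    exact ⟨z, hz, (hg.toSet_pmask z).symm⟩

/-- The linear image of a number, given the images of the basis. -/
def lin3 (p : ℕ × ℕ × ℕ) (k : ℕ) : ℕ :=
  Nat.xor (cond (Nat.beq (k % 2) 1) p.1 0)
    (Nat.xor (cond (Nat.beq (k / 2 % 2) 1) p.2.1 0) (cond (Nat.beq (k / 4 % 2) 1) p.2.2 0))

/-- A code acting on the seven sextets as prescribed. -/
def actsB (c : ℕ) (p : ℕ × ℕ × ℕ) (ks : List ℕ) : Bool :=
  ks.all fun k => Nat.ble 1 (lin3 p k) && Nat.blt (lin3 p k) 8 &&
    Nat.beq (packF (isortF ((unpackF 6 (trSc k)).map (pmask c)))) (trSc (lin3 p k))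

theorem gTact_ok : ((List.range gT.length).all fun i =>
    actsB (gT.getD i ⟨0, 0, 0, 0⟩).c (trAct.getD i (0, 0, 0)) [1, 2, 3, 4, 5, 6, 7] &&
    Nat.blt (trAct.getD i (0, 0, 0)).1 8 && Nat.blt (trAct.getD i (0, 0, 0)).2.1 8 &&
    Nat.blt (trAct.getD i (0, 0, 0)).2.2 8) = true := by decide +kernel

theorem trio_lin {g : Equiv.Perm GolayPt} (hg : g ∈ stabM T0) :
    ∃ A : (Fin 3 → ZMod 2) →+ (Fin 3 → ZMod 2), ∀ v, g • trX v = trX (A v) := by
  rw [← stabT.1] at hg
  refine Subgroup.closure_induction (p := fun g _ => ∃ A : (Fin 3 → ZMod 2) →+ (Fin 3 → ZMod 2),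
    ∀ v, g • trX v = trX (A v)) ?_ ?_ ?_ ?_ hg
  · rintro a ⟨e, he, ha⟩
    obtain ⟨i, hi, rfl⟩ := List.getElem_of_mem he
    have h := List.all_eq_true.mp gTact_ok i (List.mem_range.mpr hi)
    rw [List.getD_eq_getElem _ _ hi] at h
    set p := trAct.getD i (0, 0, 0)
    simp only [Bool.and_eq_true, actsB, List.all_eq_true, Nat.blt_eq, Nat.ble_eq] at h
    obtain ⟨⟨⟨hk, hp1⟩, hp2⟩, hp3⟩ := h
    refine ⟨AddMonoidHom.mk' (fun v => n3v (lin3 p (v3n v))) ?_, fun v => ?_⟩
    · have key : ∀ k l : Fin 8,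
          n3v (Nat.xor (k : ℕ) l) = n3v k + n3v l := by decide +kernel
      intro v w
      have hl : ∀ j, lin3 p j < 8 := fun j => by
        unfold lin3
        refine Nat.xor_lt_two_pow (n := 3) ?_ (Nat.xor_lt_two_pow (n := 3) ?_ ?_) <;>
          (cases Nat.beq _ 1 <;> simp <;> omega)
      have hlin : ∀ j l, j < 8 → l < 8 → lin3 p (Nat.xor j l) = Nat.xor (lin3 p j) (lin3 p l) := by
        intro j l hj hl
        interval_cases j <;> interval_cases l <;>
          simp [lin3, Nat.beq, Nat.xor_comm, Nat.xor_left_comm, Nat.xor_assoc]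
      rw [v3_facts.2.2.2, hlin _ _ (v3_facts.2.2.1 v) (v3_facts.2.2.1 w)]
      exact key ⟨_, hl _⟩ ⟨_, hl _⟩
    · by_cases hv : v = 0
      · subst hv
        have h0 : n3v (lin3 p (v3n (0 : Fin 3 → ZMod 2))) = 0 := by
          rw [show v3n (0 : Fin 3 → ZMod 2) = 0 by decide +kernel,
            show lin3 p 0 = 0 by simp [lin3, Nat.beq]]
          decide +kernel
        simp only [AddMonoidHom.mk'_apply, h0, trX, if_pos]
        exact Finset.smul_finset_empty a
      · obtain ⟨-, hv1⟩ := trSc_valid hv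
        have hv8 := v3_facts.2.2.1 v
        obtain ⟨⟨hl1, hl8⟩, heq⟩ := hk (v3n v) (by simp; omega)
        have hne : n3v (lin3 p (v3n v)) ≠ 0 := fun h0 => by
          have := congrArg v3n h0
          rw [v3_facts.2.1 _ hl8, show v3n (0 : Fin 3 → ZMod 2) = 0 by decide +kernel] at this
          omega
        simp only [AddMonoidHom.mk'_apply, trX, if_neg hv, if_neg hne, v3_facts.2.1 _ hl8]
        exact repr_famSet ha.1 heq
  · exact ⟨AddMonoidHom.id _, fun v => one_smul _ _⟩
  · rintro a b - - ⟨A, hA⟩ ⟨B, hB⟩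
    exact ⟨A.comp B, fun v => by rw [mul_smul, hB, hA]; rfl⟩
  · rintro a - ⟨A, hA⟩
    have hinj : Function.Injective A := fun v w h => trX_inj (smul_left_cancel a (by rw [hA, hA, h]))
    let E := AddEquiv.ofBijective A (Finite.injective_iff_bijective.mp hinj)
    refine ⟨E.symm.toAddMonoidHom, fun v => inv_smul_eq_iff.mpr ?_⟩
    rw [hA]
    exact congrArg trX (E.apply_symm_apply v).symm

/-- The induced linear map. -/
noncomputable def trA (g : stabM T0) : (Fin 3 → ZMod 2) →+ (Fin 3 → ZMod 2) := (trio_lin g.2).choose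

theorem trA_spec (g : stabM T0) (v : Fin 3 → ZMod 2) : (g : Equiv.Perm GolayPt) • trX v = trX (trA g v) :=
  (trio_lin g.2).choose_spec v

/-- The linear representation. -/
noncomputable def trEnd : stabM T0 →* Module.End (ZMod 2) (Fin 3 → ZMod 2) where
  toFun g := (trA g).toZModLinearMap 2
  map_one' := LinearMap.ext fun v => trX_inj (by
    show trX (trA 1 v) = trX v
    rw [← trA_spec]; exact one_smul _ _)
  map_mul' a b := LinearMap.ext fun v => trX_inj (by
    show trX (trA (a * b) v) = trX (trA a (trA b v))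
    rw [← trA_spec, ← trA_spec, ← trA_spec, Subgroup.coe_mul, mul_smul])

/-- The map onto GL(3,2). -/
noncomputable def trGL : stabM T0 →* GL (Fin 3) (ZMod 2) :=
  ((Units.mapEquiv (LinearMap.toMatrixAlgEquiv (Pi.basisFun (ZMod 2) (Fin 3))).toMulEquiv).toMonoidHom).comp
    trEnd.toHomUnits

theorem trGL_eq_iff {a b : stabM T0} : trGL a = trGL b ↔ ∀ v, trA a v = trA b v := by
  constructor
  · intro h v
    have h1 : trEnd.toHomUnits a = trEnd.toHomUnits b :=
      (Units.mapEquiv (LinearMap.toMatrixAlgEquiv (Pi.basisFun (ZMod 2) (Fin 3))).toMulEquiv).injective h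
    exact LinearMap.congr_fun (congrArg Units.val h1) v
  · intro h
    have h1 : trEnd.toHomUnits a = trEnd.toHomUnits b := Units.ext (LinearMap.ext h)
    show (Units.mapEquiv _) (trEnd.toHomUnits a) = (Units.mapEquiv _) (trEnd.toHomUnits b)
    rw [h1]

/-- The permutation of the three octads. -/
def trPermHom : stabM T0 →* Equiv.Perm ↥T0 where
  toFun g :=
    { toFun := fun t => ⟨(g : Equiv.Perm GolayPt) • (t : Finset GolayPt), by
        have h := Finset.smul_mem_smul_finset (a := (g : Equiv.Perm GolayPt)) t.2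
        rwa [(mem_stabM.mp g.2).2] at h⟩
      invFun := fun t => ⟨(g : Equiv.Perm GolayPt)⁻¹ • (t : Finset GolayPt), by
        have h := Finset.smul_mem_smul_finset (a := (g : Equiv.Perm GolayPt)⁻¹) t.2
        rwa [inv_smul_eq_iff.mpr (mem_stabM.mp g.2).2.symm] at h⟩
      left_inv := fun t => Subtype.ext (inv_smul_smul _ _)
      right_inv := fun t => Subtype.ext (smul_inv_smul _ _) }
  map_one' := Equiv.ext fun t => Subtype.ext (one_smul _ _)
  map_mul' a b := Equiv.ext fun t => Subtype.ext (mul_smul _ _ _)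

theorem trPermHom_apply (g : stabM T0) (t : ↥T0) :
    ((trPermHom g t : ↥T0) : Finset GolayPt) = (g : Equiv.Perm GolayPt) • (t : Finset GolayPt) := rfl

/-- The combined map. -/
noncomputable def trPi : stabM T0 →* GL (Fin 3) (ZMod 2) × Equiv.Perm ↥T0 := trGL.prod trPermHom

/-- A code in the code's group fixing the trio. -/
def trStabB (c : ℕ) : Bool :=
  permOK c && gensKept c && trio0L.all fun a => trio0L.any fun b => Nat.beq (pmask c a) b

theorem trStabB_mem {c : ℕ} (h : trStabB c = true) : ∃ g ∈ stabM T0, Repr c g := by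
  simp only [trStabB, Bool.and_eq_true, List.all_eq_true, List.any_eq_true] at h
  obtain ⟨⟨hp, hk⟩, hT⟩ := h
  obtain ⟨g, hg⟩ := exists_repr_of_permOK hp
  refine ⟨g, mem_stabM.mpr ⟨mem_M24_of_gensKept hg hk, ?_⟩, hg⟩
  refine Finset.eq_of_subset_of_card_le (fun s hs => ?_) (by rw [Finset.card_smul_finset])
  obtain ⟨t, ht, rfl⟩ := Finset.mem_smul_finset.mp hs
  obtain ⟨a, ha, rfl⟩ := Finset.mem_image.mp ht
  obtain ⟨b, hb, he⟩ := hT a (List.mem_toFinset.mp ha)
  refine Finset.mem_image.mpr ⟨b, List.mem_toFinset.mpr hb, ?_⟩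
  rw [← Nat.eq_of_beq_eq_true he, hg.toSet_pmask]
  rfl

theorem trLift_ok : (trLift.all fun x => trStabB x.1 && actsB x.1 x.2 [1, 2, 4] &&
    Nat.blt x.2.1 8 && Nat.blt x.2.2.1 8 && Nat.blt x.2.2.2 8) = true ∧
    (trLift.map Prod.snd).Nodup ∧ trLift.length = 168 := by decide +kernel

theorem trPerm_ok : (trPerm.all fun x => trStabB x.1 && actsB x.1 (1, 2, 4) [1, 2, 3, 4, 5, 6, 7] &&
    Nat.beq (pmask x.1 (trio0L.getD 0 0)) (trio0L.getD x.2.1 0) &&
    Nat.beq (pmask x.1 (trio0L.getD 1 0)) (trio0L.getD x.2.2.1 0) &&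
    Nat.blt x.2.1 3 && Nat.blt x.2.2.1 3) = true ∧
    (trPerm.map fun x => (x.2.1, x.2.2.1)).Nodup ∧ trPerm.length = 6 := by decide +kernel

theorem actsB_trA {c : ℕ} {p : ℕ × ℕ × ℕ} {ks : List ℕ} (h : actsB c p ks = true) (g : stabM T0)
    (hg : Repr c (g : Equiv.Perm GolayPt)) {k : ℕ} (hk : k ∈ ks) (hk1 : 1 ≤ k) (hk8 : k < 8) :
    trA g (n3v k) = n3v (lin3 p k) := by
  simp only [actsB, List.all_eq_true, Bool.and_eq_true, Nat.blt_eq, Nat.ble_eq] at h
  obtain ⟨⟨hl1, hl8⟩, heq⟩ := h k hk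
  refine trX_inj ?_
  rw [← trA_spec]
  have nz : ∀ {j}, 1 ≤ j → j < 8 → n3v j ≠ 0 := fun {j} h1 h8 h0 => by
    have := congrArg v3n h0
    rw [v3_facts.2.1 j h8, show v3n (0 : Fin 3 → ZMod 2) = 0 by decide +kernel] at this
    omega
  simp only [trX, if_neg (nz hk1 hk8), if_neg (nz hl1 hl8), v3_facts.2.1 _ hk8, v3_facts.2.1 _ hl8]
  exact repr_famSet hg heq

theorem trPi_surj : Function.Surjective trPi := by
  classical
  have hcardGL : Nat.card (GL (Fin 3) (ZMod 2)) = 168 := by
    rw [Matrix.card_GL_field]; simp [Fin.prod_univ_three, ZMod.card]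
  have hGL : Function.Surjective trGL := by
    obtain ⟨hall, hnd, hlen⟩ := trLift_ok
    simp only [List.all_eq_true, Bool.and_eq_true, Nat.blt_eq] at hall
    have key : ∀ x ∈ trLift, ∃ a : stabM T0, trA a (n3v 1) = n3v x.2.1 ∧ trA a (n3v 2) = n3v x.2.2.1 ∧
        trA a (n3v 4) = n3v x.2.2.2 := by
      intro x hx
      obtain ⟨⟨⟨⟨hs, ha⟩, h1⟩, h2⟩, h4⟩ := hall x hx
      obtain ⟨g, hgS, hg⟩ := trStabB_mem hs
      have e1 := actsB_trA ha ⟨g, hgS⟩ hg (k := 1) (by simp) le_rfl (by norm_num)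
      have e2 := actsB_trA ha ⟨g, hgS⟩ hg (k := 2) (by simp) (by norm_num) (by norm_num)
      have e4 := actsB_trA ha ⟨g, hgS⟩ hg (k := 4) (by simp) (by norm_num) (by norm_num)
      refine ⟨⟨g, hgS⟩, ?_, ?_, ?_⟩
      · rw [e1]; simp [lin3, Nat.beq]
      · rw [e2]; simp [lin3, Nat.beq]
      · rw [e4]; simp [lin3, Nat.beq]
    choose f hf1 hf2 hf4 using key
    let F : ↥trLift.toFinset → ↥trGL.range := fun x => ⟨trGL (f x.1 (List.mem_toFinset.mp x.2)), _, rfl⟩
    have hFinj : Function.Injective F := by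
      intro x y h
      have h' := trGL_eq_iff.mp (congrArg Subtype.val h)
      have e1 := h' (n3v 1)
      have e2 := h' (n3v 2)
      have e4 := h' (n3v 4)
      rw [hf1, hf1] at e1
      rw [hf2, hf2] at e2
      rw [hf4, hf4] at e4
      have hx := hall x.1 (List.mem_toFinset.mp x.2)
      have hy := hall y.1 (List.mem_toFinset.mp y.2)
      have d1 := congrArg v3n e1
      have d2 := congrArg v3n e2
      have d4 := congrArg v3n e4
      rw [v3_facts.2.1 _ hx.1.1.2, v3_facts.2.1 _ hy.1.1.2] at d1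
      rw [v3_facts.2.1 _ hx.1.2, v3_facts.2.1 _ hy.1.2] at d2
      rw [v3_facts.2.1 _ hx.2, v3_facts.2.1 _ hy.2] at d4
      exact Subtype.ext (List.inj_on_of_nodup_map hnd (List.mem_toFinset.mp x.2) (List.mem_toFinset.mp y.2)
        (Prod.ext d1 (Prod.ext d2 d4)))
    have := Nat.card_le_card_of_injective F hFinj
    rw [Nat.card_eq_fintype_card, Fintype.card_coe, List.toFinset_card_of_nodup hnd.of_map, hlen] at this
    exact MonoidHom.range_eq_top.mp (Subgroup.eq_top_of_le_card _ (by rw [hcardGL]; exact this))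
  have hS : ∀ σ : Equiv.Perm ↥T0, (1, σ) ∈ trPi.range := by
    obtain ⟨hall, hnd, hlen⟩ := trPerm_ok
    simp only [List.all_eq_true, Bool.and_eq_true, Nat.blt_eq] at hall
    have key : ∀ x ∈ trPerm, ∃ a : stabM T0, trGL a = 1 ∧
        (a : Equiv.Perm GolayPt) • toSet (trio0L.getD 0 0) = toSet (trio0L.getD x.2.1 0) ∧
        (a : Equiv.Perm GolayPt) • toSet (trio0L.getD 1 0) = toSet (trio0L.getD x.2.2.1 0) := by
      intro x hx
      obtain ⟨⟨⟨⟨⟨hs, ha⟩, h0⟩, h1⟩, -⟩, -⟩ := hall x hx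
      obtain ⟨g, hgS, hg⟩ := trStabB_mem hs
      refine ⟨⟨g, hgS⟩, ?_, ?_, ?_⟩
      · rw [← trGL.map_one, trGL_eq_iff]
        intro v
        have hone : trA 1 v = v := trX_inj (by rw [← trA_spec]; exact one_smul _ _)
        rw [hone]
        by_cases hv : v = 0
        · rw [hv, map_zero]
        · obtain ⟨-, hv1⟩ := trSc_valid hv
          have hv8 := v3_facts.2.2.1 v
          have := actsB_trA ha ⟨g, hgS⟩ hg (k := v3n v) (by simp; omega) hv1 hv8
          rw [v3_facts.1] at this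
          rw [this]
          have hid : ∀ k < 8, lin3 (1, 2, 4) k = k := by decide +kernel
          rw [hid _ hv8, v3_facts.1]
      · rw [← Nat.eq_of_beq_eq_true h0, hg.toSet_pmask]; rfl
      · rw [← Nat.eq_of_beq_eq_true h1, hg.toSet_pmask]; rfl
    choose f hfG hf0 hf1 using key
    have hmem0 : ∀ i < 3, toSet (trio0L.getD i 0) ∈ T0 := fun i hi =>
      Finset.mem_image.mpr ⟨_, List.mem_toFinset.mpr (by
        rw [List.getD_eq_getElem _ _ (by rw [trio0_checks.2.2.1]; exact hi)]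
        exact List.getElem_mem _), rfl⟩
    have hT3 : ∀ i < 3, ∀ j < 3, toSet (trio0L.getD i 0) = toSet (trio0L.getD j 0) → i = j := by
      intro i hi j hj h
      have key : ∀ i < 3, ∀ j < 3, trio0L.getD i 0 = trio0L.getD j 0 → i = j := by decide +kernel
      refine key i hi j hj (eq_of_toSet_eq ?_ ?_ h) <;>
        · rw [List.getD_eq_getElem _ _ (by rw [trio0_checks.2.2.1]; assumption)]
          exact unpackF_lt _ _ _ (List.getElem_mem _)
    let F : ↥trPerm.toFinset → Equiv.Perm ↥T0 := fun x => trPermHom (f x.1 (List.mem_toFinset.mp x.2))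
    have hFinj : Function.Injective F := by
      intro x y h
      have e0 := congrArg (fun σ : Equiv.Perm ↥T0 => ((σ ⟨_, hmem0 0 (by norm_num)⟩ : ↥T0) : Finset GolayPt)) h
      have e1 := congrArg (fun σ : Equiv.Perm ↥T0 => ((σ ⟨_, hmem0 1 (by norm_num)⟩ : ↥T0) : Finset GolayPt)) h
      simp only [F, trPermHom_apply, hf0, hf1] at e0 e1
      have hx := hall x.1 (List.mem_toFinset.mp x.2)
      have hy := hall y.1 (List.mem_toFinset.mp y.2)
      exact Subtype.ext (List.inj_on_of_nodup_map hnd (List.mem_toFinset.mp x.2) (List.mem_toFinset.mp y.2)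
        (Prod.ext (hT3 _ hx.1.2 _ hy.1.2 e0) (hT3 _ hx.2 _ hy.2 e1)))
    have hFbij : Function.Bijective F := by
      refine (Nat.bijective_iff_injective_and_card F).mpr ⟨hFinj, ?_⟩
      rw [Nat.card_eq_fintype_card, Fintype.card_coe, List.toFinset_card_of_nodup hnd.of_map, hlen,
        Nat.card_perm, Nat.card_eq_fintype_card, Fintype.card_coe, T0_mem.1]
      rfl
    intro σ
    obtain ⟨x, hx⟩ := hFbij.2 σ
    exact ⟨f x.1 (List.mem_toFinset.mp x.2), Prod.ext (hfG _ _) hx⟩
  rintro ⟨A, σ⟩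
  obtain ⟨a, rfl⟩ := hGL A
  obtain ⟨b, hb⟩ := hS (σ * (trPermHom a)⁻¹)
  refine ⟨b * a, ?_⟩
  rw [map_mul, hb]
  exact Prod.ext (one_mul _) (inv_mul_cancel_right _ _)

theorem trN_ok : elOK trN = true ∧ (trN.all fun c => trStabB c && actsB c (1, 2, 4) [1, 2, 3, 4, 5, 6, 7] &&
    trio0L.all fun a => Nat.beq (pmask c a) a) = true := by decide +kernel

theorem trPi_ker : trPi.ker.map (stabM T0).subtype = elGr trN := by
  classical
  have hle : elGr trN ≤ trPi.ker.map (stabM T0).subtype := by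
    rw [elGr, Subgroup.closure_le]
    rintro g ⟨c, hc, hg⟩
    have h := List.all_eq_true.mp trN_ok.2 c hc
    simp only [Bool.and_eq_true, List.all_eq_true] at h
    obtain ⟨⟨hs, ha⟩, hfix⟩ := h
    obtain ⟨g', hgS, hg'⟩ := trStabB_mem hs
    obtain rfl := hg.unique hg'
    refine ⟨⟨g, hgS⟩, ?_, rfl⟩
    rw [SetLike.mem_coe, MonoidHom.mem_ker]
    refine Prod.ext ?_ ?_
    · show trGL ⟨g, hgS⟩ = 1
      rw [← trGL.map_one, trGL_eq_iff]
      intro v
      have hone : trA 1 v = v := trX_inj (by rw [← trA_spec]; exact one_smul _ _)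
      rw [hone]
      by_cases hv : v = 0
      · rw [hv, map_zero]
      · obtain ⟨-, hv1⟩ := trSc_valid hv
        have hv8 := v3_facts.2.2.1 v
        have := actsB_trA ha ⟨g, hgS⟩ hg (k := v3n v) (by simp; omega) hv1 hv8
        rw [v3_facts.1] at this
        rw [this]
        have hid : ∀ k < 8, lin3 (1, 2, 4) k = k := by decide +kernel
        rw [hid _ hv8, v3_facts.1]
    · show trPermHom ⟨g, hgS⟩ = 1
      refine Equiv.ext fun t => Subtype.ext ?_
      obtain ⟨a, ha', hae⟩ := Finset.mem_image.mp t.2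
      show g • (t : Finset GolayPt) = t
      rw [← hae]
      conv_rhs => rw [← Nat.eq_of_beq_eq_true (hfix a (List.mem_toFinset.mp ha'))]
      exact (hg.toSet_pmask a).symm
  refine (Subgroup.eq_of_le_of_card_ge hle ?_).symm
  rw [card_elGr trN_ok.1,
    ← Nat.card_congr (trPi.ker.equivMapOfInjective _ Subtype.val_injective).toEquiv]
  have h := Subgroup.card_eq_card_quotient_mul_card_subgroup trPi.ker
  rw [Nat.card_congr (QuotientGroup.quotientKerEquivOfSurjective trPi trPi_surj).toEquiv, Nat.card_prod,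
    Nat.card_perm, Nat.card_eq_fintype_card (α := ↥T0), Fintype.card_coe, T0_mem.1, stabT.2,
    Matrix.card_GL_field, Fin.prod_univ_three] at h
  generalize Nat.card ↥trPi.ker = c at h ⊢
  simp [ZMod.card, Nat.factorial] at h
  omega

attribute [local irreducible] T0 famSet in
theorem trio_group {T : Finset (Finset GolayPt)} (hT : T ∈ trios) :
    (∀ e : Equiv.Perm ↥T, ∃ g ∈ MulAction.stabilizer M24 T,
      ∀ o : ↥T, (g : Equiv.Perm GolayPt) • (o : Finset GolayPt) = ((e o : ↥T) : Finset GolayPt)) ∧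
    ∃ (N : Subgroup ↥(MulAction.stabilizer M24 T)) (_ : N.Normal), Nat.card N = 64 ∧ (∀ x ∈ N, x * x = 1) ∧
      Nonempty (↥(MulAction.stabilizer M24 T) ⧸ N ≃* GL (Fin 3) (ZMod 2) × Equiv.Perm (Fin 3)) := by
  classical
  obtain ⟨g, hg, rfl⟩ := exists_smul_T0 hT
  have hc := isConjOf_stabM hg T0
  set S := MulAction.stabilizer M24 (g • T0)
  let e : ↥S ≃* ↥(stabM T0) := ((S.equivMapOfInjective _ Subtype.val_injective).trans
    (MulEquiv.subgroupCongr ((map_stab (g • T0)).trans hc.map_eq.symm))).trans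
    ((stabM T0).equivMapOfInjective _ (MulAut.conj g).injective).symm
  have he : ∀ x : ↥S, ((x : M24) : Equiv.Perm GolayPt) = g * (e x : Equiv.Perm GolayPt) * g⁻¹ := by
    intro x
    have h := congrArg Subtype.val (((stabM T0).equivMapOfInjective _ (MulAut.conj g).injective).apply_symm_apply
      (((S.equivMapOfInjective _ Subtype.val_injective).trans
        (MulEquiv.subgroupCongr ((map_stab (g • T0)).trans hc.map_eq.symm))) x))
    exact h.symm
  have hesymm : ∀ x : ↥(stabM T0), ((e.symm x : M24) : Equiv.Perm GolayPt) = g * x * g⁻¹ := by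
    intro x; rw [he, e.apply_symm_apply]
  have hmem : ∀ t, t ∈ g • T0 ↔ g⁻¹ • t ∈ T0 := by
    intro t
    constructor
    · intro h; obtain ⟨u, hu, rfl⟩ := Finset.mem_smul_finset.mp h; rwa [inv_smul_smul]
    · intro h; exact Finset.mem_smul_finset.mpr ⟨_, h, smul_inv_smul g t⟩
  let j : ↥T0 ≃ Fin 3 := Finset.equivFinOfCardEq (s := T0) T0_mem.1
  let φ : ↥S →* GL (Fin 3) (ZMod 2) × Equiv.Perm (Fin 3) :=
    ((MonoidHom.id _).prodMap j.permCongrHom.toMonoidHom).comp (trPi.comp e.toMonoidHom)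
  have hφ : Function.Surjective φ := by
    rintro ⟨A, σ⟩
    obtain ⟨a, ha⟩ := trPi_surj (A, j.permCongrHom.symm σ)
    refine ⟨e.symm a, ?_⟩
    show ((trPi (e (e.symm a))).1, j.permCongrHom (trPi (e (e.symm a))).2) = _
    rw [e.apply_symm_apply, ha]
    exact Prod.ext rfl (j.permCongrHom.apply_symm_apply σ)
  have hker : ∀ x, x ∈ φ.ker ↔ e x ∈ trPi.ker := by
    intro x
    simp only [MonoidHom.mem_ker]
    show ((trPi (e x)).1, j.permCongrHom (trPi (e x)).2) = 1 ↔ _
    rw [Prod.ext_iff, Prod.ext_iff]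
    exact and_congr Iff.rfl (map_eq_one_iff _ j.permCongrHom.injective)
  refine ⟨fun σ => ?_, φ.ker, inferInstance, ?_, fun x hx => ?_,
    ⟨QuotientGroup.quotientKerEquivOfSurjective φ hφ⟩⟩
  · let ψ : ↥T0 ≃ ↥(g • T0) :=
      { toFun := fun t => ⟨g • (t : Finset GolayPt), Finset.smul_mem_smul_finset t.2⟩
        invFun := fun t => ⟨g⁻¹ • (t : Finset GolayPt), (hmem _).mp t.2⟩
        left_inv := fun t => Subtype.ext (inv_smul_smul g _)
        right_inv := fun t => Subtype.ext (smul_inv_smul g _) }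
    obtain ⟨a, ha⟩ := trPi_surj (1, (ψ.trans σ).trans ψ.symm)
    refine ⟨e.symm a, (e.symm a).2, fun o => ?_⟩
    rw [hesymm, mul_smul, mul_smul]
    have h1 := congrArg (fun p : GL (Fin 3) (ZMod 2) × Equiv.Perm ↥T0 => ((p.2 (ψ.symm o) : ↥T0) : Finset GolayPt)) ha
    simp only [Equiv.trans_apply, Equiv.apply_symm_apply] at h1
    rw [show g⁻¹ • (o : Finset GolayPt) = ((ψ.symm o : ↥T0) : Finset GolayPt) from rfl,
      show (a : Equiv.Perm GolayPt) • ((ψ.symm o : ↥T0) : Finset GolayPt) = ((ψ.symm (σ o) : ↥T0) : Finset GolayPt)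
        from h1]
    exact smul_inv_smul g _
  · rw [← card_elGr trN_ok.1, ← trPi_ker,
      ← Nat.card_congr (trPi.ker.equivMapOfInjective _ Subtype.val_injective).toEquiv]
    exact Nat.card_congr (e.toEquiv.subtypeEquiv hker)
  · refine e.injective (Subtype.ext ?_)
    rw [map_mul, map_one, Subgroup.coe_mul, Subgroup.coe_one]
    exact elGr_invol trN_ok.1 (trPi_ker ▸ ⟨e x, (hker x).mp hx, rfl⟩)

end CfsgGolay
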