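/-
Which prime triples generate M23.
-/
import Cfsg.Agent.Lib.ScottBound
import Cfsg.Agent.Lib.Golay.TripleGenData
import Cfsg.Agent.Lib.Golay.Out23
import Cfsg.Agent.Lib.Golay.ElemClasses

set_option autoImplicit false

namespace CfsgGolay.TripleGen

open Cfsg Out23

attribute [local irreducible] codeL octadL dodecadL

def evalW (L : List ℕ) : List ℕ → ℕ → ℕ
  | [], i => i
  | a :: w, i => papp (L.getD a pid) (evalW L w i)

def orderOK (f : ℕ → ℕ) (p : ℕ) : Bool :=
  ((List.range 24).all fun i => Nat.beq (Nat.repeat f p i) i) &&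
    (List.range 24).any fun i => !Nat.beq (f i) i

def inM23 (c : ℕ) : Bool := permOK c && gensKept c && Nat.beq (papp c 23) 23

def Entry.ok (e : Entry) : Bool :=
  inM23 e.x && inM23 e.y && orderOK (papp e.x) e.p && orderOK (papp e.y) e.q &&
  orderOK (fun i => papp e.x (papp e.y i)) e.r &&
  ((List.range 24).all fun i => Nat.beq (papp e.x (papp e.xi i)) i && Nat.beq (papp e.y (papp e.yi i)) i) &&
  ((List.range 24).all fun i => Nat.beq (evalW [e.x, e.y, e.xi, e.yi] e.wT i) (papp cT i) &&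
    Nat.beq (evalW [e.x, e.y, e.xi, e.yi] e.wN i) (papp cN i)) &&
  (e.wT ++ e.wN).all fun a => Nat.blt a 4

theorem table_checked : table.all Entry.ok = true := by decide +kernel

theorem inverses_lt : (table.all fun e => ((List.range 24).all fun i => Nat.blt (papp e.xi i) 24) &&
    (List.range 24).all fun i => Nat.blt (papp e.yi i) 24) = true := by decide +kernel

theorem table_covers : ([2, 3, 5, 7, 11, 23].all fun p => [2, 3, 5, 7, 11, 23].all fun q =>
    [2, 3, 5, 7, 11, 23].all fun r => Nat.blt q p || Nat.blt r q || (p == 2 && q == 2) ||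
      (p == 2 && q == 3) || (p == 2 && q == 5 && (r == 5 || r == 7)) || (p == 3 && q == 3 && Nat.ble r 7) ||
      table.any fun e => e.p == p && e.q == q && e.r == r) = true := by decide +kernel

attribute [local irreducible] table cN cB cT

theorem mem_primes {p : ℕ} (hp : p.Prime) (h : p ∣ 10200960) : p ∈ [2, 3, 5, 7, 11, 23] := by
  rw [show (10200960 : ℕ) = 2 ^ 7 * 3 ^ 2 * 5 * 7 * 11 * 23 by norm_num] at h
  simp only [hp.dvd_mul, List.mem_cons, List.not_mem_nil, or_false] at h ⊢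
  have e : ∀ q : ℕ, q.Prime → p ∣ q → p = q := fun q hq hd => (Nat.prime_dvd_prime_iff_eq hp hq).mp hd
  rcases h with ((((h | h) | h) | h) | h) | h
  · exact Or.inl (e _ Nat.prime_two (hp.dvd_of_dvd_pow h))
  · exact Or.inr (Or.inl (e _ Nat.prime_three (hp.dvd_of_dvd_pow h)))
  · exact Or.inr (Or.inr (Or.inl (e _ Nat.prime_five h)))
  · exact Or.inr (Or.inr (Or.inr (Or.inl (e _ (by norm_num) h))))
  · exact Or.inr (Or.inr (Or.inr (Or.inr (Or.inl (e _ (by norm_num) h)))))
  · exact Or.inr (Or.inr (Or.inr (Or.inr (Or.inr (e _ (by norm_num) h)))))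

theorem exists_of_inM23 {c : ℕ} (h : inM23 c = true) : ∃ g : Spor.M23, Repr c (g : Equiv.Perm GolayPt) := by
  simp only [inM23, Bool.and_eq_true] at h
  obtain ⟨g, hg⟩ := exists_repr_of_permOK h.1.1
  exact ⟨⟨g, mem_M23_of_code hg h.1.2 (Nat.eq_of_beq_eq_true h.2)⟩, hg⟩

theorem order_of_ok {f : ℕ → ℕ} {p : ℕ} (hp : p.Prime) {g : Spor.M23}
    (hf : ∀ q : GolayPt, f (idx q) = idx ((g : Equiv.Perm GolayPt) q)) (h : orderOK f p = true) :
    orderOf g = p := by
  haveI : Fact p.Prime := ⟨hp⟩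
  simp only [orderOK, Bool.and_eq_true, List.all_eq_true, List.any_eq_true, List.mem_range,
    Bool.not_eq_true'] at h
  obtain ⟨hall, i, hi, hne⟩ := h
  have hrep : ∀ (m : ℕ) (q : GolayPt), Nat.repeat f m (idx q) = idx (((g : Equiv.Perm GolayPt) ^ m) q) := by
    intro m
    induction m with
    | zero => intro q; rfl
    | succ m ih =>
      intro q
      show f (Nat.repeat f m (idx q)) = _
      rw [ih, hf, pow_succ', Equiv.Perm.mul_apply]
  refine orderOf_eq_prime (Subtype.ext ?_) fun h1 => ?_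
  · rw [SubmonoidClass.coe_pow]
    refine Equiv.ext fun q => idx_injective ?_
    rw [← hrep]
    exact Nat.eq_of_beq_eq_true (hall _ (idx_lt q))
  · have e := hf (pt i)
    rw [h1, OneMemClass.coe_one, Equiv.Perm.one_apply, idx_pt hi] at e
    rw [e, Nat.beq_refl] at hne
    simp at hne

theorem exists_gen {p q r : ℕ} (hp : p.Prime) (hq : q.Prime) (hr : r.Prime) {e : Entry}
    (he : e ∈ table) (ep : e.p = p) (eq : e.q = q) (er : e.r = r) :
    ∃ x y z : Spor.M23, orderOf x = p ∧ orderOf y = q ∧ orderOf z = r ∧ x * y * z = 1 ∧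
      Subgroup.closure {x, y} = ⊤ := by
  have h := List.all_eq_true.mp table_checked e he
  simp only [Entry.ok, Bool.and_eq_true, List.all_eq_true, List.mem_range, Nat.blt_eq] at h
  obtain ⟨⟨⟨⟨⟨⟨⟨hx, hy⟩, hxo⟩, hyo⟩, hzo⟩, hinv⟩, hw⟩, hlt⟩ := h
  obtain ⟨x, hgx⟩ := exists_of_inM23 hx
  obtain ⟨y, hgy⟩ := exists_of_inM23 hy
  have hxy : orderOf (x * y) = r := order_of_ok hr (fun t => by
    show papp e.x (papp e.y (idx t)) = _
    rw [← hgy, ← hgx]; rfl) (er ▸ hzo)
  refine ⟨x, y, (x * y)⁻¹, order_of_ok hp (fun t => (hgx t).symm) (ep ▸ hxo),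
    order_of_ok hq (fun t => (hgy t).symm) (eq ▸ hyo), by rw [orderOf_inv, hxy], mul_inv_cancel _, ?_⟩
  set H := (Subgroup.closure {x, y}).map Spor.M23.subtype
  have hxH : (x : Equiv.Perm GolayPt) ∈ H := ⟨x, Subgroup.subset_closure (Or.inl rfl), rfl⟩
  have hyH : (y : Equiv.Perm GolayPt) ∈ H := ⟨y, Subgroup.subset_closure (Or.inr rfl), rfl⟩
  have hinvrep : ∀ {c ci : ℕ} {g : Equiv.Perm GolayPt}, Repr c g →
      (∀ i < 24, Nat.beq (papp c (papp ci i)) i = true) → (∀ t : GolayPt, papp ci (idx t) < 24) →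
      Repr ci g⁻¹ := by
    intro c ci g hg hc hlt t
    have e := hg (pt (papp ci (idx t)))
    rw [idx_pt (hlt t), Nat.eq_of_beq_eq_true (hc _ (idx_lt t))] at e
    rw [← idx_pt (hlt t)]
    refine congrArg idx ?_
    rw [Equiv.Perm.inv_eq_iff_eq]
    exact (idx_injective e).symm
  have hlti : ∀ {c ci : ℕ}, ((List.range 24).all fun i => Nat.blt (papp ci i) 24) = true →
      ∀ t : GolayPt, papp ci (idx t) < 24 := fun h t => by
    simpa using List.all_eq_true.mp h _ (List.mem_range.mpr (idx_lt t))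
  have hlt2 := List.all_eq_true.mp inverses_lt e he
  simp only [Bool.and_eq_true] at hlt2
  have hxi := hinvrep hgx (fun i hi => (hinv i hi).1) (hlti (c := 0) hlt2.1)
  have hyi := hinvrep hgy (fun i hi => (hinv i hi).2) (hlti (c := 0) hlt2.2)
  have key : ∀ w : List ℕ, (∀ a ∈ w, a < 4) → ∃ g ∈ H, ∀ t : GolayPt,
      evalW [e.x, e.y, e.xi, e.yi] w (idx t) = idx (g t) := by
    intro w
    induction w with
    | nil => exact fun _ => ⟨1, one_mem H, fun t => rfl⟩
    | cons a w ih =>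
      intro ha
      obtain ⟨g, hg, hgw⟩ := ih fun b hb => ha b (List.mem_cons_of_mem _ hb)
      obtain ⟨L, hL, hLr⟩ : ∃ L ∈ H, Repr ([e.x, e.y, e.xi, e.yi].getD a pid) L := by
        have := ha a (List.mem_cons_self ..)
        interval_cases a
        · exact ⟨_, hxH, hgx⟩
        · exact ⟨_, hyH, hgy⟩
        · exact ⟨_, inv_mem hxH, hxi⟩
        · exact ⟨_, inv_mem hyH, hyi⟩
      refine ⟨L * g, mul_mem hL hg, fun t => ?_⟩
      rw [evalW, hgw, Equiv.Perm.mul_apply, hLr]
  obtain ⟨gT, hgTH, hgT⟩ := key e.wT fun a ha => hlt a (List.mem_append_left _ ha)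
  obtain ⟨gN, hgNH, hgN⟩ := key e.wN fun a ha => hlt a (List.mem_append_right _ ha)
  have hTr : Repr cT gT := fun t => by
    rw [← hgT]; exact Nat.eq_of_beq_eq_true (hw _ (idx_lt t)).1
  have hNr : Repr cN gN := fun t => by
    rw [← hgN]; exact Nat.eq_of_beq_eq_true (hw _ (idx_lt t)).2
  have hle : Spor.M23 ≤ H := by
    rw [← closure_eq hNr, Subgroup.closure_le]
    rintro g (rfl | rfl)
    · rw [← hTr.unique repr_T]; exact hgTH
    · exact hgNH
  rw [eq_top_iff]
  intro g _
  obtain ⟨g', hg', e'⟩ := hle g.2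
  rwa [← Subtype.ext (show (g' : Equiv.Perm GolayPt) = g from e')]

/-- The points other than the extra one. -/
abbrev Pts : Type := {t : GolayPt // t ≠ none}

theorem card_pts : Fintype.card Pts = 23 := by
  rw [Fintype.card_subtype_compl, Fintype.card_subtype_eq, Fintype.card_option, ZMod.card]

theorem none_fixed (g : Spor.M23) : (g : Equiv.Perm GolayPt) none = none := g.2.2

/-- The action on the 23 points. -/
def restr : Spor.M23 →* Equiv.Perm Pts where
  toFun g := (g : Equiv.Perm GolayPt).subtypePerm fun t =>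
    not_congr ⟨fun h => (g : Equiv.Perm GolayPt).injective (h.trans (none_fixed g).symm),
      fun h => by rw [h]; exact none_fixed g⟩
  map_one' := Equiv.ext fun _ => Subtype.ext rfl
  map_mul' _ _ := Equiv.ext fun _ => Subtype.ext rfl

theorem fix_restr (g : Spor.M23) :
    (Finset.univ.filter fun t : Pts => restr g t = t).card + 1 = (fixF (g : Equiv.Perm GolayPt)).card := by
  classical
  have h : (Finset.univ.filter fun t : Pts => restr g t = t).map (Function.Embedding.subtype _) =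
      (fixF (g : Equiv.Perm GolayPt)).erase none := by
    ext t
    simp only [Finset.mem_map, Finset.mem_filter, Finset.mem_univ, true_and, Finset.mem_erase,
      mem_fixF, Function.Embedding.coe_subtype]
    constructor
    · rintro ⟨s, hs, rfl⟩
      exact ⟨s.2, congrArg Subtype.val hs⟩
    · rintro ⟨hne, ht⟩
      exact ⟨⟨t, hne⟩, Subtype.ext ht, rfl⟩
  have hc := congrArg Finset.card h
  rw [Finset.card_map, Finset.card_erase_of_mem (mem_fixF.mpr (none_fixed g))] at hc
  have : 0 < (fixF (g : Equiv.Perm GolayPt)).card := Finset.card_pos.mpr ⟨none, mem_fixF.mpr (none_fixed g)⟩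
  omega

theorem fix_two {g : Spor.M23} (h : orderOf g = 2) : (fixF (g : Equiv.Perm GolayPt)).card = 8 := by
  obtain ⟨k, -, hk⟩ := class_two g.2.1 (by rw [Subgroup.orderOf_coe]; exact h)
  have hpos : 0 < (fixF (g : Equiv.Perm GolayPt)).card := Finset.card_pos.mpr ⟨none, mem_fixF.mpr (none_fixed g)⟩
  rw [← card_fixF_conj k]
  rcases hk with e | e
  · rw [e, card_fix_2A]
  · rw [← card_fixF_conj k, e, card_fix_2B] at hpos
    omega

theorem fix_three {g : Spor.M23} (h : orderOf g = 3) : (fixF (g : Equiv.Perm GolayPt)).card = 6 := by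
  obtain ⟨k, -, hk⟩ := class_three g.2.1 (by rw [Subgroup.orderOf_coe]; exact h)
  have hpos : 0 < (fixF (g : Equiv.Perm GolayPt)).card := Finset.card_pos.mpr ⟨none, mem_fixF.mpr (none_fixed g)⟩
  rw [← card_fixF_conj k]
  rcases hk with e | e
  · rw [e, card_fix_3A]
  · rw [← card_fixF_conj k, e, card_fix_3B] at hpos
    omega

theorem not_gen {p q r : ℕ} (hp : p.Prime) (hq : q.Prime) (hr : r.Prime)
    (hexc : (p = 2 ∧ q = 3) ∨ (p = 2 ∧ q = 5 ∧ r = 5) ∨ (p = 2 ∧ q = 5 ∧ r = 7) ∨ (p = 3 ∧ q = 3 ∧ r ≤ 7))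
    {x y z : Spor.M23} (hx : orderOf x = p) (hy : orderOf y = q) (hz : orderOf z = r)
    (hxyz : x * y * z = 1) (hgen : Subgroup.closure {x, y} = ⊤) : False := by
  classical
  obtain ⟨gN, hN⟩ := exists_perm (c := cN)
    (fun i hi => by
      have h := List.all_eq_true.mp bij_checked.1 i (List.mem_range.mpr hi)
      simp only [Bool.and_eq_true, Nat.blt_eq] at h
      exact h.2)
    bij_checked.2.2
  have hT : permT ∈ Spor.M23 := closure_eq hN ▸ Subgroup.subset_closure (Or.inl rfl)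
  have hz' : z = (x * y)⁻¹ := eq_inv_of_mul_eq_one_right hxyz
  have htr : ∀ a b : Pts, ∃ g ∈ Subgroup.closure {restr x, restr y}, g a = b := by
    intro a b
    obtain ⟨u, hu⟩ := Option.ne_none_iff_exists'.mp a.2
    obtain ⟨v, hv⟩ := Option.ne_none_iff_exists'.mp b.2
    refine ⟨restr (⟨permT, hT⟩ ^ (v - u).val), ?_, Subtype.ext ?_⟩
    · rw [← Set.image_pair, ← MonoidHom.map_closure, hgen]
      exact ⟨_, Subgroup.mem_top _, rfl⟩
    · have step : ∀ m : ℕ, (((⟨permT, hT⟩ : Spor.M23) ^ m : Spor.M23) : Equiv.Perm GolayPt) (some u) =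
          some (u + (m : ZMod 23)) := by
        intro m
        induction m with
        | zero => simp
        | succ m ih =>
          rw [pow_succ', Subgroup.coe_mul, Equiv.Perm.mul_apply, ih]
          show some (u + (m : ZMod 23) + 1) = _
          rw [Nat.cast_succ, add_assoc]
      show ((⟨permT, hT⟩ ^ (v - u).val : Spor.M23) : Equiv.Perm GolayPt) (a : GolayPt) = (b : GolayPt)
      rw [hu, step, ZMod.natCast_val, ZMod.cast_id, add_sub_cancel, hv]
  have hscott := CfsgLib.ScottBound.scott htr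
  rw [← map_mul, ← map_inv, ← hz', card_pts] at hscott
  have bound : ∀ (g : Spor.M23) (m : ℕ), m.Prime → orderOf g = m →
      ∃ k, CfsgLib.ScottBound.drop (restr g) + k = 23 ∧
        m * k + (m - 1) = 23 + (m - 1) * (fixF (g : Equiv.Perm GolayPt)).card := by
    intro g m hm hg
    obtain ⟨k, h1, h2⟩ := CfsgLib.ScottBound.drop_prime hm (g := restr g)
      (by rw [← map_pow, ← hg, pow_orderOf_eq_one, map_one])
    refine ⟨k, by rw [h1, card_pts], ?_⟩
    rw [h2, card_pts, ← fix_restr g, mul_add, mul_one, add_assoc]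
  haveI : Nonempty Pts := ⟨⟨some 0, Option.some_ne_none _⟩⟩
  have top : ∀ g, CfsgLib.ScottBound.drop (restr g) ≤ 22 := fun g => by
    have := CfsgLib.ScottBound.drop_le (restr g)
    rw [card_pts] at this
    omega
  have b2 : ∀ g : Spor.M23, orderOf g = 2 → CfsgLib.ScottBound.drop (restr g) ≤ 8 := fun g hg => by
    obtain ⟨k, h1, h2⟩ := bound g 2 Nat.prime_two hg
    rw [fix_two hg] at h2
    omega
  have b3 : ∀ g : Spor.M23, orderOf g = 3 → CfsgLib.ScottBound.drop (restr g) ≤ 12 := fun g hg => by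
    obtain ⟨k, h1, h2⟩ := bound g 3 Nat.prime_three hg
    rw [fix_three hg] at h2
    omega
  have b5 : ∀ g : Spor.M23, orderOf g = 5 → CfsgLib.ScottBound.drop (restr g) ≤ 16 := fun g hg => by
    obtain ⟨k, h1, h2⟩ := bound g 5 Nat.prime_five hg
    omega
  have b7 : ∀ g : Spor.M23, orderOf g = 7 → CfsgLib.ScottBound.drop (restr g) ≤ 18 := fun g hg => by
    obtain ⟨k, h1, h2⟩ := bound g 7 (by norm_num) hg
    omega
  rcases hexc with ⟨rfl, rfl⟩ | ⟨rfl, rfl, rfl⟩ | ⟨rfl, rfl, rfl⟩ | ⟨rfl, rfl, hr7⟩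
  · have := b2 x hx; have := b3 y hy; have := top z; omega
  · have := b2 x hx; have := b5 y hy; have := b5 z hz; omega
  · have := b2 x hx; have := b5 y hy; have := b7 z hz; omega
  · have := b3 x hx; have := b3 y hy
    have : CfsgLib.ScottBound.drop (restr z) ≤ 18 := by
      have h2 := hr.two_le
      interval_cases r
      · exact (b2 z hz).trans (by norm_num)
      · exact (b3 z hz).trans (by norm_num)
      · exact absurd hr (by norm_num)
      · exact (b5 z hz).trans (by norm_num)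
      · exact absurd hr (by norm_num)
      · exact b7 z hz
    omega

theorem triple_generated (p q r : ℕ) (hp : p.Prime) (hq : q.Prime) (hr : r.Prime) (hpq : p ≤ q)
    (hqr : q ≤ r) (hp2 : ¬ (p = 2 ∧ q = 2))
    (hdvd : p ∣ 10200960 ∧ q ∣ 10200960 ∧ r ∣ 10200960) :
    (∃ x y z : Spor.M23, orderOf x = p ∧ orderOf y = q ∧ orderOf z = r ∧ x * y * z = 1 ∧
        Subgroup.closure {x, y} = ⊤) ↔
      ¬ ((p = 2 ∧ q = 3) ∨ (p = 2 ∧ q = 5 ∧ r = 5) ∨ (p = 2 ∧ q = 5 ∧ r = 7) ∨ (p = 3 ∧ q = 3 ∧ r ≤ 7)) := by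
  constructor
  · rintro ⟨x, y, z, hx, hy, hz, hxyz, hgen⟩ hexc
    exact not_gen hp hq hr hexc hx hy hz hxyz hgen
  · intro hne
    have hc := List.all_eq_true.mp (List.all_eq_true.mp (List.all_eq_true.mp table_covers p
      (mem_primes hp hdvd.1)) q (mem_primes hq hdvd.2.1)) r (mem_primes hr hdvd.2.2)
    simp only [Bool.or_eq_true, Bool.and_eq_true, Nat.blt_eq, beq_iff_eq, Nat.ble_eq,
      List.any_eq_true] at hc
    obtain ⟨e, he, ⟨ep, eq⟩, er⟩ := hc.resolve_left (by
      rintro (((((h | h) | h) | h) | h) | h)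
      · omega
      · omega
      · exact hp2 h
      · exact hne (Or.inl h)
      · rcases h.2 with h' | h'
        · exact hne (Or.inr (Or.inl ⟨h.1.1, h.1.2, h'⟩))
        · exact hne (Or.inr (Or.inr (Or.inl ⟨h.1.1, h.1.2, h'⟩)))
      · exact hne (Or.inr (Or.inr (Or.inr ⟨h.1.1, h.1.2, h.2⟩))))
    exact exists_gen hp hq hr he ep eq er

end CfsgGolay.TripleGen
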